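/- ALTSEC tower: alternating sections of linear groups (interface). See blueprints/ALTSEC.md. -/
import Cfsg.Agent.H49.DCov

set_option autoImplicit false

namespace H40.AS

open Equiv Module

/-- The smallest degree: `r - 2` if `p ∣ r` and `r - 1` otherwise. -/
def bd (p r : ℕ) : ℕ := r - 1 - (if p ∣ r then 1 else 0)

/-- The bound for sections. -/
def Sec (r : ℕ) : Prop :=
  ∀ (H : Type) [Group H] [Finite H] (π : H →* Perm (Fin r)), π.range = alternatingGroup (Fin r) →
    ∀ (p : ℕ) [Fact p.Prime] (k : Type) [Field k] [CharP k p]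
      (V : Type) [AddCommGroup V] [Module k V] [FiniteDimensional k V] (ρ : Representation k H V),
      (∀ h, ρ h = 1 → π h = 1) → bd p r ≤ finrank k V

/-- The bound for faithful linear representations. -/
def Lin (r : ℕ) : Prop :=
  ∀ (p : ℕ) [Fact p.Prime] (k : Type) [Field k] [CharP k p] [IsAlgClosed k]
    (V : Type) [AddCommGroup V] [Module k V] [FiniteDimensional k V]
    (ρ : Representation k (alternatingGroup (Fin r)) V),
    (∀ g, ρ g = 1 → g = 1) → bd p r ≤ finrank k V

/-- The bound for spin representations. -/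
def Spin (r : ℕ) : Prop :=
  ∀ (H : Type) [Group H] (z : H) (π : H →* Perm (Fin r)), H49.DC z π →
    ∀ (p : ℕ) [Fact p.Prime] (k : Type) [Field k] [CharP k p] [IsAlgClosed k], (2 : k) ≠ 0 →
      ∀ (V : Type) [AddCommGroup V] [Module k V] [FiniteDimensional k V] [Nontrivial V]
        (ρ : Representation k H V), ρ z = -1 → bd p r ≤ finrank k V

/-- Reduction of Feit and Tits. -/
def JobFT : Prop := ∀ r, 9 ≤ r → Lin r → Spin r → Sec r

/-- Small modules of `A₁₂`: a `3`-cycle has small eigenspaces. -/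
def M12 : Prop :=
  ∀ (p : ℕ) [Fact p.Prime] (k : Type) [Field k] [CharP k p] [IsAlgClosed k], (2 : k) ≠ 0 →
    (3 : k) ≠ 0 → ∀ (V : Type) [AddCommGroup V] [Module k V] [FiniteDimensional k V]
      (ρ : Representation k (alternatingGroup (Fin 12)) V), finrank k V ≤ 27 →
      ∀ x : alternatingGroup (Fin 12), (x : Perm (Fin 12)).IsThreeCycle →
        ∀ ω : k, ω ^ 2 + ω + 1 = 0 → 8 * finrank k (End.eigenspace (ρ x) ω) ≤ finrank k V

/-- Spin modules of `2.A₁₂` are large. -/
def S12 : Prop :=
  ∀ (H : Type) [Group H] (z : H) (π : H →* Perm (Fin 12)), H49.DC z π →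
    ∀ (p : ℕ) [Fact p.Prime] (k : Type) [Field k] [CharP k p] [IsAlgClosed k], (2 : k) ≠ 0 →
      (3 : k) ≠ 0 → ∀ (V : Type) [AddCommGroup V] [Module k V] [FiniteDimensional k V]
        [Nontrivial V] (ρ : Representation k H V), ρ z = -1 → 28 ≤ finrank k V

def JobM : Prop := Sec 9 → M12 ∧ S12

/-- No group of degree 27 whose semisimple elements have small fixed spaces maps onto `A₁₂`. -/
def Red : Prop :=
  ∀ (H : Type) [Group H] [Finite H] (π : H →* Perm (Fin 12)),
    π.range = alternatingGroup (Fin 12) →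
    ∀ (p : ℕ) [Fact p.Prime] (k : Type) [Field k] [CharP k p] [IsAlgClosed k], (2 : k) ≠ 0 →
      (3 : k) ≠ 0 → ∀ (V : Type) [AddCommGroup V] [Module k V] [FiniteDimensional k V]
        (ρ : Representation k H V), finrank k V = 27 → (∀ h, ρ h = 1 → h = 1) →
        (∀ s : H, s ≠ 1 → ∀ e : ℕ, (e : k) ≠ 0 → s ^ e = 1 →
          finrank k (End.eigenspace (ρ s) 1) ≤ 17) → False

def JobRed : Prop := Sec 12 → M12 → S12 → Red

end H40.AS
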