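/- ALTSEC kit: permutations through embeddings, the dichotomy, weights. -/
import Cfsg.Agent.H40.ASSpec
import Cfsg.Agent.H22.Weights

set_option autoImplicit false
set_option linter.unusedSectionVars false

namespace H40.AS

open Equiv Equiv.Perm Module H57

section Perm

variable {α Ω : Type} [Fintype α] [DecidableEq α] [Fintype Ω] [DecidableEq Ω]

/-- Extension of permutations along an embedding. -/
noncomputable def em (f : α ↪ Ω) : Perm α →* Perm Ω := viaEmbeddingHom f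

theorem em_apply (f : α ↪ Ω) (σ : Perm α) (i : α) : em f σ (f i) = f (σ i) :=
  viaEmbedding_apply σ f i

theorem suppIn_em (f : α ↪ Ω) (σ : Perm α) : SuppIn (em f σ) (Set.range f) :=
  fun y hy => viaEmbedding_apply_of_notMem σ f y hy

theorem em_inj (f : α ↪ Ω) : Function.Injective (em f) := viaEmbeddingHom_injective f

theorem sign_em (f : α ↪ Ω) (σ : Perm α) : sign (em f σ) = sign σ := by
  rw [← viaFintypeEmbedding_sign σ f]
  congr 1
  ext y
  by_cases hy : y ∈ Set.range f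
  · obtain ⟨i, rfl⟩ := hy
    rw [em_apply, viaFintypeEmbedding_apply_image]
  · rw [suppIn_em f σ y hy, viaFintypeEmbedding_apply_notMem_range _ _ hy]

theorem em_swap (f : α ↪ Ω) (a b : α) : em f (swap a b) = swap (f a) (f b) := by
  ext y
  by_cases hy : y ∈ Set.range f
  · obtain ⟨i, rfl⟩ := hy
    rw [em_apply, Function.Embedding.swap_apply]
  · rw [suppIn_em f _ y hy, swap_apply_of_ne_of_ne]
    · rintro rfl; exact hy ⟨a, rfl⟩
    · rintro rfl; exact hy ⟨b, rfl⟩

theorem em_cyc (f : α ↪ Ω) (a b c : α) : em f (cyc a b c) = cyc (f a) (f b) (f c) := by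
  rw [cyc, cyc, map_mul, em_swap, em_swap]

theorem suppIn_em' (f : α ↪ Ω) {σ : Perm α} {s : Finset α} (h : ∀ i, i ∉ s → σ i = i) :
    SuppIn (em f σ) (s.map f) := by
  intro y hy
  by_cases hy' : y ∈ Set.range f
  · obtain ⟨i, rfl⟩ := hy'
    rw [em_apply, h i (by simpa using hy)]
  · exact suppIn_em f _ y hy'

theorem exists_em (f : α ↪ Ω) {σ : Perm Ω} (h : SuppIn σ (Set.range f)) : ∃ τ, em f τ = σ := by
  have h1 : ∀ i, ∃ j, f j = σ (f i) := fun i => h.apply_mem ⟨i, rfl⟩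
  choose g hg using h1
  have hi : Function.Injective g := fun i j e => f.injective (σ.injective (by rw [← hg, ← hg, e]))
  refine ⟨Equiv.ofBijective g (Finite.injective_iff_bijective.1 hi), ?_⟩
  ext y
  by_cases hy : y ∈ Set.range f
  · obtain ⟨i, rfl⟩ := hy
    rw [em_apply, ← hg]; rfl
  · rw [suppIn_em f _ y hy, h y hy]

theorem exists_emb (T : Finset Ω) {m : ℕ} (h : m ≤ T.card) :
    ∃ f : Fin m ↪ Ω, Set.range f ⊆ T := by
  refine ⟨(Fin.castLEEmb h).trans (T.equivFin.symm.toEmbedding.trans (.subtype _)), ?_⟩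
  rintro _ ⟨i, rfl⟩
  exact (T.equivFin.symm _).2

theorem exists_emb_eq (T : Finset Ω) : ∃ f : Fin T.card ↪ Ω, Set.range f = T := by
  refine ⟨T.equivFin.symm.toEmbedding.trans (.subtype _), ?_⟩
  ext y
  constructor
  · rintro ⟨i, rfl⟩; exact (T.equivFin.symm _).2
  · intro hy; exact ⟨T.equivFin ⟨y, hy⟩, by simp⟩

/-- Multiple transitivity of the alternating group. -/
theorem exists_even (e e' : α ↪ Ω) (h : Fintype.card α + 2 ≤ Fintype.card Ω) :
    ∃ σ : Perm Ω, sign σ = 1 ∧ ∀ i, σ (e i) = e' i := by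
  obtain ⟨σ, hσ⟩ := Equiv.Perm.exists_smul_eq_embedding e e'
  have h1 : ∀ i, σ (e i) = e' i := fun i => by rw [← hσ]; rfl
  rcases Int.units_eq_one_or (sign σ) with hs | hs
  · exact ⟨σ, hs, h1⟩
  · obtain ⟨f, hf⟩ := exists_emb (Finset.univ.map e')ᶜ (m := 2) (by
      rw [Finset.card_compl, Finset.card_map, Finset.card_univ]; omega)
    have h2 : ∀ j i, e' i ≠ f j := fun j i e => by
      have := hf ⟨j, rfl⟩
      simp [← e] at this
    refine ⟨swap (f 0) (f 1) * σ, ?_, fun i => ?_⟩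
    · rw [map_mul, hs, sign_swap (by simp)]; rfl
    · rw [mul_apply, h1, swap_apply_of_ne_of_ne (h2 0 i) (h2 1 i)]

theorem exists_notMem (s : Finset Ω) (h : s.card < Fintype.card Ω) : ∃ x, x ∉ s := by
  by_contra! h1
  have := Finset.card_le_card (fun x _ => h1 x : Finset.univ ⊆ s)
  rw [Finset.card_univ] at this
  omega

/-- A product of two disjoint transpositions. -/
def DT (σ : Perm α) : Prop :=
  ∃ a b c d, (a ≠ b ∧ a ≠ c ∧ a ≠ d ∧ b ≠ c ∧ b ≠ d ∧ c ≠ d) ∧ σ = swap a b * swap c d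

theorem DT.em {σ : Perm α} (h : DT σ) (f : α ↪ Ω) : DT (em f σ) := by
  obtain ⟨a, b, c, d, h, rfl⟩ := h
  exact ⟨f a, f b, f c, f d, by simpa using h, by rw [map_mul, em_swap, em_swap]⟩

theorem DT.sign {σ : Perm α} (h : DT σ) : sign σ = 1 := by
  obtain ⟨a, b, c, d, h, rfl⟩ := h
  rw [map_mul, sign_swap h.1, sign_swap h.2.2.2.2.2]; rfl

theorem disjoint_of_suppIn {σ τ : Perm Ω} {s t : Set Ω} (h : SuppIn σ s) (h' : SuppIn τ t)
    (hd : Disjoint s t) : Perm.Disjoint σ τ := fun y => by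
  by_cases hy : y ∈ s
  · exact Or.inr (h' y (Set.disjoint_left.1 hd hy))
  · exact Or.inl (h y hy)

/-- The embedding of alternating groups. -/
noncomputable def ia (f : α ↪ Ω) : alternatingGroup α →* alternatingGroup Ω :=
  ((em f).comp (alternatingGroup α).subtype).codRestrict _ fun g => by
    rw [mem_alternatingGroup, MonoidHom.comp_apply, sign_em]; exact g.2

theorem coe_ia (f : α ↪ Ω) (g : alternatingGroup α) : (ia f g : Perm Ω) = em f g := rfl

theorem ia_inj (f : α ↪ Ω) : Function.Injective (ia f) :=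
  fun _ _ e => Subtype.ext (em_inj f (congrArg Subtype.val e))

variable {H : Type} [Group H]

/-- The elements moving only points of `T`. -/
def Pre (π : H →* Perm Ω) (T : Set Ω) : Subgroup H where
  carrier := {h | SuppIn (π h) T}
  one_mem' := by simpa using SuppIn.one T
  mul_mem' ha hb := by simpa using SuppIn.mul ha hb
  inv_mem' ha := by simpa using SuppIn.inv ha

theorem exists_res {π : H →* Perm Ω} (hπ : π.range = alternatingGroup Ω) (T : Finset Ω) :
    ∃ (f : Fin T.card ↪ Ω) (φ : Pre π T →* Perm (Fin T.card)), Set.range f = T ∧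
      φ.range = alternatingGroup _ ∧ ∀ h, em f (φ h) = π h := by
  obtain ⟨f, hf⟩ := exists_emb_eq T
  have h1 : ∀ h : Pre π T, ∃ τ, em f τ = π h := fun h => exists_em f (by rw [hf]; exact h.2)
  choose φ hφ using h1
  refine ⟨f, MonoidHom.mk' φ fun a b => em_inj f (by simp [hφ]), hf, ?_, hφ⟩
  ext τ
  rw [mem_alternatingGroup, ← sign_em f]
  constructor
  · rintro ⟨h, rfl⟩
    rw [MonoidHom.mk'_apply, hφ, ← mem_alternatingGroup, ← hπ]
    exact ⟨_, rfl⟩
  · intro hs
    obtain ⟨h, e⟩ : em f τ ∈ π.range := by rw [hπ]; exact hs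
    exact ⟨⟨h, show SuppIn (π h) T from e ▸ hf ▸ suppIn_em f τ⟩, em_inj f (by
      rw [MonoidHom.mk'_apply, hφ]; exact e)⟩

end Perm

section Rep

variable {Ω : Type} [Fintype Ω] [DecidableEq Ω] {H : Type} [Group H] {π : H →* Perm Ω}
  {k : Type} [Field k] {V : Type} [AddCommGroup V] [Module k V] {ρ : Representation k H V}

theorem rho_mul (g h : H) (v : V) : ρ (g * h) v = ρ g (ρ h v) := by rw [map_mul]; rfl

theorem rho_inv (g : H) (v : V) : ρ g⁻¹ (ρ g v) = v := by rw [← rho_mul, inv_mul_cancel]; simp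

theorem rho_inv' (g : H) (v : V) : ρ g (ρ g⁻¹ v) = v := by rw [← rho_mul, mul_inv_cancel]; simp

theorem rho_inj (g : H) : Function.Injective (ρ g) := fun v w e => by
  rw [← rho_inv (ρ := ρ) g v, e, rho_inv]

theorem rho_ne (g : H) {v : V} (h : v ≠ 0) : ρ g v ≠ 0 := fun e =>
  h (rho_inj (ρ := ρ) g (by rw [e, map_zero]))

theorem rho_pow {g : H} {v : V} {c : k} (h : ρ g v = c • v) (n : ℕ) : ρ (g ^ n) v = c ^ n • v := by
  induction n with
  | zero => simp
  | succ n ih => rw [pow_succ, rho_mul, h, map_smul, ih, smul_smul, pow_succ, mul_comm]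

theorem pow_eq_one_of {g : H} {v : V} {c : k} (h : ρ g v = c • v) (hv : v ≠ 0) {n : ℕ}
    (hn : g ^ n = 1) : c ^ n = 1 := by
  have := rho_pow h n
  rw [hn, map_one, End.one_apply, eq_comm, ← sub_eq_zero] at this
  nth_rewrite 2 [← one_smul k v] at this
  rw [← sub_smul, smul_eq_zero, sub_eq_zero] at this
  exact this.resolve_right hv

variable (π ρ) in
/-- `W` is invariant under the elements moving only points of `T`. -/
def Inv (T : Set Ω) (W : Submodule k V) : Prop := ∀ h, SuppIn (π h) T → ∀ v ∈ W, ρ h v ∈ W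

variable (π ρ) in
/-- The elements moving only points of `T` act faithfully on `W`, up to the kernel. -/
def Fai (T : Set Ω) (W : Submodule k V) : Prop :=
  ∀ h, SuppIn (π h) T → (∀ v ∈ W, ρ h v = v) → π h = 1

theorem Inv.mono {T T' : Set Ω} {W : Submodule k V} (h : Inv π ρ T W) (e : T' ⊆ T) :
    Inv π ρ T' W := fun g hg => h g (hg.mono e)

theorem Fai.mono {T T' : Set Ω} {W : Submodule k V} (h : Fai π ρ T W) (e : T' ⊆ T) :
    Fai π ρ T' W := fun g hg => h g (hg.mono e)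

theorem inv_top (T : Set Ω) : Inv π ρ T ⊤ := fun _ _ _ _ => trivial

variable (ρ) in
/-- The elements acting trivially on `W`. -/
def Triv (W : Set V) : Subgroup H where
  carrier := {h | ∀ v ∈ W, ρ h v = v}
  one_mem' := by simp
  mul_mem' {a b} ha hb v hv := by rw [rho_mul, hb v hv, ha v hv]
  inv_mem' {a} ha v hv := by
    conv_lhs => rw [← ha v hv]
    exact rho_inv a v

theorem dich (hπ : π.range = alternatingGroup Ω) {T : Finset Ω} (h5 : 5 ≤ T.card)
    {W : Submodule k V} (hW : Inv π ρ T W) :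
    Fai π ρ T W ∨ ∀ σ, sign σ = 1 → SuppIn σ T → ∃ h, π h = σ ∧ ∀ v ∈ W, ρ h v = v := by
  obtain ⟨f, φ, hf, h1, h2⟩ := exists_res hπ T
  let ψ : Pre π T →* alternatingGroup (Fin T.card) := φ.codRestrict _ fun h => h1 ▸ ⟨h, rfl⟩
  have hψ : Function.Surjective ψ := fun g => by
    obtain ⟨h, e⟩ : (g : Perm _) ∈ φ.range := by rw [h1]; exact g.2
    exact ⟨h, Subtype.ext e⟩
  let N : Subgroup (Pre π T) := (Triv ρ W).subgroupOf _
  have hN : N.Normal := ⟨fun n hn g v hv => by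
    show ρ ((g : H) * n * (g : H)⁻¹) v = v
    have h3 : ρ n (ρ (g : H)⁻¹ v) = ρ (g : H)⁻¹ v := hn _ (hW _ (g⁻¹).2 v hv)
    rw [rho_mul, rho_mul, h3, rho_inv']⟩
  have := hN.map ψ hψ
  rcases alternatingGroup.normal_subgroup_eq_bot_or_eq_top (N := N.map ψ) (by simpa using h5)
    with e | e
  · refine Or.inl fun h hh ht => ?_
    have : ψ ⟨h, hh⟩ = 1 := by
      rw [← Subgroup.mem_bot, ← e]; exact ⟨⟨h, hh⟩, ht, rfl⟩
    rw [← h2 ⟨h, hh⟩, show φ ⟨h, hh⟩ = 1 from congrArg Subtype.val this, map_one]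
  · refine Or.inr fun σ hs hσ => ?_
    obtain ⟨τ, rfl⟩ := exists_em f (hf ▸ hσ)
    obtain ⟨h, hh, e'⟩ : (⟨τ, by rwa [mem_alternatingGroup, ← sign_em f]⟩ :
      alternatingGroup _) ∈ N.map ψ := by rw [e]; trivial
    exact ⟨h, by rw [← h2, show φ h = τ from congrArg Subtype.val e'], hh⟩

theorem sec_sub [Finite H] [FiniteDimensional k V] (hπ : π.range = alternatingGroup Ω)
    {T : Finset Ω} (hs : Sec T.card) (p : ℕ) [Fact p.Prime] [CharP k p] {W : Submodule k V}
    (hW : Inv π ρ T W) (hF : Fai π ρ T W) : bd p T.card ≤ finrank k W := by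
  obtain ⟨f, φ, -, h1, h2⟩ := exists_res hπ T
  refine hs (Pre π T) φ h1 p k W (Representation.subrepresentation (ρ.comp (Pre π T).subtype) W
    fun g v hv => hW g g.2 v hv) fun h e => em_inj f ?_
  rw [h2, map_one]
  exact hF h h.2 fun v hv => congrArg Subtype.val (LinearMap.congr_fun e ⟨v, hv⟩)

theorem bd_ge (p r : ℕ) : r - 2 ≤ bd p r := by unfold bd; split_ifs <;> omega

theorem bd_le (p r : ℕ) : bd p r ≤ r - 1 := by unfold bd; omega

theorem mem_eig {g : H} {c : k} {v : V} : v ∈ End.eigenspace (ρ g) c ↔ ρ g v = c • v :=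
  End.mem_eigenspace_iff

theorem eig_inv {g h : H} (e : Commute g h) {c : k} {v : V} (hv : v ∈ End.eigenspace (ρ g) c) :
    ρ h v ∈ End.eigenspace (ρ g) c := by
  rw [mem_eig] at hv ⊢
  rw [← rho_mul, e.eq, rho_mul, hv, map_smul]

variable (ρ) in
/-- The weight `χ` of the family `a` occurs in `W`. -/
def Wt {S : Type} (W : Submodule k V) (a : S → H) (χ : S → k) : Prop :=
  ∃ v ∈ W, v ≠ 0 ∧ ∀ s, ρ (a s) v = χ s • v

theorem Wt.move {S : Type} {W : Submodule k V} {a : S → H} {χ χ' : S → k} (h : Wt ρ W a χ)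
    (g : H) (hg : ∀ v ∈ W, ρ g v ∈ W)
    (e : ∀ v, (∀ s, ρ (a s) v = χ s • v) → ∀ s, ρ (g⁻¹ * a s * g) v = χ' s • v) :
    Wt ρ W a χ' := by
  obtain ⟨v, hv, h0, h1⟩ := h
  refine ⟨ρ g v, hg v hv, rho_ne g h0, fun s => ?_⟩
  rw [← map_smul, ← e v h1 s, ← rho_mul, ← rho_mul]
  congr 2
  group

theorem Wt.pow {S : Type} {W : Submodule k V} {a : S → H} {χ : S → k} (h : Wt ρ W a χ) {s : S}
    {n : ℕ} (hn : a s ^ n = 1) : χ s ^ n = 1 :=
  let ⟨_, _, h0, h1⟩ := h
  pow_eq_one_of (h1 s) h0 hn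

variable [FiniteDimensional k V]

theorem card_le_of_wt {S ι : Type} [Fintype ι] {W : Submodule k V} {a : S → H} (χ : ι → S → k)
    (hχ : Function.Injective χ) (h : ∀ i, Wt ρ W a (χ i)) : Fintype.card ι ≤ finrank k W := by
  choose v hv h0 h1 using h
  have := H22.linearIndependent_of_wt (fun s => ρ (a s)) χ hχ v h1 h0
  exact LinearIndependent.fintype_card_le_finrank (b := fun i => (⟨v i, hv i⟩ : W))
    (LinearIndependent.of_comp W.subtype this)

theorem sum_finrank_le {ι : Type} {U : ι → Submodule k V} (h : iSupIndep U) (s : Finset ι) :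
    ∑ i ∈ s, finrank k (U i) ≤ finrank k V := by
  classical
  suffices h1 : ∑ i ∈ s, finrank k (U i) = finrank k (⨆ i ∈ s, U i :) from
    h1 ▸ Submodule.finrank_le _
  induction s using Finset.induction_on with
  | empty =>
    have : (⨆ i ∈ (∅ : Finset ι), U i) = ⊥ := by simp
    rw [this]; simp
  | insert i s hi ih =>
    have : U i ⊓ ⨆ i ∈ s, U i = ⊥ := (h.disjoint_biSup (y := (s : Set ι)) hi).eq_bot
    rw [Finset.sum_insert hi, ih, Finset.iSup_insert, ← Submodule.finrank_sup_add_finrank_inf_eq,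
      this, finrank_bot, add_zero]

theorem finrank_le_of_map (g : H) {W W' : Submodule k V} (h : ∀ v ∈ W, ρ g v ∈ W') :
    finrank k W ≤ finrank k W' :=
  LinearMap.finrank_le_finrank_of_injective (f := (ρ g).restrict h) fun _ _ e =>
    Subtype.ext (rho_inj (ρ := ρ) g (congrArg Subtype.val e))

theorem two_eig (g : H) {c d : k} (h : c ≠ d) :
    finrank k (End.eigenspace (ρ g) c) + finrank k (End.eigenspace (ρ g) d) ≤ finrank k V := by
  classical
  have := sum_finrank_le (End.eigenspaces_iSupIndep (ρ g)) {c, d}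
  rwa [Finset.sum_pair h] at this

theorem three_eig (g : H) {c d e : k} (h1 : c ≠ d) (h2 : c ≠ e) (h3 : d ≠ e) :
    finrank k (End.eigenspace (ρ g) c) + finrank k (End.eigenspace (ρ g) d) +
      finrank k (End.eigenspace (ρ g) e) ≤ finrank k V := by
  classical
  have := sum_finrank_le (End.eigenspaces_iSupIndep (ρ g)) {c, d, e}
  rwa [Finset.sum_insert (by simp [h1, h2]), Finset.sum_pair h3, ← add_assoc] at this

variable [IsAlgClosed k]

/-- A vector moved by `b` can be found among the weight vectors. -/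
theorem exists_wt' {S : Type} {W : Submodule k V} {a : S → H} (hc : ∀ s t, Commute (a s) (a t))
    (hn : ∀ s, ∃ n : ℕ, (n : k) ≠ 0 ∧ a s ^ n = 1) (hW : ∀ s, ∀ v ∈ W, ρ (a s) v ∈ W)
    {A B : V →ₗ[k] V} (h : ¬ ∀ v ∈ W, A v = B v) :
    ∃ χ : S → k, ∃ v ∈ W, A v ≠ B v ∧ ∀ s, ρ (a s) v = χ s • v := by
  by_contra! h1
  refine h fun v hv => ?_
  have := H22.ext_of_wt (fun s => (ρ (a s)).restrict (hW s)) (fun s t => ?_) (fun s => ?_)
    (A.comp W.subtype) (B.comp W.subtype) fun χ w hw => ?_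
  · exact LinearMap.congr_fun this ⟨v, hv⟩
  · ext w
    simp only [End.mul_apply, LinearMap.coe_restrict_apply]
    rw [← rho_mul, ← rho_mul, (hc s t).eq]
  · obtain ⟨n, h2, h3⟩ := hn s
    refine ⟨n, h2, ?_⟩
    ext w
    rw [End.pow_restrict, LinearMap.coe_restrict_apply, ← map_pow, h3, map_one]
    rfl
  · by_contra h2
    obtain ⟨s, hs⟩ := h1 χ w w.2 h2
    exact hs (congrArg Subtype.val (hw s))

theorem exists_wt {S : Type} {W : Submodule k V} {a : S → H} (hc : ∀ s t, Commute (a s) (a t))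
    (hn : ∀ s, ∃ n : ℕ, (n : k) ≠ 0 ∧ a s ^ n = 1) (hW : ∀ s, ∀ v ∈ W, ρ (a s) v ∈ W) (s : S)
    (h : ¬ ∀ v ∈ W, ρ (a s) v = v) : ∃ χ : S → k, χ s ≠ 1 ∧ Wt ρ W a χ := by
  obtain ⟨χ, v, hv, h1, h2⟩ := exists_wt' hc hn hW (A := ρ (a s)) (B := LinearMap.id) h
  refine ⟨χ, fun e => h1 (by rw [h2, e]; simp), v, hv, ?_, h2⟩
  rintro rfl
  simp at h1

theorem exists_wt0 {S : Type} {W : Submodule k V} {a : S → H} (hc : ∀ s t, Commute (a s) (a t))
    (hn : ∀ s, ∃ n : ℕ, (n : k) ≠ 0 ∧ a s ^ n = 1) (hW : ∀ s, ∀ v ∈ W, ρ (a s) v ∈ W)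
    (h : W ≠ ⊥) : ∃ χ : S → k, Wt ρ W a χ := by
  obtain ⟨χ, v, hv, h1, h2⟩ := exists_wt' hc hn hW (A := LinearMap.id) (B := 0)
    fun e => h ((Submodule.eq_bot_iff _).2 e)
  exact ⟨χ, v, hv, h1, h2⟩

/-- A nontrivial element of order prime to the characteristic has an eigenvalue other than `1`. -/
theorem exists_eig {g : H} {n : ℕ} (hn : (n : k) ≠ 0) (hg : g ^ n = 1) (h : ¬ ∀ v, ρ g v = v) :
    ∃ c : k, c ≠ 1 ∧ c ^ n = 1 ∧ ∃ v, v ≠ 0 ∧ ρ g v = c • v := by
  obtain ⟨χ, h1, h2⟩ := exists_wt (ρ := ρ) (W := ⊤) (a := fun _ : Unit => g)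
    (fun _ _ => Commute.refl g) (fun _ => ⟨n, hn, hg⟩) (fun _ _ _ => trivial) ()
    fun e => h fun v => e v trivial
  obtain ⟨v, -, h3, h4⟩ := id h2
  exact ⟨χ (), h1, h2.pow hg, v, h3, h4 ()⟩

end Rep

end H40.AS
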