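/- ALTSEC: recognising the standard module of the alternating group. -/
import Cfsg.Agent.H40.ASKit

set_option autoImplicit false
set_option linter.unusedSectionVars false

namespace H40.AS

open Equiv Equiv.Perm Module H57

variable {Ω : Type} [Fintype Ω] [DecidableEq Ω]

/-- The embedding given by three points. -/
def emb3 {a b c : Ω} (h : a ≠ b ∧ a ≠ c ∧ b ≠ c) : Fin 3 ↪ Ω :=
  ⟨![a, b, c], fun x y => by fin_cases x <;> fin_cases y <;> simp <;> grind⟩

/-- The embedding given by four points. -/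
def emb4 {a b c d : Ω} (h : a ≠ b ∧ a ≠ c ∧ a ≠ d ∧ b ≠ c ∧ b ≠ d ∧ c ≠ d) : Fin 4 ↪ Ω :=
  ⟨![a, b, c, d], fun x y => by fin_cases x <;> fin_cases y <;> simp <;> grind⟩

theorem exists2 (h : 4 ≤ Fintype.card Ω) {a b i j : Ω} (h1 : a ≠ b) (h2 : i ≠ j) :
    ∃ g : alternatingGroup Ω, g.1 a = i ∧ g.1 b = j := by
  obtain ⟨σ, hs, e⟩ := exists_even (Function.Embedding.embFinTwo h1)
    (Function.Embedding.embFinTwo h2) (by simpa using h)
  exact ⟨⟨σ, hs⟩, e 0, e 1⟩

theorem exists3 (h : 5 ≤ Fintype.card Ω) {a b c i j l : Ω} (h1 : a ≠ b ∧ a ≠ c ∧ b ≠ c)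
    (h2 : i ≠ j ∧ i ≠ l ∧ j ≠ l) :
    ∃ g : alternatingGroup Ω, g.1 a = i ∧ g.1 b = j ∧ g.1 c = l := by
  obtain ⟨σ, hs, e⟩ := exists_even (emb3 h1) (emb3 h2) (by simpa using h)
  exact ⟨⟨σ, hs⟩, e 0, e 1, e 2⟩

theorem exists_new (l : List Ω) (h : l.length < Fintype.card Ω) : ∃ x, x ∉ l := by
  obtain ⟨x, hx⟩ := exists_notMem l.toFinset ((List.toFinset_card_le l).trans_lt h)
  exact ⟨x, by simpa using hx⟩

/-- The three-cycle as an element of the alternating group. -/
def cy {a b c : Ω} (h : c ≠ a ∧ c ≠ b) : alternatingGroup Ω := ⟨cyc a b c, sign_cyc h⟩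

variable {k : Type} [Field k] {V : Type} [AddCommGroup V] [Module k V]
  {ρ : Representation k (alternatingGroup Ω) V}

/-- A vector fixed by enough three-cycles is fixed by the stabiliser of two points. -/
theorem fix_of_cyc {a b α β : Ω} (h : α ≠ β) {w : V}
    (hw : ∀ i (hi : i ≠ α ∧ i ≠ β), i ≠ a → i ≠ b → ρ (cy hi) w = w)
    (g : alternatingGroup Ω) (h1 : g.1 a = a) (h2 : g.1 b = b) : ρ g w = w := by
  have := mem_closure_cyc h (Finset.univ.filter fun i => i ≠ α ∧ i ≠ β ∧ i ≠ a ∧ i ≠ b)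
    (fun i hi => by grind) g.2 fun y hy => by
      have : y = a ∨ y = b := by simp at hy; grind
      grind
  have h3 : g.1 ∈ (Triv ρ {w}).map (alternatingGroup Ω).subtype := by
    refine (Subgroup.closure_le _).2 ?_ this
    rintro _ ⟨i, hi, rfl⟩
    simp only [Finset.coe_filter, Finset.mem_univ, true_and, Set.mem_ofPred_eq] at hi
    exact ⟨cy ⟨hi.1, hi.2.1⟩, fun v hv => hv ▸ hw i _ hi.2.2.1 hi.2.2.2, rfl⟩
  obtain ⟨g', h4, h5⟩ := h3
  exact (show g' = g from Subtype.ext h5) ▸ h4 w rfl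

theorem exists_wv (h4 : 4 ≤ Fintype.card Ω) {a b : Ω} (hab : a ≠ b) {w : V}
    (hw : ∀ g : alternatingGroup Ω, g.1 a = a → g.1 b = b → ρ g w = w) :
    ∃ wv : Ω → Ω → V, wv a b = w ∧
      ∀ g i j, i ≠ j → ρ g (wv i j) = wv (g.1 i) (g.1 j) := by
  have h1 : ∀ i j, ∃ g : alternatingGroup Ω, i ≠ j → g.1 a = i ∧ g.1 b = j := fun i j => by
    by_cases h : i = j
    · exact ⟨1, fun e => absurd h e⟩
    · obtain ⟨g, hg⟩ := exists2 h4 hab h
      exact ⟨g, fun _ => hg⟩
  choose t ht using h1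
  refine ⟨fun i j => ρ (t i j) w, hw _ (ht a b hab).1 (ht a b hab).2, fun g i j h => ?_⟩
  have h2 := ht _ _ (g.1.injective.ne h)
  have h3 := hw ((t (g.1 i) (g.1 j))⁻¹ * (g * t i j))
    (by simp [(ht i j h).1, Equiv.symm_apply_eq, h2.1])
    (by simp [(ht i j h).2, Equiv.symm_apply_eq, h2.2])
  show ρ g (ρ (t i j) w) = ρ (t (g.1 i) (g.1 j)) w
  conv_rhs => rw [← h3, rho_mul, rho_inv', rho_mul]

theorem anti_all (h4 : 4 ≤ Fintype.card Ω) {a b : Ω} (hab : a ≠ b) {wv : Ω → Ω → V}
    (eqv : ∀ g i j, i ≠ j → ρ g (wv i j) = wv (g.1 i) (g.1 j)) (anti : wv b a = -wv a b)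
    (i j : Ω) (h : i ≠ j) : wv j i = -wv i j := by
  obtain ⟨g, rfl, rfl⟩ := exists2 h4 hab h
  rw [← eqv _ _ _ hab, ← eqv _ _ _ hab.symm, anti, map_neg]

theorem std [FiniteDimensional k V] (p : ℕ) [Fact p.Prime] [CharP k p] (h5 : 5 ≤ Fintype.card Ω)
    {a b c : Ω} (habc : a ≠ b ∧ a ≠ c ∧ b ≠ c) {wv : Ω → Ω → V}
    (eqv : ∀ g i j, i ≠ j → ρ g (wv i j) = wv (g.1 i) (g.1 j)) (ne : wv a b ≠ 0)
    (anti : wv b a = -wv a b) (del : wv a b + wv b c + wv c a = 0) :
    bd p (Fintype.card Ω) ≤ finrank k V := by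
  have ne' : ∀ i j, i ≠ j → wv i j ≠ 0 := fun i j h => by
    obtain ⟨g, rfl, rfl⟩ := exists2 (by omega) habc.1 h
    rw [← eqv _ _ _ habc.1]
    exact rho_ne g ne
  have anti' := anti_all (by omega) habc.1 eqv anti
  have del' : ∀ i j l, i ≠ j ∧ i ≠ l ∧ j ≠ l → wv i j + wv j l + wv l i = 0 := fun i j l h => by
    obtain ⟨g, rfl, rfl, rfl⟩ := exists3 h5 habc h
    rw [← eqv _ _ _ habc.1, ← eqv _ _ _ habc.2.2, ← eqv _ _ _ habc.2.1.symm, ← map_add, ← map_add,
      del, map_zero]
  let F : Ω → V := fun i => if i = a then 0 else wv a i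
  have hF : ∀ i j, i ≠ j → wv i j = F j - F i := fun i j h => by
    by_cases hi : i = a
    · subst hi; simp [F, h.symm]
    by_cases hj : j = a
    · subst hj; simp [F, hi, anti' j i (Ne.symm hi)]
    have := del' a i j ⟨Ne.symm hi, Ne.symm hj, h⟩
    rw [anti' a j (Ne.symm hj)] at this
    simp only [F, hi, hj, if_false]
    rw [← sub_eq_zero, ← this]; abel
  have hg : ∀ (g : alternatingGroup Ω) i, ρ g (F i) = F (g.1 i) - F (g.1 a) := fun g i => by
    by_cases hi : i = a
    · subst hi; simp [F]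
    · rw [← hF _ _ (g.1.injective.ne (Ne.symm hi)), ← eqv _ _ _ (Ne.symm hi)]
      simp [F, hi]
  let N : (Ω → k) → Prop := fun c => ∑ i, c i = 0 ∧ ∑ i, c i • F i = 0
  have hN : ∀ c, N c → ∀ g : alternatingGroup Ω, N fun i => c i - c (g.1 i) := fun c hc g => by
    refine ⟨by rw [Finset.sum_sub_distrib, Equiv.sum_comp g.1 c, sub_self], ?_⟩
    have := congrArg (ρ g⁻¹) hc.2
    simp only [map_sum, map_smul, hg, smul_sub, Finset.sum_sub_distrib, ← Finset.sum_smul, hc.1,
      zero_smul, sub_zero, map_zero] at this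
    rw [← Equiv.sum_comp g.1] at this
    simp only [sub_smul, Finset.sum_sub_distrib, hc.2]
    simpa using this
  have const : ∀ c, N c → ∀ i j, c i = c j := fun c hc i j => by
    by_contra h
    have hij : i ≠ j := by rintro rfl; exact h rfl
    obtain ⟨d, hd⟩ := exists_new [i, j] (by simp; omega)
    obtain ⟨e, he⟩ := exists_new [i, j, d] (by simp; omega)
    obtain ⟨e', he'⟩ := exists_new [i, j, d, e] (by simp; omega)
    simp only [List.mem_cons, List.not_mem_nil, or_false, not_or] at hd he he'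
    have h1 : i ≠ j ∧ i ≠ d := ⟨hij, Ne.symm hd.1⟩
    have h2 : i ≠ e ∧ i ≠ e' := ⟨Ne.symm he.1, Ne.symm he'.1⟩
    have h3 := (hN _ (hN c hc (cy h1)) (cy h2)).2
    have h4 : ∀ y, (c y - c (cyc j d i y) - (c (cyc e e' i y) - c (cyc j d i (cyc e e' i y)))) • F y
        = (if y = i then (c i - c j) • F i else 0) - if y = e' then (c i - c j) • F e' else 0 := by
      intro y
      simp only [cyc_apply (Ne.symm hd.2) h1, cyc_apply (Ne.symm he'.2.2.2) h2]
      by_cases y1 : y = i
      · subst y1; simp [he, h2]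
      by_cases y2 : y = e
      · subst y2; simp [he, he', Ne.symm he'.2.2.2]
      by_cases y3 : y = e'
      · subst y3; simp [he', ← neg_smul]
      · simp [y1, y2, y3]
    replace h3 := (Finset.sum_congr rfl fun y _ => h4 y).symm.trans h3
    rw [Finset.sum_sub_distrib] at h3
    simp only [Finset.sum_ite_eq', Finset.mem_univ, if_true] at h3
    rw [← smul_sub, ← hF _ _ he'.1, smul_eq_zero, sub_eq_zero] at h3
    exact h3.elim h (ne' _ _ he'.1)
  have key : ∀ s : Finset Ω, a ∉ s → (∀ c : Ω → k, N c → (∀ i, i ∉ s → i ≠ a → c i = 0) → c a = 0) →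
      s.card ≤ finrank k V := fun s hs h => by
    rw [← Fintype.card_coe]
    refine LinearIndependent.fintype_card_le_finrank (b := fun i : s => F i)
      (Fintype.linearIndependent_iff.2 fun g e i => ?_)
    let c : Ω → k := fun y => if hy : y ∈ s then g ⟨y, hy⟩ else 0
    have h1 : N fun y => c y - if y = a then ∑ i, c i else 0 := by
      refine ⟨by simp [Finset.sum_sub_distrib], ?_⟩
      simp only [sub_smul, Finset.sum_sub_distrib, ite_smul, zero_smul, Finset.sum_ite_eq',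
        Finset.mem_univ, if_true, show F a = 0 from if_pos rfl, smul_zero, sub_zero]
      rw [← e, ← Finset.sum_subset (Finset.subset_univ s) fun y _ hy => by simp [c, hy],
        ← Finset.sum_coe_sort]
      simp [c]
    have h2 := const _ h1 i a
    rw [h _ h1 fun y hy hy' => by simp [c, hy, hy']] at h2
    have h3 : (i : Ω) ≠ a := fun e => hs (e ▸ i.2)
    simpa [c, h3] using h2
  unfold bd
  split_ifs with hp
  · have := key ((Finset.univ.erase a).erase b) (by simp) fun c hc h =>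
      (const c hc a b).trans (h b (by simp) habc.1.symm)
    rwa [Finset.card_erase_of_mem (by simp [habc.1.symm]), Finset.card_erase_of_mem (by simp),
      Finset.card_univ] at this
  · have := key (Finset.univ.erase a) (by simp) fun c hc _ => by
      have h1 := hc.1
      rw [Finset.sum_congr rfl fun i _ => const c hc i a, Finset.sum_const, nsmul_eq_mul,
        mul_eq_zero, CharP.cast_eq_zero_iff k p] at h1
      exact h1.resolve_left hp
    rwa [Finset.card_erase_of_mem (by simp), Finset.card_univ] at this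

theorem sum_finrank_le' [FiniteDimensional k V] {ι : Type} {U : ι → Submodule k V}
    (h : iSupIndep U) (s : Finset ι) {W : Submodule k V} (hW : ∀ i ∈ s, U i ≤ W) :
    ∑ i ∈ s, finrank k (U i) ≤ finrank k W := by
  classical
  suffices h1 : ∑ i ∈ s, finrank k (U i) = finrank k (⨆ i ∈ s, U i :) from
    h1 ▸ Submodule.finrank_mono (iSup₂_le hW)
  clear hW
  induction s using Finset.induction_on with
  | empty =>
    have : (⨆ i ∈ (∅ : Finset ι), U i) = ⊥ := by simp
    rw [this]; simp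
  | insert i s hi ih =>
    have : U i ⊓ ⨆ i ∈ s, U i = ⊥ := (h.disjoint_biSup (y := (s : Set ι)) hi).eq_bot
    rw [Finset.sum_insert hi, ih, Finset.iSup_insert, ← Submodule.finrank_sup_add_finrank_inf_eq,
      this, finrank_bot, add_zero]

theorem comm_of_suppIn {g h : alternatingGroup Ω} {s t : Set Ω} (hg : SuppIn g.1 s)
    (hh : SuppIn h.1 t) (hd : Disjoint s t) : Commute g h :=
  Subtype.ext (hg.commute hh hd).eq

theorem triv_or_fai {T : Finset Ω} (h5 : 5 ≤ T.card) {W : Submodule k V}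
    (hW : Inv (alternatingGroup Ω).subtype ρ T W) : Fai (alternatingGroup Ω).subtype ρ T W ∨
      ∀ h : alternatingGroup Ω, SuppIn h.1 T → ∀ v ∈ W, ρ h v = v :=
  (dich (Subgroup.range_subtype _) h5 hW).imp_right fun e h hh => by
    obtain ⟨g, h1, h2⟩ := e h.1 h.2 hh
    exact (show g = h from Subtype.ext h1) ▸ h2

theorem card_compl_range {m : ℕ} (f : Fin m ↪ Ω) :
    (Finset.univ.map f)ᶜ.card = Fintype.card Ω - m := by simp [Finset.card_compl]

theorem disj_compl {m : ℕ} (f : Fin m ↪ Ω) :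
    Disjoint (Set.range f) ((Finset.univ.map f)ᶜ : Finset Ω) := by
  rw [Finset.coe_compl, Finset.coe_map, Finset.coe_univ, Set.image_univ]
  exact disjoint_compl_right

theorem ia_ne {α : Type} [Fintype α] [DecidableEq α] (f : α ↪ Ω) {g : alternatingGroup α}
    (h : g ≠ 1) : (alternatingGroup Ω).subtype (ia f g) ≠ 1 := fun e =>
  h (ia_inj f (Subtype.ext (by rw [map_one]; exact e)))

end H40.AS
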