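import Cfsg.Agent.H30.Counting
import Cfsg.Agent.H32.Clifford

/-! The conjugation action of a group on the characters and classes of a normal subgroup. -/

set_option autoImplicit false

open Cfsg H28
open scoped ComplexConjugate

namespace H40

theorem card_quot_congr_of_surj {α β : Type*} (r : α → α → Prop) (s : β → β → Prop)
    (hs : Equivalence s) (f : α → β) (hf : Function.Surjective f)
    (h : ∀ a b, r a b ↔ s (f a) (f b)) : Nat.card (Quot r) = Nat.card (Quot s) := by
  refine Nat.card_congr (Equiv.ofBijective (Quot.map f fun a b hab => (h a b).1 hab) ⟨?_, ?_⟩)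
  · intro x y hxy
    obtain ⟨a, rfl⟩ := Quot.mk_surjective x
    obtain ⟨b, rfl⟩ := Quot.mk_surjective y
    exact Quot.sound ((h a b).2 (hs.quot_mk_eq_iff _ _ |>.1 hxy))
  · intro y
    obtain ⟨b, rfl⟩ := Quot.mk_surjective y
    obtain ⟨a, rfl⟩ := hf b
    exact ⟨Quot.mk _ a, rfl⟩

theorem card_orbits_eq_of_fixedBy {G X Y : Type*} [Group G] [Finite G] [Finite X] [Finite Y]
    [MulAction G X] [MulAction G Y]
    (h : ∀ g : G, Nat.card (MulAction.fixedBy X g) = Nat.card (MulAction.fixedBy Y g)) :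
    Nat.card (MulAction.orbitRel.Quotient G X) = Nat.card (MulAction.orbitRel.Quotient G Y) := by
  classical
  have := Fintype.ofFinite G
  have : ∀ g : G, Fintype (MulAction.fixedBy X g) := fun g => Fintype.ofFinite _
  have : ∀ g : G, Fintype (MulAction.fixedBy Y g) := fun g => Fintype.ofFinite _
  have := Fintype.ofFinite (MulAction.orbitRel.Quotient G X)
  have := Fintype.ofFinite (MulAction.orbitRel.Quotient G Y)
  have h1 := MulAction.sum_card_fixedBy_eq_card_orbits_mul_card_group G X
  have h2 := MulAction.sum_card_fixedBy_eq_card_orbits_mul_card_group G Y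
  simp only [← Nat.card_eq_fintype_card] at h1 h2
  simp only [h] at h1
  exact Nat.eq_of_mul_eq_mul_right Nat.card_pos (h1.symm.trans h2)

variable {G : Type*} [Group G] (N : Subgroup G) [hN : N.Normal]

/-- `G` acts on the irreducible characters of a normal subgroup. -/
@[reducible] def irrAct [Finite G] : MulAction G (IrrCharacter N) where
  smul g θ := ⟨H32.cj g⁻¹ θ.1, H32.isIrrCharacter_cj θ.2 _⟩
  one_smul θ := Subtype.ext (by
    change H32.cj (1 : G)⁻¹ θ.1 = θ.1
    rw [inv_one, H32.cj_one])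
  mul_smul a b θ := Subtype.ext (by
    change H32.cj (a * b)⁻¹ θ.1 = H32.cj a⁻¹ (H32.cj b⁻¹ θ.1)
    rw [mul_inv_rev, H32.cj_mul])

/-- `G` acts on the conjugacy classes of a normal subgroup. -/
@[reducible] def clsAct : MulAction G (ConjClasses N) where
  smul g C := ConjClasses.map (MulAut.conjNormal g : MulAut N).toMonoidHom C
  one_smul C := by
    obtain ⟨x, rfl⟩ := ConjClasses.mk_surjective C
    change ConjClasses.mk (MulAut.conjNormal (1 : G) x) = _
    rw [map_one, MulAut.one_apply]
  mul_smul a b C := by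
    obtain ⟨x, rfl⟩ := ConjClasses.mk_surjective C
    change ConjClasses.mk (MulAut.conjNormal (a * b) x) =
      ConjClasses.mk (MulAut.conjNormal a (MulAut.conjNormal b x))
    rw [map_mul, MulAut.mul_apply]

omit hN in
theorem mem_of_sq_mem_of_odd_index {K : Subgroup G} (hK : N ≤ K) [N.Normal] (hodd : Odd N.index)
    {g : G} (hg : g ^ 2 ∈ K) : g ∈ K := by
  obtain ⟨k, hk⟩ := hodd
  have h1 : g ^ N.index ∈ K := hK (N.pow_index_mem g)
  rw [hk, pow_succ, pow_mul] at h1
  exact (K.mul_mem_cancel_left (K.pow_mem hg k)).1 h1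

/-- Real characters and real classes have the same number of `G`-orbits for odd index. -/
theorem card_real_orbits [Finite G] (hodd : Odd N.index) :
    Nat.card (Quot (fun θ η : {θ : IrrCharacter N // (∀ k : N, (θ.1 k).im = 0)} =>
      ∃ g : G, ∀ k k' : N, (k' : G) = g * (k : G) * g⁻¹ → η.1.1 k' = θ.1.1 k)) =
    Nat.card (Quot (fun x y : {x : N // IsConj x x⁻¹} => ∃ g : G, (y.1 : G) = g * x.1 * g⁻¹)) := by
  classical
  have := Fintype.ofFinite G
  have := Fintype.ofFinite N
  let _ := irrAct N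
  let _ := clsAct N
  have hsI : ∀ (g : G) (θ : IrrCharacter N), (g • θ).1 = H32.cj g⁻¹ θ.1 := fun _ _ => rfl
  have hsC : ∀ (g : G) (x : N), g • ConjClasses.mk x = ConjClasses.mk (MulAut.conjNormal g x) :=
    fun _ _ => rfl
  let X : SubMulAction G (IrrCharacter N) :=
    { carrier := {θ | ∀ k : N, (θ.1 k).im = 0}
      smul_mem' := fun g θ hθ k => hθ _ }
  let Y : SubMulAction G (ConjClasses N) :=
    { carrier := {C | ∀ x : N, ConjClasses.mk x = C → IsConj x x⁻¹}
      smul_mem' := fun g C hC x hx => by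
        have h1 : ConjClasses.mk (MulAut.conjNormal g⁻¹ x) = C := by
          rw [← hsC, hx, inv_smul_smul]
        have h2 := (MulAut.conjNormal g : MulAut N).toMonoidHom.map_isConj (hC _ h1)
        simpa using h2 }
  have hX : Nat.card (Quot (fun θ η : {θ : IrrCharacter N // (∀ k : N, (θ.1 k).im = 0)} =>
      ∃ g : G, ∀ k k' : N, (k' : G) = g * (k : G) * g⁻¹ → η.1.1 k' = θ.1.1 k)) =
      Nat.card (MulAction.orbitRel.Quotient G X) := by
    refine card_quot_congr_of_surj _ _ (MulAction.orbitRel G X).iseqv (fun θ => ⟨θ.1, θ.2⟩)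
      (fun θ => ⟨⟨θ.1, θ.2⟩, rfl⟩) fun θ η => ?_
    change _ ↔ (MulAction.orbitRel G X) _ _
    rw [MulAction.orbitRel_apply, MulAction.mem_orbit_iff]
    refine ⟨fun ⟨g, hg⟩ => ⟨g⁻¹, Subtype.ext (Subtype.ext (funext fun k => ?_))⟩,
      fun ⟨g, hg⟩ => ⟨g⁻¹, fun k k' hk => ?_⟩⟩
    · change H32.cj g⁻¹⁻¹ η.1.1 k = θ.1.1 k
      rw [inv_inv]
      exact hg _ _ rfl
    · have h1 : H32.cj g⁻¹ η.1.1 k = θ.1.1 k := congrFun (congrArg (fun z : X => z.1.1) hg) k
      rw [← h1, H32.cj_apply]
      exact congrArg η.1.1 (Subtype.ext hk)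
  have hY : Nat.card (Quot (fun x y : {x : N // IsConj x x⁻¹} =>
      ∃ g : G, (y.1 : G) = g * x.1 * g⁻¹)) = Nat.card (MulAction.orbitRel.Quotient G Y) := by
    refine card_quot_congr_of_surj _ _ (MulAction.orbitRel G Y).iseqv
      (fun x => ⟨ConjClasses.mk x.1, fun y hy => ?_⟩) (fun C => ?_) fun x y => ?_
    · obtain ⟨c, hc⟩ := isConj_iff.1 (ConjClasses.mk_eq_mk_iff_isConj.1 hy)
      have h1 : IsConj y x.1 := isConj_iff.2 ⟨c, hc⟩
      have h2 : IsConj y⁻¹ x.1⁻¹ := isConj_iff.2 ⟨c, by rw [← hc]; group⟩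
      exact (h1.trans x.2).trans h2.symm
    · obtain ⟨x, hx⟩ := ConjClasses.mk_surjective C.1
      exact ⟨⟨x, C.2 x hx⟩, Subtype.ext hx⟩
    · change _ ↔ (MulAction.orbitRel G Y) _ _
      rw [MulAction.orbitRel_apply, MulAction.mem_orbit_iff]
      refine ⟨fun ⟨g, hg⟩ => ⟨g⁻¹, Subtype.ext ?_⟩, fun ⟨g, hg⟩ => ?_⟩
      · change g⁻¹ • ConjClasses.mk y.1 = ConjClasses.mk x.1
        rw [hsC]
        congr 1
        apply Subtype.ext
        rw [MulAut.conjNormal_apply, hg]
        group
      · have h1 : g • ConjClasses.mk y.1 = ConjClasses.mk x.1 := congrArg Subtype.val hg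
        rw [hsC] at h1
        obtain ⟨c, hc⟩ := isConj_iff.1 (ConjClasses.mk_eq_mk_iff_isConj.1 h1)
        refine ⟨(c * g)⁻¹, ?_⟩
        rw [← hc]
        simp only [Subgroup.coe_mul, Subgroup.coe_inv, MulAut.conjNormal_apply]
        group
  rw [hX, hY]
  refine card_orbits_eq_of_fixedBy fun g => ?_
  have key := H30.card_fixed_irr_eq (G := N) (fun k => MulAut.conjNormal g k⁻¹) (fun χ hχ => by
    have := (H32.isIrrCharacter_cj hχ g).conj
    simp only [← (H32.isCharacter_cj hχ.isCharacter g).apply_inv] at this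
    exact this)
  refine (Nat.card_congr ?_).trans (key.trans (Nat.card_congr ?_))
  · refine (Equiv.subtypeEquivRight (fun θ : X => ?_)).trans
      ((Equiv.subtypeSubtypeEquivSubtypeInter (fun θ : IrrCharacter N => θ ∈ X)
      (fun θ => g • θ = θ)).trans (Equiv.subtypeEquivRight fun θ => ?_))
    · rw [MulAction.mem_fixedBy, Subtype.ext_iff]
      rfl
    · refine ⟨fun ⟨h1, h2⟩ => funext fun k => ?_, fun h => ?_⟩
      · have h3 : g ∈ H32.inertia θ.1 :=
          (Subgroup.inv_mem_iff _).1 (congrArg Subtype.val h2)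
        have h4 : θ.1 (MulAut.conjNormal g k⁻¹) = θ.1 k⁻¹ := congrFun h3 k⁻¹
        rw [h4, θ.2.isCharacter.apply_inv]
        exact Complex.conj_eq_iff_im.2 (h1 k)
      · have h3 : g ^ 2 ∈ H32.inertia θ.1 := by
          refine funext fun k => ?_
          have h4 := congrFun h (MulAut.conjNormal g k⁻¹)
          have h5 := congrFun h k
          rw [h5, ← map_inv, inv_inv, ← MulAut.mul_apply, ← map_mul, ← sq] at h4
          exact h4
        have h6 := mem_of_sq_mem_of_odd_index N (H32.le_inertia θ.2.isClassFunction) hodd h3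
        refine ⟨fun k => ?_, Subtype.ext ((Subgroup.inv_mem_iff _).2 h6)⟩
        have h4 : θ.1 (MulAut.conjNormal g k⁻¹) = θ.1 k⁻¹ := congrFun h6 k⁻¹
        have h5 := congrFun h k
        rw [h4, θ.2.isCharacter.apply_inv] at h5
        exact Complex.conj_eq_iff_im.1 h5
  · symm
    refine (Equiv.subtypeEquivRight (fun C : Y => ?_)).trans
      ((Equiv.subtypeSubtypeEquivSubtypeInter (fun C : ConjClasses N => C ∈ Y)
      (fun C => g • C = C)).trans (Equiv.subtypeEquivRight fun C => ?_))
    · rw [MulAction.mem_fixedBy, Subtype.ext_iff]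
      rfl
    · refine ⟨fun ⟨h1, h2⟩ x hx => ?_, fun h => ?_⟩
      · have h3 : IsConj x⁻¹ x := (h1 x hx).symm
        have h4 := (MulAut.conjNormal g : MulAut N).toMonoidHom.map_isConj h3
        have h5 : IsConj (MulAut.conjNormal g x) x := by
          rw [← ConjClasses.mk_eq_mk_iff_isConj, ← hsC, hx, h2]
        exact (h4.trans h5).symm
      · obtain ⟨x, rfl⟩ := ConjClasses.mk_surjective C
        have h3 : g ^ 2 ∈ MulAction.stabilizer G (ConjClasses.mk x) := by
          rw [MulAction.mem_stabilizer_iff, hsC, ConjClasses.mk_eq_mk_iff_isConj]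
          have h4 := h x rfl
          have h5 := h _ (ConjClasses.mk_eq_mk_iff_isConj.2 h4.symm)
          rw [← map_inv, inv_inv, ← MulAut.mul_apply, ← map_mul, ← sq] at h5
          exact (h4.trans h5).symm
        have h6 := mem_of_sq_mem_of_odd_index N (K := MulAction.stabilizer G (ConjClasses.mk x))
          (fun n hn => by
            rw [MulAction.mem_stabilizer_iff, hsC, ConjClasses.mk_eq_mk_iff_isConj]
            exact (isConj_iff.2 ⟨(⟨n, hn⟩ : N), rfl⟩ :
              IsConj x (MulAut.conjNormal n x)).symm) hodd h3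
        refine ⟨fun y hy => ?_, h6⟩
        have h7 : IsConj (MulAut.conjNormal g y) y := by
          rw [← ConjClasses.mk_eq_mk_iff_isConj, ← hsC, hy]
          exact h6
        obtain ⟨c, hc⟩ := isConj_iff.1 h7
        have h8 : IsConj (MulAut.conjNormal g y⁻¹) y⁻¹ :=
          isConj_iff.2 ⟨c, by rw [map_inv]; conv_rhs => rw [← hc]; ; group⟩
        exact (h y hy).trans h8

end H40
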