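import Cfsg.Agent.H40.Zeros
import Cfsg.Agent.H40.Twist
import Cfsg.Agent.H40.IrrAct
import Cfsg.Agent.H30.FrobSchur
import Cfsg.Agent.H32.Extend
import Cfsg.Agent.H32.Gallagher
import Cfsg.Agent.H32.CliffordCorr

/-! Characters fixed by a field automorphism which inverts the odd order roots of unity, lying over
a fixed character of a normal subgroup of odd index. -/

set_option autoImplicit false

open Cfsg H28 H29
open scoped ComplexConjugate

namespace H40

variable {G : Type*} [Group G]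

theorem classInner_pow_pow [Fintype G] {k : ℕ} (hk : k.Coprime (Nat.card G)) (φ ψ : G → ℂ) :
    classInner (fun g => φ (g ^ k)) (fun g => ψ (g ^ k)) = classInner φ ψ :=
  classInner_comp_equiv (powCoprime hk.symm) φ ψ

theorem coprime_card_subgroup {k : ℕ} (hk : k.Coprime (Nat.card G)) (H : Subgroup G) :
    k.Coprime (Nat.card H) := hk.coprime_dvd_right H.card_subgroup_dvd_card

theorem indFun_pow [Fintype G] {k : ℕ} (hk : k.Coprime (Nat.card G)) (T : Subgroup G)
    (ψ : T → ℂ) (g : G) : indFun T (fun t => ψ (t ^ k)) g = indFun T ψ (g ^ k) := by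
  rw [H33.indFun_apply', H33.indFun_apply']
  congr 1
  refine Finset.sum_congr rfl fun x _ => ?_
  rw [← conj_pow]
  by_cases h : x * g * x⁻¹ ∈ T
  · rw [H33.ext0_of_mem _ _ h, H33.ext0_of_mem _ _ (T.pow_mem h k)]
    rfl
  · rw [H33.ext0_of_not_mem _ _ h,
      H33.ext0_of_not_mem _ _ (fun h' => h ((pow_mem_iff_of_coprime_card T hk _).1 h'))]

variable [Finite G] {N : Subgroup G} [hN : N.Normal] {k : ℕ}

/-- Galois conjugates commute with conjugation: a constituent of a fixed character over a normal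
subgroup of `p'`-index is fixed. -/
theorem pow_fixed_of_constituent [Fintype N] {m j : ℕ} (hcop : m.Coprime N.index)
    (hk : k.Coprime (Nat.card G)) (hkm : k ^ m ≡ 1 [MOD j]) (hj : Nat.card G ∣ j) {χ : G → ℂ}
    (hχ : IsIrrCharacter G χ) (hf : ∀ g, χ (g ^ k) = χ g) {θ : N → ℂ} (hθ : IsIrrCharacter N θ)
    (h : classInner (fun n : N => χ n) θ ≠ 0) (n : N) : θ (n ^ k) = θ n := by
  have := Fintype.ofFinite G
  have hkN := coprime_card_subgroup hk N
  have h1 : classInner (fun n : N => χ n) (fun n => θ (n ^ k)) ≠ 0 := by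
    rw [← classInner_pow_pow hkN] at h
    simpa only [Subgroup.coe_pow, hf] using h
  obtain ⟨g, hg⟩ := H32.mem_conjSet.1
    (H32.mem_conjSet_of_constituent hχ hθ (hθ.comp_pow hkN) h h1)
  have h2 : ∀ i : ℕ, ∀ n : N, θ (n ^ k ^ i) = H32.cj (g ^ i) θ n := by
    intro i
    induction i with
    | zero => intro n; simp
    | succ i ih =>
      intro n
      rw [pow_succ k, pow_mul, congrFun hg (n ^ k ^ i), H32.cj_eq_comp]
      simp only [map_pow]
      rw [ih, pow_succ g, H32.cj_mul]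
      rfl
  have h3 : g ^ m ∈ H32.inertia θ := funext fun n => by
    rw [← h2]
    congr 1
    have : orderOf n ∣ j := (orderOf_dvd_natCard n).trans (N.card_subgroup_dvd_card.trans hj)
    rw [pow_eq_pow_iff_modEq.2 (hkm.of_dvd this), pow_one]
  have h4 : g ^ N.index ∈ H32.inertia θ := H32.le_inertia hθ.isClassFunction (N.pow_index_mem g)
  have h5 : g ∈ H32.inertia θ := by
    have h6 : g = (g ^ m) ^ Nat.gcdA m N.index * (g ^ N.index) ^ Nat.gcdB m N.index := by
      rw [← zpow_natCast, ← zpow_natCast, ← zpow_mul, ← zpow_mul, ← zpow_add, ← Nat.gcd_eq_gcd_ab,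
        hcop]
      simp
    rw [h6]
    exact mul_mem (zpow_mem h3 _) (zpow_mem h4 _)
  rw [congrFun hg n, H32.mem_inertia.1 h5]

theorem pow_fixed_unique [Fintype N] (hodd : Odd N.index) (hk : k.Coprime (Nat.card G))
    (hkN : ∀ g : G, g ^ (k + 1) ∈ N) {χ ψ : G → ℂ} (hχ : IsCharacter G χ)
    (hχN : IsIrrCharacter N fun n : N => χ n) (hf : ∀ g, χ (g ^ k) = χ g)
    (hψ : IsIrrCharacter G ψ) (hf' : ∀ g, ψ (g ^ k) = ψ g)
    (h : classInner (fun n : N => ψ n) (fun n : N => χ n) ≠ 0) : ψ = χ := by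
  have := Fintype.ofFinite G
  obtain ⟨β, hβ, hker, rfl⟩ := H32.gallagher_surj hχ hχN hψ h
  have h1 : ∀ g, β (g ^ k) = conj (β g) := fun g => by
    rw [← hβ.isCharacter.apply_inv, ← hker (hkN g) g⁻¹, pow_succ, mul_inv_cancel_right]
  have h2 : (fun g => conj (β g)) = β := by
    refine H32.gallagher_inj hχ hχN hβ.conj hβ (by rwa [charKer_conj]) hker (funext fun g => ?_)
    have := hf' g
    rwa [Pi.mul_apply, hf, h1] at this
  obtain ⟨η, hη, hηβ⟩ := hβ.exists_quotient N hker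
  have := Fintype.ofFinite (G ⧸ N)
  have h3 := H30.eq_one_of_real_of_odd (G := G ⧸ N) hodd hη (fun q => by
    obtain ⟨x, rfl⟩ := QuotientGroup.mk_surjective q
    rw [hηβ]
    exact H30.real_iff_conj_eq.2 h2 x)
  funext g
  rw [Pi.mul_apply, ← hηβ, h3, one_mul]

theorem exists_pow_fixed_ext (hodd : Odd N.index) (hk : k.Coprime (Nat.card G))
    (hkN : ∀ g : G, g ^ (k + 1) ∈ N) {χ : G → ℂ} (hχ : IsCharacter G χ)
    (hχN : IsIrrCharacter N fun n : N => χ n) (hf : ∀ n : N, χ (n ^ k) = χ n) :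
    ∃ ψ : G → ℂ, IsIrrCharacter G ψ ∧ (∀ n : N, ψ n = χ n) ∧ ∀ g, ψ (g ^ k) = ψ g := by
  obtain ⟨f, hf1, hf2⟩ := H32.exists_hom_of_ext_of_ext hχ hχN (hχ.comp_pow hk) hf
  obtain ⟨m, hm⟩ := hodd
  have hirr : IsIrrCharacter G χ := hχ.irr_of_comp N.subtype hχN
  refine ⟨χ * fun g => ((f ^ (m + 1)) g : ℂ), hirr.mul_linear (isCharacter_of_hom _) (by simp),
    fun n => by simp [hf1 n n.2], fun g => ?_⟩
  have h1 : f (g ^ k) * f g = 1 := by rw [← map_mul, ← pow_succ, hf1 _ (hkN g)]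
  have h2 : f g ^ (2 * m + 1) = 1 := by rw [← hm, ← map_pow, hf1 _ (N.pow_index_mem g)]
  have h3 : f g * f (g ^ k) ^ (m + 1) = f g ^ (m + 1) := by
    rw [eq_inv_of_mul_eq_one_left h1, inv_pow, mul_inv_eq_iff_eq_mul, ← pow_add,
      show m + 1 + (m + 1) = 2 * m + 1 + 1 by ring, pow_succ, h2, one_mul]
  simp only [Pi.mul_apply, MonoidHom.pow_apply]
  rw [congrFun hf2 g, ← h3]
  push_cast
  ring

omit hN in
theorem exists_ext_of_pgroup_odd {p : ℕ} [Fact p.Prime] (hk : k.Coprime (Nat.card G))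
    (N : Subgroup G) : ∀ [hN : N.Normal], Odd N.index → (∀ g : G, ∃ e, g ^ p ^ e ∈ N) →
      (∀ g : G, g ^ (k + 1) ∈ N) → ∀ {θ : N → ℂ}, IsIrrCharacter N θ → H32.inertia θ = ⊤ →
      (∀ n, θ (n ^ k) = θ n) → ∃ χ : G → ℂ, IsCharacter G χ ∧ ∀ n : N, χ n = θ n := by
  induction N using WellFoundedGT.induction with
  | ind N ih =>
  intro hN hodd hp hkN θ hθ hinv hf
  by_cases htop : N = ⊤
  · subst htop
    exact ⟨fun g => θ ⟨g, trivial⟩, hθ.isCharacter.comp Subgroup.topEquiv.symm.toMonoidHom,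
      fun _ => rfl⟩
  have hP : IsPGroup p (G ⧸ N) := fun q => by
    obtain ⟨x, rfl⟩ := QuotientGroup.mk_surjective q
    obtain ⟨e, he⟩ := hp x
    exact ⟨e, by rw [← QuotientGroup.mk_pow, QuotientGroup.eq_one_iff]; exact he⟩
  have : Nontrivial (G ⧸ N) := QuotientGroup.nontrivial_iff.2 htop
  have := hP.center_nontrivial
  obtain ⟨⟨z, hz⟩, hz1⟩ := exists_ne (1 : Subgroup.center (G ⧸ N))
  obtain ⟨s, rfl⟩ := QuotientGroup.mk_surjective z
  have hs : s ∉ N := fun h => hz1 (Subtype.ext ((QuotientGroup.eq_one_iff _).2 h))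
  set M := N ⊔ Subgroup.zpowers s with hM
  have hNM : N ≤ M := le_sup_left
  have hMn : M.Normal := by
    have h1 : M = (Subgroup.zpowers (s : G ⧸ N)).comap (QuotientGroup.mk' N) := by
      rw [hM, ← QuotientGroup.mk'_apply, ← MonoidHom.map_zpowers, Subgroup.comap_map_eq,
        QuotientGroup.ker_mk', sup_comm]
    have h2 : (Subgroup.zpowers (s : G ⧸ N)).Normal := ⟨fun x hx g => by
      rw [Subgroup.mem_center_iff.1 (Subgroup.zpowers_le.2 hz hx) g, mul_inv_cancel_right]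
      exact hx⟩
    rw [h1]
    infer_instance
  have hlt : N < M := lt_of_le_of_ne hNM fun h => hs (h ▸ mem_sup_zpowers N s)
  obtain ⟨X, hX, hXθ⟩ := exists_isExt (G := N) (s := s)
    (by rw [Subgroup.normalizer_eq_top]; trivial) hθ (fun g g' e => by
      rw [← H32.inertia_eq_top_iff.1 hinv s g]
      exact congrArg θ (Subtype.ext e))
  have hodd' : Odd (N.subgroupOf M).index :=
    Odd.of_dvd_nat hodd (Subgroup.relIndex_dvd_index_of_le hNM)
  have hirr : IsIrrCharacter (N.subgroupOf M) fun n : N.subgroupOf M => X (n : M) := by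
    have := H32.isIrrCharacter_subgroupOf hNM hθ
    simpa only [← hXθ] using this
  obtain ⟨η, hη, hηX, hηf⟩ := exists_pow_fixed_ext (G := M) (N := N.subgroupOf M) (k := k) hodd'
    (coprime_card_subgroup hk M) (fun g => hkN g) hX hirr (fun n => by
      have h1 := hXθ ⟨(n : M), n.2⟩
      have h2 := hXθ (⟨(n : M), n.2⟩ ^ k)
      exact h2.trans ((hf _).trans h1.symm))
  have hηθ : ∀ n : N, η ⟨n, hNM n.2⟩ = θ n := fun n => (hηX ⟨⟨n, hNM n.2⟩, n.2⟩).trans (hXθ n)
  have := Fintype.ofFinite (N.subgroupOf M)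
  have hirr' : IsIrrCharacter (N.subgroupOf M) fun n : N.subgroupOf M => η n := by
    simpa only [hηX] using hirr
  obtain ⟨χ, hχ, hχη⟩ := ih M hlt (Odd.of_dvd_nat hodd (Subgroup.index_dvd_of_le hNM))
    (fun g => (hp g).imp fun e he => hNM he) (fun g => hNM (hkN g)) hη
    ((Subgroup.eq_top_iff' _).2 fun g => by
      refine pow_fixed_unique (N := N.subgroupOf M) hodd' (coprime_card_subgroup hk M)
        (fun g => hkN g) hη.isCharacter hirr' hηf (H32.isIrrCharacter_cj hη g) (fun x => ?_) ?_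
      · simp only [H32.cj_eq_comp, map_pow, hηf]
      · have : (fun n : N.subgroupOf M => H32.cj g η n) = fun n : N.subgroupOf M => η n := by
          funext n
          have h1 := hηθ ⟨(n : M), n.2⟩
          have h2 := hηθ ⟨g * (n : M) * g⁻¹, hN.conj_mem _ n.2 g⟩
          exact h2.trans ((H32.inertia_eq_top_iff.1 hinv g ⟨(n : M), n.2⟩).trans h1.symm)
        rw [this, hirr'.classInner_self]
        exact one_ne_zero) hηf
  exact ⟨χ, hχ, fun n => (hχη ⟨n, hNM n.2⟩).trans (hηθ n)⟩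

/-- A fixed invariant character of a normal subgroup of odd index has a fixed extension. -/
theorem exists_pow_fixed_ext_of_invariant (hodd : Odd N.index) (hk : k.Coprime (Nat.card G))
    (hkN : ∀ g : G, g ^ (k + 1) ∈ N) {θ : N → ℂ} (hθ : IsIrrCharacter N θ)
    (hinv : H32.inertia θ = ⊤) (hf : ∀ n, θ (n ^ k) = θ n) :
    ∃ χ : G → ℂ, IsIrrCharacter G χ ∧ (∀ n : N, χ n = θ n) ∧ ∀ g, χ (g ^ k) = χ g := by
  obtain ⟨χ, hχ, hχθ⟩ := H32.exists_ext_of_forall_prime hθ (H32.inertia_eq_top_iff.1 hinv)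
    (fun p hp _ => by
      have := Fact.mk hp
      obtain ⟨S⟩ : Nonempty (Sylow p (G ⧸ N)) := inferInstance
      set P := (S : Subgroup (G ⧸ N)).comap (QuotientGroup.mk' N)
      have hNP : N ≤ P := fun n hn => by
        change (n : G ⧸ N) ∈ (S : Subgroup (G ⧸ N))
        rw [(QuotientGroup.eq_one_iff n).2 hn]
        exact one_mem _
      obtain ⟨η, hη, hηθ⟩ := exists_ext_of_pgroup_odd (G := P) (p := p) (k := k)
        (coprime_card_subgroup hk P) (N.subgroupOf P)
        (Odd.of_dvd_nat hodd (Subgroup.relIndex_dvd_index_of_le hNP)) (fun g => by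
          obtain ⟨e, he⟩ := S.isPGroup' ⟨(g : G), g.2⟩
          refine ⟨e, (QuotientGroup.eq_one_iff ((g : G) ^ p ^ e)).1 ?_⟩
          rw [QuotientGroup.mk_pow]
          exact congrArg Subtype.val he) (fun g => hkN g)
        (H32.isIrrCharacter_subgroupOf hNP hθ)
        (by rw [H32.inertia_subgroupOf hNP, hinv, Subgroup.top_subgroupOf])
        (fun n => hf ⟨(n : P), n.2⟩)
      refine ⟨P, hNP, η, ?_, hη, fun n => hηθ ⟨⟨n, hNP n.2⟩, n.2⟩⟩
      rw [Subgroup.index_comap_of_surjective _ (QuotientGroup.mk'_surjective N)]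
      exact S.not_dvd_index)
  have e : (fun n : N => χ n) = θ := funext hχθ
  obtain ⟨ψ, h1, h2, h3⟩ := exists_pow_fixed_ext hodd hk hkN hχ.isCharacter (e ▸ hθ)
    (fun n => by rw [← Subgroup.coe_pow, hχθ, hχθ, hf])
  exact ⟨ψ, h1, fun n => (h2 n).trans (hχθ n), h3⟩

/-- The unique fixed character over a fixed character of a normal subgroup of odd index. -/
theorem exists_pow_fixed_over {G : Type*} [Group G] [Fintype G] {N : Subgroup G} [hN : N.Normal]
    [Fintype N] (hodd : Odd N.index) (hk : k.Coprime (Nat.card G))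
    (hkN : ∀ g : G, g ^ (k + 1) ∈ N) {θ : N → ℂ} (hθ : IsIrrCharacter N θ)
    (hf : ∀ n, θ (n ^ k) = θ n) :
    ∃ (T : Subgroup G) (hNT : N ≤ T) (ψ : T → ℂ), IsIrrCharacter T ψ ∧
      (∀ n : N, ψ ⟨n, hNT n.2⟩ = θ n) ∧ (∀ t, ψ (t ^ k) = ψ t) ∧ IsIrrCharacter G (indFun T ψ) ∧
      classInner (fun n : N => indFun T ψ n) θ ≠ 0 ∧
      (∀ g, indFun T ψ (g ^ k) = indFun T ψ g) ∧
      ∀ χ : G → ℂ, IsIrrCharacter G χ → classInner (fun n : N => χ n) θ ≠ 0 →
        (∀ g, χ (g ^ k) = χ g) → χ = indFun T ψ := by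
  have hNT : N ≤ H32.inertia θ := H32.le_inertia hθ.isClassFunction
  set T := H32.inertia θ with hT
  have hodd' : Odd (N.subgroupOf T).index :=
    Odd.of_dvd_nat hodd (Subgroup.relIndex_dvd_index_of_le hNT)
  have hkT := coprime_card_subgroup hk T
  have hirr := H32.isIrrCharacter_subgroupOf hNT hθ
  obtain ⟨ψ, hψ, hψθ, hψf⟩ := exists_pow_fixed_ext_of_invariant (G := T) (N := N.subgroupOf T)
    hodd' hkT (fun g => hkN g) hirr
    (by rw [H32.inertia_subgroupOf hNT, Subgroup.subgroupOf_self]) (fun n => hf ⟨(n : T), n.2⟩)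
  have hψθ' : ∀ n : N, ψ ⟨n, hNT n.2⟩ = θ n := fun n => hψθ ⟨⟨n, hNT n.2⟩, n.2⟩
  have h1 : classInner (fun n : N => ψ ⟨n, hNT n.2⟩) θ ≠ 0 := by
    rw [funext hψθ', hθ.classInner_self]
    exact one_ne_zero
  obtain ⟨h2, h3⟩ := H32.cliffordCorr_irr hθ hT hNT hψ h1
  refine ⟨T, hNT, ψ, hψ, hψθ', hψf, h2, by rwa [h3], fun g => ?_, fun χ hχ hc hχf => ?_⟩
  · rw [← indFun_pow hk, funext hψf]
  · obtain ⟨ξ, hξ, rfl, h4⟩ := H32.cliffordCorr_surj hθ hT hNT hχ hc
    rw [← h4] at hc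
    have h5 : classInner (fun n : N => ξ (⟨n, hNT n.2⟩ ^ k)) θ ≠ 0 := by
      rw [← classInner_pow_pow (coprime_card_subgroup hk N), funext hf] at hc
      exact hc
    have h6 : (fun t => ξ (t ^ k)) = ξ := H32.cliffordCorr_inj hθ hT hNT (hξ.comp_pow hkT) hξ h5 hc
      (funext fun g => by rw [indFun_pow hk, hχf])
    have := Fintype.ofFinite (N.subgroupOf T)
    have e : (fun n : N.subgroupOf T => ψ n) = fun n : N.subgroupOf T => θ ⟨(n : T), n.2⟩ :=
      funext hψθ
    rw [pow_fixed_unique (N := N.subgroupOf T) hodd' hkT (fun g => hkN g) hψ.isCharacter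
      (e ▸ hirr) hψf hξ (congrFun h6) (by rwa [e, H32.classInner_res_subgroupOf hNT])]

omit [Finite G] in
theorem pow_succ_mem_of_odd_index [Finite G] (hodd : Odd N.index)
    (hk₂ : ∀ g : G, Odd (orderOf g) → g ^ k = g⁻¹) (g : G) : g ^ (k + 1) ∈ N := by
  obtain ⟨a, m, hm, ham⟩ := Nat.exists_eq_two_pow_mul_odd (orderOf_pos g).ne'
  have h1 : Odd (orderOf (g ^ 2 ^ a)) := by
    refine Odd.of_dvd_nat hm (orderOf_dvd_of_pow_eq_one ?_)
    rw [← pow_mul, ← ham, pow_orderOf_eq_one]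
  have h2 : (g ^ (k + 1)) ^ 2 ^ a = 1 := by
    rw [← pow_mul, mul_comm, pow_mul, pow_succ, hk₂ _ h1, inv_mul_cancel]
  have h3 : ∀ (a : ℕ) (x : G), x ^ 2 ^ a ∈ N → x ∈ N := by
    intro a
    induction a with
    | zero => intro x hx; simpa using hx
    | succ a ih =>
      intro x hx
      rw [pow_succ, pow_mul] at hx
      exact ih x (mem_of_sq_mem_of_odd_index N le_rfl hodd hx)
  exact h3 a _ (h2 ▸ one_mem N)

/-- The Frobenius–Schur indicator of a character induced from a subgroup containing a normal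
subgroup of odd index. -/
theorem fsInd_indFun {G : Type*} [Group G] [Fintype G] {N T : Subgroup G} [hN : N.Normal]
    [Fintype T] (hodd : Odd N.index) (hNT : N ≤ T) (ψ : T → ℂ) :
    H30.fsInd (indFun T ψ) = H30.fsInd ψ := by
  simp only [H30.fsInd, H33.indFun_apply']
  rw [← Finset.mul_sum, Finset.sum_comm]
  have h1 : ∀ x : G, ∑ s : G, extendByZero T ψ (x * (s * s) * x⁻¹) = ∑ t : T, ψ (t * t) := by
    intro x
    rw [← H33.sum_ext0 T (fun t => ψ (t * t)),
      ← Equiv.sum_comp (MulAut.conj x).toEquiv (extendByZero T fun t => ψ (t * t))]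
    refine Finset.sum_congr rfl fun s _ => ?_
    change _ = extendByZero T (fun t => ψ (t * t)) (x * s * x⁻¹)
    rw [show x * (s * s) * x⁻¹ = (x * s * x⁻¹) * (x * s * x⁻¹) by group]
    by_cases h : x * s * x⁻¹ ∈ T
    · rw [H33.ext0_of_mem _ _ h, H33.ext0_of_mem _ _ (T.mul_mem h h)]
      rfl
    · rw [H33.ext0_of_not_mem _ _ h, H33.ext0_of_not_mem _ _
        (fun h' => h (mem_of_sq_mem_of_odd_index N hNT hodd (by rwa [sq])))]
  simp only [h1, Finset.sum_const, Finset.card_univ, nsmul_eq_mul, ← Nat.card_eq_fintype_card]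
  rw [mul_left_comm, ← mul_assoc (Nat.card G : ℂ)⁻¹, inv_mul_cancel₀ (card_ne_zero' G), one_mul]

/-- A real character with a restriction of indicator one has indicator one. -/
theorem fsInd_eq_one_of_comp {G H : Type*} [Group G] [Fintype G] [Group H] [Fintype H]
    (f : H →* G) {ψ : G → ℂ} (hψ : IsIrrCharacter G ψ) (hr : ∀ g, (ψ g).im = 0)
    (hf : IsIrrCharacter H fun h => ψ (f h)) (h1 : H30.fsInd (fun h => ψ (f h)) = 1) :
    H30.fsInd ψ = 1 := by
  obtain ⟨a, b, h2, h3, h4⟩ := H30.exists_fsInd_eq_sub hψ.isCharacter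
  obtain ⟨a', b', h2', h3', h4'⟩ := H30.exists_fsInd_eq_sub hf.isCharacter
  rw [H30.average_sq_irr hψ, if_pos hr] at h2
  rw [H30.average_sq_irr hf, if_pos fun h => hr _] at h2'
  have hb' : (b' : ℂ) = 0 := by linear_combination (h3' - h1 - h2') / 2
  have hA := H30.isCharacter_altSq hψ.isCharacter
  have hb : b = 0 := by
    by_contra hb
    have h5 : classInner (fun g => (ψ g ^ 2 - ψ (g * g)) / 2) (fun _ => 1) ≠ 0 := by
      rw [classInner_one_right, h4]
      exact_mod_cast hb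
    have h6 := classInner_re_le_of_sub (χ := fun h => (ψ (f h) ^ 2 - ψ (f h * f h)) / 2)
      (ψ := fun _ => 1) ((hA.sub_irr isIrrCharacter_one h5).comp f) isCharacter_one
    rw [classInner_one_one, classInner_one_right] at h6
    simp only [← map_mul] at h6
    rw [h4', hb'] at h6
    norm_num at h6
  rw [hb] at h2 h3
  rw [h3]
  simpa using h2.symm

end H40
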