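/- SPECTRA (S3535): interface of the jobs. See blueprints/SPECTRA.md. -/
import Cfsg.Agent.Base

set_option autoImplicit false

namespace H40.SP

universe u

/-- the set of element orders -/
abbrev om (G : Type*) [Group G] : Set ℕ := Set.range (orderOf : G → ℕ)

/-- the orders of the 26 sporadic groups and of the Tits group -/
def ords : List ℕ := [7920, 95040, 443520, 10200960, 244823040, 175560, 604800, 50232960,
  86775571046077562880, 4157776806543360000, 42305421312000, 495766656000, 64561751654400,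
  4089470473293004800, 1255205709190661721292800, 44352000, 898128000, 4030387200, 145926144000,
  448345497600, 460815505920, 273030912000000, 51765179004000000, 90745943887872000,
  4154781481226426191177580544000000, 808017424794512875886459904961710757005754368000000000,
  17971200]

/-- `s ^ b` is the exact power of `s` in `n` -/
def PP (s b n : ℕ) : Prop := s ^ b ∣ n ∧ ¬ s ^ (b + 1) ∣ n

/-- `A` is an almost simple quotient of `G` with socle `S` -/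
structure AQ {G A : Type*} [Group G] [Group A] (π : G →* A) (S : Subgroup A) : Prop where
  surj : Function.Surjective π
  normal : S.Normal
  simple : IsSimpleGroup S
  cent : Subgroup.centralizer (S : Set A) = ⊥

/-! ### The classical group -/

/-- a sign -/
def Sg (η : ℤ) : Prop := η = 1 ∨ η = -1

/-- the cyclic torus of order `q ^ d - η` occurs. `ε = 0`: `B_{N-1}`, `C_{N-1}`; `ε = ± 1`: `D_N^ε` -/
def Tr (N : ℕ) (ε : ℤ) (d : ℕ) (η : ℤ) : Prop := 0 < d ∧ Sg η ∧ (d < N ∨ (d = N ∧ η = ε))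

/-- what is used of the element orders `ω` of the classical group -/
structure LF (p q N : ℕ) (ε : ℤ) (ω : Set ℕ) : Prop where
  prime : p.Prime
  pw : ∃ f, 0 < f ∧ q = p ^ f
  three : 3 ≤ N
  eps : ε = 0 ∨ (4 ≤ N ∧ Sg ε)
  chr : p ∈ ω
  low : ∀ (d : ℕ) (η : ℤ) (m : ℕ), Tr N ε d η → Odd m → (m : ℤ) ∣ (q : ℤ) ^ d - η → m ∈ ω
  one : ∀ r i : ℕ, r.Prime → r ≠ 2 → r ≠ p → 0 < i → r ^ i ∈ ω →
    ∃ d η, Tr N ε d η ∧ (r : ℤ) ^ i ∣ (q : ℤ) ^ d - η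
  two : ∀ r i s j : ℕ, r.Prime → r ≠ 2 → r ≠ p → 0 < i → s.Prime → s ≠ 2 → s ≠ p → 0 < j →
    r ≠ s → r ^ i * s ^ j ∈ ω →
    (∃ d η, Tr N ε d η ∧ (r : ℤ) ^ i ∣ (q : ℤ) ^ d - η ∧ (s : ℤ) ^ j ∣ (q : ℤ) ^ d - η) ∨
    ∃ (d e : ℕ) (η θ : ℤ), 0 < d ∧ 0 < e ∧ Sg η ∧ Sg θ ∧ (d + e < N ∨ (d + e = N ∧ η * θ = ε)) ∧
      (r : ℤ) ^ i ∣ (q : ℤ) ^ d - η ∧ (s : ℤ) ^ j ∣ (q : ℤ) ^ e - θ
  cadj : ∀ r i : ℕ, r.Prime → r ≠ 2 → r ≠ p → 0 < i → r ^ i * p ∈ ω →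
    ∃ (d : ℕ) (η : ℤ), 0 < d ∧ Sg η ∧ d + 2 ≤ N ∧ (r : ℤ) ^ i ∣ (q : ℤ) ^ d - η
  adj2 : p ≠ 2 → ∀ r : ℕ, r.Prime → r ≠ 2 → r ≠ p → r * 2 ∈ ω →
    ∃ d η, Tr N ε d η ∧ (r : ℤ) ∣ (q : ℤ) ^ d - η ∧ (d + 2 ≤ N ∨ (4 : ℤ) ∣ (q : ℤ) ^ d - η ∨
      (d + 1 = N ∧ ε ≠ 0 ∧ ¬ (4 : ℤ) ∣ (q : ℤ) ^ N - ε))
  sm4 : q = 5 → N = 3 → 8 ∉ ω
  sm6 : q = 2 → N = 4 → ε ≠ -1 → 30 ∉ ω
  sm8 : q = 2 → (N = 5 ∧ ε = 0) ∨ (N = 4 ∧ ε = -1) →
    21 ∈ ω ∧ 16 ∉ ω ∧ 28 ∉ ω ∧ 40 ∉ ω ∧ 42 ∉ ω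

/-- symplectic groups -/
def JobLC : Prop := ∀ (F : Type) [Field F] [Fintype F] (p : ℕ) [Fact p.Prime] [CharP F p] (m : ℕ),
  2 ≤ m → LF p (Fintype.card F) (m + 1) 0 (om (Cfsg.PSp m F))

/-- orthogonal groups of odd dimension -/
def JobLB : Prop := ∀ (F : Type) [Field F] [Fintype F] (p : ℕ) [Fact p.Prime] [CharP F p] (m : ℕ),
  3 ≤ m → Odd (Fintype.card F) →
    LF p (Fintype.card F) (m + 1) 0 (om (Cfsg.POmega F (Cfsg.quadFormOdd m F)))

/-- orthogonal groups of plus type -/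
def JobLP : Prop := ∀ (F : Type) [Field F] [Fintype F] (p : ℕ) [Fact p.Prime] [CharP F p] (m : ℕ),
  4 ≤ m → LF p (Fintype.card F) m 1 (om (Cfsg.POmega F (Cfsg.quadFormPlus m F)))

/-- orthogonal groups of minus type -/
def JobLM : Prop := ∀ (F : Type) [Field F] [Fintype F] (p : ℕ) [Fact p.Prime] [CharP F p] (m : ℕ)
  (a b : F), 4 ≤ m → (∀ z₁ z₂ : F, z₁ ^ 2 + a * z₁ * z₂ + b * z₂ ^ 2 = 0 → z₁ = 0 ∧ z₂ = 0) →
    LF p (Fintype.card F) m (-1) (om (Cfsg.POmega F (Cfsg.quadFormMinus (m - 1) F a b)))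

/-! ### Number theory -/

/-- the pairs (order of `S`, `q`, `N`, `ε`) left by the primes nonadjacent to `2` -/
def surv : List (ℕ × ℕ × ℕ × ℤ) :=
  [(175560, 11, 4, 0), (175560, 11, 4, 1),
   (604800, 2, 4, 0), (604800, 2, 4, 1), (604800, 5, 4, 0), (604800, 5, 4, 1), (604800, 7, 3, 0),
   (64561751654400, 2, 7, 0), (448345497600, 2, 7, 0),
   (4030387200, 2, 4, -1), (4030387200, 2, 5, 0), (4030387200, 13, 3, 0),
   (145926144000, 17, 4, 0), (145926144000, 17, 4, 1), (145926144000, 307, 3, 0),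
   (273030912000000, 11, 4, 0), (273030912000000, 11, 4, 1),
   (17971200, 2, 7, 0), (17971200, 3, 4, 0), (17971200, 3, 4, 1), (17971200, 5, 3, 0),
   (17971200, 8, 3, 0)]

/-- some odd prime is nonadjacent to `2` -/
def JobNT0 : Prop := ∀ (p q N : ℕ) (ε : ℤ) (ω : Set ℕ), LF p q N ε ω →
  ∃ r, r.Prime ∧ r ≠ 2 ∧ r ∈ ω ∧ r * 2 ∉ ω

/-- the enumeration -/
def JobNT : Prop := ∀ (p q N : ℕ) (ε : ℤ) (ω : Set ℕ), LF p q N ε ω → ∀ n ∈ ords, ∀ a, PP 2 a n →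
  (∀ r, r.Prime → r ∣ n → r ∈ ω) →
  (∀ r e, r.Prime → r ≠ 2 → r * 2 ∉ ω → 0 < e → r ^ e ∈ ω → r ∣ n ∧ r ^ e ∣ n * (2 ^ a - 1)) →
  (n, q, N, ε) ∈ surv

/-! ### Structure of `G` -/

/-- Sylow 2-subgroups of a simple group of one of the orders -/
def JobSyl : Prop := ∀ (S : Type u) [Group S] [Finite S], IsSimpleGroup S → Nat.card S ∈ ords →
  ∀ P : Sylow 2 S, ¬ IsCyclic P ∧ (∀ n, 2 ≤ n → ¬ Nonempty (P ≃* DihedralGroup n)) ∧
    (Nat.card S ≠ 175560 → ¬ IsMulCommutative P)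

/-- primes nonadjacent to `2` do not divide the order of the kernel -/
def JobR0 : Prop := ∀ (G A : Type u) [Group G] [Finite G] [Group A] (π : G →* A),
  Function.Surjective π → ∀ S : Subgroup A, IsSimpleGroup S → Nat.card S ∈ ords →
  ∀ r, r.Prime → r ≠ 2 → r ∣ Nat.card π.ker → r * 2 ∈ om G

/-- the same for an odd prime `s` with noncyclic Sylow subgroups -/
def JobR1 : Prop := ∀ (G A : Type u) [Group G] [Finite G] [Group A] (π : G →* A),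
  Function.Surjective π → ∀ r s, r.Prime → s.Prime → s ≠ 2 → r ≠ s → r ∣ Nat.card π.ker →
  r * s ∈ om G ∨ ∀ b, s ^ b ∣ Nat.card A → s ^ b ∈ om G

/-- Frattini bound -/
def JobRA : Prop := ∀ (A : Type u) [Group A] [Finite A] (S : Subgroup A), S.Normal →
  ∀ r s b e, r.Prime → s.Prime → r ≠ s → 0 < b → PP s b (Nat.card S) → r * s ∉ om A →
  r ^ e ∣ Nat.card A → r ^ e ∣ Nat.card S * (s ^ b - 1)

/-- coprime automorphisms of prime order centralize an involution -/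
def JobCOP : Prop := ∀ (A : Type u) [Group A] [Finite A] (S : Subgroup A), IsSimpleGroup S →
  Nat.card S ∈ ords → ∀ y ∈ Subgroup.normalizer (S : Set A), ∀ r, r.Prime → orderOf y = r →
  ¬ r ∣ Nat.card S → r * 2 ∈ om A

/-- reduction to an almost simple quotient -/
def JobRed : Prop := ∀ (G : Type u) [Group G] [Finite G] (H : Subgroup G), H.IsSubnormal →
  ∀ (N : Subgroup H) [N.Normal], IsSimpleGroup (H ⧸ N) → Nat.card (H ⧸ N) ∈ ords →
  (∃ r, r.Prime ∧ r ≠ 2 ∧ r ∈ om G ∧ r * 2 ∉ om G) →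
  ∃ (A : Type u) (_ : Group A) (π : G →* A) (S : Subgroup A), AQ π S ∧ Nonempty (S ≃* H ⧸ N)

/-- a self-centralizing abelian TI-subgroup -/
def JobCC : Prop := ∀ (S : Type u) [Group S] [Finite S] (H : Subgroup S), H ≠ ⊥ →
  (∀ h ∈ H, h ≠ 1 → Subgroup.centralizer {h} = H) →
  ∃ e n, Nat.card S = Nat.card H * e * n ∧ e ∣ Nat.card H - 1 ∧ n ≡ 1 [MOD Nat.card H] ∧
    Nat.card (Subgroup.normalizer (H : Set S)) = Nat.card H * e

/-- Mazurov's lemma: `z` of order `n` acts on `F` as a Frobenius complement modulo the kernel of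
the action on the elementary abelian `r`-group `V` -/
def JobMaz : Prop := ∀ (G : Type u) [Group G] [Finite G] (V F : Subgroup G) (z : G) (r : ℕ),
  r.Prime → V ≠ ⊥ → (∀ v ∈ V, v ^ r = 1) → (∀ v ∈ V, ∀ w ∈ V, v * w = w * v) →
  ¬ r ∣ Nat.card F → F ≤ Subgroup.normalizer (V : Set G) → z ∈ Subgroup.normalizer (V : Set G) →
  z ∈ Subgroup.normalizer (F : Set G) → (∀ v ∈ V, (∀ f ∈ F, f * v = v * f) → v = 1) →
  (∀ i, 0 < i → i < orderOf z → ∀ f ∈ F,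
    (∀ v ∈ V, f⁻¹ * (z ^ i * f * (z ^ i)⁻¹) * v = v * (f⁻¹ * (z ^ i * f * (z ^ i)⁻¹))) →
    ∀ v ∈ V, f * v = v * f) →
  orderOf z * r ∈ om G

/-! ### The surviving pairs -/

def JobJ1 : Prop := ∀ (G A : Type u) [Group G] [Finite G] [Group A] (π : G →* A) (S : Subgroup A),
  AQ π S → Nat.card S = 175560 → 37 ∈ om G → 25 ∉ om G → 185 ∉ om G → 407 ∉ om G → False

def JobJ2a : Prop := ∀ (S : Type u) [Group S] [Finite S], Nat.card S = 604800 →
  10 ∉ om S → 15 ∉ om S → 35 ∉ om S → False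

def JobRu : Prop := ∀ (S : Type u) [Group S] [Finite S], Nat.card S = 145926144000 →
  47125 ∈ om S → (∀ r ∈ [5, 13, 29], ∀ s ∈ [2, 3, 7], r * s ∉ om S) → False

def JobTits : Prop := 8 ∈ om Cfsg.Lie.TitsGroup

def JobJ2r : Prop := ∀ (G A : Type u) [Group G] [Finite G] [Group A] (π : G →* A) (S : Subgroup A),
  AQ π S → Nat.card S = 604800 → 9 ∈ om G → (∀ r, r.Prime → r ∈ om G → r ∈ [2, 3, 5, 7]) →
  (∀ n ∈ [14, 18, 21, 35], n ∉ om G) → 9 ∈ om S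

def JobJ2s : Prop := ∀ (S : Type u) [Group S] [Finite S], IsSimpleGroup S → Nat.card S = 604800 →
  9 ∈ om S → (∀ n ∈ [18, 21, 27, 30, 45], n ∉ om S) → False

/-- in every subgroup `⟨x, z⟩ ≅ 7²` some element outside `⟨z⟩` centralizes no four-group -/
def NoV4 (S : Type*) [Group S] : Prop := ∀ x z : S, orderOf x = 7 → orderOf z = 7 → x * z = z * x →
  x ∉ Subgroup.zpowers z → ∃ k : ℕ, ∀ a b : S, a * a = 1 → b * b = 1 → a * b = b * a →
    a * (x * z ^ k) = x * z ^ k * a → b * (x * z ^ k) = x * z ^ k * b → a = 1 ∨ b = 1 ∨ a = b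

def JobHe0 : Prop := ∀ (G A : Type u) [Group G] [Finite G] [Group A] (π : G →* A) (S : Subgroup A),
  AQ π S → Nat.card S = 4030387200 → 21 ∈ om G →
  (∀ r, r.Prime → r ∈ om G → r ∈ [2, 3, 5, 7, 17]) →
  (∀ n ∈ [16, 28, 34, 40, 42, 51, 85, 119], n ∉ om G) → 21 ∈ om S ∨ NoV4 S

/-- centralizers of elements of order seven are solvable -/
def JobHe1 : Prop := ∀ (H : Type u) [Group H] [Finite H], Nat.card H ∣ 4030387200 →
  (∀ h : H, orderOf h ∣ 14 ∨ orderOf h ∣ 21) → Group.IsSolvable H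

/-- elementary abelian Sylow subgroup of rank three with solvable centralizers -/
def JobHe2 : Prop := ∀ (S : Type u) [Group S] [Finite S], IsSimpleGroup S →
  Nat.card S = 4030387200 → 49 ∉ om S →
  (∀ x : S, orderOf x = 7 → Group.IsSolvable (Subgroup.centralizer {x})) →
  ∀ P : Sylow 7 S, ¬ IsMulCommutative P

def JobHeS : Prop := ∀ (S : Type u) [Group S] [Finite S], IsSimpleGroup S →
  Nat.card S = 4030387200 → (∀ n ∈ [28, 35, 42, 49, 63, 119], n ∉ om S) →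
  (21 ∈ om S ∨ NoV4 S) → False

end H40.SP
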