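/- SPECTRA (S3535): assembly from the jobs of `H40.SPSpec`. -/
import Cfsg.Agent.H40.SPSpec
import Cfsg.Agent.H91.Spectrum
import Cfsg.Agent.H68.TitsM

set_option autoImplicit false

namespace H40.SP

universe u

theorem om_dvd {G : Type*} [Group G] [Finite G] {m n : ℕ} (h : m ∣ n) (hn : n ∈ om G) : m ∈ om G :=
  H91.mem_range_orderOf_of_dvd h hn

theorem om_congr {G H : Type*} [Group G] [Group H] (e : G ≃* H) : om G = om H :=
  H91.range_orderOf_congr e

theorem om_prime {G : Type*} [Group G] [Finite G] {r : ℕ} (hr : r.Prime) (h : r ∣ Nat.card G) :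
    r ∈ om G := by
  have := Fact.mk hr
  exact exists_prime_orderOf_dvd_card' r h

theorem om_surj {G A : Type*} [Group G] [Finite G] [Group A] {π : G →* A}
    (h : Function.Surjective π) : om A ⊆ om G := by
  rintro _ ⟨a, rfl⟩
  obtain ⟨g, rfl⟩ := h a
  exact om_dvd (orderOf_map_dvd π g) ⟨g, rfl⟩

theorem om_sub {A : Type*} [Group A] (S : Subgroup A) : om S ⊆ om A :=
  H91.range_orderOf_mono S.subtype S.subtype_injective

theorem orderOf_map_of_coprime {G A : Type*} [Group G] [Finite G] [Group A] (π : G →* A) (g : G)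
    (h : (orderOf g).Coprime (Nat.card π.ker)) : orderOf (π g) = orderOf g := by
  refine Nat.dvd_antisymm (orderOf_map_dvd π g) ?_
  have h1 : g ^ orderOf (π g) ∈ π.ker := by rw [MonoidHom.mem_ker, map_pow, pow_orderOf_eq_one]
  have h2 : orderOf (g ^ orderOf (π g)) ∣ Nat.card π.ker := Subgroup.orderOf_dvd_natCard _ h1
  have h3 : orderOf (g ^ orderOf (π g)) = 1 :=
    Nat.eq_one_of_dvd_coprimes h (orderOf_pow_dvd _) h2
  exact orderOf_dvd_of_pow_eq_one (orderOf_eq_one_iff.1 h3)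

section LFkit
variable {p q N : ℕ} {ε : ℤ} {ω : Set ℕ}

theorem LF.p_eq (h : LF p q N ε ω) {s k : ℕ} (hs : s.Prime) (hq : q = s ^ k) : p = s := by
  obtain ⟨f, hf, h1⟩ := h.pw
  refine (Nat.prime_dvd_prime_iff_eq h.prime hs).1 (h.prime.dvd_of_dvd_pow (n := k) ?_)
  rw [← hq, h1]
  exact dvd_pow_self p hf.ne'

theorem sg_mem {η : ℤ} (h : Sg η) : η ∈ [(1 : ℤ), -1] := by
  rcases h with rfl | rfl <;> simp

theorem Tr.mem {d : ℕ} {η : ℤ} (h : Tr N ε d η) :
    d ∈ List.range (N + 1) ∧ η ∈ [(1 : ℤ), -1] ∧ 0 < d ∧ (d < N ∨ η = ε) :=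
  ⟨List.mem_range.2 (by rcases h.2.2 with h | h <;> omega), sg_mem h.2.1, h.1,
    h.2.2.imp_right And.right⟩

theorem LF.not_one (h : LF p q N ε ω) (r i : ℕ) (hr : r.Prime) (h2 : r ≠ 2) (hp : r ≠ p)
    (hi : 0 < i) (hc : ∀ d ∈ List.range (N + 1), ∀ η ∈ [(1 : ℤ), -1], 0 < d → (d < N ∨ η = ε) →
      ¬ (r : ℤ) ^ i ∣ (q : ℤ) ^ d - η) : r ^ i ∉ ω := fun hm => by
  obtain ⟨d, η, h1, h3⟩ := h.one r i hr h2 hp hi hm
  exact hc d h1.mem.1 η h1.mem.2.1 h1.1 h1.mem.2.2.2 h3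

theorem LF.not_two (h : LF p q N ε ω) (r i s j : ℕ) (hr : r.Prime) (h2 : r ≠ 2) (hp : r ≠ p)
    (hi : 0 < i) (hs : s.Prime) (h2' : s ≠ 2) (hp' : s ≠ p) (hj : 0 < j) (hrs : r ≠ s)
    (hc : ∀ d ∈ List.range (N + 1), ∀ η ∈ [(1 : ℤ), -1], 0 < d → (d < N ∨ η = ε) →
      (r : ℤ) ^ i ∣ (q : ℤ) ^ d - η → ¬ (s : ℤ) ^ j ∣ (q : ℤ) ^ d - η)
    (hc' : ∀ d ∈ List.range N, ∀ η ∈ [(1 : ℤ), -1], 0 < d → (r : ℤ) ^ i ∣ (q : ℤ) ^ d - η →
      ∀ e ∈ List.range N, ∀ θ ∈ [(1 : ℤ), -1], 0 < e → (d + e < N ∨ (d + e = N ∧ η * θ = ε)) →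
      ¬ (s : ℤ) ^ j ∣ (q : ℤ) ^ e - θ) : r ^ i * s ^ j ∉ ω := fun hm => by
  rcases h.two r i s j hr h2 hp hi hs h2' hp' hj hrs hm with ⟨d, η, h1, h3, h4⟩ |
    ⟨d, e, η, θ, h1, h3, h4, h5, h6, h7, h8⟩
  · exact hc d h1.mem.1 η h1.mem.2.1 h1.1 h1.mem.2.2.2 h3 h4
  · exact hc' d (List.mem_range.2 (by omega)) η (sg_mem h4) h1 h7 e (List.mem_range.2 (by omega))
      θ (sg_mem h5) h3 h6 h8

theorem LF.not_cadj (h : LF p q N ε ω) (r i : ℕ) (hr : r.Prime) (h2 : r ≠ 2) (hp : r ≠ p)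
    (hi : 0 < i) (hc : ∀ d ∈ List.range (N - 1), ∀ η ∈ [(1 : ℤ), -1], 0 < d →
      ¬ (r : ℤ) ^ i ∣ (q : ℤ) ^ d - η) : r ^ i * p ∉ ω := fun hm => by
  obtain ⟨d, η, h1, h3, h4, h5⟩ := h.cadj r i hr h2 hp hi hm
  exact hc d (List.mem_range.2 (by omega)) η (sg_mem h3) h1 h5

theorem LF.not_adj2 (h : LF p q N 0 ω) (hp2 : p ≠ 2) (r : ℕ) (hr : r.Prime) (h2 : r ≠ 2)
    (hp : r ≠ p) (hc : ∀ d ∈ List.range N, ∀ η ∈ [(1 : ℤ), -1], 0 < d →
      (r : ℤ) ∣ (q : ℤ) ^ d - η → ¬ (d + 2 ≤ N ∨ (4 : ℤ) ∣ (q : ℤ) ^ d - η)) : r * 2 ∉ ω :=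
  fun hm => by
  obtain ⟨d, η, h1, h3, h4⟩ := h.adj2 hp2 r hr h2 hp hm
  have h5 : d < N := h1.2.2.resolve_right fun h5 => by
    rcases h1.2.1 with h6 | h6 <;> omega
  exact hc d (List.mem_range.2 h5) η (sg_mem h1.2.1) h1.1 h3 (by tauto)

theorem LF.primes (h : LF p q N ε ω) (l : List ℕ) (h2 : 2 ∈ l) (hp : p ∈ l)
    (hc : ∀ d ∈ List.range (N + 1), ∀ η ∈ [(1 : ℤ), -1], 0 < d → (d < N ∨ η = ε) →
      (q : ℤ) ^ d - η ∣ l.prod ^ 2) (hl : ∀ s ∈ l, s.Prime) (r : ℕ) (hr : r.Prime) (hm : r ∈ ω) :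
    r ∈ l := by
  by_cases h3 : r = 2
  · exact h3 ▸ h2
  by_cases h4 : r = p
  · exact h4 ▸ hp
  obtain ⟨d, η, h1, h5⟩ := h.one r 1 hr h3 h4 one_pos (by simpa using hm)
  have h6 := h5.trans (hc d h1.mem.1 η h1.mem.2.1 h1.1 h1.mem.2.2.2)
  rw [pow_one] at h6
  have h7 : r ∣ l.prod := hr.dvd_of_dvd_pow (n := 2) (by exact_mod_cast h6)
  obtain ⟨s, hs, h8⟩ := (Prime.dvd_prod_iff hr.prime).1 h7
  exact (Nat.prime_dvd_prime_iff_eq hr (hl s hs)).1 h8 ▸ hs

end LFkit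

/-- all jobs -/
structure Jobs : Prop where
  lc : JobLC
  lb : JobLB
  lp : JobLP
  lm : JobLM
  nt0 : JobNT0
  nt : JobNT
  r0 : JobR0.{u}
  r1 : JobR1.{u}
  ra : JobRA.{u}
  cop : JobCOP.{u}
  red : JobRed.{u}
  j1 : JobJ1.{u}
  j2a : JobJ2a.{u}
  ru : JobRu.{u}
  tits : JobTits
  j2r : JobJ2r.{u}
  j2s : JobJ2s.{u}
  he0 : JobHe0.{u}
  heS : JobHeS.{u}

section
variable (J : Jobs.{u}) {G A : Type u} [Group G] [Finite G] [Group A] {π : G →* A} {S : Subgroup A}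
  (hA : AQ π S)
include J hA

theorem AQ.rule2 (hn : Nat.card S ∈ ords) {a : ℕ} (ha0 : 0 < a) (ha : PP 2 a (Nat.card S))
    (r : ℕ) (hr : r.Prime) (h2 : r ≠ 2) (h : r * 2 ∉ om G) : ¬ r ∣ Nat.card π.ker ∧
      (r ∣ Nat.card A → r ∣ Nat.card S) ∧
      ∀ e, r ^ e ∣ Nat.card A → r ^ e ∣ Nat.card S * (2 ^ a - 1) := by
  have : Finite A := Finite.of_surjective π hA.surj
  have h' : r * 2 ∉ om A := fun h' => h (om_surj hA.surj h')
  refine ⟨fun h3 => h (J.r0 G A π hA.surj S hA.simple hn r hr h2 h3), fun h3 => ?_, fun e h3 =>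
    J.ra A S hA.normal r 2 a e hr Nat.prime_two h2 ha0 ha h' h3⟩
  obtain ⟨y, hy⟩ := om_prime hr h3
  by_contra h4
  have := hA.normal
  exact h' (J.cop A S hA.simple hn y (by simp [Subgroup.normalizer_eq_top]) r hr hy h4)

theorem AQ.ruleS (s b r : ℕ) (hs : s.Prime) (h2 : s ≠ 2) (hb : 0 < b) (h1 : PP s b (Nat.card S))
    (h3 : s ^ b ∉ om G) (hr : r.Prime) (hrs : r ≠ s) (h4 : r ∈ om G) (h5 : r * s ∉ om G) :
    r ∣ Nat.card S * (s ^ b - 1) := by
  have : Finite A := Finite.of_surjective π hA.surj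
  have h6 : ¬ r ∣ Nat.card π.ker := fun h6 =>
    (J.r1 G A π hA.surj r s hr hs h2 hrs h6).elim h5 fun h7 =>
      h3 (h7 b (h1.1.trans (Subgroup.card_subgroup_dvd_card S)))
  obtain ⟨x, hx⟩ := h4
  have h7 := orderOf_map_of_coprime π x (hx ▸ (Nat.Prime.coprime_iff_not_dvd hr).2 h6)
  simpa using J.ra A S hA.normal r s b 1 hr hs hrs hb h1 (fun h => h5 (om_surj hA.surj h))
    (by rw [pow_one, ← hx, ← h7]; exact orderOf_dvd_natCard _)

theorem AQ.mem_om (hn : Nat.card S ∈ ords) {a : ℕ} (ha0 : 0 < a) (ha : PP 2 a (Nat.card S))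
    {m : ℕ} (hm : m ∈ om G) (h : ∀ r, r.Prime → r ∣ m → r ≠ 2 ∧ r * 2 ∉ om G ∧ ¬ r ∣ 2 ^ a - 1) :
    m ∈ om S := by
  have : Finite A := Finite.of_surjective π hA.surj
  have := hA.normal
  obtain ⟨x, rfl⟩ := hm
  have h1 : orderOf (π x) = orderOf x := orderOf_map_of_coprime π x
    (Nat.coprime_of_dvd fun r hr h1 => (hA.rule2 J hn ha0 ha r hr (h r hr h1).1 (h r hr h1).2.1).1)
  have h2 : (orderOf x).Coprime S.index := Nat.coprime_of_dvd fun r hr h2 h3 => by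
    obtain ⟨h4, h5, h6⟩ := h r hr h2
    have h7 := (hA.rule2 J hn ha0 ha r hr h4 h5).2.2 ((Nat.card S).factorization r + 1) (by
      rw [← S.card_mul_index, pow_succ]
      exact mul_dvd_mul (Nat.ordProj_dvd _ _) h3)
    exact Nat.pow_succ_factorization_not_dvd Nat.card_pos.ne' hr
      ((Nat.Coprime.pow_left _ ((Nat.Prime.coprime_iff_not_dvd hr).2 h6)).dvd_of_dvd_mul_right h7)
  have h3 : π x ∈ S := by
    rw [← QuotientGroup.eq_one_iff, ← orderOf_eq_one_iff]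
    exact Nat.eq_one_of_dvd_coprimes h2 (h1 ▸ orderOf_map_dvd (QuotientGroup.mk' S) (π x))
      (orderOf_dvd_natCard _)
  exact ⟨⟨_, h3⟩, by rw [Subgroup.orderOf_mk, h1]⟩

end

theorem ords_even : ∀ n ∈ ords, 2 ∣ n := by decide

theorem tr_of {N d : ℕ} {ε η : ℤ} (h1 : 0 < d) (h2 : η = 1 ∨ η = -1) (h3 : d < N) : Tr N ε d η :=
  ⟨h1, h2, .inl h3⟩

section surv
variable (J : Jobs.{u}) {G A : Type u} [Group G] [Finite G] [Group A] {π : G →* A} {S : Subgroup A}
  (hA : AQ π S) {p : ℕ} {ε : ℤ}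
include J hA

omit J in
theorem AQ.sub : om S ⊆ om G := (om_sub S).trans (om_surj hA.surj)

theorem k11 (hε : ε = 0 ∨ ε = 1) (h : LF p 11 4 ε (om G))
    (hn : Nat.card S = 175560 ∨ Nat.card S = 273030912000000) : False := by
  obtain rfl := h.p_eq (s := 11) (k := 1) (by norm_num) rfl
  have h1 : 37 ∈ om G := h.low 3 (-1) 37 (tr_of (by decide) (by decide) (by decide)) (by decide)
    (by decide)
  have h2 : 5 ^ 2 ∉ om G := h.not_one 5 2 (by norm_num) (by decide) (by decide) (by decide)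
    (by rcases hε with rfl | rfl <;> decide)
  have h3 : 37 ^ 1 * 5 ^ 1 ∉ om G := h.not_two 37 1 5 1 (by norm_num) (by decide) (by decide)
    (by decide) (by norm_num) (by decide) (by decide) (by decide) (by decide)
    (by rcases hε with rfl | rfl <;> decide) (by rcases hε with rfl | rfl <;> decide)
  rcases hn with hn | hn
  · exact J.j1 G A π S hA hn h1 h2 h3
      (h.not_cadj 37 1 (by norm_num) (by decide) (by decide) (by decide) (by decide))
  · exact absurd (hA.ruleS J 5 6 37 (by norm_num) (by decide) (by decide)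
      (by rw [hn]; constructor <;> norm_num) (fun h4 => h2 (om_dvd (by norm_num) h4)) (by norm_num)
      (by decide) h1 h3) (by rw [hn]; norm_num)

theorem kJ2a (hε : ε = 0 ∨ ε = 1) (h : LF p 2 4 ε (om G)) (hn : Nat.card S = 604800) : False := by
  have : Finite A := Finite.of_surjective π hA.surj
  obtain rfl := h.p_eq (s := 2) (k := 1) (by norm_num) rfl
  have h9 : 9 ∈ om G := h.low 3 (-1) 9 (tr_of (by decide) (by decide) (by decide)) (by decide)
    (by decide)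
  have h14 : 7 ^ 1 * 2 ∉ om G :=
    h.not_cadj 7 1 (by norm_num) (by decide) (by decide) (by decide) (by decide)
  have h18 : 3 ^ 2 * 2 ∉ om G :=
    h.not_cadj 3 2 (by norm_num) (by decide) (by decide) (by decide) (by decide)
  have h21 : 7 ^ 1 * 3 ^ 1 ∉ om G := h.not_two 7 1 3 1 (by norm_num) (by decide) (by decide)
    (by decide) (by norm_num) (by decide) (by decide) (by decide) (by decide)
    (by rcases hε with rfl | rfl <;> decide) (by rcases hε with rfl | rfl <;> decide)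
  have h35 : 7 ^ 1 * 5 ^ 1 ∉ om G := h.not_two 7 1 5 1 (by norm_num) (by decide) (by decide)
    (by decide) (by norm_num) (by decide) (by decide) (by decide) (by decide)
    (by rcases hε with rfl | rfl <;> decide) (by rcases hε with rfl | rfl <;> decide)
  have h45 : 3 ^ 2 * 5 ^ 1 ∉ om G := h.not_two 3 2 5 1 (by norm_num) (by decide) (by decide)
    (by decide) (by norm_num) (by decide) (by decide) (by decide) (by decide)
    (by rcases hε with rfl | rfl <;> decide) (by rcases hε with rfl | rfl <;> decide)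
  have h27 : 3 ^ 3 ∉ om G := h.not_one 3 3 (by norm_num) (by decide) (by decide) (by decide)
    (by rcases hε with rfl | rfl <;> decide)
  have h30 : 30 ∉ om G := h.sm6 rfl rfl (by rcases hε with rfl | rfl <;> decide)
  refine J.j2s S hA.simple hn (J.j2r G A π S hA hn h9 (h.primes [2, 3, 5, 7] (by decide) (by decide)
    (by rcases hε with rfl | rfl <;> decide) (by simp; norm_num)) ?_) fun n hm h1 => ?_
  · simp only [List.mem_cons, List.not_mem_nil, or_false, forall_eq_or_imp, forall_eq]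
    exact ⟨h14, h18, h21, h35⟩
  · have h2 := hA.sub h1
    simp only [List.mem_cons, List.not_mem_nil, or_false] at hm
    rcases hm with rfl | rfl | rfl | rfl | rfl
    exacts [h18 h2, h21 h2, h27 h2, h30 h2, h45 h2]

theorem kJ2b (hε : ε = 0 ∨ ε = 1) (h : LF p 5 4 ε (om G)) (hn : Nat.card S = 604800) : False := by
  obtain rfl := h.p_eq (s := 5) (k := 1) (by norm_num) rfl
  have h1 : 31 ∈ om G := h.low 3 1 31 (tr_of (by decide) (by decide) (by decide)) (by decide)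
    (by decide)
  have h2 : 3 ^ 3 ∉ om G := h.not_one 3 3 (by norm_num) (by decide) (by decide) (by decide)
    (by rcases hε with rfl | rfl <;> decide)
  have h3 : 31 ^ 1 * 3 ^ 1 ∉ om G := h.not_two 31 1 3 1 (by norm_num) (by decide) (by decide)
    (by decide) (by norm_num) (by decide) (by decide) (by decide) (by decide)
    (by rcases hε with rfl | rfl <;> decide) (by rcases hε with rfl | rfl <;> decide)
  exact absurd (hA.ruleS J 3 3 31 (by norm_num) (by decide) (by decide)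
    (by rw [hn]; constructor <;> norm_num) h2 (by norm_num) (by decide) h1 h3)
    (by rw [hn]; norm_num)

theorem kJ2c (h : LF p 7 3 0 (om G)) (hn : Nat.card S = 604800) : False := by
  have : Finite A := Finite.of_surjective π hA.surj
  obtain rfl := h.p_eq (s := 7) (k := 1) (by norm_num) rfl
  have h1 : 5 * 2 ∉ om G :=
    h.not_adj2 (by decide) 5 (by norm_num) (by decide) (by decide) (by decide)
  have h2 : 5 ^ 1 * 3 ^ 1 ∉ om G := h.not_two 5 1 3 1 (by norm_num) (by decide) (by decide)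
    (by decide) (by norm_num) (by decide) (by decide) (by decide) (by decide) (by decide) (by decide)
  have h3 : 5 ^ 1 * 7 ∉ om G :=
    h.not_cadj 5 1 (by norm_num) (by decide) (by decide) (by decide) (by decide)
  exact J.j2a S hn (fun h => h1 (hA.sub h)) (fun h => h2 (hA.sub h)) fun h => h3 (hA.sub h)

theorem k27 (h : LF p 2 7 0 (om G)) (hn : Nat.card S = 64561751654400 ∨
    Nat.card S = 448345497600 ∨ Nat.card S = 17971200) : False := by
  obtain rfl := h.p_eq (s := 2) (k := 1) (by norm_num) rfl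
  have h1 : 31 ∈ om G := h.low 5 1 31 (tr_of (by decide) (by decide) (by decide)) (by decide)
    (by decide)
  have h2 : 5 ^ 2 ∉ om G := h.not_one 5 2 (by norm_num) (by decide) (by decide) (by decide)
    (by decide)
  have h3 : 31 ^ 1 * 5 ^ 1 ∉ om G := h.not_two 31 1 5 1 (by norm_num) (by decide) (by decide)
    (by decide) (by norm_num) (by decide) (by decide) (by decide) (by decide) (by decide) (by decide)
  exact absurd (hA.ruleS J 5 2 31 (by norm_num) (by decide) (by decide)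
    (by rcases hn with hn | hn | hn <;> (rw [hn]; constructor <;> norm_num)) h2 (by norm_num)
    (by decide) h1 h3) (by rcases hn with hn | hn | hn <;> (rw [hn]; norm_num))

theorem kHe {N : ℕ} (hε : (N = 5 ∧ ε = 0) ∨ (N = 4 ∧ ε = -1)) (h : LF p 2 N ε (om G))
    (hn : Nat.card S = 4030387200) : False := by
  have : Finite A := Finite.of_surjective π hA.surj
  obtain rfl := h.p_eq (s := 2) (k := 1) (by norm_num) rfl
  obtain ⟨h21, h16, h28, h40, h42⟩ := h.sm8 rfl hε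
  have h34 : 17 ^ 1 * 2 ∉ om G := h.not_cadj 17 1 (by norm_num) (by decide) (by decide) (by decide)
    (by rcases hε with ⟨rfl, rfl⟩ | ⟨rfl, rfl⟩ <;> decide)
  have h49 : 7 ^ 2 ∉ om G := h.not_one 7 2 (by norm_num) (by decide) (by decide) (by decide)
    (by rcases hε with ⟨rfl, rfl⟩ | ⟨rfl, rfl⟩ <;> decide)
  have key : ∀ r i s, r.Prime → s.Prime → (r, i, s) ∈ [(3, 1, 17), (5, 1, 17), (7, 1, 17),
      (5, 1, 7), (3, 2, 7)] → r ^ i * s ^ 1 ∉ om G := fun r i s hr hs hm => by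
    simp only [List.mem_cons, List.not_mem_nil, or_false, Prod.mk.injEq] at hm
    rcases hm with ⟨rfl, rfl, rfl⟩ | ⟨rfl, rfl, rfl⟩ | ⟨rfl, rfl, rfl⟩ | ⟨rfl, rfl, rfl⟩ |
      ⟨rfl, rfl, rfl⟩ <;>
    exact h.not_two _ _ _ _ hr (by decide) (by decide) (by decide) hs (by decide) (by decide)
      (by decide) (by decide) (by rcases hε with ⟨rfl, rfl⟩ | ⟨rfl, rfl⟩ <;> decide)
      (by rcases hε with ⟨rfl, rfl⟩ | ⟨rfl, rfl⟩ <;> decide)
  have h51 := key 3 1 17 (by norm_num) (by norm_num) (by simp)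
  have h85 := key 5 1 17 (by norm_num) (by norm_num) (by simp)
  have h119 := key 7 1 17 (by norm_num) (by norm_num) (by simp)
  have h35 := key 5 1 7 (by norm_num) (by norm_num) (by simp)
  have h63 := key 3 2 7 (by norm_num) (by norm_num) (by simp)
  refine J.heS S hA.simple hn (fun n hm h1 => ?_) (J.he0 G A π S hA hn h21
    (h.primes [2, 3, 5, 7, 17] (by decide) (by decide)
    (by rcases hε with ⟨rfl, rfl⟩ | ⟨rfl, rfl⟩ <;> decide) (by simp; norm_num)) ?_)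
  · have h2 := hA.sub h1
    simp only [List.mem_cons, List.not_mem_nil, or_false] at hm
    rcases hm with rfl | rfl | rfl | rfl | rfl | rfl
    exacts [h28 h2, h35 h2, h42 h2, h49 h2, h63 h2, h119 h2]
  · simp only [List.mem_cons, List.not_mem_nil, or_false, forall_eq_or_imp, forall_eq]
    exact ⟨h16, h28, h34, h40, h42, h51, h85, h119⟩

theorem k13 (h : LF p 13 3 0 (om G)) (hn : Nat.card S = 4030387200) : False := by
  obtain rfl := h.p_eq (s := 13) (k := 1) (by norm_num) rfl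
  have h2 : 5 ^ 2 ∉ om G := h.not_one 5 2 (by norm_num) (by decide) (by decide) (by decide)
    (by decide)
  have h3 : 5 ^ 1 * 13 ∉ om G :=
    h.not_cadj 5 1 (by norm_num) (by decide) (by decide) (by decide) (by decide)
  exact absurd (hA.ruleS J 5 2 13 (by norm_num) (by decide) (by decide)
    (by rw [hn]; constructor <;> norm_num) h2 (by norm_num) (by decide) h.chr h3)
    (by rw [hn]; norm_num)

theorem k17 (hε : ε = 0 ∨ ε = 1) (h : LF p 17 4 ε (om G)) (hn : Nat.card S = 145926144000) :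
    False := by
  obtain rfl := h.p_eq (s := 17) (k := 1) (by norm_num) rfl
  have h1 : 307 ∈ om G := h.low 3 1 307 (tr_of (by decide) (by decide) (by decide)) (by decide)
    (by decide)
  have h2 : 5 ^ 3 ∉ om G := h.not_one 5 3 (by norm_num) (by decide) (by decide) (by decide)
    (by rcases hε with rfl | rfl <;> decide)
  have h3 : 307 ^ 1 * 5 ^ 1 ∉ om G := h.not_two 307 1 5 1 (by norm_num) (by decide) (by decide)
    (by decide) (by norm_num) (by decide) (by decide) (by decide) (by decide)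
    (by rcases hε with rfl | rfl <;> decide) (by rcases hε with rfl | rfl <;> decide)
  exact absurd (hA.ruleS J 5 3 307 (by norm_num) (by decide) (by decide)
    (by rw [hn]; constructor <;> norm_num) h2 (by norm_num) (by decide) h1 h3)
    (by rw [hn]; norm_num)

theorem k307 (h : LF p 307 3 0 (om G)) (hn : Nat.card S = 145926144000) : False := by
  have : Finite A := Finite.of_surjective π hA.surj
  obtain rfl := h.p_eq (s := 307) (k := 1) (by norm_num) rfl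
  have h1 : 47125 ∈ om G := h.low 2 (-1) 47125 (tr_of (by decide) (by decide) (by decide))
    (by decide) (by decide)
  have h2 : ∀ r ∈ [5, 13, 29], r * 2 ∉ om G := fun r hr => by
    simp only [List.mem_cons, List.not_mem_nil, or_false] at hr
    rcases hr with rfl | rfl | rfl <;>
    exact h.not_adj2 (by decide) _ (by norm_num) (by decide) (by decide) (by decide)
  have h3 : ∀ r ∈ [5, 13, 29], ∀ s ∈ [3, 7], r ^ 1 * s ^ 1 ∉ om G := fun r hr s hs => by
    simp only [List.mem_cons, List.not_mem_nil, or_false] at hr hs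
    rcases hr with rfl | rfl | rfl <;> rcases hs with rfl | rfl <;>
    exact h.not_two _ _ _ _ (by norm_num) (by decide) (by decide) (by decide) (by norm_num)
      (by decide) (by decide) (by decide) (by decide) (by decide) (by decide)
  refine J.ru S hn (hA.mem_om J (a := 14) (by rw [hn]; decide) (by decide)
    (by rw [hn]; constructor <;> norm_num) h1 fun r hr h4 => ?_) fun r hr s hs h4 => ?_
  · have h5 : r ∈ [5, 13, 29] := by
      have h5 : r ∣ 5 ^ 3 * 13 * 29 := h4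
      rcases (Nat.Prime.dvd_mul hr).1 h5 with h5 | h5
      · rcases (Nat.Prime.dvd_mul hr).1 h5 with h5 | h5
        · simp [(Nat.prime_dvd_prime_iff_eq hr (by norm_num)).1 (hr.dvd_of_dvd_pow h5)]
        · simp [(Nat.prime_dvd_prime_iff_eq hr (by norm_num)).1 h5]
      · simp [(Nat.prime_dvd_prime_iff_eq hr (by norm_num)).1 h5]
    refine ⟨?_, h2 r h5, ?_⟩ <;> simp only [List.mem_cons, List.not_mem_nil, or_false] at h5 <;>
      rcases h5 with rfl | rfl | rfl <;> norm_num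
  · rcases List.mem_cons.1 hs with rfl | hs
    · exact h2 r hr (hA.sub h4)
    · exact h3 r hr s hs (by simpa using hA.sub h4)

theorem kT7 {q N : ℕ} (hq : (q = 3 ∧ N = 4 ∧ (ε = 0 ∨ ε = 1)) ∨ (q = 8 ∧ N = 3 ∧ ε = 0))
    (h : LF p q N ε (om G)) (hn : Nat.card S = 17971200) : False := by
  have hp : p = 3 ∨ p = 2 := hq.imp (fun h1 => h.p_eq (k := 1) (by norm_num) h1.1)
    fun h1 => h.p_eq (k := 3) (by norm_num) h1.1
  have h1 : 7 ∈ om G := by
    rcases hq with ⟨rfl, rfl, -⟩ | ⟨rfl, rfl, -⟩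
    · exact h.low 3 (-1) 7 (tr_of (by decide) (by decide) (by decide)) (by decide) (by decide)
    · exact h.low 1 1 7 (tr_of (by decide) (by decide) (by decide)) (by decide) (by decide)
  have h2 : 5 ^ 2 ∉ om G := h.not_one 5 2 (by norm_num) (by decide) (by omega) (by decide)
    (by rcases hq with ⟨rfl, rfl, rfl | rfl⟩ | ⟨rfl, rfl, rfl⟩ <;> decide)
  have h3 : 7 ^ 1 * 5 ^ 1 ∉ om G := h.not_two 7 1 5 1 (by norm_num) (by decide) (by omega)
    (by decide) (by norm_num) (by decide) (by omega) (by decide) (by decide)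
    (by rcases hq with ⟨rfl, rfl, rfl | rfl⟩ | ⟨rfl, rfl, rfl⟩ <;> decide)
    (by rcases hq with ⟨rfl, rfl, rfl | rfl⟩ | ⟨rfl, rfl, rfl⟩ <;> decide)
  exact absurd (hA.ruleS J 5 2 7 (by norm_num) (by decide) (by decide)
    (by rw [hn]; constructor <;> norm_num) h2 (by norm_num) (by decide) h1 h3)
    (by rw [hn]; norm_num)

end surv

theorem core (J : Jobs.{u}) {G : Type u} [Group G] [Finite G] {p q N : ℕ} {ε : ℤ}
    (h : LF p q N ε (om G)) (H : Subgroup G) (hH : H.IsSubnormal) (M : Subgroup H) [M.Normal]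
    (hs : IsSimpleGroup (H ⧸ M)) (hn : Nat.card (H ⧸ M) ∈ ords)
    (h8 : Nat.card (H ⧸ M) = 17971200 → 8 ∈ om (H ⧸ M)) : False := by
  obtain ⟨A, _, π, S, hA, ⟨e⟩⟩ := J.red G H hH M hs hn (J.nt0 p q N ε _ h)
  have : Finite A := Finite.of_surjective π hA.surj
  rw [← Nat.card_congr e.toEquiv] at hn h8
  rw [show om (H ⧸ M) = om S from (H91.range_orderOf_congr e).symm] at h8
  have ha : PP 2 ((Nat.card S).factorization 2) (Nat.card S) :=
    ⟨Nat.ordProj_dvd _ _, Nat.pow_succ_factorization_not_dvd Nat.card_pos.ne' Nat.prime_two⟩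
  have ha0 := Nat.prime_two.factorization_pos_of_dvd Nat.card_pos.ne' (ords_even _ hn)
  have hm := J.nt p q N ε _ h _ hn _ ha (fun r hr h1 => hA.sub (om_prime hr h1))
    fun r k hr h1 h2 hk ⟨x, hx⟩ => by
      obtain ⟨h3, h4, h5⟩ := hA.rule2 J hn ha0 ha r hr h1 h2
      have h6 := orderOf_map_of_coprime π x
        (hx ▸ Nat.Coprime.pow_left _ ((Nat.Prime.coprime_iff_not_dvd hr).2 h3))
      have h7 : r ^ k ∣ Nat.card A := by rw [← hx, ← h6]; exact orderOf_dvd_natCard _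
      exact ⟨h4 ((dvd_pow_self r hk.ne').trans h7), h5 k h7⟩
  simp only [surv, List.mem_cons, List.not_mem_nil, or_false, Prod.mk.injEq] at hm
  rcases hm with ⟨h1, rfl, rfl, rfl⟩ | ⟨h1, rfl, rfl, rfl⟩ | ⟨h1, rfl, rfl, rfl⟩ |
    ⟨h1, rfl, rfl, rfl⟩ | ⟨h1, rfl, rfl, rfl⟩ | ⟨h1, rfl, rfl, rfl⟩ | ⟨h1, rfl, rfl, rfl⟩ |
    ⟨h1, rfl, rfl, rfl⟩ | ⟨h1, rfl, rfl, rfl⟩ | ⟨h1, rfl, rfl, rfl⟩ | ⟨h1, rfl, rfl, rfl⟩ |
    ⟨h1, rfl, rfl, rfl⟩ | ⟨h1, rfl, rfl, rfl⟩ | ⟨h1, rfl, rfl, rfl⟩ | ⟨h1, rfl, rfl, rfl⟩ |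
    ⟨h1, rfl, rfl, rfl⟩ | ⟨h1, rfl, rfl, rfl⟩ | ⟨h1, rfl, rfl, rfl⟩ | ⟨h1, rfl, rfl, rfl⟩ |
    ⟨h1, rfl, rfl, rfl⟩ | ⟨h1, rfl, rfl, rfl⟩ | ⟨h1, rfl, rfl, rfl⟩
  · exact k11 J hA (.inl rfl) h (.inl h1)
  · exact k11 J hA (.inr rfl) h (.inl h1)
  · exact kJ2a J hA (.inl rfl) h h1
  · exact kJ2a J hA (.inr rfl) h h1
  · exact kJ2b J hA (.inl rfl) h h1
  · exact kJ2b J hA (.inr rfl) h h1
  · exact kJ2c J hA h h1
  · exact k27 J hA h (.inl h1)
  · exact k27 J hA h (.inr (.inl h1))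
  · exact kHe J hA (.inr ⟨rfl, rfl⟩) h h1
  · exact kHe J hA (.inl ⟨rfl, rfl⟩) h h1
  · exact k13 J hA h h1
  · exact k17 J hA (.inl rfl) h h1
  · exact k17 J hA (.inr rfl) h h1
  · exact k307 J hA h h1
  · exact k11 J hA (.inl rfl) h (.inr h1)
  · exact k11 J hA (.inr rfl) h (.inr h1)
  · exact k27 J hA h (.inr (.inr h1))
  · exact kT7 J hA (.inl ⟨rfl, rfl, .inl rfl⟩) h h1
  · exact kT7 J hA (.inl ⟨rfl, rfl, .inr rfl⟩) h h1
  · exact h.sm4 rfl rfl (hA.sub (h8 h1))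
  · exact kT7 J hA (.inr ⟨rfl, rfl, rfl⟩) h h1

theorem exists_lf (J : Jobs.{u}) {L : Type*} [Group L]
    (hL : Cfsg.IsPSp L ∨ Cfsg.IsPOmegaOdd L ∨ Cfsg.IsPOmegaPlus L ∨ Cfsg.IsPOmegaMinus L) :
    ∃ p q N ε, LF p q N ε (om L) := by
  rcases hL with ⟨F, _, _, m, h1, -, ⟨e⟩⟩ | ⟨F, _, _, m, h1, h2, ⟨e⟩⟩ | ⟨F, _, _, m, h1, ⟨e⟩⟩ |
    ⟨F, _, _, m, a, b, h1, h2, ⟨e⟩⟩ <;> obtain ⟨p, hp⟩ := CharP.exists F <;>
    have := Fact.mk (CharP.char_is_prime F p) <;> rw [om, H91.range_orderOf_congr e]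
  exacts [⟨_, _, _, _, J.lc F p m h1⟩, ⟨_, _, _, _, J.lb F p m h1 h2⟩, ⟨_, _, _, _, J.lp F p m h1⟩,
    ⟨_, _, _, _, J.lm F p m a b h1 h2⟩]

theorem mem_ords_of_isSporadic {S : Type*} [Group S] (h : Cfsg.IsSporadic S) :
    Nat.card S ∈ ords ∧ Nat.card S ≠ 17971200 := by
  rcases h with h | h | h | h | h | h | h | h | h | h | h | h | h | h | h | h | h | h | h | h | h |
    h | h | h | h | h <;> rw [h.2] <;> simp [ords]

theorem om_congr_sub {G X : Type*} [Group G] [Group X] (K : Subgroup X) (e : G ≃* K) :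
    om G = om K := om_congr e

theorem main (J : Jobs.{u}) {L : Type*} [Group L]
    (hL : Cfsg.IsPSp L ∨ Cfsg.IsPOmegaOdd L ∨ Cfsg.IsPOmegaPlus L ∨ Cfsg.IsPOmegaMinus L)
    {G : Type u} [Group G] [Finite G] (h : om G = om L) (H : Subgroup G) (hH : H.IsSubnormal)
    (M : Subgroup H) [M.Normal] (hs : IsSimpleGroup (H ⧸ M)) :
    ¬ Cfsg.IsSporadic (H ⧸ M) ∧ ¬ Nonempty ((H ⧸ M) ≃* Cfsg.Lie.TitsGroup) := by
  obtain ⟨p, q, N, ε, hF⟩ := exists_lf J hL
  rw [← h] at hF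
  refine ⟨fun h1 => core J hF H hH M hs (mem_ords_of_isSporadic h1).1
    fun h2 => absurd h2 (mem_ords_of_isSporadic h1).2, fun ⟨e⟩ => core J hF H hH M hs ?_ fun _ => ?_⟩
  · exact (Nat.card_congr e.toEquiv).trans H68.TitsM.card ▸ (by simp [ords] : 17971200 ∈ ords)
  · exact (om_congr_sub _ e).symm.subset J.tits

end H40.SP
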