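/- Tower E8F: a subgroup of `E₈(3)` with generalized Fitting subgroup `L₂(7)` is not maximal.
Definitions and job statements; the plan is in `blueprints/E8F.md`. -/
import Cfsg.Agent.H14.E8Val
import Cfsg.Agent.H46.LangTor
import Cfsg.Agent.H63.Filt

set_option autoImplicit false

namespace H40.E8F

open Cfsg.Lie H63 H64 H65 H46 H14.E8 Matrix Module
open scoped MatrixGroups

universe u

section defs
variable {D : ChevalleyDatum} {R : Type} [CommRing R]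

/-- The value of the root number `r` on the torus part of `v`. -/
def rv (v : D.Idx → R) (r : ℕ) : R := ∑ i : Fin D.rank, (D.cartan i r : R) * v (Sum.inl i)

/-- The torus part of `v`. -/
def hp (v : D.Idx → R) : D.Idx → R := Sum.elim (fun i => v (Sum.inl i)) fun _ => 0

/-- `v` lies in the Cartan subalgebra. -/
def InH (v : D.Idx → R) : Prop := ∀ r : Rt D, v (Sum.inr r) = 0

/-- The torus part of `v` vanishes. -/
def NoH (v : D.Idx → R) : Prop := ∀ i : Fin D.rank, v (Sum.inl i) = 0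

/-- Every root in the support of `v` vanishes on the torus part of `v`. -/
def Red (v : D.Idx → R) : Prop := ∀ r : Rt D, v (Sum.inr r) ≠ 0 → rv v r = 0

/-- The action of an invertible matrix. -/
abbrev act (g : GL D.Idx R) (v : D.Idx → R) : D.Idx → R := (g : Matrix D.Idx D.Idx R) *ᵥ v

variable [RS D]

/-- `v` lies in the Borel subalgebra. -/
def InB (v : D.Idx → R) : Prop := ∀ r : Rt D, ¬ Pos r → v (Sum.inr r) = 0

/-- A linear function on the roots. -/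
def Lin (μ : Rt D → ℝ) : Prop := ∀ r, μ r = ∑ i, (rt r i : ℝ) * μ (simpleR i)

/-- `v` has weights at least one. -/
def Ge (μ : Rt D → ℝ) (v : D.Idx → R) : Prop :=
  NoH v ∧ ∀ r : Rt D, v (Sum.inr r) ≠ 0 → 1 ≤ μ r

variable [Tab D] {k : Type} [Field k]

variable (k) in
/-- The parabolic subgroup of `μ`. -/
def PP (μ : Rt D → ℝ) : Subgroup (GL D.Idx k) :=
  gen (XR D (xU D k)) {r | 0 ≤ μ r} ⊔ HH D (xU D k)

/-- The connected centraliser of an element of the Cartan subalgebra. -/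
def CC (h : D.Idx → k) : Subgroup (GL D.Idx k) :=
  gen (XR D (xU D k)) {r : Rt D | rv h r = 0} ⊔ HH D (xU D k)

end defs

/-! ### Kit (any datum) -/

/-- The coordinates of `x_r(t) v`. -/
def JobX : Prop := ∀ (D : ChevalleyDatum) [RS D] [Tab D] (R : Type) [CommRing R] (r : Rt D) (t : R)
  (v : D.Idx → R),
  (∀ i : Fin D.rank, (X D R r t *ᵥ v) (Sum.inl i) =
    v (Sum.inl i) + (H63.co D r i : R) * t * v (Sum.inr (negR r))) ∧
  ∀ u : Rt D, ∃ c : Rt D → R,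
    (∀ s, c s ≠ 0 → s ≠ negR r ∧ ∃ j : ℤ, 1 ≤ j ∧ rt u = rt s + j • rt r) ∧
    (X D R r t *ᵥ v) (Sum.inr u) = v (Sum.inr u) -
      (if u = r then t * rv v r + t ^ 2 * v (Sum.inr (negR r)) else 0) + ∑ s, c s * v (Sum.inr s)

/-- The action of the monomial subgroup. -/
def JobN : Prop := ∀ (D : ChevalleyDatum) [RS D] [Tab D] [Comm D] (k : Type) [Field k]
  (m : GL D.Idx k) (w : (H64.wdata D).W), m ∈ (stB_xU D k).rgd.N → (stB_xU D k).rgd.Act m w →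
  (∃ a : Rt D → k, (∀ r, a r ≠ 0) ∧
    ∀ (v : D.Idx → k) (r : Rt D), act m v (Sum.inr (w.1 r)) = a r * v (Sum.inr r)) ∧
  (∀ v : D.Idx → k, hp (act m v) = act m (hp v)) ∧
  ∀ (v : D.Idx → k) (r : Rt D), rv (act m v) (w.1 r) = rv v r

/-- What `B`, `V`, `PP μ` and `CC h` preserve. -/
def JobSt : Prop := ∀ (D : ChevalleyDatum) [RS D] [Tab D] [Comm D] (k : Type) [Field k],
  (∀ b ∈ (stB_xU D k).rgd.B, ∀ v : D.Idx → k, InB v → InB (act b v) ∧ hp (act b v) = hp v) ∧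
  (∀ b ∈ (stB_xU D k).rgd.V, ∀ v : D.Idx → k, (∀ r : Rt D, Pos r → v (Sum.inr r) = 0) →
    (∀ r : Rt D, Pos r → act b v (Sum.inr r) = 0) ∧ hp (act b v) = hp v) ∧
  (∀ μ : Rt D → ℝ, Lin μ → ∀ g ∈ PP k μ, ∀ v : D.Idx → k, Ge μ v → Ge μ (act g v)) ∧
  ∀ h : D.Idx → k, InH h → ∀ g ∈ CC h, act g h = h

/-! ### Every vector is conjugate into the Borel subalgebra -/

/-- The Iwasawa decomposition. -/
def JobIw : Prop := ∀ (D : ChevalleyDatum) [RS D] [Tab D] [Comm D] (Ω : Type) [Field Ω]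
  (O : ValuationSubring Ω), ∀ g ∈ D.group Ω, ∃ w : List (ℕ × O), ∃ b ∈ (stB_xU D Ω).rgd.B,
    (g : Matrix D.Idx D.Idx Ω) =
      (b : Matrix D.Idx D.Idx Ω) * W D Ω (w.map fun p => (p.1, (p.2 : Ω)))

/-- A polynomial map with invertible diagonal linear part is dominant. -/
def JobJac : Prop := ∀ (k : Type) [Field k] (σ : Type) [Fintype σ] [DecidableEq σ] (c : σ → k)
  (y : σ → MvPolynomial σ k), (∀ j, c j ≠ 0) →
  (∀ j, y j - MvPolynomial.C (c j) * MvPolynomial.X j ∈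
    Ideal.span (Set.range (MvPolynomial.X : σ → MvPolynomial σ k)) ^ 2) →
  Function.Injective (MvPolynomial.aeval y : MvPolynomial σ k →ₐ[k] MvPolynomial σ k)

/-- Every vector is a specialisation of a vector conjugate into the Borel subalgebra. -/
def JobVal : Prop := ∀ (D : ChevalleyDatum) [RS D] [Tab D] (k : Type) [Field k] (h : D.Idx → k),
  InH h → (∀ r : Rt D, rv h r ≠ 0) → ∀ x : D.Idx → k,
  ∃ (Ω : Type) (_ : Field Ω) (O : ValuationSubring Ω) (j : k →+* O) (y : D.Idx → O),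
    (∃ g ∈ D.group Ω, InB (act g fun i => (y i : Ω))) ∧
    ∀ i, y i - j (x i) ∈ IsLocalRing.maximalIdeal O

/-- Reduction modulo the maximal ideal. -/
def JobRed : Prop := ∀ (D : ChevalleyDatum) [RS D] [Tab D] (k : Type) [Field k] [IsAlgClosed k]
  (O : Type) [CommRing O] [IsLocalRing O] (j : k →+* O) (y : D.Idx → O) (x : D.Idx → k)
  (w : List (ℕ × O)), InB (W D O w *ᵥ y) → (∀ i, y i - j (x i) ∈ IsLocalRing.maximalIdeal O) →
  ∃ g ∈ D.group k, InB (act g x)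

/-- Conjugacy into the Borel subalgebra. -/
def JobB : Prop := ∀ (D : ChevalleyDatum) [RS D] [Tab D] [Comm D] (k : Type) [Field k]
  [IsAlgClosed k] (h : D.Idx → k), InH h → (∀ r : Rt D, rv h r ≠ 0) → ∀ x : D.Idx → k,
  ∃ g ∈ D.group k, InB (act g x)

/-- The normal form in the Borel subalgebra. -/
def JobJD : Prop := ∀ (D : ChevalleyDatum) [RS D] [Tab D] (k : Type) [Field k] (v : D.Idx → k),
  InB v → ∃ g ∈ D.group k, InB (act g v) ∧ Red (act g v)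

/-- A power of `ad v` is `ad` of the torus part. -/
def JobPow : Prop := ∀ (D : ChevalleyDatum) [RS D] [Tab D] (v : D.Idx → K3), InB v → Red v →
  ∃ m : ℕ, (B D K3 v : End K3 (D.Idx → K3)) ^ 3 ^ m = B D K3 (hp v)

/-! ### Optimal weights -/

def JobOpt : Prop := ∀ (D : ChevalleyDatum) [RS D] (𝒮 : Set (Set (Rt D))),
  (∃ S ∈ 𝒮, ∀ r ∈ S, Pos r) → (∀ S ∈ 𝒮, ∀ w : (H64.wdata D).W, w.1 '' S ∈ 𝒮) →
  ∃ S ∈ 𝒮, ∃ μ : Rt D → ℝ, Lin μ ∧ (∀ i, 0 ≤ μ (simpleR i)) ∧ (∀ r ∈ S, 1 ≤ μ r) ∧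
    ∀ S' ∈ 𝒮, ∀ w : (H64.wdata D).W, (∀ r ∈ S', 1 ≤ μ r ∧ 1 ≤ μ (w.1 r)) → ∀ r, μ (w.1 r) = μ r

def JobKempf : Prop := ∀ (D : ChevalleyDatum) [RS D] [Tab D] [Comm D] (k : Type) [Field k]
  (v : D.Idx → k), (∃ g ∈ D.group k, InB (act g v) ∧ NoH (act g v)) →
  ∃ g₀ ∈ D.group k, ∃ μ : Rt D → ℝ, Lin μ ∧ (∀ i, 0 ≤ μ (simpleR i)) ∧ Ge μ (act g₀ v) ∧
    ∀ g ∈ D.group k, Ge μ (act g v) → g * g₀⁻¹ ∈ PP k μ

/-- Elements conjugating one element of the Cartan subalgebra to another. -/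
def JobStrip : Prop := ∀ (D : ChevalleyDatum) [RS D] [Tab D] [Comm D] (k : Type) [Field k]
  (h₀ h₁ : D.Idx → k), InH h₀ → InH h₁ → ∀ c ∈ D.group k, act c h₁ = h₀ →
  ∃ L : List ℕ, ∃ c₀ ∈ CC h₀, c = c₀ * nL D (xU D k) L

/-! ### `E₈(3)` -/

attribute [local instance] H65.tabE8 H65.commE8

/-- The adjoint module. -/
abbrev V8 : Type := chevE8.Idx → K3

/-- The coordinates of `v` lie in the prime field. -/
def Rat (v : V8) : Prop := frobenius K3 3 ∘ v = v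

/-- The fixed space. -/
noncomputable abbrev fx {k V : Type} [Field k] [AddCommGroup V] [Module k V] (f : End k V) :
    Submodule k V := f.eigenspace 1

def JobAd : Prop :=
  (∀ z : V8, B chevE8 K3 z = 0 → z = 0) ∧
  (∀ z : V8, (∀ r : Rt chevE8, X chevE8 K3 r 1 *ᵥ z = z ∨ X chevE8 K3 r 1 *ᵥ z = -z) → z = 0) ∧
  ∃ h : V8, InH h ∧ ∀ r : Rt chevE8, rv h r ≠ 0

/-- The semisimple part is canonical. -/
def JobJor : Prop := ∀ (v : V8), ∀ g ∈ chevE8.group K3, InB (act g v) → Red (act g v) →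
  (∀ γ ∈ chevE8.group K3, ∀ ε : K3, ε = 1 ∨ ε = -1 → act γ v = ε • v →
    act γ (act g⁻¹ (hp (act g v))) = ε • act g⁻¹ (hp (act g v))) ∧
  (Rat v → Rat (act g⁻¹ (hp (act g v))))

/-- The stabiliser of a nilpotent line lies in a parabolic subgroup. -/
def JobNil : Prop := ∀ (H : Subgroup G8) (v : V8), v ≠ 0 → Rat v →
  (∀ h ∈ H, ad h v = v ∨ ad h v = -v) →
  (∃ g ∈ chevE8.group K3, InB (act g v) ∧ NoH (act g v)) →
  ∃ M : Subgroup G8, H ≤ M ∧ M ≠ ⊤ ∧ 9 ∣ Nat.card M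

/-- A twisted torus has at least 121 points. -/
def JobTw : Prop := ∀ L : List ℕ, ∃ f : Fin 121 → Fin chevE8.rank → K3ˣ,
  Function.Injective f ∧ ∀ i, f i ∈ Tw chevE8 L (frobenius K3 3)

/-- A rational semisimple vector is fixed by a large abelian subgroup. -/
def JobSS : Prop := ∀ s : V8, Rat s → (∃ g ∈ chevE8.group K3, InH (act g s)) →
  ∃ A : Subgroup G8, (∀ a ∈ A, ∀ b ∈ A, a * b = b * a) ∧ 121 ≤ Nat.card A ∧ ∀ a ∈ A, ad a s = s

/-- The invariant form. -/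
def JobForm : Prop := ∃ β : V8 →ₗ[K3] V8 →ₗ[K3] K3, (∀ v, (∀ w, β v w = 0) → v = 0) ∧
  ∀ (g : G8) (v w : V8), β (ad g v) (ad g w) = β v w

def JobDim : Prop := ∀ g : G8, (orderOf g = 4 → 60 ≤ finrank K3 (fx (ad g))) ∧
  (orderOf g = 7 → 36 ≤ finrank K3 (fx (ad g)))

/-- A rational line fixed by `H`. -/
def JobRat : Prop := ∀ (H S : Subgroup G8), S ≤ H → (S.subgroupOf H).index ∣ 2 →
  ∀ v : V8, v ≠ 0 → (∀ g ∈ S, ad g v = v) →
  ∃ v' : V8, v' ≠ 0 ∧ Rat v' ∧ ∀ h ∈ H, ad h v' = v' ∨ ad h v' = -v'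

/-- The hub: the stabiliser of a rational line. -/
def JobHub : Prop := ∀ (H : Subgroup G8), IsCoatom H → ∀ v : V8, v ≠ 0 → Rat v →
  (∀ h ∈ H, ad h v = v ∨ ad h v = -v) → 9 ∣ Nat.card H ∨
  ∃ A : Subgroup G8, A ≤ H ∧ (∀ a ∈ A, ∀ b ∈ A, a * b = b * a) ∧ 121 ≤ Nat.card A

/-! ### Modules of `L₂(7)` in characteristic three -/

/-- The group `SL₂(7)`. -/
abbrev S7 : Type := SL(2, ZMod 7)

def ga : S7 := ⟨!![0, 6; 1, 0], by decide⟩
def gb : S7 := ⟨!![2, 3; 3, 5], by decide⟩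
def gt : S7 := ⟨!![2, 0; 1, 4], by decide⟩
def gs : S7 := ⟨!![3, 6; 3, 4], by decide⟩
def gx : S7 := ⟨!![1, 1; 0, 1], by decide⟩

/-- Self-dual modules of `S₄ = ⟨a, b⟩ ⟨t, s⟩`. -/
def JobLA : Prop := ∀ (k V : Type) [Field k] [CharP k 3] [AddCommGroup V] [Module k V]
  [FiniteDimensional k V] (β : V →ₗ[k] V →ₗ[k] k) (a b t s : End k V),
  (∀ v, (∀ w, β v w = 0) → v = 0) → (∀ f ∈ [a, b, t, s], ∀ v w, β (f v) (f w) = β v w) →
  a * a = 1 → b * b = 1 → s * s = 1 → t * t * t = 1 → a * b = b * a → t * a = b * t →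
  t * b = a * b * t → s * a = b * s → s * t = t * t * s →
  3 * finrank k ↥(fx a ⊓ fx b ⊓ fx s) ≤
    finrank k ↥(fx a ⊓ fx b) + 3 * finrank k ↥(fx a ⊓ fx b ⊓ fx s ⊓ fx t)

/-- Fixed spaces of a four-group on an invariant subspace. -/
def JobV4 : Prop := ∀ (k V : Type) [Field k] [AddCommGroup V] [Module k V] [FiniteDimensional k V]
  (U : Submodule k V) (a b : End k V), (2 : k) ≠ 0 → (∀ v ∈ U, a v ∈ U ∧ b v ∈ U) →
  (∀ v ∈ U, a (a v) = v ∧ b (b v) = v ∧ a (b v) = b (a v)) →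
  finrank k ↥(U ⊓ fx a) + finrank k ↥(U ⊓ fx b) + finrank k ↥(U ⊓ fx (a * b)) =
    2 * finrank k ↥(U ⊓ fx a ⊓ fx b) + finrank k U

def JobB7 : Prop := ∀ (k V : Type) [Field k] [CharP k 3] [AddCommGroup V] [Module k V]
  [FiniteDimensional k V] (ρ : S7 →* End k V), ρ (-1) = 1 →
  (∀ v, ρ gx v = v → ρ ga v = v → v = 0) →
  3 * finrank k ↥(fx (ρ ga) ⊓ fx (ρ gb) ⊓ fx (ρ gs) ⊓ fx (ρ gt)) + finrank k ↥(fx (ρ gx)) ≤
    finrank k ↥(fx (ρ ga) ⊓ fx (ρ gb))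

def JobM : Prop := ∀ (k V : Type) [Field k] [CharP k 3] [AddCommGroup V] [Module k V]
  [FiniteDimensional k V] (ρ : S7 →* End k V) (β : V →ₗ[k] V →ₗ[k] k), ρ (-1) = 1 →
  (∀ v, (∀ w, β v w = 0) → v = 0) → (∀ g v w, β (ρ g v) (ρ g w) = β v w) →
  (∀ v, (∀ g, ρ g v = v) → v = 0) →
  3 * finrank k ↥(fx (ρ (gs * ga))) + 2 * finrank k ↥(fx (ρ gx)) ≤ finrank k V

/-- The group theory. -/
def JobGrp : Prop := ∀ {F : Type u} [Field F] [Fintype F], Fintype.card F = 7 →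
  ∀ {G : Type} [Group G] [Finite G] (H : Subgroup G),
  Nonempty (↥(Cfsg.generalizedFittingSubgroup ↥H) ≃* PSL(2, F)) →
  ∃ ψ : S7 →* G, ψ (-1) = 1 ∧ orderOf (ψ (gs * ga)) = 4 ∧ orderOf (ψ gx) = 7 ∧ ψ.range ≤ H ∧
    (ψ.range.subgroupOf H).index ∣ 2 ∧ ¬ 9 ∣ Nat.card H ∧
    ∀ A : Subgroup G, A ≤ H → (∀ a ∈ A, ∀ b ∈ A, a * b = b * a) → Nat.card A < 121

end H40.E8F
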