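/- Tower E8F: the action of root elements, of `N`, `B` on coordinates. -/
import Cfsg.Agent.H40.E8FSpec
import Cfsg.Agent.Rz.H65_pv_eq_def

set_option autoImplicit false
set_option linter.unusedSectionVars false

namespace H40.E8F

open Cfsg.Lie H63 H64 H65 H46 Matrix

variable {D : ChevalleyDatum} {R : Type} [CommRing R]

theorem pv_ne {t : R} {u : Rt D} (l : SV) :
    ∀ k, pv D R t k l (Sum.inr u) ≠ 0 → ∃ p ∈ l, p.1 = u := by
  induction l with
  | nil => intro k h; exact absurd rfl h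
  | cons p l ih =>
    intro k h
    by_cases e : (u : ℕ) = p.1
    · exact ⟨p, List.mem_cons_self, e.symm⟩
    · rw [H65.pv, Pi.add_apply, Pi.smul_apply, bv_inr, if_neg e, smul_zero, zero_add] at h
      obtain ⟨q, hq, e⟩ := ih _ h
      exact ⟨q, List.mem_cons_of_mem _ hq, e⟩

theorem hp_inl (v : D.Idx → R) (i : Fin D.rank) : hp v (Sum.inl i) = v (Sum.inl i) := rfl

theorem hp_inr (v : D.Idx → R) (r : Rt D) : hp v (Sum.inr r) = 0 := rfl

theorem hp_ext {v w : D.Idx → R} (h : ∀ i, v (Sum.inl i) = w (Sum.inl i)) : hp v = hp w := by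
  funext j
  rcases j with i | r
  exacts [h i, rfl]

theorem inH_hp (v : D.Idx → R) : InH (hp v) := fun _ => rfl

theorem InH.hp_eq {v : D.Idx → R} (h : InH v) : hp v = v := by
  funext j
  rcases j with i | r
  exacts [rfl, (h r).symm]

theorem rv_hp (v : D.Idx → R) (r : ℕ) : rv (hp v) r = rv v r := rfl

theorem rv_of_hp {v w : D.Idx → R} (h : hp v = hp w) (r : ℕ) : rv v r = rv w r := by
  rw [← rv_hp, h, rv_hp]

theorem noH_iff {v : D.Idx → R} : NoH v ↔ hp v = 0 :=
  ⟨fun h => funext fun j => by rcases j with i | r; exacts [h i, rfl],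
    fun h i => congrFun h (Sum.inl i)⟩

theorem NoH.rv {v : D.Idx → R} (h : NoH v) (r : ℕ) : rv v r = 0 :=
  Finset.sum_eq_zero fun i _ => by rw [h i, mul_zero]

theorem act_mul (g h : GL D.Idx R) (v : D.Idx → R) : act (g * h) v = act g (act h v) := by
  rw [act, Units.val_mul, ← mulVec_mulVec]

theorem act_one (v : D.Idx → R) : act (1 : GL D.Idx R) v = v := one_mulVec v

theorem act_inv_act (g : GL D.Idx R) (v : D.Idx → R) : act g⁻¹ (act g v) = v := by
  rw [← act_mul, inv_mul_cancel, act_one]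

theorem act_act_inv (g : GL D.Idx R) (v : D.Idx → R) : act g (act g⁻¹ v) = v := by
  rw [← act_mul, mul_inv_cancel, act_one]

variable [RS D] [Tab D]

theorem X_inl (r : Rt D) (t : R) (v : D.Idx → R) (i : Fin D.rank) :
    (X D R r t *ᵥ v) (Sum.inl i) =
      v (Sum.inl i) + (H63.co D r i : R) * t * v (Sum.inr (negR r)) := by
  rw [X, dif_pos r.2, mulVec, dotProduct, Fintype.sum_sum_type]
  congr 1
  · rw [Finset.sum_eq_single i]
    · simp [XM]
    · intro j _ hj
      simp [XM, hj.symm]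
    · simp
  · rw [Finset.sum_eq_single (negR r)]
    · have h1 : negR r ≠ r := negR_ne r
      have h2 : ((negR r : Rt D) : ℕ) = D.negIdx.getD r 0 := rfl
      simp only [XM, of_apply, Fin.eta, if_neg h1, if_pos h2]
      rfl
    · intro s _ hs
      have h2 : ¬ (s : ℕ) = D.negIdx.getD r 0 := fun e => hs (Fin.ext e)
      simp only [XM, of_apply, Fin.eta, if_neg h2, ite_self, zero_mul]
    · simp

theorem X_inr (r : Rt D) (t : R) (v : D.Idx → R) (u : Rt D) : ∃ c : Rt D → R,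
    (∀ s, c s ≠ 0 → s ≠ negR r ∧ ∃ j : ℤ, 1 ≤ j ∧ rt u = rt s + j • rt r) ∧
    (X D R r t *ᵥ v) (Sum.inr u) = v (Sum.inr u) -
      (if u = r then t * rv v r + t ^ 2 * v (Sum.inr (negR r)) else 0) +
        ∑ s, c s * v (Sum.inr s) := by
  refine ⟨fun s => if s = r ∨ s = negR r then 0 else pv D R t 1 (D.chainEntry r s) (Sum.inr u),
    fun s hs => ?_, ?_⟩
  · have h1 : ¬ (s = r ∨ s = negR r) := fun h => hs (if_pos h)
    simp only [if_neg h1] at hs
    obtain ⟨p, hp, e⟩ := pv_ne _ _ hs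
    obtain ⟨k, hk, rfl⟩ := List.getElem_of_mem hp
    obtain ⟨h2, h3⟩ := RS.chain_valid r s k hk
    refine ⟨fun e => h1 (Or.inr e), k + 1, by omega, ?_⟩
    rw [show u = ⟨_, h2⟩ from Fin.ext e.symm]
    exact h3
  · have key : ∀ s : Rt D, XM D R r t (Sum.inr u) (Sum.inr s) = (if u = s then 1 else 0) -
        (if u = r ∧ s = negR r then t ^ 2 else 0) +
        if s = r ∨ s = negR r then 0 else pv D R t 1 (D.chainEntry r s) (Sum.inr u) := fun s => by
      have h1 : negR r ≠ r := negR_ne r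
      by_cases e1 : s = r
      · subst e1
        simp [XM, h1.symm]
      by_cases e2 : s = negR r
      · subst e2
        have h2 : ((negR r : Rt D) : ℕ) = D.negIdx.getD r 0 := rfl
        simp only [XM, of_apply, if_neg h1, if_pos h2]
        by_cases e3 : u = negR r
        · simp [e3, h1]
        · simp only [e3, if_false, and_true, or_true, if_true, add_zero, zero_sub]
          split_ifs <;> simp
      · have h2 : ¬ (s : ℕ) = D.negIdx.getD r 0 := fun e => e2 (Fin.ext e)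
        simp only [XM, of_apply, if_neg h2, e1, e2, and_false, or_self, if_false,
          sub_zero]
        rw [chainCoeff_eq D (Tab.keys r r.2), ← sum_filter_zipIdx]
    rw [X, dif_pos r.2, mulVec, dotProduct, Fintype.sum_sum_type, Fin.eta]
    simp only [key, add_mul, sub_mul, Finset.sum_add_distrib, Finset.sum_sub_distrib, ite_mul,
      one_mul, zero_mul, Finset.sum_ite_eq, Finset.mem_univ, if_true]
    by_cases e : u = r
    · simp only [XM, of_apply, e, if_true, true_and, Finset.sum_ite_eq', Finset.mem_univ, rv,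
        Finset.mul_sum]
      rw [show ∑ i : Fin D.rank, -(((D.cartanSR.getD i #[]).getD r 0 : ℤ) : R) * t * v (Sum.inl i) =
        - ∑ i : Fin D.rank, t * ((D.cartan i r : R) * v (Sum.inl i)) by
          rw [← Finset.sum_neg_distrib]
          exact Finset.sum_congr rfl fun i _ => by rw [ChevalleyDatum.cartan]; ring]
      ring
    · simp [XM, e]

theorem jobX : JobX := fun _ _ _ _ _ r t v => ⟨X_inl r t v, X_inr r t v⟩

theorem Lin.neg {μ : Rt D → ℝ} (h : Lin μ) (r : Rt D) : μ (negR r) = - μ r := by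
  rw [h, h r, ← Finset.sum_neg_distrib]
  exact Finset.sum_congr rfl fun i _ => by rw [rt_negR]; simp

theorem Lin.add {μ : Rt D → ℝ} (h : Lin μ) {r s u : Rt D} {j : ℤ} (e : rt u = rt s + j • rt r) :
    μ u = μ s + j * μ r := by
  rw [h u, h s, h r, Finset.mul_sum, ← Finset.sum_add_distrib]
  exact Finset.sum_congr rfl fun i _ => by rw [e]; simp [add_mul, mul_assoc]

theorem lin_ht : Lin fun r : Rt D => (ht r : ℝ) := fun r => by
  simp only [ht_simpleR, Int.cast_one, mul_one]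
  simp [ht]

/-- The support of `x_r(t) v`. -/
theorem X_supp {r : Rt D} {t : R} {v : D.Idx → R} (h : v (Sum.inr (negR r)) = 0) {u : Rt D}
    (hu : (X D R r t *ᵥ v) (Sum.inr u) ≠ 0) : v (Sum.inr u) ≠ 0 ∨ u = r ∧ t * rv v r ≠ 0 ∨
      ∃ s : Rt D, v (Sum.inr s) ≠ 0 ∧ ∃ j : ℤ, 1 ≤ j ∧ rt u = rt s + j • rt r := by
  obtain ⟨c, h1, h2⟩ := X_inr r t v u
  by_contra h3
  push Not at h3
  refine hu ?_
  rw [h2, h3.1, h, mul_zero, add_zero, Finset.sum_eq_zero fun s _ => ?_]
  · split_ifs with e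
    · rw [h3.2.1 e]; simp
    · simp
  · by_contra h4
    obtain ⟨-, j, hj, e⟩ := h1 s (left_ne_zero_of_mul h4)
    exact h3.2.2 s (right_ne_zero_of_mul h4) j hj e

theorem X_hp {r : Rt D} (t : R) {v : D.Idx → R} (h : v (Sum.inr (negR r)) = 0) :
    hp (X D R r t *ᵥ v) = hp v := hp_ext fun i => by rw [X_inl, h, mul_zero, add_zero]

/-- Root elements of positive weight preserve the vectors of positive weights. -/
theorem X_pos {μ : Rt D → ℝ} (hμ : Lin μ) {r : Rt D} (hr : 0 < μ r) (t : R) {v : D.Idx → R}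
    (h : ∀ s : Rt D, v (Sum.inr s) ≠ 0 → 0 < μ s) :
    (∀ s : Rt D, (X D R r t *ᵥ v) (Sum.inr s) ≠ 0 → 0 < μ s) ∧ hp (X D R r t *ᵥ v) = hp v := by
  have h0 : v (Sum.inr (negR r)) = 0 := by
    by_contra h0
    have := h _ h0
    rw [hμ.neg] at this
    linarith
  refine ⟨fun u hu => ?_, X_hp t h0⟩
  rcases X_supp h0 hu with h1 | ⟨rfl, -⟩ | ⟨s, h1, j, hj, e⟩
  · exact h _ h1
  · exact hr
  · rw [hμ.add e]
    have : (1 : ℝ) ≤ j := by exact_mod_cast hj
    have := h _ h1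
    positivity

theorem X_ge {μ : Rt D → ℝ} (hμ : Lin μ) {r : Rt D} (hr : 0 ≤ μ r) (t : R) {v : D.Idx → R}
    (h : Ge μ v) : Ge μ (X D R r t *ᵥ v) := by
  have h0 : v (Sum.inr (negR r)) = 0 := by
    by_contra h0
    have := h.2 _ h0
    rw [hμ.neg] at this
    linarith
  refine ⟨noH_iff.2 ((X_hp t h0).trans (noH_iff.1 h.1)), fun u hu => ?_⟩
  rcases X_supp h0 hu with h1 | ⟨-, h1⟩ | ⟨s, h1, j, hj, e⟩
  · exact h.2 _ h1
  · rw [h.1.rv, mul_zero] at h1
    exact absurd rfl h1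
  · rw [hμ.add e]
    have : (1 : ℝ) ≤ j := by exact_mod_cast hj
    have := h.2 _ h1
    nlinarith

/-- The action of a root element on the Cartan subalgebra. -/
theorem X_inH {h : D.Idx → R} (hh : InH h) (r : Rt D) (t : R) :
    X D R r t *ᵥ h = h - (t * rv h r) • Pi.single (Sum.inr r) 1 := by
  funext j
  rcases j with i | u
  · rw [X_inl, hh]; simp
  · obtain ⟨c, -, e⟩ := X_inr r t h u
    rw [e]
    simp [hh _, Pi.single_apply]

variable {k : Type} [Field k]

theorem act_xU (r : ℕ) (t : k) (v : D.Idx → k) : act (xU D k r t) v = X D k r t *ᵥ v := rfl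

theorem tor_inl (c : Fin D.rank → kˣ) (v : D.Idx → k) (i : Fin D.rank) :
    act (tor D k c) v (Sum.inl i) = v (Sum.inl i) := by
  rw [act, tor_val, mulVec_diagonal]; simp

theorem tor_inr (c : Fin D.rank → kˣ) (v : D.Idx → k) (r : Rt D) :
    act (tor D k c) v (Sum.inr r) = (chi D c r : kˣ) * v (Sum.inr r) := by
  rw [act, tor_val, mulVec_diagonal]; rfl

theorem gen_ind {S : Set (Rt D)} {P : GL D.Idx k → Prop} (h1 : P 1)
    (hm : ∀ g h, P g → P h → P (g * h)) (hx : ∀ r ∈ S, ∀ t, P (xU D k r t)) {g : GL D.Idx k}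
    (hg : g ∈ gen (XR D (xU D k)) S) : P g := by
  let K : Subgroup (GL D.Idx k) :=
    { carrier := {g | P g ∧ P g⁻¹}
      one_mem' := ⟨h1, by simpa using h1⟩
      mul_mem' := fun ha hb => ⟨hm _ _ ha.1 hb.1, by rw [_root_.mul_inv_rev]; exact hm _ _ hb.2 ha.2⟩
      inv_mem' := fun ha => ⟨ha.2, by simpa using ha.1⟩ }
  refine (gen_le (K := K) (fun r hr => (Subgroup.closure_le _).2 ?_) hg).1
  rintro _ ⟨t, rfl⟩
  exact ⟨hx r hr t, by rw [xU_inv]; exact hx r hr _⟩

variable [Comm D]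

theorem gen_sup_ind {S : Set (Rt D)} {P : GL D.Idx k → Prop}
    (hm : ∀ g h, P g → P h → P (g * h)) (hx : ∀ r ∈ S, ∀ t, P (xU D k r t))
    (hT : ∀ c, P (tor D k c)) {g : GL D.Idx k}
    (hg : g ∈ gen (XR D (xU D k)) S ⊔ HH D (xU D k)) : P g := by
  obtain ⟨u, hu, h, hh, rfl⟩ := (stB_xU D k).rgd.mem_gen_sup_H.1 hg
  obtain ⟨c, rfl⟩ := exists_tor_of_mem_HH hh
  exact hm _ _ (gen_ind (by simpa using hT 1) hm hx hu) (hT c)

theorem inB_iff {v : D.Idx → R} : InB v ↔ ∀ s : Rt D, v (Sum.inr s) ≠ 0 → 0 < (ht s : ℝ) :=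
  forall_congr' fun s => by rw [Int.cast_pos, ← pos_iff_ht, not_imp_comm]

theorem act_B {b : GL D.Idx k} (hb : b ∈ (stB_xU D k).rgd.B) {v : D.Idx → k} (hv : InB v) :
    InB (act b v) ∧ hp (act b v) = hp v := by
  refine gen_sup_ind (P := fun b => ∀ v, InB v → InB (act b v) ∧ hp (act b v) = hp v)
    (fun g h h1 h2 v hv => ?_) (fun r hr t v hv => ?_) (fun c v hv => ?_) hb v hv
  · rw [act_mul]
    exact ⟨(h1 _ (h2 v hv).1).1, (h1 _ (h2 v hv).1).2.trans (h2 v hv).2⟩
  · rw [inB_iff] at hv ⊢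
    exact X_pos lin_ht (Int.cast_pos.2 (pos_iff_ht.1 hr)) t hv
  · exact ⟨fun r hr => by rw [tor_inr, hv r hr, mul_zero], hp_ext (tor_inl c v)⟩

theorem act_V {b : GL D.Idx k} (hb : b ∈ (stB_xU D k).rgd.V) {v : D.Idx → k}
    (hv : ∀ r : Rt D, Pos r → v (Sum.inr r) = 0) :
    (∀ r : Rt D, Pos r → act b v (Sum.inr r) = 0) ∧ hp (act b v) = hp v := by
  have hl : Lin fun r : Rt D => - (ht r : ℝ) := fun r => by
    have := lin_ht r
    simp only [mul_neg, Finset.sum_neg_distrib, ← this]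
  have e : ∀ s : Rt D, 0 < - (ht s : ℝ) ↔ ¬ Pos s := fun s => by
    rw [← pos_negR, pos_iff_ht, ht_negR, ← Int.cast_neg, Int.cast_pos]
  have e' : ∀ z : D.Idx → k, (∀ r : Rt D, Pos r → z (Sum.inr r) = 0) ↔
      ∀ r : Rt D, z (Sum.inr r) ≠ 0 → 0 < - (ht r : ℝ) := fun z =>
    forall_congr' fun s => by rw [e, not_imp_not]
  refine gen_ind (P := fun b => ∀ v : D.Idx → k, (∀ r : Rt D, Pos r → v (Sum.inr r) = 0) →
    (∀ r : Rt D, Pos r → act b v (Sum.inr r) = 0) ∧ hp (act b v) = hp v) (fun v hv => ?_)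
    (fun g h h1 h2 v hv => ?_) (fun r hr t v hv => ?_) hb v hv
  · rw [act_one]; exact ⟨hv, rfl⟩
  · rw [act_mul]
    exact ⟨(h1 _ (h2 v hv).1).1, (h1 _ (h2 v hv).1).2.trans (h2 v hv).2⟩
  · rw [e'] at hv ⊢
    exact X_pos hl ((e r).2 hr) t hv

theorem act_PP {μ : Rt D → ℝ} (hμ : Lin μ) {g : GL D.Idx k} (hg : g ∈ PP k μ) {v : D.Idx → k}
    (hv : Ge μ v) : Ge μ (act g v) := by
  refine gen_sup_ind (P := fun g => ∀ v, Ge μ v → Ge μ (act g v))
    (fun g h h1 h2 v hv => ?_) (fun r hr t v hv => X_ge hμ hr t hv) (fun c v hv => ?_) hg v hv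
  · rw [act_mul]
    exact h1 _ (h2 v hv)
  · exact ⟨fun i => by rw [tor_inl, hv.1], fun r hr => hv.2 r
      (right_ne_zero_of_mul (by rwa [tor_inr] at hr))⟩

theorem act_CC {h : D.Idx → k} (hh : InH h) {g : GL D.Idx k} (hg : g ∈ CC h) : act g h = h := by
  refine gen_sup_ind (P := fun g => act g h = h) (fun g h h1 h2 => by rw [act_mul, h2, h1])
    (fun r hr t => ?_) (fun c => funext fun j => ?_) hg
  · rw [act_xU, X_inH hh, show rv h r = 0 from hr, mul_zero, zero_smul, sub_zero]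
  · rcases j with i | r
    · exact tor_inl c h i
    · rw [tor_inr, hh, mul_zero]

theorem jobSt : JobSt := fun _ _ _ _ _ _ => ⟨fun _ hb _ hv => act_B hb hv,
  fun _ hb _ hv => act_V hb hv, fun _ hμ _ hg _ hv => act_PP hμ hg hv, fun _ hh _ hg => act_CC hh hg⟩

theorem act_add (g : GL D.Idx k) (v w : D.Idx → k) : act g (v + w) = act g v + act g w :=
  mulVec_add _ _ _

theorem act_smul (g : GL D.Idx k) (a : k) (v : D.Idx → k) : act g (a • v) = a • act g v :=
  mulVec_smul _ _ _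

/-- A matrix that permutes the root lines and preserves the Cartan subalgebra. -/
def Mon (m : GL D.Idx k) (w : Equiv.Perm (Rt D)) : Prop :=
  (∀ r : Rt D, ∃ a : k, a ≠ 0 ∧ act m (bv D k r) = a • bv D k (w r)) ∧
    ∀ v : D.Idx → k, InH v → InH (act m v)

theorem eq_hp_add (v : D.Idx → k) : v = hp v + ∑ r : Rt D, v (Sum.inr r) • bv D k r := by
  funext j
  rcases j with i | u
  · have (r : Rt D) : ¬ D.nroots + i = r := by have := r.2; omega
    simp [hp_inl, bv_inl, this]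
  · simp [hp_inr, bv_inr, Fin.val_inj]

theorem inH_iff_sum {v : D.Idx → k} (h : InH v) :
    v = ∑ i : Fin D.rank, v (Sum.inl i) • bv D k (D.nroots + i) := by
  funext j
  rcases j with i | u
  · simp [bv_inl, Fin.val_inj]
  · have (i : Fin D.rank) : ¬ (u : ℕ) = D.nroots + i := by have := u.2; omega
    simp [bv_inr, this, h u]

theorem mon_n (i : Fin D.rank) : Mon (nn D (xU D k) (D.simple i) 1) (sperm i) := by
  have e : ((nn D (xU D k) (D.simple i) 1 : GL D.Idx k) : Matrix D.Idx D.Idx k) =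
      D.nMat k (simpleR i : Rt D) 1 := by
    rw [nn_eq, nMat_eq]; rfl
  refine ⟨fun r => ⟨(eta D (simpleR i) r : k), ?_, ?_⟩, fun v hv u => ?_⟩
  · rcases eta_eq_one_or (simpleR i) r with h | h <;> simp [h]
  · rw [act, e, nMat_bv _ _ one_ne_zero, refl_simpleR]; simp
  · rw [act, e, inH_iff_sum hv, mulVec_sum, Finset.sum_apply]
    refine Finset.sum_eq_zero fun j _ => ?_
    have : ¬ (u : ℕ) = D.nroots + j := by have := u.2; omega
    rw [mulVec_smul, nMat_bv_h (simpleR i).2 one_ne_zero j.2]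
    simp [bv_inr, this, vec_coL_inr]

theorem Mon.mul {m m' : GL D.Idx k} {w w' : Equiv.Perm (Rt D)} (h : Mon m w) (h' : Mon m' w') :
    Mon (m * m') (w * w') := by
  refine ⟨fun r => ?_, fun v hv => by rw [act_mul]; exact h.2 _ (h'.2 _ hv)⟩
  obtain ⟨a, ha, e⟩ := h'.1 r
  obtain ⟨b, hb, e'⟩ := h.1 (w' r)
  exact ⟨a * b, mul_ne_zero ha hb, by rw [act_mul, e, act_smul, e', smul_smul]; rfl⟩

theorem mon_tor (c : Fin D.rank → kˣ) : Mon (tor D k c) 1 := by
  refine ⟨fun r => ⟨(chi D c r : kˣ), Units.ne_zero _, funext fun j => ?_⟩,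
    fun v hv r => by rw [tor_inr, hv, mul_zero]⟩
  rcases j with i | u
  · have : ¬ D.nroots + i = r := by have := r.2; omega
    rw [tor_inl]; simp [bv_inl, this]
  · rw [tor_inr]
    by_cases e : u = r <;> simp [bv_inr, Fin.val_inj, e]

theorem mon_of_N {m : GL D.Idx k} {w : (H64.wdata D).W} (hm : m ∈ (stB_xU D k).rgd.N)
    (hw : (stB_xU D k).rgd.Act m w) : Mon m w.1 := by
  obtain ⟨l, h, hh, rfl⟩ := (stB_xU D k).rgd.mem_N_iff.1 hm
  have h1 := ((stB_xU D k).rgd.act_nw l).mul ((stB_xU D k).rgd.act_H hh)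
  rw [hw.unique h1]
  obtain ⟨c, rfl⟩ := exists_tor_of_mem_HH hh
  refine Mon.mul ?_ (mon_tor c)
  clear h1 hw hm
  induction l with
  | nil => simpa using mon_tor (D := D) (k := k) 1
  | cons i l ih =>
    rw [RGD.nw, H67.wp_cons, H67.wp_cons]
    exact (mon_n i).mul ih

theorem B_inH {h : D.Idx → k} (hh : InH h) (r : Rt D) :
    B D k h (bv D k r) = rv h r • bv D k r := by
  conv_lhs => rw [inH_iff_sum hh]
  rw [map_sum, LinearMap.sum_apply, rv, Finset.sum_smul]
  refine Finset.sum_congr rfl fun i _ => ?_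
  rw [map_smul, LinearMap.smul_apply, B_h_bv i.2 (by have := r.2; omega), wtv, if_pos r.2,
    smul_smul, mul_comm]

theorem N_le_group : (stB_xU D k).rgd.N ≤ D.group k :=
  (stB_xU D k).rgd.N_le_Gp.trans (matOK (D := D) (F := k)).G_eq.ge

theorem B_le_group : (stB_xU D k).rgd.B ≤ D.group k :=
  (stB_xU D k).rgd.B_le_Gp.trans (matOK (D := D) (F := k)).G_eq.ge

theorem group_eq_Gp : D.group k = (stB_xU D k).rgd.Gp := (matOK (D := D) (F := k)).G_eq

theorem jobN : JobN := by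
  intro D _ _ _ k _ m w hm hw
  obtain ⟨h1, h2⟩ := mon_of_N hm hw
  choose a ha h1 using h1
  have h3 (v : D.Idx → k) : act m v =
      act m (hp v) + ∑ r : Rt D, (v (Sum.inr r) * a r) • bv D k (w.1 r) := by
    conv_lhs => rw [eq_hp_add v]
    rw [act_add, act, act, mulVec_sum]
    congr 1
    exact Finset.sum_congr rfl fun r _ => by rw [← smul_smul, ← h1, mulVec_smul]
  have h4 (v : D.Idx → k) : hp (act m v) = act m (hp v) := by
    rw [← (h2 _ (inH_hp v)).hp_eq]
    refine hp_ext fun i => ?_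
    have (r : Rt D) : ¬ D.nroots + i = r := by have := r.2; omega
    rw [h3]; simp [bv_inl, this]
  refine ⟨⟨a, ha, fun v r => ?_⟩, h4, fun v r => ?_⟩
  · rw [h3, Pi.add_apply, h2 _ (inH_hp v)]
    simp [bv_inr, Fin.val_inj, mul_comm]
  · have h5 := isAut_of_mem (N_le_group hm) (hp v) (bv D k r)
    change act m _ = B D k (act m _) (act m _) at h5
    rw [B_inH (inH_hp v), act_smul, h1, map_smul, B_inH (h2 _ (inH_hp v)), smul_smul, smul_smul,
      ← h4, rv_hp, rv_hp] at h5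
    exact mul_left_cancel₀ (ha r) ((smul_bv_cancel (w.1 r).2 h5).symm.trans (mul_comm _ _))

end H40.E8F
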