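/- Tower E8F: normal form in the Borel subalgebra and the semisimple part. -/
import Cfsg.Agent.H40.E8FKit

set_option autoImplicit false
set_option linter.unusedSectionVars false

namespace H40.E8F

open Cfsg.Lie H63 H64 H65 H46 H14.E8 Matrix Module

variable {D : ChevalleyDatum} [RS D] [Tab D] {k : Type} [Field k]

theorem X_low {r : Rt D} (hr : Pos r) (t : k) {v : D.Idx → k} (hv : InB v) {u : Rt D}
    (hu : u ≤ r) : (X D k r t *ᵥ v) (Sum.inr u) =
      v (Sum.inr u) - if u = r then t * rv v r else 0 := by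
  obtain ⟨c, h1, h2⟩ := X_inr r t v u
  rw [h2, hv (negR r) (fun h => pos_negR.1 h hr), mul_zero, add_zero, Finset.sum_eq_zero, add_zero]
  intro s _
  by_contra h
  obtain ⟨-, j, hj, e⟩ := h1 s (left_ne_zero_of_mul h)
  have hs : Pos s := by_contra fun hs => right_ne_zero_of_mul h (hv s hs)
  exact (lt_of_comb hr hs hj le_rfl (by rw [e, one_smul, add_comm])).not_ge hu

theorem jobJD : JobJD := by
  intro D _ _ k _ v hv
  suffices h : ∀ m ≤ D.nroots, ∃ g ∈ D.group k, InB (act g v) ∧
      ∀ r : Rt D, (r : ℕ) < m → act g v (Sum.inr r) ≠ 0 → rv (act g v) r = 0 by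
    obtain ⟨g, h1, h2, h3⟩ := h _ le_rfl
    exact ⟨g, h1, h2, fun r => h3 r r.2⟩
  intro m
  induction m with
  | zero => exact fun _ => ⟨1, one_mem _, by rwa [act_one], fun r hr => absurd hr (by omega)⟩
  | succ m ih =>
    intro hm
    obtain ⟨g, h1, h2, h3⟩ := ih (by omega)
    let r : Rt D := ⟨m, hm⟩
    by_cases h4 : act g v (Sum.inr r) ≠ 0 → rv (act g v) r = 0
    · refine ⟨g, h1, h2, fun u hu => ?_⟩
      rcases Nat.lt_succ_iff_lt_or_eq.1 hu with h | h
      · exact h3 u h
      · rwa [show u = r from Fin.ext h]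
    push Not at h4
    have hr : Pos r := by_contra fun hr => h4.1 (h2 r hr)
    refine ⟨xU D k r (act g v (Sum.inr r) / rv (act g v) r) * g, mul_mem (xU_mem_group _ _) h1,
      fun u hu => ?_, fun u hu => ?_⟩
    · have := lt_of_not_pos_of_pos hu hr
      rw [act_mul, act_xU, X_low hr _ h2 this.le, if_neg this.ne, h2 u hu, sub_zero]
    · rw [act_mul, act_xU, X_low hr _ h2 (Nat.lt_succ_iff.1 hu),
        rv_of_hp (X_hp _ (h2 _ fun h => pos_negR.1 h hr))]
      split_ifs with e
      · rw [e, div_mul_cancel₀ _ h4.2, sub_self]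
        exact fun h => absurd rfl h
      · rw [sub_zero]
        exact h3 u (lt_of_le_of_ne (Nat.lt_succ_iff.1 hu) fun h => e (Fin.ext h))

variable (D) in
/-- The Cartan matrix is unimodular. -/
def Uni : Prop := ∃ C : Fin D.rank → Fin D.rank → ℤ, ∀ i l : Fin D.rank,
  ∑ j : Fin D.rank, D.cartan i (D.simple j) * C j l = if i = l then 1 else 0

theorem uni8 : Uni chevE8 :=
  ⟨fun i j => (([[4, 5, 7, 10, 8, 6, 4, 2], [5, 8, 10, 15, 12, 9, 6, 3],
    [7, 10, 14, 20, 16, 12, 8, 4], [10, 15, 20, 30, 24, 18, 12, 6], [8, 12, 16, 24, 20, 15, 10, 5],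
    [6, 9, 12, 18, 15, 12, 8, 4], [4, 6, 8, 12, 10, 8, 6, 3], [2, 3, 4, 6, 5, 4, 3, 2]] :
      List (List ℤ)).getD i []).getD j 0, by decide +kernel⟩

theorem Uni.eq_zero (hU : Uni D) {z : D.Idx → k} (h : InH z) (h' : ∀ r : Rt D, rv z r = 0) :
    z = 0 := by
  obtain ⟨C, hC⟩ := hU
  funext j
  rcases j with l | r
  · have h1 (i : Fin D.rank) : ∑ j : Fin D.rank,
        (C j l : k) * ((D.cartan i (simpleR j : Rt D) : k) * z (Sum.inl i)) =
          if i = l then z (Sum.inl i) else 0 := by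
      have := congrArg (fun a : ℤ => (a : k) * z (Sum.inl i)) (hC i l)
      simp only [Int.cast_sum, Finset.sum_mul, Int.cast_ite, Int.cast_one, Int.cast_zero, ite_mul,
        one_mul, zero_mul] at this
      rw [← this]
      exact Finset.sum_congr rfl fun j _ => by rw [simpleR_val]; push_cast; ring
    have : ∑ j : Fin D.rank, (C j l : k) * rv z (simpleR j : Rt D) = z (Sum.inl l) := by
      simp only [rv, Finset.mul_sum]
      rw [Finset.sum_comm]
      simp only [h1, Finset.sum_ite_eq', Finset.mem_univ, if_true]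
    rw [← this]
    exact Finset.sum_eq_zero fun j _ => by rw [h', mul_zero]
  · exact h r

theorem sum_co_cartan (r : Rt D) :
    ∑ i : Fin D.rank, (H63.co D r i : k) * (D.cartan i r : k) = 2 := by
  have := congrArg (Int.cast : ℤ → k) ((pairing_eq (D := D) r r).symm.trans (RS.pairing_self r))
  push_cast at this
  exact this

theorem B_inH' {h : D.Idx → k} (hh : InH h) (r : Rt D) :
    B D k h (bv D k r) = rv h r • bv D k r := by
  have e : h = ∑ i : Fin D.rank, h (Sum.inl i) • bv D k (D.nroots + i) := by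
    funext j
    rcases j with i | u
    · simp [bv_inl, Fin.val_inj]
    · have (i : Fin D.rank) : ¬ (u : ℕ) = D.nroots + i := by have := u.2; omega
      simp [bv_inr, this, hh u]
  conv_lhs => rw [e]
  rw [map_sum, LinearMap.sum_apply, rv, Finset.sum_smul]
  refine Finset.sum_congr rfl fun i _ => ?_
  rw [map_smul, LinearMap.smul_apply, B_h_bv i.2 (by have := r.2; omega), wtv, if_pos r.2,
    smul_smul, mul_comm]

theorem Uni.B_inj (hU : Uni D) (h2 : (2 : k) ≠ 0) {z : D.Idx → k} (h : B D k z = 0) : z = 0 := by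
  have h1 : InH z := fun r => by
    refine (mul_eq_zero.1 ?_).resolve_left h2
    rw [← sum_co_cartan r, Finset.sum_mul]
    refine Finset.sum_eq_zero fun i _ => ?_
    have := B_h_apply i.2 z (Sum.inr r)
    rw [B_antisymm, h, wtv, if_pos (show enc D (Sum.inr r) < D.nroots from r.2)] at this
    rw [mul_assoc]
    exact mul_eq_zero_of_right _ (by simpa using this.symm)
  refine hU.eq_zero h1 fun r => ?_
  have := B_inH' h1 r
  rw [h, LinearMap.zero_apply, ← zero_smul k (bv D k r)] at this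
  exact (smul_bv_cancel r.2 this).symm

theorem Uni.eq_zero_of_X (hU : Uni D) [CharP k 3] {z : D.Idx → k}
    (h : ∀ r : Rt D, X D k r 1 *ᵥ z = z ∨ X D k r 1 *ᵥ z = -z) : z = 0 := by
  have h2 : (2 : k) ≠ 0 := fun h => by
    have := (CharP.cast_eq_zero_iff k 3 2).1 (by exact_mod_cast h)
    omega
  by_cases h0 : ∀ r : Rt D, X D k r 1 *ᵥ z = z
  · have h1 : InH z := fun r => by
      refine (mul_eq_zero.1 ?_).resolve_left h2
      rw [← sum_co_cartan (negR r), Finset.sum_mul]
      refine Finset.sum_eq_zero fun i _ => ?_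
      have := X_inl (negR r) 1 z i
      rw [h0, negR_negR, mul_one, left_eq_add] at this
      rw [mul_right_comm, this, zero_mul]
    refine hU.eq_zero h1 fun r => ?_
    have := congrFun ((X_inH h1 r 1).symm.trans (h0 r)) (Sum.inr r)
    simpa using this
  · push Not at h0
    obtain ⟨r, hr⟩ := h0
    have h1 := (h r).resolve_left hr
    have h3 : X D k r 1 *ᵥ X D k r 1 *ᵥ X D k r 1 *ᵥ z = z := by
      rw [mulVec_mulVec, mulVec_mulVec, X_add, X_add,
        show (1 + 1 + 1 : k) = 0 by rw [← CharP.cast_eq_zero k 3]; norm_num, X_zero, one_mulVec]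
    simp only [h1, mulVec_neg, neg_neg] at h3
    refine (smul_eq_zero.1 ?_).resolve_left h2
    rw [two_smul]
    exact add_eq_zero_iff_neg_eq.2 h3

theorem exists_regular [Infinite k] (h2 : (2 : k) ≠ 0) :
    ∃ h : D.Idx → k, InH h ∧ ∀ r : Rt D, rv h r ≠ 0 := by
  obtain ⟨f, hf⟩ := Module.exists_dual_forall_apply_ne_zero (K := k)
    (fun (r : Rt D) (i : Fin D.rank) => (D.cartan i r : k)) fun r e => h2 (by
      rw [← sum_co_cartan r]
      exact Finset.sum_eq_zero fun i _ => mul_eq_zero_of_right _ (congrFun e i))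
  refine ⟨Sum.elim (fun i => f (Pi.single i 1)) fun _ => 0, fun _ => rfl, fun r e => hf r ?_⟩
  rw [← e, rv, pi_eq_sum_univ' fun i : Fin D.rank => (D.cartan i r : k), map_sum]
  simp

theorem B_act {g : GL D.Idx k} (hg : g ∈ D.group k) (v w : D.Idx → k) :
    B D k (act g v) (act g w) = act g (B D k v w) := (isAut_of_mem hg v w).symm

theorem B_pow_act {g : GL D.Idx k} (hg : g ∈ D.group k) (v : D.Idx → k) (n : ℕ) (w : D.Idx → k) :
    ((B D k (act g v) : End k _) ^ n) (act g w) = act g (((B D k v : End k _) ^ n) w) := by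
  induction n with
  | zero => rfl
  | succ n ih => rw [pow_succ', pow_succ', End.mul_apply, End.mul_apply, ih, B_act hg]

theorem B_pow_map (φ : k →+* k) (v : D.Idx → k) (n : ℕ) (w : D.Idx → k) :
    ((B D k (φ ∘ v) : End k _) ^ n) (φ ∘ w) = φ ∘ ((B D k v : End k _) ^ n) w := by
  induction n with
  | zero => rfl
  | succ n ih => rw [pow_succ', pow_succ', End.mul_apply, End.mul_apply, ih, B_map]

theorem jor (hU : Uni D) (h2 : (2 : k) ≠ 0) {v s : D.Idx → k} {n : ℕ} (hn : Odd n)
    (h : (B D k v : End k _) ^ n = B D k s) :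
    (∀ γ ∈ D.group k, ∀ ε : k, ε = 1 ∨ ε = -1 → act γ v = ε • v → act γ s = ε • s) ∧
    ∀ φ : k →+* k, φ ∘ v = v → φ ∘ s = s := by
  refine ⟨fun γ hγ ε hε e => sub_eq_zero.1 (hU.B_inj h2 (LinearMap.ext fun w => ?_)),
    fun φ e => sub_eq_zero.1 (hU.B_inj h2 (lin_ext_bv D fun c _ => ?_))⟩
  · have h1 := B_pow_act hγ v n (act γ⁻¹ w)
    have h3 : ε ^ n = ε := by rcases hε with rfl | rfl; exacts [one_pow _, hn.neg_one_pow]
    rw [e, map_smul, smul_pow, h, h3, ← B_act hγ, act_act_inv] at h1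
    rw [map_sub, map_smul, LinearMap.sub_apply, h1, sub_self, LinearMap.zero_apply]
  · have h1 := B_pow_map φ v n (bv D k c)
    rw [e, h, B_map, bv_map] at h1
    rw [map_sub, LinearMap.sub_apply, h1, sub_self, LinearMap.zero_apply]

attribute [local instance] H65.tabE8 H65.commE8

theorem jobAd : JobAd :=
  ⟨fun _ => uni8.B_inj two_ne, fun _ => uni8.eq_zero_of_X, exists_regular two_ne⟩

theorem jor' (hP : JobPow) (v : D.Idx → K3) {g : GL D.Idx K3} (hg : g ∈ D.group K3)
    (h1 : InB (act g v)) (h2 : Red (act g v)) :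
    ∃ m : ℕ, (B D K3 v : End K3 _) ^ 3 ^ m = B D K3 (act g⁻¹ (hp (act g v))) := by
  obtain ⟨m, h⟩ := hP D _ h1 h2
  refine ⟨m, LinearMap.ext fun w => ?_⟩
  have := B_pow_act (inv_mem hg) (act g v) (3 ^ m) (act g w)
  rwa [h, ← B_act (inv_mem hg), act_inv_act, act_inv_act] at this

theorem jobJor (hP : JobPow) : JobJor := fun v g hg h1 h2 => by
  obtain ⟨m, h⟩ := jor' hP v hg h1 h2
  have := jor uni8 two_ne (Odd.pow (by decide)) h
  exact ⟨this.1, this.2 _⟩

end H40.E8F
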