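/- ALTSEC tower: the part on E6 (interface). See blueprints/ALTSEC.md. -/
import Cfsg.Agent.H63.RSE6
import Cfsg.Agent.H65.E6Gen2

set_option autoImplicit false

universe u

namespace H40.AS

open Equiv Module Cfsg.Lie H65

/-- The algebraic closure of the prime field. -/
abbrev Kb (p : ℕ) [Fact p.Prime] : Type := AlgebraicClosure (ZMod p)

/-- Semisimple elements of the 27-dimensional group are conjugate to a scalar of order dividing
`3` times an element of the torus. -/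
def JobT : Prop :=
  ∀ (p : ℕ) [Fact p.Prime], ∀ s ∈ repE6v27.G (Kb p), ∀ e : ℕ, (e : Kb p) ≠ 0 → s ^ e = 1 →
    ∃ (g : GL (Fin 27) (Kb p)) (z : (Kb p)ˣ) (c : Fin chevE6.rank → (Kb p)ˣ), z ^ 3 = 1 ∧
      (g * s * g⁻¹).val =
        Matrix.diagonal fun j => ((z * ∏ i, c i ^ repE6v27.wt i j : (Kb p)ˣ) : Kb p)

/-- Semisimple elements have small fixed spaces. -/
def JobF : Prop :=
  ∀ (p : ℕ) [Fact p.Prime], ∀ s ∈ repE6v27.G (Kb p), s ≠ 1 → ∀ e : ℕ, (e : Kb p) ≠ 0 →
    s ^ e = 1 → finrank (Kb p) (End.eigenspace (Matrix.toLin' s.val) 1) ≤ 17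

/-- Sections lift to the 27-dimensional group. -/
def JobCov : Prop :=
  ∀ (F : Type u) [Field F] [Fintype F] (p : ℕ) [Fact p.Prime] [CharP F p] (r m : ℕ), m ≤ r →
    ∀ (H : Subgroup (chevE6.group F)) (K : Subgroup H) [K.Normal],
      Nonempty (H ⧸ K ≃* alternatingGroup (Fin r)) →
      ∃ L : Subgroup (GL (Fin 27) (Kb p)), L ≤ repE6v27.G (Kb p) ∧ Finite L ∧
        ∃ π : L →* Perm (Fin m), π.range = alternatingGroup (Fin m)

/-- `A₁₃` is not a section outside characteristic `11`. -/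
def Job13 : Prop :=
  ∀ (F : Type u) [Field F] [Fintype F] (p : ℕ) [Fact p.Prime] [CharP F p], p ≠ 11 → ∀ (r : ℕ)
    (H : Subgroup (chevE6.group F)) (K : Subgroup H) [K.Normal],
      Nonempty (H ⧸ K ≃* alternatingGroup (Fin r)) → r ≤ 12

end H40.AS
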