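/- ALTSEC: spin representations of the double covers of the alternating groups. -/
import Cfsg.Agent.H40.ASKit

set_option autoImplicit false
set_option linter.unusedSectionVars false

namespace H40.AS

open Equiv Equiv.Perm Module H57 H49

section Grp

variable {Ω : Type} [Fintype Ω] [DecidableEq Ω] {H : Type} [Group H] {π : H →* Perm Ω} {z : H}

variable (π) in
/-- All lifts commute. -/
def CM (σ τ : Perm Ω) : Prop := ∀ g h, π g = σ → π h = τ → g * h = h * g

variable (π z) in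
/-- All lifts anticommute. -/
def AN (σ τ : Perm Ω) : Prop := ∀ g h, π g = σ → π h = τ → g * h = z * (h * g)

theorem mul_em {α : Type} [Fintype α] [DecidableEq α] {f : α ↪ Ω} {g h : H} {σ τ : Perm α}
    (e : π g = em f σ) (e' : π h = em f τ) : π (g * h) = em f (σ * τ) := by
  rw [map_mul, map_mul, e, e']

theorem conj_em {α : Type} [Fintype α] [DecidableEq α] {f : α ↪ Ω} {g h : H} {σ τ : Perm α}
    (e : π g = em f σ) (e' : π h = em f τ) : π (g⁻¹ * h * g) = em f (σ⁻¹ * τ * σ) := by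
  simp only [map_mul, map_inv, e, e']

variable (D : DC z π)
include D

theorem zc (g : H) : g * z = z * g := (D.cen g).eq.symm

theorem zz_mul (g : H) : z * (z * g) = g := by rw [← mul_assoc, D.zz, one_mul]

theorem sq_dt {g : H} (h : DT (π g)) : g * g = z := by
  obtain ⟨a, b, c, d, ⟨h1, h2, h3, h4, h5, h6⟩, e⟩ := h
  rw [← sq]
  exact D.sq_swap h1 h2 h3 h4 h5 h6 e

theorem cm_of_disjoint {σ τ : Perm Ω} (h : Perm.Disjoint σ τ) : CM π σ τ := by
  rintro g h' rfl rfl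
  exact (D.commute_of_disjoint h).eq

theorem cm_self (σ : Perm Ω) : CM π σ σ := by
  rintro g h rfl e
  rcases D.eq_or e with rfl | rfl
  · rfl
  · rw [← mul_assoc, zc D, mul_assoc]

theorem an_of_dt {σ τ : Perm Ω} (h1 : DT σ) (h2 : DT τ) (h3 : DT (σ * τ)) : AN π z σ τ := by
  rintro g h rfl rfl
  have e1 := sq_dt D h1
  have e2 := sq_dt D h2
  have e3 := sq_dt D (g := g * h) (by rwa [map_mul])
  have e4 : h * g * h = g := mul_left_cancel (a := g) (by rw [e1, ← e3]; group)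
  calc g * h = h * g * h * h := by rw [e4]
    _ = z * (h * g) := by rw [mul_assoc _ h h, e2, zc D]

omit D in
theorem CM.symm {σ τ : Perm Ω} (h : CM π σ τ) : CM π τ σ := fun g h' a b => (h h' g b a).symm

theorem AN.symm {σ τ : Perm Ω} (h : AN π z σ τ) : AN π z τ σ := fun g h' a b => by
  rw [h h' g b a, zz_mul D]

theorem split {σ τ : Perm Ω} (h1 : sign σ = 1) {g : H} (e : π g = σ * τ) :
    ∃ a b, π a = σ ∧ π b = τ ∧ g = a * b := by
  obtain ⟨a, ha⟩ := D.lift h1
  exact ⟨a, a⁻¹ * g, ha, by simp [e, ha], by simp⟩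

theorem AN.mul_cm {σ σ' τ : Perm Ω} (hs : sign σ = 1) (h : AN π z σ τ) (h' : CM π σ' τ) :
    AN π z (σ * σ') τ := fun g t e e' => by
  obtain ⟨a, b, ha, hb, rfl⟩ := split D hs e
  rw [mul_assoc, h' b t hb e', ← mul_assoc, h a t ha e']
  simp only [mul_assoc]

theorem AN.mul_an {σ σ' τ : Perm Ω} (hs : sign σ = 1) (h : AN π z σ τ) (h' : AN π z σ' τ) :
    CM π (σ * σ') τ := fun g t e e' => by
  obtain ⟨a, b, ha, hb, rfl⟩ := split D hs e
  rw [mul_assoc, h' b t hb e', ← mul_assoc, zc D, mul_assoc, ← mul_assoc a, h a t ha e',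
    mul_assoc z, zz_mul D, mul_assoc]

theorem CM.mul_cm {σ σ' τ : Perm Ω} (hs : sign σ = 1) (h : CM π σ τ) (h' : CM π σ' τ) :
    CM π (σ * σ') τ := fun g t e e' => by
  obtain ⟨a, b, ha, hb, rfl⟩ := split D hs e
  rw [mul_assoc, h' b t hb e', ← mul_assoc, h a t ha e', mul_assoc]

theorem lift_odd {σ : Perm Ω} {n : ℕ} (hn : Odd n) (h : σ ^ n = 1) :
    ∃ g, π g = σ ∧ g ^ n = 1 := by
  obtain ⟨g, rfl⟩ := D.lift (sign_eq_one_of_pow_odd hn h)
  rcases (D.ker (g ^ n)).1 (by rw [map_pow, h]) with e | e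
  · exact ⟨g, rfl, e⟩
  · refine ⟨z * g, by rw [map_mul, D.πz, one_mul], ?_⟩
    obtain ⟨m, rfl⟩ := hn
    rw [(D.cen g).mul_pow, e, pow_succ, pow_mul, sq, D.zz, one_pow, one_mul, D.zz]

/-- Conjugation of lifts of odd order. -/
theorem conj_odd {g x y : H} {n j : ℕ} (hn : Odd n) (hx : x ^ n = 1) (hy : y ^ n = 1)
    (e : (π g)⁻¹ * π x * π g = π y ^ j) : g⁻¹ * x * g = y ^ j := by
  refine D.eq_of_odd hn (by simpa using e) ?_ ?_
  · have := conj_pow (a := g⁻¹) (b := x) (i := n)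
    rw [inv_inv] at this
    rw [this, hx]; simp
  · rw [← pow_mul, mul_comm, pow_mul, hy, one_pow]

end Grp

section Comb

theorem all8 (E : ℤˣ → ℤˣ → ℤˣ → Prop) (s s' s'' : ℤˣ)
    (h1 : ∀ a b c, E a b c → E a (-b) (s * a * c)) (h2 : ∀ a b c, E a b c → E a (s' * a * b) (-c))
    (h3 : ∀ a b c, E a b c → E (-a) b (s'' * b * c)) (h0 : ∃ a b c, E a b c) :
    ∀ a b c, E a b c := by
  have u : ∀ a b : ℤˣ, a = b ∨ a = -b := by decide
  have k1 : ∀ b c, E s b c → ∀ b', E s b' c := fun b c h b' => by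
    rcases u b' b with rfl | rfl
    · exact h
    · simpa using h1 _ _ _ h
  have k2 : ∃ b c, E s b c := by
    obtain ⟨a, b, c, h⟩ := h0
    rcases u s a with rfl | rfl
    · exact ⟨_, _, h⟩
    · exact ⟨_, _, h3 _ _ _ h⟩
  have k3 : ∀ b c, E s b c := fun b c => by
    obtain ⟨b', c', h⟩ := k2
    rcases u c c' with rfl | rfl
    · exact k1 _ _ h _
    · exact k1 _ _ (h2 _ _ _ h) _
  intro a b c
  rcases u a s with rfl | rfl
  · exact k3 _ _
  · have := h3 _ _ _ (k3 b (s'' * b * c))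
    rwa [← mul_assoc, Int.units_mul_self, one_mul] at this

theorem all16 (E : ZMod 5 → ZMod 5 → Prop) (h1 : ∀ i j, E i j → E (i * 4) j)
    (h2 : ∀ i j, E i j → E (i * 2) (j * 2)) (h3 : ∀ i j, E i j → E j (i * 2)) {b : ZMod 5}
    (hb : b ≠ 0) (h0 : E 1 b) : ∀ i j, i ≠ 0 → j ≠ 0 → E i j := by
  have k1 : ∀ i j, E i j → ∀ a : Fin 2, E (i * 4 ^ a.val) j := fun i j h a => by
    fin_cases a
    · simpa using h
    · simpa using h1 _ _ h
  have k2 : ∀ (n : ℕ) i j, E i j → E (i * 2 ^ n) (j * 2 ^ n) := fun n => by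
    induction n with
    | zero => intro i j h; simpa using h
    | succ n ih => intro i j h; simpa [pow_succ, mul_assoc] using h2 _ _ (ih _ _ h)
  have k3 : ∀ b i j : ZMod 5, b = 0 ∨ i = 0 ∨ j = 0 ∨ ∃ (a : Fin 2) (n : Fin 4),
      (i = 1 * 4 ^ a.val * 2 ^ n.val ∧ j = b * 2 ^ n.val) ∨
      (i = b * 2 ^ n.val ∧ j = 1 * 4 ^ a.val * 2 ^ n.val * 2) := by decide
  intro i j hi hj
  obtain ⟨a, n, ⟨rfl, rfl⟩ | ⟨rfl, rfl⟩⟩ := (((k3 b i j).resolve_left hb).resolve_left hi).resolve_left hj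
  · exact k2 _ _ _ (k1 _ _ h0 a)
  · exact h3 _ _ (k2 _ _ _ (k1 _ _ h0 a))

end Comb

section Rep

variable {Ω : Type} [Fintype Ω] [DecidableEq Ω] {H : Type} [Group H] {π : H →* Perm Ω} {z : H}
  {k : Type} [Field k] {V : Type} [AddCommGroup V] [Module k V] {ρ : Representation k H V}
  (D : DC z π) (h2 : (2 : k) ≠ 0) (hz : ρ z = -1)

theorem eq_zero_of_neg (h2 : (2 : k) ≠ 0) {v : V} (h : -v = v) : v = 0 := by
  have : (2 : k) • v = 0 := by rw [two_smul]; nth_rewrite 1 [← h]; simp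
  exact (smul_eq_zero.1 this).resolve_left h2

theorem exists_dt {T : Finset Ω} (h : 4 ≤ T.card) : ∃ σ : Perm Ω, DT σ ∧ SuppIn σ T := by
  obtain ⟨f, hf⟩ := exists_emb T h
  exact ⟨em f (swap 0 1 * swap 2 3), DT.em ⟨0, 1, 2, 3, by decide, rfl⟩ f,
    (suppIn_em f _).mono hf⟩

include D h2 hz

theorem spin_fai {T : Finset Ω} (h5 : 5 ≤ T.card) {W : Submodule k V} (hW : Inv π ρ T W)
    (h0 : W ≠ ⊥) : Fai π ρ T W := by
  refine (dich D.range h5 hW).resolve_right fun h => h0 ((Submodule.eq_bot_iff _).2 fun v hv => ?_)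
  obtain ⟨σ, h1, h3⟩ := exists_dt (T := T) (by omega)
  obtain ⟨g, rfl, hg⟩ := h σ h1.sign h3
  refine eq_zero_of_neg h2 ?_
  have := rho_mul (ρ := ρ) g g v
  rwa [sq_dt D h1, hz, hg v hv, hg v hv] at this

omit h2 in
theorem rho_sign {g h : H} (e : π g = π h) : ∃ s : ℤˣ, ∀ v, ρ g v = ((s : ℤ) : k) • ρ h v := by
  rcases D.eq_or e with rfl | rfl
  · exact ⟨1, by simp⟩
  · exact ⟨-1, fun v => by rw [rho_mul, hz]; simp⟩

omit h2 in
theorem conj_cm {g a : H} (h : g * a = a * g) : g⁻¹ * a * g = a := by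
  rw [mul_assoc, ← h]; group

omit h2 in
theorem conj_an {g a : H} (h : g * a = z * (a * g)) (v : V) : ρ (g⁻¹ * a * g) v = -ρ a v := by
  have : g⁻¹ * a * g = z * a := by
    rw [mul_assoc, ← zz_mul D (a * g), ← h, ← mul_assoc, zc D]; group
  rw [this, rho_mul, hz]; rfl

/-- Double transpositions of eight points. -/
def d8 (a b c d : Fin 8) : Perm (Fin 8) := swap a b * swap c d

variable [FiniteDimensional k V] [IsAlgClosed k]

set_option maxHeartbeats 1000000 in
theorem s8 (f : Fin 8 ↪ Ω) {W : Submodule k V} (hW : Inv π ρ (Set.range f) W) (h0 : W ≠ ⊥) :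
    8 ≤ finrank k W := by
  have an : ∀ a b c d : Fin 8, (a ≠ b ∧ a ≠ c ∧ a ≠ d ∧ b ≠ c ∧ b ≠ d ∧ c ≠ d) →
      d8 a b c d * d8 a c b d = d8 a d b c → AN π z (em f (d8 a b c d)) (em f (d8 a c b d)) :=
    fun a b c d h e => an_of_dt D (DT.em ⟨a, b, c, d, h, rfl⟩ f)
      (DT.em ⟨a, c, b, d, by tauto, rfl⟩ f)
      (by rw [← map_mul, e]; exact DT.em ⟨a, d, b, c, by tauto, rfl⟩ f)
  have cm : ∀ σ τ : Perm (Fin 8), (∀ i, σ i = i ∨ τ i = i) → CM π (em f σ) (em f τ) :=
    fun σ τ h => cm_of_disjoint D fun y => by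
      by_cases hy : y ∈ Set.range f
      · obtain ⟨i, rfl⟩ := hy
        simpa [em_apply] using h i
      · exact Or.inl (suppIn_em f _ y hy)
  have sg : ∀ a b c d : Fin 8, a ≠ b ∧ c ≠ d → sign (em f (d8 a b c d)) = 1 := fun a b c d h => by
    rw [sign_em, d8, map_mul, sign_swap h.1, sign_swap h.2]; rfl
  have dt : ∀ a b c d : Fin 8, (a ≠ b ∧ a ≠ c ∧ a ≠ d ∧ b ≠ c ∧ b ≠ d ∧ c ≠ d) →
      DT (em f (d8 a b c d)) := fun a b c d h => DT.em ⟨a, b, c, d, h, rfl⟩ f
  -- anticommuting with a product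
  have an2 : ∀ a b c d : Fin 8, ∀ τ, (a ≠ b ∧ a ≠ c ∧ a ≠ d ∧ b ≠ c ∧ b ≠ d ∧ c ≠ d) →
      d8 a b c d * d8 a c b d = d8 a d b c → (∀ i, τ i = i ∨ d8 a c b d i = i) →
      AN π z (em f (d8 a b c d * τ)) (em f (d8 a c b d)) := fun a b c d τ h e e' => by
    rw [map_mul]
    exact AN.mul_cm D (sg _ _ _ _ ⟨h.1, h.2.2.2.2.2⟩) (an a b c d h e) (cm _ _ e')
  have cm2 : ∀ a b c d : Fin 8, ∀ τ, a ≠ b ∧ c ≠ d → (∀ i, τ i = i ∨ d8 a b c d i = i) →
      CM π (em f (d8 a b c d * τ)) (em f (d8 a b c d)) := fun a b c d τ h e' => by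
    rw [map_mul]
    exact CM.mul_cm D (sg _ _ _ _ h) (cm_self D _) (cm _ _ e')
  have cm4 : ∀ a b c d a' b' c' d' : Fin 8, (a ≠ b ∧ a ≠ c ∧ a ≠ d ∧ b ≠ c ∧ b ≠ d ∧ c ≠ d) →
      (a' ≠ b' ∧ a' ≠ c' ∧ a' ≠ d' ∧ b' ≠ c' ∧ b' ≠ d' ∧ c' ≠ d') →
      d8 a b c d * d8 a c b d = d8 a d b c → d8 a' b' c' d' * d8 a' c' b' d' = d8 a' d' b' c' →
      (∀ i, d8 a' b' c' d' i = i ∨ d8 a c b d i = i) →
      (∀ i, d8 a b c d i = i ∨ d8 a' c' b' d' i = i) →
      d8 a b c d * d8 a' b' c' d' = d8 a' b' c' d' * d8 a b c d →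
      CM π (em f (d8 a c b d * d8 a' c' b' d')) (em f (d8 a b c d * d8 a' b' c' d')) :=
    fun a b c d a' b' c' d' h h' e e' q q' w => by
      rw [map_mul (em f) (d8 a c b d)]
      exact AN.mul_an D (sg _ _ _ _ ⟨h.2.1, h.2.2.2.2.1⟩) ((an2 a b c d _ h e q).symm D)
        (by rw [w]; exact (an2 a' b' c' d' _ h' e' q').symm D)
  have lf : ∀ σ : Perm (Fin 8), sign σ = 1 → ∃ g, π g = em f σ := fun σ h =>
    D.lift (by rwa [sign_em])
  obtain ⟨a, ha⟩ := lf (d8 0 1 2 3 * d8 4 5 6 7) (by decide +kernel)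
  obtain ⟨b, hb⟩ := lf (d8 0 2 1 3 * d8 4 6 5 7) (by decide +kernel)
  obtain ⟨c, hc⟩ := lf (d8 0 4 1 5 * d8 2 6 3 7) (by decide +kernel)
  obtain ⟨i, hi⟩ := lf (d8 0 1 2 3) (by decide +kernel)
  obtain ⟨j, hj⟩ := lf (d8 0 2 1 3) (by decide +kernel)
  obtain ⟨l, hl⟩ := lf (d8 0 1 4 5) (by decide +kernel)
  have ha' : π a = em f (d8 0 1 4 5 * d8 2 3 6 7) := ha.trans (congrArg (em f) (by decide +kernel))
  have hb' : π b = em f (d8 0 2 4 6 * d8 1 3 5 7) := hb.trans (congrArg (em f) (by decide +kernel))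
  have hc' : π c = em f (d8 0 4 2 6 * d8 1 5 3 7) := hc.trans (congrArg (em f) (by decide +kernel))
  have ab : b * a = a * b := cm4 0 1 2 3 4 5 6 7 (by decide +kernel) (by decide +kernel) (by decide +kernel) (by decide +kernel)
    (by decide +kernel) (by decide +kernel) (by decide +kernel) b a hb ha
  have ac : c * a = a * c := cm4 0 1 4 5 2 3 6 7 (by decide +kernel) (by decide +kernel) (by decide +kernel) (by decide +kernel)
    (by decide +kernel) (by decide +kernel) (by decide +kernel) c a hc ha'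
  have bc : c * b = b * c := cm4 0 2 4 6 1 3 5 7 (by decide +kernel) (by decide +kernel) (by decide +kernel) (by decide +kernel)
    (by decide +kernel) (by decide +kernel) (by decide +kernel) c b hc' hb'
  have hin : ∀ {g : H} {σ}, π g = em f σ → ∀ v ∈ W, ρ g v ∈ W := fun e =>
    hW _ (e ▸ suppIn_em f _)
  have sq1 : ∀ {g : H} (a b c d a' b' c' d' : Fin 8), π g = em f (d8 a b c d * d8 a' b' c' d') →
      (a ≠ b ∧ a ≠ c ∧ a ≠ d ∧ b ≠ c ∧ b ≠ d ∧ c ≠ d) →
      (a' ≠ b' ∧ a' ≠ c' ∧ a' ≠ d' ∧ b' ≠ c' ∧ b' ≠ d' ∧ c' ≠ d') →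
      (∀ i, d8 a' b' c' d' i = i ∨ d8 a b c d i = i) → g ^ 2 = 1 :=
    fun a b c d a' b' c' d' e h h' q => by
      rw [map_mul] at e
      obtain ⟨x, y, hx, hy, rfl⟩ := split D (dt _ _ _ _ h).sign e
      rw [sq, mul_assoc, ← mul_assoc y, cm _ _ q y x hy hx, ← mul_assoc, ← mul_assoc, mul_assoc _ y,
        sq_dt D (hx ▸ dt _ _ _ _ h), sq_dt D (hy ▸ dt _ _ _ _ h'), D.zz]
  have a2 := sq1 _ _ _ _ _ _ _ _ ha (by decide +kernel) (by decide +kernel) (by decide +kernel)
  have b2 := sq1 _ _ _ _ _ _ _ _ hb (by decide +kernel) (by decide +kernel) (by decide +kernel)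
  have c2 := sq1 _ _ _ _ _ _ _ _ hc (by decide +kernel) (by decide +kernel) (by decide +kernel)
  obtain ⟨s1, hs1⟩ := rho_sign D hz (g := i⁻¹ * c * i) (h := a * c) 
    ((conj_em hi hc).trans ((congrArg (em f) (by decide +kernel)).trans (mul_em ha hc).symm))
  obtain ⟨s2, hs2⟩ := rho_sign D hz (g := l⁻¹ * b * l) (h := a * b) 
    ((conj_em hl hb).trans ((congrArg (em f) (by decide +kernel)).trans (mul_em ha hb).symm))
  obtain ⟨s3, hs3⟩ := rho_sign D hz (g := j⁻¹ * c * j) (h := b * c) 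
    ((conj_em hj hc).trans ((congrArg (em f) (by decide +kernel)).trans (mul_em hb hc).symm))
  have ia := conj_cm D hz ((cm2 0 1 2 3 _ (by decide +kernel) (by decide +kernel)).symm i a hi ha)
  have ib := conj_an D hz (((an2 0 2 1 3 _ (by decide +kernel) (by decide +kernel) (by decide +kernel)).symm D) i b hi hb)
  have la := conj_cm D hz ((cm2 0 1 4 5 _ (by decide +kernel) (by decide +kernel)).symm l a hl ha')
  have lc := conj_an D hz (((an2 0 4 1 5 _ (by decide +kernel) (by decide +kernel) (by decide +kernel)).symm D) l c hl hc)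
  have jb := conj_cm D hz ((cm2 0 2 1 3 _ (by decide +kernel) (by decide +kernel)).symm j b hj hb)
  have ja := conj_an D hz (((an2 0 1 2 3 _ (by decide +kernel) (by decide +kernel) (by decide +kernel)).symm D) j a hj ha)
  let χ : ℤˣ × ℤˣ × ℤˣ → Fin 3 → k := fun t => ![(t.1 : ℤ), (t.2.1 : ℤ), (t.2.2 : ℤ)]
  have hE := all8 (fun x y w => Wt ρ W ![a, b, c] (χ (x, y, w))) s1 s2 s3
    (fun x y w h => h.move i (hin hi) fun v e s => by
      have e0 := e 0; have e1 := e 1; have e2 := e 2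
      fin_cases s <;> simp [χ] at e0 e1 e2 ⊢
      · rw [← rho_mul, ← rho_mul, ia, e0]
      · rw [← rho_mul, ← rho_mul, ib, e1]
      · rw [← rho_mul, ← rho_mul, hs1, rho_mul, e2, map_smul, e0]; module)
    (fun x y w h => h.move l (hin hl) fun v e s => by
      have e0 := e 0; have e1 := e 1; have e2 := e 2
      fin_cases s <;> simp [χ] at e0 e1 e2 ⊢
      · rw [← rho_mul, ← rho_mul, la, e0]
      · rw [← rho_mul, ← rho_mul, hs2, rho_mul, e1, map_smul, e0]; module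
      · rw [← rho_mul, ← rho_mul, lc, e2])
    (fun x y w h => h.move j (hin hj) fun v e s => by
      have e0 := e 0; have e1 := e 1; have e2 := e 2
      fin_cases s <;> simp [χ] at e0 e1 e2 ⊢
      · rw [← rho_mul, ← rho_mul, ja, e0]
      · rw [← rho_mul, ← rho_mul, jb, e1]
      · rw [← rho_mul, ← rho_mul, hs3, rho_mul, e2, map_smul, e1]; module)
    (by
      obtain ⟨ψ, h⟩ := exists_wt0 (ρ := ρ) (W := W) (a := ![a, b, c])
        (fun s t => by fin_cases s <;> fin_cases t <;> simp [commute_iff_eq, ab, ac, bc])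
        (fun s => ⟨2, by simpa using h2, by fin_cases s <;> simpa⟩)
        (fun s => by fin_cases s; exacts [hin ha, hin hb, hin hc]) h0
      have : ∀ s, ∃ x : ℤˣ, ψ s = (x : ℤ) := fun s => by
        rcases sq_eq_one_iff.1 (h.pow (s := s) (n := 2) (by fin_cases s <;> simpa)) with
          e | e
        · exact ⟨1, by simpa using e⟩
        · exact ⟨-1, by simpa using e⟩
      choose x hx using this
      refine ⟨x 0, x 1, x 2, ?_⟩
      convert h
      ext s
      fin_cases s <;> simp [χ, hx])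
  have inj : ∀ x y : ℤˣ, ((x : ℤ) : k) = (y : ℤ) → x = y := fun x y e => by
    have h3 : (1 : k) ≠ -1 := fun e => h2 (by rw [← one_add_one_eq_two]; nth_rewrite 1 [e]; simp)
    rcases Int.units_eq_one_or x with rfl | rfl <;> rcases Int.units_eq_one_or y with rfl | rfl
    · rfl
    · exact absurd (by simpa using e) h3
    · exact absurd (by simpa using e.symm) h3
    · rfl
  exact card_le_of_wt χ (fun t t' e => Prod.ext (inj _ _ (congrFun e 0))
    (Prod.ext (inj _ _ (congrFun e 1)) (inj _ _ (congrFun e 2)))) fun t => hE _ _ _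

theorem s16a (h5 : (5 : k) ≠ 0) (f : Fin 10 ↪ Ω) [Nontrivial V] : 16 ≤ finrank k V := by
  obtain ⟨x, hx, x5⟩ := lift_odd D (σ := em f (List.formPerm [0, 1, 2, 3, 4])) (n := 5)
    (by decide) (by rw [← map_pow, ← map_one (em f)]; exact congrArg _ (by decide +kernel))
  obtain ⟨y, hy, y5⟩ := lift_odd D (σ := em f (List.formPerm [5, 6, 7, 8, 9])) (n := 5)
    (by decide) (by rw [← map_pow, ← map_one (em f)]; exact congrArg _ (by decide +kernel))
  have lf : ∀ σ : Perm (Fin 10), sign σ = 1 → ∃ g, π g = em f σ := fun σ h =>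
    D.lift (by rwa [sign_em])
  have cj : ∀ {g a b : H} {σ τ υ : Perm (Fin 10)} (j : ℕ), π g = em f σ → π a = em f τ →
      π b = em f υ → a ^ 5 = 1 → b ^ 5 = 1 → σ⁻¹ * τ * σ = υ ^ j → g⁻¹ * a * g = b ^ j :=
    fun j e1 e2 e3 e4 e5 e6 => conj_odd D (by decide) e4 e5 (by
      rw [e1, e2, e3, ← map_inv, ← map_mul, ← map_mul, e6, map_pow])
  obtain ⟨u, hu⟩ := lf (swap 1 4 * swap 2 3) (by decide +kernel)
  obtain ⟨u', hu'⟩ := lf (List.formPerm [1, 3, 4, 2] * List.formPerm [6, 8, 9, 7])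
    (by decide +kernel)
  obtain ⟨w, hw⟩ := lf (List.formPerm [0, 5] * List.formPerm [1, 8, 3, 9, 4, 7, 2, 6])
    (by decide +kernel)
  have ux := cj 4 hu hx hx x5 x5 (by decide +kernel)
  have uy := cj 1 hu hy hy y5 y5 (by decide +kernel)
  have ux' := cj 2 hu' hx hx x5 x5 (by decide +kernel)
  have uy' := cj 2 hu' hy hy y5 y5 (by decide +kernel)
  have wx := cj 1 hw hx hy x5 y5 (by decide +kernel)
  have wy := cj 2 hw hy hx y5 x5 (by decide +kernel)
  let T : Finset Ω := ({0, 1, 2, 3, 4} : Finset (Fin 10)).map f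
  let T' : Finset Ω := ({5, 6, 7, 8, 9} : Finset (Fin 10)).map f
  have hT : SuppIn (π x) T := hx ▸ suppIn_em' f (by decide +kernel)
  have hT' : SuppIn (π y) T' := hy ▸ suppIn_em' f (by decide +kernel)
  have hd : Disjoint (T' : Set Ω) T := by
    rw [Finset.disjoint_coe, Finset.disjoint_map]; decide
  have ne : ∀ {g : H} {σ : Perm (Fin 10)}, π g = em f σ → σ ≠ 1 → π g ≠ 1 := fun e h e' =>
    h (em_inj f (by rw [← e, e', map_one]))
  obtain ⟨β, b1, b5, v, v0, hv⟩ := exists_eig (ρ := ρ) (n := 5) (by simpa using h5) y5 fun e =>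
    ne hy (by decide +kernel) (spin_fai D h2 hz (T := T') (by simp [T']) (inv_top _) top_ne_bot y hT'
      fun v _ => e v)
  have hW : Inv π ρ T (End.eigenspace (ρ y) β) := fun g hg v hv =>
    eig_inv (D.commute_of_disjoint (disjoint_of_suppIn hT' hg hd)) hv
  obtain ⟨χ, a1, hχ⟩ := exists_wt (ρ := ρ) (W := End.eigenspace (ρ y) β) (a := fun _ : Unit => x)
    (fun _ _ => Commute.refl x) (fun _ => ⟨5, by simpa using h5, x5⟩) (fun _ => hW x hT) ()
    fun e => ne hx (by decide +kernel) (spin_fai D h2 hz (T := T) (by simp [T]) hW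
      ((Submodule.ne_bot_iff _).2 ⟨v, mem_eig.2 hv, v0⟩) x hT e)
  have a5 : χ () ^ 5 = 1 := hχ.pow x5
  obtain ⟨v', hv', v0', hv''⟩ := hχ
  set α := χ ()
  have hα : IsPrimitiveRoot α 5 := by
    have : Fact (Nat.Prime 5) := ⟨by norm_num⟩
    rw [← orderOf_eq_prime a5 a1]
    exact IsPrimitiveRoot.orderOf α
  obtain ⟨b, hb, rfl⟩ := hα.eq_pow_of_pow_eq_one b5
  have pw : ∀ (i : ZMod 5) (n : ℕ), α ^ (i * n).val = (α ^ i.val) ^ n := fun i n => by
    rw [← pow_mul, ZMod.val_mul, ZMod.val_natCast, Nat.mul_mod_mod, ← pow_eq_pow_mod _ a5]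
  let χ' : ZMod 5 → ZMod 5 → Fin 2 → k := fun i j => ![α ^ i.val, α ^ j.val]
  have hE := all16 (fun i j => Wt ρ ⊤ ![x, y] (χ' i j))
    (fun i j h => h.move u (fun _ _ => trivial) fun v e s => by
      have e0 : ρ x v = α ^ i.val • v := e 0
      have e1 : ρ y v = α ^ j.val • v := e 1
      fin_cases s
      · exact (ux ▸ rho_pow e0 4).trans (congrArg (· • v) (pw i 4).symm)
      · exact (uy ▸ rho_pow e1 1).trans (congrArg (· • v) (pow_one _)))
    (fun i j h => h.move u' (fun _ _ => trivial) fun v e s => by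
      have e0 : ρ x v = α ^ i.val • v := e 0
      have e1 : ρ y v = α ^ j.val • v := e 1
      fin_cases s
      · exact (ux' ▸ rho_pow e0 2).trans (congrArg (· • v) (pw i 2).symm)
      · exact (uy' ▸ rho_pow e1 2).trans (congrArg (· • v) (pw j 2).symm))
    (fun i j h => h.move w (fun _ _ => trivial) fun v e s => by
      have e0 : ρ x v = α ^ i.val • v := e 0
      have e1 : ρ y v = α ^ j.val • v := e 1
      fin_cases s
      · exact (wx ▸ rho_pow e1 1).trans (congrArg (· • v) (pow_one _))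
      · exact (wy ▸ rho_pow e0 2).trans (congrArg (· • v) (pw i 2).symm))
    (b := (b : ZMod 5)) (fun e => b1 (by
      rw [ZMod.natCast_eq_zero_iff] at e
      rw [Nat.eq_zero_of_dvd_of_lt e hb, pow_zero]))
    ⟨v', trivial, v0', fun s => by
      fin_cases s
      · exact (hv'' ()).trans (congrArg (· • v') (pow_one α).symm)
      · exact (mem_eig.1 hv').trans (by simp [χ', ZMod.val_natCast, Nat.mod_eq_of_lt hb])⟩
  have inj : ∀ i j : ZMod 5, α ^ i.val = α ^ j.val → i = j := fun i j e =>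
    ZMod.val_injective 5 (hα.pow_inj i.val_lt j.val_lt e)
  have := card_le_of_wt (ι := {i : ZMod 5 // i ≠ 0} × {i : ZMod 5 // i ≠ 0})
    (fun t => χ' t.1 t.2) (fun t t' e => Prod.ext (Subtype.ext (inj _ _ (congrFun e 0)))
      (Subtype.ext (inj _ _ (congrFun e 1)))) fun t => hE _ _ t.1.2 t.2.2
  rwa [finrank_top] at this

theorem s16b (h3 : (3 : k) ≠ 0) (f : Fin 11 ↪ Ω) [Nontrivial V] : 16 ≤ finrank k V := by
  obtain ⟨x, hx, x3⟩ := lift_odd D (σ := em f (List.formPerm [8, 9, 10])) (n := 3)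
    (by decide) (by rw [← map_pow, ← map_one (em f)]; exact congrArg _ (by decide +kernel))
  obtain ⟨u, hu⟩ := D.lift (σ := em f (swap 0 1 * swap 8 9)) (by rw [sign_em]; decide +kernel)
  have ux : u⁻¹ * x * u = x ^ 2 := conj_odd D (by decide) x3 x3 (by
    rw [hx, hu, ← map_inv, ← map_mul, ← map_mul, ← map_pow]; exact congrArg _ (by decide +kernel))
  obtain ⟨c, c1, c3, v, v0, hv⟩ := exists_eig (ρ := ρ) (n := 3) (by simpa using h3) x3 fun e => by
    have := spin_fai D h2 hz (T := Finset.univ.map f) (by simp) (inv_top _) top_ne_bot x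
      (hx ▸ suppIn_em' f (by simp)) fun v _ => e v
    rw [hx, ← map_one (em f)] at this
    exact absurd (em_inj f this) (by decide +kernel)
  let f' : Fin 8 ↪ Ω := (Fin.castLEEmb (by norm_num)).trans f
  have hW : ∀ d, Inv π ρ (Set.range f') (End.eigenspace (ρ x) d) := fun d g hg v hv =>
    eig_inv (D.commute_of_disjoint (disjoint_of_suppIn
      (hx ▸ suppIn_em' f (s := {8, 9, 10}) (by decide +kernel)) hg (by
        rw [Set.disjoint_right]
        rintro _ ⟨i, rfl⟩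
        simp only [f', Function.Embedding.trans_apply, Finset.mem_coe, Finset.mem_map']
        revert i
        decide))) hv
  have h8 := s8 D h2 hz f' (hW c) ((Submodule.ne_bot_iff _).2 ⟨v, mem_eig.2 hv, v0⟩)
  have h8' := finrank_le_of_map (ρ := ρ) u (W := End.eigenspace (ρ x) c)
    (W' := End.eigenspace (ρ x) (c ^ 2)) fun v hv => by
      rw [mem_eig] at hv ⊢
      rw [← map_smul, ← rho_pow hv, ← ux, ← rho_mul, ← rho_mul]
      congr 2
      group
  have := two_eig (ρ := ρ) x (c := c) (d := c ^ 2) fun e => c1 (by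
    have c0 : c ≠ 0 := by rintro rfl; simp at c3
    exact (mul_left_cancel₀ c0 (by rw [← sq, ← e, mul_one])))
  omega

theorem sdouble (p : ℕ) [Fact p.Prime] [CharP k p] (h9 : 9 ≤ Fintype.card Ω)
    (hs : Sec (Fintype.card Ω - 4)) [Nontrivial V] :
    2 * bd p (Fintype.card Ω - 4) ≤ finrank k V := by
  have := D.finite
  obtain ⟨f, -⟩ := exists_emb (Finset.univ : Finset Ω) (m := 4) (by simpa using by omega)
  have d1 : DT (em f (swap 0 1 * swap 2 3)) := DT.em ⟨0, 1, 2, 3, by decide, rfl⟩ f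
  have d2 : DT (em f (swap 0 2 * swap 1 3)) := DT.em ⟨0, 2, 1, 3, by decide, rfl⟩ f
  obtain ⟨i, hi⟩ := D.lift d1.sign
  obtain ⟨j, hj⟩ := D.lift d2.sign
  have an := conj_an D hz (an_of_dt D d2 d1 (by
    rw [← map_mul]; exact DT.em ⟨0, 3, 1, 2, by decide, by decide⟩ f) j i hj hi)
  obtain ⟨c, hc⟩ := End.exists_eigenvalue (ρ i)
  obtain ⟨v, hv, v0⟩ := hc.exists_hasEigenvector
  have c0 : c ≠ 0 := by
    rintro rfl
    exact rho_ne (ρ := ρ) i v0 (by simpa using mem_eig.1 hv)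
  have hT : (Finset.univ.map f)ᶜ.card = Fintype.card Ω - 4 := by simp [Finset.card_compl]
  have hW : Inv π ρ ((Finset.univ.map f)ᶜ : Finset Ω) (End.eigenspace (ρ i) c) := fun g hg v hv =>
    eig_inv (D.commute_of_disjoint (disjoint_of_suppIn
      (hi ▸ suppIn_em' f (s := Finset.univ) (by simp)) hg (by
        rw [Finset.coe_compl]; exact disjoint_compl_right))) hv
  have h1 := sec_sub D.range (hT ▸ hs) p hW (spin_fai D h2 hz (by omega) hW
    ((Submodule.ne_bot_iff _).2 ⟨v, hv, v0⟩))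
  have h3 := finrank_le_of_map (ρ := ρ) j (W := End.eigenspace (ρ i) c)
    (W' := End.eigenspace (ρ i) (-c)) fun v hv => by
      rw [mem_eig] at hv ⊢
      rw [← map_smul, neg_smul, ← hv, ← an, ← rho_mul, ← rho_mul]
      congr 2
      group
  have := two_eig (ρ := ρ) i (c := c) (d := -c) fun e => c0 (by
    have : (2 : k) * c = 0 := by rw [two_mul]; nth_rewrite 1 [e]; simp
    exact (mul_eq_zero.1 this).resolve_left h2)
  rw [hT] at h1
  omega

end Rep

theorem ne_zero_of_ne {k : Type} [Field k] (p : ℕ) [Fact p.Prime] [CharP k p] {q : ℕ}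
    (hq : q.Prime) (h : p ≠ q) : (q : k) ≠ 0 := fun e =>
  h ((Nat.prime_dvd_prime_iff_eq Fact.out hq).1 ((CharP.cast_eq_zero_iff k p q).1 e))

theorem spin {r : ℕ} (h9 : 9 ≤ r) (ih : ∀ r' < r, 9 ≤ r' → Sec r') : Spin r := by
  intro H _ z π D p _ k _ _ _ h2 V _ _ _ _ ρ hz
  have h8 := s8 D h2 hz (Fin.castLEEmb (by omega)) (inv_top _) top_ne_bot
  rw [finrank_top] at h8
  have hb := bd_le p r
  by_cases h13 : 13 ≤ r
  · have := sdouble D h2 hz p (by simpa using h9) (by simpa using ih _ (by omega) (by omega))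
    have h1 := bd_ge p (r - 4)
    rw [Fintype.card_fin] at this
    omega
  rcases h9.eq_or_lt with rfl | h10
  · omega
  by_cases h5 : p = 5
  · subst h5
    rcases (show 10 ≤ r from h10).eq_or_lt with rfl | h11
    · exact h8
    · have := s16b D h2 hz (ne_zero_of_ne 5 Nat.prime_three (by norm_num))
        (Fin.castLEEmb (show 11 ≤ r from h11))
      omega
  · have := s16a D h2 hz (ne_zero_of_ne p Nat.prime_five h5) (Fin.castLEEmb (show 10 ≤ r from h10))
    omega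

end H40.AS
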