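/- ALTSEC: linear representations of the alternating groups in odd characteristic. -/
import Cfsg.Agent.H40.ASStd
import Cfsg.Agent.H40.ASSpin

set_option autoImplicit false
set_option linter.unusedSectionVars false

namespace H40.AS

open Equiv Equiv.Perm Module H57

/-- An even permutation as an element of the alternating group. -/
def el {m : ℕ} (σ : Perm (Fin m)) (h : sign σ = 1 := by decide +kernel) :
    alternatingGroup (Fin m) := ⟨σ, h⟩

def t4 : alternatingGroup (Fin 4) := el (swap 0 1 * swap 2 3)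
def s4 : alternatingGroup (Fin 4) := el (swap 0 2 * swap 1 3)
def x4 : alternatingGroup (Fin 4) := el (List.formPerm [1, 2, 3])

variable {Ω : Type} [Fintype Ω] [DecidableEq Ω] {k : Type} [Field k] {V : Type} [AddCommGroup V]
  [Module k V] {ρ : Representation k (alternatingGroup Ω) V}

local notation "ι" => Subgroup.subtype (alternatingGroup _)

variable (ρ) in
/-- The weight spaces of a four-group. -/
noncomputable def Wk (f : Fin 4 ↪ Ω) (α β : k) : Submodule k V :=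
  H22.wt ![ρ (ia f t4), ρ (ia f s4)] ![α, β]

theorem mem_Wk {f : Fin 4 ↪ Ω} {α β : k} {v : V} :
    v ∈ Wk ρ f α β ↔ ρ (ia f t4) v = α • v ∧ ρ (ia f s4) v = β • v := by
  simp [Wk, H22.mem_wt, Fin.forall_fin_succ]

theorem Wk_move {f : Fin 4 ↪ Ω} {α β : k} {v : V} (h : v ∈ Wk ρ f α β) :
    ρ (ia f x4) v ∈ Wk ρ f (α * β) α := by
  rw [mem_Wk] at h ⊢
  rw [← rho_mul, ← rho_mul, ← map_mul, ← map_mul,
    show t4 * x4 = x4 * (t4 * s4) by decide +kernel, show s4 * x4 = x4 * t4 by decide +kernel]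
  simp only [map_mul, End.mul_apply, h.1, h.2, map_smul, smul_smul, mul_comm, and_self]

theorem Wk_inv (f : Fin 4 ↪ Ω) (α β : k) :
    Inv ι ρ ((Finset.univ.map f)ᶜ : Finset Ω) (Wk ρ f α β) := fun h hh v hv => by
  have e : ∀ g, Commute (ia f g) h := fun g => comm_of_suppIn (suppIn_em f _) hh (disj_compl f)
  rw [mem_Wk] at hv ⊢
  exact ⟨mem_eig.1 (eig_inv (e _) (mem_eig.2 hv.1)), mem_eig.1 (eig_inv (e _) (mem_eig.2 hv.2))⟩

theorem neg_one_ne (h2 : (2 : k) ≠ 0) : (-1 : k) ≠ 1 := fun e =>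
  h2 (by rw [← one_add_one_eq_two]; nth_rewrite 1 [← e]; simp)

variable [FiniteDimensional k V] (h2 : (2 : k) ≠ 0)
include h2

theorem three_le (f : Fin 4 ↪ Ω) {W : Submodule k V} (hW : Inv ι ρ (Set.range f) W) :
    3 * finrank k (W ⊓ Wk ρ f (-1) 1 :) ≤ finrank k W := by
  classical
  have mv : ∀ α β : k, finrank k (W ⊓ Wk ρ f α β :) ≤ finrank k (W ⊓ Wk ρ f (α * β) α :) :=
    fun α β => finrank_le_of_map (ia f x4) fun v hv =>
      ⟨hW _ (suppIn_em f _) v hv.1, Wk_move hv.2⟩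
  have m1 := mv (-1) 1
  have m2 := mv (-1) (-1)
  rw [mul_one] at m1
  rw [neg_mul_neg, mul_one] at m2
  have := sum_finrank_le' ((H22.iSupIndep_wt ![ρ (ia f t4), ρ (ia f s4)]).mono
    (t := fun χ => W ⊓ H22.wt _ χ) fun _ => inf_le_right) {![-1, 1], ![-1, -1], ![1, -1]}
    (W := W) fun _ _ => inf_le_left
  have n := neg_one_ne h2
  rw [Finset.sum_insert (by simp [n, n.symm]), Finset.sum_pair (by simp [n])] at this
  unfold Wk at m1 m2 ⊢
  omega

variable [IsAlgClosed k]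

theorem exists_Wk (f : Fin 4 ↪ Ω) {W : Submodule k V} (hW : Inv ι ρ (Set.range f) W)
    (h : ¬ ∀ v ∈ W, ρ (ia f t4) v = v) : ∃ v ∈ W ⊓ Wk ρ f (-1) 1, v ≠ 0 := by
  have h4 : ∀ s : Fin 2, ![ia f t4, ia f s4] s ^ 2 = 1 := fun s => by
    fin_cases s
    · exact (map_pow _ _ _).symm.trans ((congrArg (ia f) (by decide +kernel)).trans (map_one _))
    · exact (map_pow _ _ _).symm.trans ((congrArg (ia f) (by decide +kernel)).trans (map_one _))
  have c : Commute (ia f t4) (ia f s4) :=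
    Commute.map (show t4 * s4 = s4 * t4 by decide +kernel) _
  obtain ⟨χ, h1, hχ⟩ := exists_wt (ρ := ρ) (W := W) (a := ![ia f t4, ia f s4])
    (fun s t => by fin_cases s <;> fin_cases t <;> simp [c, c.symm])
    (fun s => ⟨2, by simpa using h2, h4 s⟩)
    (fun s => by fin_cases s <;> exact hW _ (suppIn_em f _)) 0 h
  have e0 := (sq_eq_one_iff.1 (hχ.pow (h4 0))).resolve_left h1
  have e1 := sq_eq_one_iff.1 (hχ.pow (h4 1))
  obtain ⟨v, hv, v0, h3⟩ := hχ
  have h5 : v ∈ Wk ρ f (χ 0) (χ 1) := mem_Wk.2 ⟨h3 0, h3 1⟩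
  rcases e1 with e1 | e1 <;> rw [e0, e1] at h5
  · exact ⟨v, ⟨hv, h5⟩, v0⟩
  · refine ⟨_, ⟨hW _ (suppIn_em f _) _ (hW _ (suppIn_em f _) _ hv), ?_⟩,
      rho_ne (ia f x4) (rho_ne (ia f x4) v0)⟩
    simpa using Wk_move (Wk_move h5)

theorem three_le' (f : Fin 4 ↪ Ω) {W : Submodule k V} (hW : Inv ι ρ (Set.range f) W) {v : V}
    (hv : v ∈ W ⊓ Wk ρ f (-1) 1) (v0 : v ≠ 0) : 3 ≤ finrank k W := by
  have h1 := three_le h2 f hW
  have := Submodule.one_le_finrank_iff.2 ((Submodule.ne_bot_iff _).2 ⟨v, hv, v0⟩)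
  omega

theorem fai_three {T : Finset Ω} (h4 : 4 ≤ T.card) {W : Submodule k V} (hW : Inv ι ρ T W)
    (hF : Fai ι ρ T W) : 3 ≤ finrank k W := by
  obtain ⟨f, hf⟩ := exists_emb T h4
  obtain ⟨v, hv, v0⟩ := exists_Wk h2 f (hW.mono hf) fun e =>
    ia_ne f (by decide +kernel) (hF _ ((suppIn_em f _).mono hf) e)
  exact three_le' h2 f (hW.mono hf) hv v0

theorem fai_four {T : Finset Ω} (h7 : 7 ≤ T.card) {W : Submodule k V} (hW : Inv ι ρ T W)
    (hF : Fai ι ρ T W) : 4 ≤ finrank k W := by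
  by_contra h3
  obtain ⟨f', hf'⟩ := exists_emb T h7
  let f : Fin 4 ↪ Ω := (Fin.castLEEmb (by norm_num)).trans f'
  have hf : Set.range f ⊆ T := by rintro _ ⟨i, rfl⟩; exact hf' ⟨_, rfl⟩
  obtain ⟨v, hv, v0⟩ := exists_Wk h2 f (hW.mono hf) fun e =>
    ia_ne f (by decide +kernel) (hF _ ((suppIn_em f _).mono hf) e)
  let y := ia f' (el (List.formPerm [4, 5, 6]))
  let g := ia f' (el (List.formPerm [3, 4, 5]))
  have hy : SuppIn y.1 (({4, 5, 6} : Finset (Fin 7)).map f') := suppIn_em' f' (by decide +kernel)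
  have hd : Disjoint (((({4, 5, 6} : Finset (Fin 7)).map f') : Finset Ω) : Set Ω) (Set.range f) := by
    rw [Set.disjoint_right]
    rintro _ ⟨i, rfl⟩
    simp only [f, Function.Embedding.trans_apply, Finset.mem_coe, Finset.mem_map']
    revert i
    decide
  have hyT : ∀ g, SuppIn (ia f' g).1 T := fun g => (suppIn_em f' _).mono hf'
  have h1 := three_le h2 f (hW.mono hf)
  obtain ⟨u, hu⟩ := finrank_le_one_iff.1 (show finrank k (W ⊓ Wk ρ f (-1) 1 :) ≤ 1 by omega)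
  obtain ⟨c, hc⟩ : ∃ c : k, ρ y v = c • v := by
    obtain ⟨c1, e1⟩ := hu ⟨v, hv⟩
    obtain ⟨c2, e2⟩ := hu ⟨ρ y v, hW y (hyT _) v hv.1, Wk_inv f _ _ y (hy.mono (by
      rw [Finset.coe_compl, Finset.coe_map (f := f), Finset.coe_univ, Set.image_univ]
      exact hd.subset_compl_right)) v hv.2⟩
    replace e1 : c1 • u.1 = v := congrArg Subtype.val e1
    replace e2 : c2 • u.1 = ρ y v := congrArg Subtype.val e2
    have : c1 ≠ 0 := by rintro rfl; exact v0 (by simpa using e1.symm)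
    exact ⟨c2 / c1, by rw [← e2, ← e1, smul_smul, div_mul_cancel₀ _ this]⟩
  have h4 := three_le' h2 f (W := W ⊓ End.eigenspace (ρ y) c)
    (fun h hh v hv => ⟨hW h (hh.mono hf) v hv.1, eig_inv (comm_of_suppIn hy hh hd) hv.2⟩)
    ⟨⟨hv.1, mem_eig.2 hc⟩, hv.2⟩ v0
  have h5 := Submodule.eq_of_le_of_finrank_le (inf_le_left : W ⊓ End.eigenspace (ρ y) c ≤ W)
    (by omega)
  have h6 : ∀ v ∈ W, ρ y v = c • v := fun v hv => mem_eig.1 (h5.ge hv).2
  refine ia_ne f' (g := (el (List.formPerm [3, 4, 5]) * el (List.formPerm [4, 5, 6]))⁻¹ *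
    (el (List.formPerm [4, 5, 6]) * el (List.formPerm [3, 4, 5]))) (by decide +kernel)
    (hF _ (hyT _) fun v hv => ?_)
  rw [map_mul (ia f'), map_inv, map_mul (ia f'), map_mul (ia f'), rho_mul, rho_mul,
    h6 _ (hW g (hyT _) v hv), ← map_smul, ← h6 v hv, ← rho_mul (ρ := ρ) g y, rho_inv]

omit [FiniteDimensional k V] [IsAlgClosed k] in
theorem odd_B2
    (B : ∀ f : Fin 4 ↪ Ω, ∀ h : alternatingGroup Ω, SuppIn h.1 ((Finset.univ.map f)ᶜ : Finset Ω) →
      ∀ v ∈ Wk ρ f (-1) 1, ρ h v = v)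
    {a b c d : Ω} (hd : a ≠ b ∧ a ≠ c ∧ a ≠ d ∧ b ≠ c ∧ b ≠ d ∧ c ≠ d)
    {g h : alternatingGroup Ω} {v : V} (e : g.1 = swap a b * swap c d) (hv : ρ g v = -v)
    (hh : h.1 a = a ∧ h.1 b = b ∧ h.1 c = c ∧ h.1 d = d) : ρ h v = v := by
  let f := emb4 hd
  obtain rfl : g = ia f t4 := Subtype.ext (e.trans (by
    rw [coe_ia, t4, el, map_mul, em_swap, em_swap]; rfl))
  have h1 : SuppIn h.1 ((Finset.univ.map f)ᶜ : Finset Ω) := fun y hy => by
    obtain ⟨i, rfl⟩ : ∃ i, f i = y := by simpa using hy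
    fin_cases i
    exacts [hh.1, hh.2.1, hh.2.2.1, hh.2.2.2]
  have c : ∀ v, ρ (ia f t4) (ρ (ia f s4) v) = ρ (ia f s4) (ρ (ia f t4) v) := fun v => by
    rw [← rho_mul, ← rho_mul, ← map_mul, ← map_mul, show t4 * s4 = s4 * t4 by decide +kernel]
  have ss : ρ (ia f s4) (ρ (ia f s4) v) = v := by
    rw [← rho_mul, ← map_mul, show s4 * s4 = 1 by decide +kernel]; simp
  have e1 := B f h h1 (v + ρ (ia f s4) v) (mem_Wk.2 ⟨by simp [c, hv],
    by simp [ss, add_comm]⟩)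
  have e2 := B f h h1 (ρ (ia f x4) (ρ (ia f x4) (v - ρ (ia f s4) v))) (by
    have : v - ρ (ia f s4) v ∈ Wk ρ f (-1) (-1) := mem_Wk.2 ⟨by simp [c, hv]; abel, by simp [ss]⟩
    simpa using Wk_move (Wk_move this))
  have cx := (comm_of_suppIn (g := ia f x4) (suppIn_em f _) h1 (disj_compl f)).eq
  rw [← rho_mul, ← cx, rho_mul, ← rho_mul h, ← cx, rho_mul] at e2
  replace e2 := rho_inj _ (rho_inj _ e2)
  rw [map_add] at e1
  rw [map_sub] at e2
  refine smul_right_injective V h2 ?_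
  simp only [two_smul]
  linear_combination (norm := abel) e1 + e2

omit [FiniteDimensional k V] [IsAlgClosed k] in
theorem odd_R (h8 : 8 ≤ Fintype.card Ω)
    (B : ∀ f : Fin 4 ↪ Ω, ∀ h : alternatingGroup Ω, SuppIn h.1 ((Finset.univ.map f)ᶜ : Finset Ω) →
      ∀ v ∈ Wk ρ f (-1) 1, ρ h v = v) {wv : Ω → Ω → V}
    (eqv : ∀ g i j, i ≠ j → ρ g (wv i j) = wv (g.1 i) (g.1 j)) (i j m m' : Ω)
    (hd : i ≠ j ∧ i ≠ m ∧ i ≠ m' ∧ j ≠ m ∧ j ≠ m' ∧ m ≠ m') :
    wv i m - wv j m = wv i m' - wv j m' := by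
  obtain ⟨c, hc⟩ := exists_new [i, j, m, m'] (by simp; omega)
  obtain ⟨d, hd'⟩ := exists_new [i, j, m, m', c] (by simp; omega)
  obtain ⟨e, he⟩ := exists_new [i, j, m, m', c, d] (by simp; omega)
  simp only [List.mem_cons, List.not_mem_nil, or_false, not_or] at hc hd' he
  have q : i ≠ j ∧ i ≠ c ∧ i ≠ d ∧ j ≠ c ∧ j ≠ d ∧ c ≠ d := by grind
  have q' : m ≠ m' ∧ m ≠ e := by grind
  have f1 : ∀ y, y ≠ m → y ≠ m' → y ≠ e → (cy q').1 y = y := fun y => cyc_of_ne
  have := odd_B2 h2 B q (g := ⟨_, DT.sign ⟨i, j, c, d, q, rfl⟩⟩) (h := cy q') (v := wv i m - wv j m) rfl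
    (by
      rw [map_sub, eqv _ _ _ hd.2.1, eqv _ _ _ hd.2.2.2.1, neg_sub]
      congr 2 <;> simp only [mul_apply, swap_apply_def] <;> grind)
    ⟨f1 _ (by grind) (by grind) (by grind), f1 _ (by grind) (by grind) (by grind),
      f1 _ (by grind) (by grind) (by grind), f1 _ (by grind) (by grind) (by grind)⟩
  rw [map_sub, eqv _ _ _ hd.2.1, eqv _ _ _ hd.2.2.2.1, f1 i (by grind) (by grind) (by grind),
    f1 j (by grind) (by grind) (by grind), show (cy q').1 m = m' from cyc_self (by grind) q']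
    at this
  exact this.symm

theorem odd_std (p : ℕ) [Fact p.Prime] [CharP k p] (h8 : 8 ≤ Fintype.card Ω)
    (hρ : ∀ g, ρ g = 1 → g = 1)
    (B : ∀ f : Fin 4 ↪ Ω, ∀ h : alternatingGroup Ω, SuppIn h.1 ((Finset.univ.map f)ᶜ : Finset Ω) →
      ∀ v ∈ Wk ρ f (-1) 1, ρ h v = v) : bd p (Fintype.card Ω) ≤ finrank k V := by
  obtain ⟨f, -⟩ := exists_emb (Finset.univ : Finset Ω) (m := 8) (by simpa using h8)
  let t1 := ia f (el (swap 0 1 * swap 2 3))
  let t2 := ia f (el (swap 0 1 * swap 4 5))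
  let u := ia f (el (swap 0 2 * swap 1 3))
  have h4 : ∀ s : Fin 2, ![t1, t2] s ^ 2 = 1 := fun s => by
    fin_cases s
    · exact (map_pow _ _ _).symm.trans ((congrArg (ia f) (by decide +kernel)).trans (map_one _))
    · exact (map_pow _ _ _).symm.trans ((congrArg (ia f) (by decide +kernel)).trans (map_one _))
  have c : Commute t1 t2 := Commute.map (by unfold Commute SemiconjBy; decide +kernel) _
  obtain ⟨w, w0, w1, w2⟩ : ∃ w, w ≠ 0 ∧ ρ t1 w = -w ∧ ρ t2 w = -w := by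
    obtain ⟨χ, h1, hχ⟩ := exists_wt (ρ := ρ) (W := ⊤) (a := ![t1, t2])
      (fun s t => by fin_cases s <;> fin_cases t <;> simp [c, c.symm])
      (fun s => ⟨2, by simpa using h2, h4 s⟩) (fun _ _ _ => trivial) 0 fun e =>
        ia_ne f (by decide +kernel) (congrArg Subtype.val
          (hρ t1 (LinearMap.ext fun v => e v trivial)))
    have e0 := (sq_eq_one_iff.1 (hχ.pow (h4 0))).resolve_left h1
    have e1 := sq_eq_one_iff.1 (hχ.pow (h4 1))
    obtain ⟨v, -, v0, h3⟩ := hχ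
    have h5 : ρ t1 v = χ 0 • v := h3 0
    have h6 : ρ t2 v = χ 1 • v := h3 1
    rcases e1 with e1 | e1 <;> rw [e0] at h5 <;> rw [e1] at h6
    · have a1 : t1 * u = u * t1 := by
        rw [← map_mul, ← map_mul]; exact congrArg _ (by decide +kernel)
      have a2 : t2 * u = u * (t1 * t2) := by
        rw [← map_mul, ← map_mul, ← map_mul]; exact congrArg _ (by decide +kernel)
      refine ⟨ρ u v, rho_ne u v0, ?_, ?_⟩
      · rw [← rho_mul, a1, rho_mul, h5]; simp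
      · rw [← rho_mul, a2, rho_mul, rho_mul, h6, one_smul, h5]; simp
    · exact ⟨v, v0, by simpa using h5, by simpa using h6⟩
  have e1 : t1.1 = swap (f 0) (f 1) * swap (f 2) (f 3) := by
    rw [coe_ia, el, map_mul, em_swap, em_swap]
  have e2 : t2.1 = swap (f 0) (f 1) * swap (f 4) (f 5) := by
    rw [coe_ia, el, map_mul, em_swap, em_swap]
  obtain ⟨wv, hw, eqv⟩ := exists_wv (ρ := ρ) (by omega) (a := f 0) (b := f 1) (w := w) (by simp)
    (fix_of_cyc (α := f 6) (β := f 7) (by simp) fun i hi h0 h1 => by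
      by_cases h : i = f 2 ∨ i = f 3
      · refine odd_B2 h2 B (by simp) e2 w2 ⟨?_, ?_, ?_, ?_⟩ <;> refine cyc_of_ne ?_ (by simp) (by simp) <;>
          rcases h with rfl | rfl <;> simp
      · refine odd_B2 h2 B (by simp) e1 w1 ⟨?_, ?_, ?_, ?_⟩ <;> refine cyc_of_ne ?_ (by simp) (by simp) <;>
          tauto)
  have anti : wv (f 1) (f 0) = -wv (f 0) (f 1) := by
    have := eqv t1 (f 0) (f 1) (by simp)
    rw [hw, w1, coe_ia, em_apply, em_apply] at this
    rw [hw, this]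
    congr 2
  have an := anti_all (by omega) (by simp) eqv anti
  have R := odd_R h2 h8 B eqv
  refine std p (by omega) (a := f 0) (b := f 1) (c := f 2) (by simp) eqv (hw ▸ w0) anti
    (eq_zero_of_neg h2 ?_)
  have r1 := R (f 0) (f 2) (f 1) (f 3) (by simp)
  have r2 := R (f 3) (f 0) (f 2) (f 1) (by simp)
  have r3 := R (f 0) (f 1) (f 3) (f 2) (by simp)
  have a1 := an (f 1) (f 2) (by simp)
  have a2 := an (f 0) (f 2) (by simp)
  have a3 := an (f 2) (f 3) (by simp)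
  have a4 := an (f 1) (f 3) (by simp)
  rw [a1] at r1
  rw [a3, a4] at r2
  rw [a2]
  linear_combination (norm := abel) -r1 - r2 - r3

theorem lin_odd (p : ℕ) [Fact p.Prime] [CharP k p] (h9 : 9 ≤ Fintype.card Ω)
    (ih : ∀ r' < Fintype.card Ω, 9 ≤ r' → Sec r') (hρ : ∀ g, ρ g = 1 → g = 1) :
    bd p (Fintype.card Ω) ≤ finrank k V := by
  by_cases A : ∃ f : Fin 4 ↪ Ω, Fai ι ρ ((Finset.univ.map f)ᶜ : Finset Ω) (Wk ρ f (-1) 1)
  · obtain ⟨f, hF⟩ := A
    have h1 := three_le h2 (ρ := ρ) f (inv_top _)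
    rw [top_inf_eq, finrank_top] at h1
    have hc := card_compl_range f
    have hb := bd_le p (Fintype.card Ω)
    by_cases h13 : 13 ≤ Fintype.card Ω
    · have := sec_sub (Subgroup.range_subtype _) (ih _ (by omega) (by omega)) p (Wk_inv f _ _) hF
      have h3 := bd_ge p (Finset.univ.map f)ᶜ.card
      omega
    by_cases h11 : 11 ≤ Fintype.card Ω
    · have := fai_four h2 (by omega) (Wk_inv f _ _) hF
      omega
    · have := fai_three h2 (by omega) (Wk_inv f _ _) hF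
      omega
  · exact odd_std h2 p (by omega) hρ fun f =>
      (triv_or_fai (by rw [card_compl_range]; omega) (Wk_inv f _ _)).resolve_left fun e => A ⟨f, e⟩

end H40.AS
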