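/- ALTSEC: linear representations of the alternating groups in characteristic two. -/
import Cfsg.Agent.H40.ASOdd

set_option autoImplicit false
set_option linter.unusedSectionVars false

namespace H40.AS

open Equiv Equiv.Perm Module H57

def x3 : alternatingGroup (Fin 3) := el (cyc 1 2 0)

variable {Ω : Type} [Fintype Ω] [DecidableEq Ω] {k : Type} [Field k] {V : Type} [AddCommGroup V]
  [Module k V] {ρ : Representation k (alternatingGroup Ω) V}

local notation "sb" => Subgroup.subtype (alternatingGroup _)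

theorem ia_eq {m : ℕ} (f : Fin m ↪ Ω) {g : alternatingGroup (Fin m)} {n : ℕ} (h : g ^ n = 1) :
    ia f g ^ n = 1 := by rw [← map_pow, h, map_one]

theorem eig_conj {u g : alternatingGroup Ω} {n : ℕ} (h : u⁻¹ * g * u = g ^ n) {c : k} {v : V}
    (hv : ρ g v = c • v) : ρ g (ρ u v) = c ^ n • ρ u v := by
  rw [← map_smul, ← rho_pow hv, ← h, ← rho_mul, ← rho_mul]
  congr 2
  group

theorem exists_inv (h5 : 5 ≤ Fintype.card Ω) (f : Fin 3 ↪ Ω) :
    ∃ u : alternatingGroup Ω, u⁻¹ * ia f x3 * u = ia f x3 ^ 2 := by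
  obtain ⟨u, h0, h1, h2⟩ := exists3 h5 (a := f 0) (b := f 1) (c := f 2) (i := f 1) (j := f 0)
    (l := f 2) (by simp) (by simp)
  refine ⟨u, ?_⟩
  rw [mul_assoc, inv_mul_eq_iff_eq_mul, ← eq_mul_inv_iff_mul_eq, ← map_pow, eq_comm]
  refine Subtype.ext ?_
  have : (ia f (x3 ^ 2)).1 = cyc (f 2) (f 1) (f 0) := by
    rw [coe_ia, ← em_cyc]; exact congrArg _ (by decide +kernel)
  rw [Subgroup.coe_mul, Subgroup.coe_mul, this, Subgroup.coe_inv, conj_cyc, h0, h1, h2, coe_ia,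
    ← em_cyc]
  exact congrArg _ (by decide +kernel)

theorem five_ne {c : k} (c1 : c ≠ 1) (c5 : c ^ 5 = 1) : c ≠ c ^ 2 ∧ c ≠ (c ^ 2) ^ 2 ∧
    c ≠ ((c ^ 2) ^ 2) ^ 2 ∧ c ^ 2 ≠ (c ^ 2) ^ 2 ∧ c ^ 2 ≠ ((c ^ 2) ^ 2) ^ 2 ∧
    (c ^ 2) ^ 2 ≠ ((c ^ 2) ^ 2) ^ 2 := by
  refine ⟨?_, ?_, ?_, ?_, ?_, ?_⟩ <;> grind

theorem three_inj {α β : k} (h1 : α ≠ 1) (a3 : α ^ 3 = 1) : Function.Injective
    ![![α, β], ![β ^ 2, α], ![α ^ 2, β ^ 2], ![(β ^ 2) ^ 2, α ^ 2]] := fun i j => by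
  have a2 : α ^ 2 ≠ α := fun e => h1 (by grind)
  fin_cases i <;> fin_cases j <;> simp <;> grind

theorem eig_inv' (f : Fin 3 ↪ Ω) (c : k) :
    Inv sb ρ ((Finset.univ.map f)ᶜ : Finset Ω) (End.eigenspace (ρ (ia f x3)) c) :=
  fun _ hh _ hv => eig_inv (comm_of_suppIn (suppIn_em f _) hh (disj_compl f)) hv

variable (ρ) in
/-- The commutator space of an element of order three. -/
def Us (g : alternatingGroup Ω) : Submodule k V := LinearMap.ker (1 + ρ g + ρ g * ρ g)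

theorem mem_Us {g : alternatingGroup Ω} {v : V} : v ∈ Us ρ g ↔ v + ρ g v + ρ g (ρ g v) = 0 :=
  Iff.rfl

theorem sub_mem_Us {g : alternatingGroup Ω} (h : g ^ 3 = 1) (v : V) : ρ g v - v ∈ Us ρ g := by
  have : ρ g (ρ g (ρ g v)) = v := by
    rw [← rho_mul, ← rho_mul, ← pow_three', h]; simp
  simp [mem_Us, this]

theorem Us_conj {u g g' : alternatingGroup Ω} (h : g' * u = u * g) {v : V} (hv : v ∈ Us ρ g) :
    ρ u v ∈ Us ρ g' := by
  have : ∀ v, ρ g' (ρ u v) = ρ u (ρ g v) := fun v => by rw [← rho_mul, h, rho_mul]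
  rw [mem_Us] at hv ⊢
  rw [this, this, ← map_add, ← map_add, hv, map_zero]

theorem Us_sq {g : alternatingGroup Ω} (h : g ^ 3 = 1) {v : V} (hv : v ∈ Us ρ (g * g)) :
    v ∈ Us ρ g := by
  rw [mem_Us] at hv ⊢
  rw [← rho_mul (g * g), ← mul_assoc, ← pow_three', h, one_mul, rho_mul] at hv
  rw [← hv]; abel

variable [FiniteDimensional k V] [IsAlgClosed k]

theorem fai_four3 (h3 : (3 : k) ≠ 0) {T : Finset Ω} (h6 : 6 ≤ T.card) {W : Submodule k V}
    (hW : Inv sb ρ T W) (hF : Fai sb ρ T W) : 4 ≤ finrank k W := by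
  obtain ⟨f, hf⟩ := exists_emb T h6
  have hT : ∀ g, SuppIn (ia f g).1 T := fun g => (suppIn_em f _).mono hf
  let x := ia f (el (List.formPerm [0, 1, 2]))
  let y := ia f (el (List.formPerm [3, 4, 5]))
  let u := ia f (el (List.formPerm [0, 3, 1, 4] * swap 2 5))
  have h4 : ∀ s : Fin 2, ![x, y] s ^ 3 = 1 := fun s => by
    fin_cases s <;> exact ia_eq f (by decide +kernel)
  have c : Commute x y := Commute.map (by unfold Commute SemiconjBy; decide +kernel) _
  have ux : u⁻¹ * x * u = y ^ 2 := by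
    rw [← map_inv, ← map_mul, ← map_mul, ← map_pow]; exact congrArg _ (by decide +kernel)
  have uy : u⁻¹ * y * u = x := by
    rw [← map_inv, ← map_mul, ← map_mul]; exact congrArg _ (by decide +kernel)
  obtain ⟨χ, h1, hχ⟩ := exists_wt (ρ := ρ) (W := W) (a := ![x, y])
    (fun s t => by fin_cases s <;> fin_cases t <;> simp [c, c.symm])
    (fun s => ⟨3, by simpa using h3, h4 s⟩) (fun s => by fin_cases s <;> exact hW _ (hT _)) 0
    fun e => ia_ne f (by decide +kernel) (hF x (hT _) e)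
  have mv : ∀ α β : k, Wt ρ W ![x, y] ![α, β] → Wt ρ W ![x, y] ![β ^ 2, α] := fun α β h =>
    h.move u (hW _ (hT _)) fun v e s => by
      have e0 : ρ x v = α • v := e 0
      have e1 : ρ y v = β • v := e 1
      fin_cases s
      · exact ux ▸ rho_pow e1 2
      · exact uy ▸ e0
  have a3 := hχ.pow (h4 0)
  obtain ⟨α, β, rfl⟩ : ∃ α β, χ = ![α, β] := ⟨χ 0, χ 1, by ext s; fin_cases s <;> rfl⟩
  replace h1 : α ≠ 1 := h1
  replace a3 : α ^ 3 = 1 := a3
  refine card_le_of_wt (ρ := ρ) (a := ![x, y]) _ (three_inj (β := β) h1 a3) fun i => ?_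
  · fin_cases i
    exacts [hχ, mv _ _ hχ, mv _ _ (mv _ _ hχ), mv _ _ (mv _ _ (mv _ _ hχ))]

theorem eleven (h3 : (3 : k) ≠ 0) (h5 : (5 : k) ≠ 0) (h11 : 11 ≤ Fintype.card Ω)
    (hρ : ∀ g, ρ g = 1 → g = 1) (f : Fin 3 ↪ Ω) :
    16 ≤ finrank k V ∨ 4 ≤ finrank k (End.eigenspace (ρ (ia f x3)) 1) := by
  obtain ⟨e, he⟩ := exists_emb (Finset.univ.map f)ᶜ (m := 7) (by rw [card_compl_range]; omega)
  let y := ia e (el (List.formPerm [0, 1, 2, 3, 4]))
  let u := ia e (el (List.formPerm [1, 3, 4, 2] * swap 5 6))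
  have uy : u⁻¹ * y * u = y ^ 2 := by
    rw [← map_inv, ← map_mul, ← map_mul, ← map_pow]; exact congrArg _ (by decide +kernel)
  have y5 : y ^ 5 = 1 := ia_eq e (by decide +kernel)
  obtain ⟨c, c1, c5, v, v0, hv⟩ := exists_eig (ρ := ρ) (n := 5) (by simpa using h5) y5 fun h =>
    ia_ne e (by decide +kernel) (congrArg Subtype.val (hρ y (LinearMap.ext h)))
  let S : Finset Ω := ({0, 1, 2, 3, 4} : Finset (Fin 7)).map e
  have hy : SuppIn y.1 S := suppIn_em' e (by decide +kernel)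
  have hS : Sᶜ.card = Fintype.card Ω - 5 := by rw [Finset.card_compl, Finset.card_map]; rfl
  have hW : Inv sb ρ (Sᶜ : Finset Ω) (End.eigenspace (ρ y) c) := fun g hg v hv =>
    eig_inv (comm_of_suppIn hy hg (by rw [Finset.coe_compl]; exact disjoint_compl_right)) hv
  obtain ⟨d1, d2, d3, d4, d5, d6⟩ := five_ne c1 c5
  rcases triv_or_fai (by omega) hW with h | h
  · have h1 := fai_four3 h3 (by omega) hW h
    have mv : ∀ d : k, finrank k (End.eigenspace (ρ y) d) ≤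
        finrank k (End.eigenspace (ρ y) (d ^ 2)) := fun d =>
      finrank_le_of_map u fun v hv => mem_eig.2 (eig_conj uy (mem_eig.1 hv))
    have m1 := mv c
    have m2 := mv (c ^ 2)
    have m3 := mv ((c ^ 2) ^ 2)
    classical
    have := sum_finrank_le (End.eigenspaces_iSupIndep (ρ y))
      {c, c ^ 2, (c ^ 2) ^ 2, ((c ^ 2) ^ 2) ^ 2}
    rw [Finset.sum_insert (by simp only [Finset.mem_insert, Finset.mem_singleton]; tauto),
      Finset.sum_insert (by simp only [Finset.mem_insert, Finset.mem_singleton]; tauto),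
      Finset.sum_pair d6] at this
    omega
  · have hd : Disjoint (Set.range f) (Set.range e) := (disj_compl f).mono_right he
    have h1 : v ∈ End.eigenspace (ρ (ia f x3)) 1 := mem_eig.2 (by
      rw [one_smul]
      refine h _ ((suppIn_em f _).mono ?_) v (mem_eig.2 hv)
      rw [Finset.coe_compl]
      refine (hd.mono_right ?_).subset_compl_right
      rw [Finset.coe_map]
      exact Set.image_subset_range _ _)
    have mv : ∀ d : k, Wt ρ (End.eigenspace (ρ (ia f x3)) 1) (fun _ : Unit => y) (fun _ => d) →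
        Wt ρ (End.eigenspace (ρ (ia f x3)) 1) (fun _ : Unit => y) (fun _ => d ^ 2) := fun d h =>
      h.move u (fun v hv => eig_inv (comm_of_suppIn (suppIn_em f _) (suppIn_em e _) hd) hv)
        fun v e _ => uy ▸ rho_pow (e ()) 2
    have h2 : Wt ρ (End.eigenspace (ρ (ia f x3)) 1) (fun _ : Unit => y) (fun _ => c) :=
      ⟨v, h1, v0, fun _ => hv⟩
    refine Or.inr (card_le_of_wt (ρ := ρ) (ι := Fin 4) (a := fun _ : Unit => y)
      (fun i _ => ![c, c ^ 2, (c ^ 2) ^ 2, ((c ^ 2) ^ 2) ^ 2] i) (fun i j h => ?_) fun i => ?_)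
    · replace h := congrFun h ()
      fin_cases i <;> fin_cases j <;> first | rfl | tauto
    · fin_cases i
      exacts [h2, mv _ h2, mv _ (mv _ h2), mv _ (mv _ (mv _ h2))]

omit [FiniteDimensional k V] [IsAlgClosed k] in
theorem even_B2 (h2 : (2 : k) = 0) {ω : k} (hω : ω ^ 2 + ω + 1 = 0)
    (B : ∀ f : Fin 3 ↪ Ω, ∀ h : alternatingGroup Ω, SuppIn h.1 ((Finset.univ.map f)ᶜ : Finset Ω) →
      ∀ v ∈ End.eigenspace (ρ (ia f x3)) ω, ρ h v = v)
    {a b c : Ω} (hd : a ≠ b ∧ a ≠ c ∧ b ≠ c) {g h : alternatingGroup Ω} {v : V}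
    (e : g.1 = cyc b c a) (hv : v ∈ Us ρ g) (hh : h.1 a = a ∧ h.1 b = b ∧ h.1 c = c) :
    ρ h v = v := by
  have B1 : ∀ {a b c : Ω} (hd : a ≠ b ∧ a ≠ c ∧ b ≠ c) {g h : alternatingGroup Ω} {v : V},
      g.1 = cyc b c a → ρ g v = ω • v → h.1 a = a ∧ h.1 b = b ∧ h.1 c = c → ρ h v = v :=
    fun hd g h v e hv hh => by
      obtain rfl : g = ia (emb3 hd) x3 := Subtype.ext (e.trans (em_cyc (emb3 hd) 1 2 0).symm)
      refine B _ h (fun y hy => ?_) v (mem_eig.2 hv)
      obtain ⟨i, rfl⟩ : ∃ i, emb3 hd i = y := by simpa using hy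
      fin_cases i
      exacts [hh.1, hh.2.1, hh.2.2]
  have g3 : g ^ 3 = 1 := Subtype.ext (by
    rw [Subgroup.coe_pow, e]; exact cyc_pow_three hd.2.2 ⟨hd.1, hd.2.1⟩)
  have hv' : ρ g (ρ g v) = -v - ρ g v := by
    rw [mem_Us] at hv
    linear_combination (norm := abel) hv
  have e1 := B1 hd e (v := ρ g v - ω ^ 2 • v) (by
    rw [map_sub, map_smul, hv']
    linear_combination (norm := module) hω • ((ω - 1) • v - ρ g v)) hh
  have e2 := B1 ⟨hd.2.1, hd.1, hd.2.2.symm⟩ (g := g * g) (v := ρ g v - ω • v) (by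
    rw [cyc_swap, ← e, ← Subgroup.coe_inv,
      eq_inv_of_mul_eq_one_left (show g * g * g = 1 from pow_three' g ▸ g3)])
    (by
      simp only [rho_mul, map_sub, map_smul, hv', map_neg]
      linear_combination (norm := module) hω • v) ⟨hh.1, hh.2.2, hh.2.1⟩
  rw [map_sub, map_smul] at e1 e2
  linear_combination (norm := module) e1 - e2 + hω • (ρ h v - v) - h2 • (ω • (ρ h v - v))

omit [IsAlgClosed k] in
theorem even_X (h2 : (2 : k) = 0) (hρ : ∀ g, ρ g = 1 → g = 1)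
    (B2 : ∀ {a b c : Ω}, a ≠ b ∧ a ≠ c ∧ b ≠ c → ∀ {g h : alternatingGroup Ω} {v : V},
      g.1 = cyc b c a → v ∈ Us ρ g → h.1 a = a ∧ h.1 b = b ∧ h.1 c = c → ρ h v = v)
    (f : Fin 7 ↪ Ω) : Us ρ (ia f (el (cyc 1 2 0))) ⊓ Us ρ (ia f (el (cyc 1 3 0))) ≠ ⊥ := by
  let x := ia f (el (cyc 1 2 0))
  let y := ia f (el (cyc 3 4 2))
  let x' := ia f (el (cyc 1 3 0))
  let c := ia f (el (cyc 5 6 4))
  have ex : x.1 = cyc (f 1) (f 2) (f 0) := em_cyc f 1 2 0
  have ex' : x'.1 = cyc (f 1) (f 3) (f 0) := em_cyc f 1 3 0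
  have x3 : x ^ 3 = 1 := ia_eq f (by decide +kernel)
  have y3 : y ^ 3 = 1 := ia_eq f (by decide +kernel)
  have x3' : x' ^ 3 = 1 := ia_eq f (by decide +kernel)
  have cj : ∀ {a b : alternatingGroup (Fin 7)} (u : alternatingGroup (Fin 7)), b * u = u * a →
      finrank k (Us ρ (ia f a)) ≤ finrank k (Us ρ (ia f b)) := fun u h =>
    finrank_le_of_map (ia f u) fun v hv => Us_conj (by rw [← map_mul, h, map_mul]) hv
  intro (hX : Us ρ x ⊓ Us ρ x' = ⊥)
  let M := Us ρ x ⊔ Us ρ y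
  have km : ∀ {a b : alternatingGroup Ω}, (∀ v, ρ a v - v ∈ M) → (∀ v, ρ b v - v ∈ M) →
      ∀ v, ρ (a * b) v - v ∈ M := fun {a b} ha hb v => by
    have := add_mem (ha (ρ b v)) (hb v)
    rwa [sub_add_sub_cancel, ← rho_mul] at this
  have kx : ∀ v, ρ x v - v ∈ M := fun v => Submodule.mem_sup_left (sub_mem_Us x3 v)
  have ky : ∀ v, ρ y v - v ∈ M := fun v => Submodule.mem_sup_right (sub_mem_Us y3 v)
  have kx' : ∀ v, ρ x' v - v ∈ M := by
    have : x' = y * x * y * y := by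
      simp only [x, y, x', ← map_mul]; exact congrArg _ (by decide +kernel)
    rw [this]
    exact km (km (km ky kx) ky) ky
  have h1 : Us ρ x ⊔ Us ρ x' ≤ M := sup_le le_sup_left fun v hv => by
    have := add_mem (kx' v) (km kx' kx' v)
    rw [mem_Us] at hv
    rwa [show ρ x' v - v + (ρ (x' * x') v - v) = v by
      rw [rho_mul]; linear_combination (norm := module) hv - h2 • (v + v)] at this
  have h3 : Us ρ x ⊔ Us ρ x' = M := Submodule.eq_of_le_of_finrank_le h1 (by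
    have a1 := Submodule.finrank_sup_add_finrank_inf_eq (Us ρ x) (Us ρ x')
    have a2 := Submodule.finrank_sup_add_finrank_inf_eq (Us ρ x) (Us ρ y)
    have a3 : finrank k (Us ρ y) ≤ finrank k (Us ρ x') :=
      cj (el (swap 0 2 * swap 5 6 * List.formPerm [3, 1, 4])) (by decide +kernel)
    rw [hX, finrank_bot] at a1
    show finrank k (Us ρ x ⊔ Us ρ y :) ≤ _
    omega)
  have hc : c ∈ Triv ρ M := fun v hv => by
    obtain ⟨a, ha, b, hb, rfl⟩ := Submodule.mem_sup.1 (h3.ge hv)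
    rw [map_add, B2 (by simp) ex ha, B2 (by simp) ex' hb] <;>
      refine ⟨?_, ?_, ?_⟩ <;> exact (em_apply f _ _).trans (congrArg f (by decide +kernel))
  have hn : ∀ {g : alternatingGroup Ω}, (∀ v, ρ g v - v ∈ M) → g⁻¹ * c * g ∈ Triv ρ M :=
    fun {g} hg v hv => by
      rw [rho_mul, rho_mul, hc _ (by simpa using add_mem (hg v) hv), rho_inv]
  have c2 := hn (km ky ky)
  have c0 := hn (km (km ky ky) (km kx kx))
  have c1 := hn (km (km ky ky) kx)
  have := mul_mem (mul_mem (mul_mem (mul_mem c0 c1) c2) c0) c1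
  have e : x ∈ Triv ρ M := by
    convert this
    simp only [x, y, c, ← map_mul, ← map_inv]
    exact congrArg _ (by decide +kernel)
  refine ia_ne f (by decide +kernel) (congrArg Subtype.val (hρ x (LinearMap.ext fun v => ?_)))
  have h4 := sub_mem_Us (ρ := ρ) x3 v
  have h5 := e _ (Submodule.mem_sup_left h4)
  rw [mem_Us, h5, h5] at h4
  show ρ x v = v
  linear_combination (norm := module) h4 - h2 • (ρ x v - v)

theorem even_std (h2 : (2 : k) = 0) (p : ℕ) [Fact p.Prime] [CharP k p] (h7 : 7 ≤ Fintype.card Ω)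
    (hρ : ∀ g, ρ g = 1 → g = 1) {ω : k} (hω : ω ^ 2 + ω + 1 = 0)
    (B : ∀ f : Fin 3 ↪ Ω, ∀ h : alternatingGroup Ω, SuppIn h.1 ((Finset.univ.map f)ᶜ : Finset Ω) →
      ∀ v ∈ End.eigenspace (ρ (ia f x3)) ω, ρ h v = v) :
    bd p (Fintype.card Ω) ≤ finrank k V := by
  have neg : ∀ v : V, -v = v := fun v => by
    rw [neg_eq_iff_add_eq_zero, ← two_smul k, h2, zero_smul]
  have B2 := @even_B2 _ _ _ _ _ _ _ _ ρ h2 ω hω B
  obtain ⟨f, -⟩ := exists_emb (Finset.univ : Finset Ω) (m := 7) (by simpa using h7)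
  let x := ia f (el (cyc 1 2 0))
  let x' := ia f (el (cyc 1 3 0))
  have ex : x.1 = cyc (f 1) (f 2) (f 0) := em_cyc f 1 2 0
  have ex' : x'.1 = cyc (f 1) (f 3) (f 0) := em_cyc f 1 3 0
  have x3 : x ^ 3 = 1 := ia_eq f (by decide +kernel)
  have x3' : x' ^ 3 = 1 := ia_eq f (by decide +kernel)
  have hX : Us ρ x ⊓ Us ρ x' ≠ ⊥ := even_X h2 hρ B2 f
  let σ := ia f (el (swap 0 1 * swap 4 5))
  obtain ⟨w, ⟨w1, w2⟩, w0, w3⟩ : ∃ w ∈ Us ρ x ⊓ Us ρ x', w ≠ 0 ∧ ρ σ w = w := by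
    obtain ⟨w, hw, w0⟩ := (Submodule.ne_bot_iff _).1 hX
    by_cases h : ρ σ w = w
    · exact ⟨w, hw, w0, h⟩
    refine ⟨w + ρ σ w, add_mem hw ⟨Us_sq x3 (Us_conj ?_ hw.1), Us_sq x3' (Us_conj ?_ hw.2)⟩,
      fun e => h ((eq_neg_of_add_eq_zero_right e).trans (neg w)), ?_⟩
    · simp only [x, σ, ← map_mul]; exact congrArg _ (by decide +kernel)
    · simp only [x', σ, ← map_mul]; exact congrArg _ (by decide +kernel)
    · rw [map_add, ← rho_mul, ← sq, ia_eq f (by decide +kernel), add_comm]; simp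
  obtain ⟨wv, hw, eqv⟩ := exists_wv (ρ := ρ) (by omega) (a := f 0) (b := f 1) (w := w) (by simp)
    (fix_of_cyc (α := f 4) (β := f 5) (by simp) fun i hi h0 h1 => by
      by_cases h : i = f 2
      · refine B2 (by simp) ex' w2 ⟨?_, ?_, ?_⟩ <;> refine cyc_of_ne ?_ (by simp) (by simp) <;>
          simp [h]
      · refine B2 (by simp) ex w1 ⟨?_, ?_, ?_⟩ <;> refine cyc_of_ne ?_ (by simp) (by simp) <;>
          tauto)
  refine std p (by omega) (a := f 0) (b := f 1) (c := f 2) (by simp) eqv (hw ▸ w0) ?_ ?_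
  · have := eqv σ (f 0) (f 1) (by simp)
    rw [hw, w3, coe_ia, em_apply, em_apply] at this
    rw [hw, neg, this]
    congr 2
  · have a1 := eqv x (f 0) (f 1) (by simp)
    have a2 := eqv x (f 1) (f 2) (by simp)
    rw [coe_ia, em_apply, em_apply] at a1 a2
    replace a1 : ρ x (wv (f 0) (f 1)) = wv (f 1) (f 2) := a1
    replace a2 : ρ x (wv (f 1) (f 2)) = wv (f 2) (f 0) := a2
    rw [← a2, ← a1, hw]
    exact w1

theorem lin_even (h2 : (2 : k) = 0) (p : ℕ) [Fact p.Prime] [CharP k p] (h9 : 9 ≤ Fintype.card Ω)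
    (ih : ∀ r' < Fintype.card Ω, 9 ≤ r' → Sec r') (hρ : ∀ g, ρ g = 1 → g = 1) :
    bd p (Fintype.card Ω) ≤ finrank k V := by
  obtain rfl : p = 2 := by
    by_contra h
    exact ne_zero_of_ne p Nat.prime_two h (by simpa using h2)
  have h3 : (3 : k) ≠ 0 := by simpa using ne_zero_of_ne (k := k) 2 Nat.prime_three (by norm_num)
  have h5 : (5 : k) ≠ 0 := by simpa using ne_zero_of_ne (k := k) 2 Nat.prime_five (by norm_num)
  obtain ⟨ω, hω⟩ : ∃ ω : k, ω ^ 2 + ω + 1 = 0 := by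
    obtain ⟨ω, h⟩ := IsAlgClosed.exists_root (Polynomial.X ^ 2 + Polynomial.X + 1 : Polynomial k)
      (by
        have : (Polynomial.X ^ 2 + Polynomial.X + 1 : Polynomial k).degree = 2 := by
          compute_degree!
        rw [this]; decide)
    exact ⟨ω, by simpa using h⟩
  by_cases A : ∃ f : Fin 3 ↪ Ω, Fai sb ρ ((Finset.univ.map f)ᶜ : Finset Ω)
      (End.eigenspace (ρ (ia f x3)) ω)
  · obtain ⟨f, hF⟩ := A
    obtain ⟨u, hu⟩ := exists_inv (by omega) f
    have h1 := finrank_le_of_map (ρ := ρ) u (W := End.eigenspace (ρ (ia f x3)) ω)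
      (W' := End.eigenspace (ρ (ia f x3)) (ω ^ 2)) fun v hv =>
        mem_eig.2 (eig_conj hu (mem_eig.1 hv))
    have h4 := three_eig (ρ := ρ) (ia f x3) (c := ω) (d := ω ^ 2) (e := 1) (by grind) (by grind)
      (by grind)
    have hc := card_compl_range f
    have hb := bd_le 2 (Fintype.card Ω)
    have h6 := fai_four3 h3 (by omega) (eig_inv' f ω) hF
    by_cases h12 : 12 ≤ Fintype.card Ω
    · have := sec_sub (Subgroup.range_subtype _) (ih _ (by omega) (by omega)) 2 (eig_inv' f ω) hF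
      have h3 := bd_ge 2 (Finset.univ.map f)ᶜ.card
      omega
    by_cases h11 : 11 ≤ Fintype.card Ω
    · have := eleven h3 h5 h11 hρ f
      omega
    · unfold bd
      split_ifs <;> omega
  · exact even_std h2 2 (by omega) hρ hω fun f =>
      (triv_or_fai (by rw [card_compl_range]; omega) (eig_inv' f ω)).resolve_left fun e => A ⟨f, e⟩

theorem lin {r : ℕ} (h9 : 9 ≤ r) (ih : ∀ r' < r, 9 ≤ r' → Sec r') : Lin r := by
  intro p _ k _ _ _ V _ _ _ ρ hρ
  by_cases h2 : (2 : k) = 0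
  · simpa using lin_even h2 p (by simpa using h9) (by simpa using ih) hρ
  · simpa using lin_odd h2 p (by simpa using h9) (by simpa using ih) hρ

theorem sec (J : JobFT) (r : ℕ) (h9 : 9 ≤ r) : Sec r := by
  induction r using Nat.strong_induction_on with
  | _ r ih => exact J r h9 (lin h9 ih) (spin h9 ih)

end H40.AS
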