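/- ALTSEC: alternating sections of linear groups, the theorem. -/
import Cfsg.Agent.H40.ASEven
import Cfsg.Agent.H71.ASFT

set_option autoImplicit false

namespace H40.AS

open Equiv Module

/-- The bound for alternating sections of linear groups. -/
theorem sec_all {r : ℕ} (h9 : 9 ≤ r) : Sec r := sec H71.AS.jobFT r h9

/-- The natural representation of a group of matrices. -/
noncomputable def natRep {G k : Type} [Group G] [Field k] {n : ℕ} (j : G →* GL (Fin n) k) :
    Representation k G (Fin n → k) :=
  (Matrix.toLinAlgEquiv' (R := k) (n := Fin n)).toMonoidHom.comp ((Units.coeHom _).comp j)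

theorem natRep_apply {G k : Type} [Group G] [Field k] {n : ℕ} (j : G →* GL (Fin n) k) (g : G) :
    natRep j g = Matrix.toLin' (j g).val := rfl

theorem natRep_eq_one {G k : Type} [Group G] [Field k] {n : ℕ} {j : G →* GL (Fin n) k} {g : G}
    (h : natRep j g = 1) : j g = 1 :=
  Units.ext ((Matrix.toLinAlgEquiv' (R := k) (n := Fin n)).injective (h.trans (map_one _).symm))

theorem main {F : Type*} [Field F] [Fintype F] (p : ℕ) [Fact p.Prime] [CharP F p]
    (n : ℕ) (r : ℕ) (H : Subgroup (GL (Fin n) F)) (K : Subgroup ↥H) [K.Normal]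
    (h : Nonempty (↥H ⧸ K ≃* ↥(alternatingGroup (Fin r)))) (hr : 9 ≤ r) : bd p r ≤ n := by
  obtain ⟨e⟩ := h
  let _ : Algebra (ZMod p) F := ZMod.algebra F p
  let φ : F →+* AlgebraicClosure (ZMod p) :=
    (IsAlgClosed.lift (R := ZMod p) (S := F) (M := AlgebraicClosure (ZMod p))).toRingHom
  let j : H →* GL (Fin n) (AlgebraicClosure (ZMod p)) :=
    (Matrix.GeneralLinearGroup.map φ).comp H.subtype
  have hj : Function.Injective j := fun a b h => Subtype.ext (Units.ext (Matrix.ext fun x y =>
    φ.injective (congrArg (fun g : GL (Fin n) (AlgebraicClosure (ZMod p)) => g.val x y) h)))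
  let ψ := (MonoidHom.ofInjective hj).symm
  have : Finite j.range := Finite.of_equiv _ ψ.symm.toEquiv
  have := sec_all hr j.range ((alternatingGroup (Fin r)).subtype.comp
    (e.toMonoidHom.comp ((QuotientGroup.mk' K).comp ψ.toMonoidHom))) (by
      rw [MonoidHom.range_comp, MonoidHom.range_eq_top.2, ← MonoidHom.range_eq_map,
        Subgroup.range_subtype]
      exact e.surjective.comp ((QuotientGroup.mk'_surjective K).comp ψ.surjective))
    p _ _ (natRep j.range.subtype) fun g hg => by
      rw [show g = 1 from Subtype.ext (natRep_eq_one hg), map_one]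
  simpa using this

end H40.AS
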