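/- ALTSEC tower: the part on E7 and E8 (interface). See blueprints/ALTSEC2.md. -/
import Cfsg.Agent.H40.ASMain
import Cfsg.Agent.H40.ASSpecE

set_option autoImplicit false

universe u

namespace H40.AS

open Equiv Module Cfsg.Lie

/-- In modules of `A_r` of dimension at most `N` the non-trivial eigenspaces of a `3`-cycle have
dimension at most `b`. -/
def M3At (p : ℕ) [Fact p.Prime] (r N b : ℕ) : Prop :=
  ∀ (V : Type) [AddCommGroup V] [Module (Kb p) V] [FiniteDimensional (Kb p) V]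
    (ρ : Representation (Kb p) (alternatingGroup (Fin r)) V), finrank (Kb p) V ≤ N →
    ∀ x : alternatingGroup (Fin r), (x : Perm (Fin r)).IsThreeCycle →
      ∀ ω : Kb p, ω ^ 2 + ω + 1 = 0 → finrank (Kb p) (End.eigenspace (ρ x) ω) ≤ b

/-- The same for the `-1` eigenspace of a product of two disjoint transpositions. -/
def M2At (p : ℕ) [Fact p.Prime] (r N b : ℕ) : Prop :=
  ∀ (V : Type) [AddCommGroup V] [Module (Kb p) V] [FiniteDimensional (Kb p) V]
    (ρ : Representation (Kb p) (alternatingGroup (Fin r)) V), finrank (Kb p) V ≤ N →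
    ∀ t : alternatingGroup (Fin r), DT (t : Perm (Fin r)) →
      finrank (Kb p) (End.eigenspace (ρ t) (-1)) ≤ b

/-- Spin modules of `2.A_r` have dimension greater than `N`. -/
def SPAt (p : ℕ) [Fact p.Prime] (r N : ℕ) : Prop :=
  ∀ (H : Type) [Group H] (z : H) (π : H →* Perm (Fin r)), H49.DC z π →
    ∀ (V : Type) [AddCommGroup V] [Module (Kb p) V] [FiniteDimensional (Kb p) V] [Nontrivial V]
      (ρ : Representation (Kb p) H V), ρ z = -1 → N < finrank (Kb p) V

/-- No finite group of degree `N` whose semisimple elements have fixed spaces of codimension at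
least `b` maps onto `A_r`. -/
def NoMod (p : ℕ) [Fact p.Prime] (r N b : ℕ) : Prop :=
  ∀ (H : Type) [Group H] [Finite H] (π : H →* Perm (Fin r)), π.range = alternatingGroup (Fin r) →
    ∀ (V : Type) [AddCommGroup V] [Module (Kb p) V] [FiniteDimensional (Kb p) V]
      (ρ : Representation (Kb p) H V), finrank (Kb p) V = N → (∀ h, ρ h = 1 → h = 1) →
      (∀ s : H, s ≠ 1 → ∀ e : ℕ, (e : Kb p) ≠ 0 → s ^ e = 1 →
        finrank (Kb p) (End.eigenspace (ρ s) 1) + b ≤ N) → False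

/-- The prime five. -/
theorem fact5 : Fact (Nat.Prime 5) := ⟨Nat.prime_five⟩

/-- The reduction. -/
def JobRedG : Prop :=
  ∀ (p : ℕ) [Fact p.Prime] (r N b : ℕ), 9 ≤ r → N ^ 2 < 2 ^ (r - 2) → (p ≠ 2 → SPAt p r N) →
    (∃ c, @M3At 5 fact5 r N c ∧ 3 * c < b) →
    ((p ≠ 3 ∧ ∃ c, M3At p r N c ∧ 2 * c < b) ∨ (p ≠ 2 ∧ ∃ c, M2At p r N c ∧ c < b)) →
    NoMod p r N b

/-- Sections of `E₇(q)` give groups of degree `56`. -/
def JobE7 : Prop :=
  ∀ (F : Type u) [Field F] [Fintype F] (p : ℕ) [Fact p.Prime] [CharP F p] (r m : ℕ), m ≤ r →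
    ∀ (H : Subgroup (chevE7.group F)) (K : Subgroup H) [K.Normal],
      Nonempty (H ⧸ K ≃* alternatingGroup (Fin r)) → ¬ NoMod p m 56 20

/-- Sections of `E₈(q)` give groups of degree `248`. -/
def JobE8 : Prop :=
  ∀ (F : Type u) [Field F] [Fintype F] (p : ℕ) [Fact p.Prime] [CharP F p] (r m : ℕ), m ≤ r →
    ∀ (H : Subgroup (chevE8.group F)) (K : Subgroup H) [K.Normal],
      Nonempty (H ⧸ K ≃* alternatingGroup (Fin r)) → ¬ NoMod p m 248 88

/-- `A₁₉` is not a section of `E₈(q)` outside characteristic `17`. -/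
def Job19 : Prop :=
  ∀ (F : Type u) [Field F] [Fintype F] (p : ℕ) [Fact p.Prime] [CharP F p], p ≠ 17 → ∀ (r : ℕ)
    (H : Subgroup (chevE8.group F)) (K : Subgroup H) [K.Normal],
      Nonempty (H ⧸ K ≃* alternatingGroup (Fin r)) → r ≤ 18

/-- Small modules of `A₁₄` on which the `3`-cycles have no fixed vector, characteristic `2`. -/
def JobQ14 : Prop :=
  ∀ (V : Type) [AddCommGroup V] [Module (Kb 2) V] [FiniteDimensional (Kb 2) V] [Nontrivial V]
    (ρ : Representation (Kb 2) (alternatingGroup (Fin 14)) V),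
    (∀ x : alternatingGroup (Fin 14), (x : Perm (Fin 14)).IsThreeCycle → ∀ v, ρ x v = v → v = 0) →
    56 < finrank (Kb 2) V

/-- Spin modules of `2.A₁₄`. -/
def JobS14 : Prop := ∀ (p : ℕ) [Fact p.Prime], p ≠ 2 → p ≠ 7 → SPAt p 14 56

/-- Small modules of `A₁₄` in characteristic `3`. -/
def JobM143 : Prop := M2At 3 14 56 19

/-- Small modules of `A₁₄` in characteristic other than `3`. -/
def JobM14 : Prop :=
  JobQ14 → (∀ (p : ℕ) [Fact p.Prime], p ≠ 3 → M3At p 14 56 9) ∧ @M3At 5 fact5 14 56 6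

/-- Small modules of `A₁₈`. -/
def JobM18 : Prop := ∀ (p : ℕ) [Fact p.Prime], p ≠ 3 → M3At p 18 248 29

/-- Spin modules of `2.A₁₈`. -/
def JobS18 : Prop := ∀ (p : ℕ) [Fact p.Prime], p ≠ 2 → p ≠ 3 → SPAt p 18 248

end H40.AS
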