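/- Specification of the tower E7S (row S5770): subgroups of E7(2) on the 56-dimensional module. -/
import Cfsg.Agent.Base
import Cfsg.Agent.H26.ASE7
import Cfsg.Prelude.Def_ChevE7
import Cfsg.Prelude.Def_ChevG2
import Cfsg.Prelude.Def_Classical
import Cfsg.Prelude.Def_Sz

set_option autoImplicit false

namespace H40.E7S

open Module Cfsg

universe u

section lin

variable {V : Type*} [AddCommGroup V] [Module (ZMod 2) V]

/-- The fixed space of an endomorphism. -/
def kf (A : End (ZMod 2) V) : Submodule (ZMod 2) V := LinearMap.ker (A - 1)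

theorem mem_kf {A : End (ZMod 2) V} {v : V} : v ∈ kf A ↔ A v = v := by
  simp [kf, sub_eq_zero]

/-- The dimension of a subspace. -/
noncomputable abbrev dm (M : Submodule (ZMod 2) V) : ℕ := finrank (ZMod 2) M

end lin

/-- The partition formula for `p × p` acting on an invariant subspace `M`. -/
def JobPart : Prop :=
  ∀ (V : Type) [AddCommGroup V] [Module (ZMod 2) V] [Module.Finite (ZMod 2) V] (p : ℕ),
    p.Prime → p ≠ 2 → ∀ (M : Submodule (ZMod 2) V) (A B : End (ZMod 2) V),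
    (∀ v ∈ M, A v ∈ M) → (∀ v ∈ M, B v ∈ M) → (∀ v ∈ M, A (B v) = B (A v)) →
    (∀ v ∈ M, (A ^ p) v = v) → (∀ v ∈ M, (B ^ p) v = v) →
    dm M + p * dm (M ⊓ kf A ⊓ kf B) =
      dm (M ⊓ kf A) + ∑ i ∈ Finset.range p, dm (M ⊓ kf (A ^ i * B))

/-- The icosahedron lemma: on a module for `A₅` an element of order three fixes at least as much as
an element of order five. -/
def JobTri : Prop :=
  ∀ (V : Type) [AddCommGroup V] [Module (ZMod 2) V] [Module.Finite (ZMod 2) V]
    (M : Submodule (ZMod 2) V) (T Y : End (ZMod 2) V),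
    (∀ v ∈ M, T v ∈ M) → T ^ 3 = 1 → Y ^ 5 = 1 → (T * Y) ^ 2 = 1 →
    dm (M ⊓ kf Y) ≤ dm (M ⊓ kf T)

/-- The part of the module on which both `Z` and `T` act freely has dimension divisible by eight. -/
def JobPar : Prop :=
  ∀ (V : Type) [AddCommGroup V] [Module (ZMod 2) V] [Module.Finite (ZMod 2) V]
    (Z T W W' : End (ZMod 2) V), Z ^ 5 = 1 → T ^ 3 = 1 → Z * T = T * Z → W * W' = 1 →
    (W * Z = Z * W ∨ W * Z = Z ^ 4 * W) → W * T = T ^ 2 * W →
    (finrank (ZMod 2) V + dm (kf Z ⊓ kf T)) % 8 = (dm (kf Z) + dm (kf T)) % 8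

/-- An element of order three permuting `5 × 5` without fixed points. -/
def JobFrob : Prop :=
  ∀ (V : Type) [AddCommGroup V] [Module (ZMod 2) V] [Module.Finite (ZMod 2) V]
    (A B S : End (ZMod 2) V), A ^ 5 = 1 → B ^ 5 = 1 → S ^ 3 = 1 → A * B = B * A →
    S * A = B * S → S * B = (A * B) ^ 4 * S →
    dm (kf A) + dm (kf (A ^ 3 * B)) ≤ dm (kf S) + 2 * dm (kf A ⊓ kf B) ∧
      dm (kf S) + dm (kf A ⊓ kf B) ≤ dm (kf A) + dm (kf (A ^ 3 * B))

/-- Scott's lemma for two generators, and the bound for involutions. -/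
def JobScott : Prop :=
  ∀ (V : Type) [AddCommGroup V] [Module (ZMod 2) V] [Module.Finite (ZMod 2) V]
    (X Y : End (ZMod 2) V), IsUnit X → IsUnit Y →
    (X ^ 2 = 1 → finrank (ZMod 2) V ≤ 2 * dm (kf X)) ∧
    ((∀ v, X v = v → Y v = v → v = 0) →
      (∀ f : Dual (ZMod 2) V, (∀ v, f (X v) = f v) → (∀ v, f (Y v) = f v) → f = 0) →
      dm (kf X) + dm (kf Y) + dm (kf (X * Y)) ≤ finrank (ZMod 2) V)

/-- The module. -/
abbrev V56 : Type := Fin 56 → ZMod 2

section rep

variable {G : Type*} [Group G]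

/-- The dimension of the fixed space of an element. -/
noncomputable def fd (ρ : Representation (ZMod 2) G V56) (g : G) : ℕ := dm (kf (ρ g))

/-- Fixed spaces as on the 56-dimensional module of `E₇(2)`. -/
structure Good (ρ : Representation (ZMod 2) G V56) : Prop where
  five : ∀ g, orderOf g = 5 → fd ρ g = 16
  three : ∀ g, orderOf g = 3 → fd ρ g = 2 ∨ fd ρ g = 14 ∨ fd ρ g = 20 ∨ fd ρ g = 32

/-- A nonzero fixed vector in the module or in its dual. -/
def HasFix (ρ : Representation (ZMod 2) G V56) : Prop :=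
  (∃ v : V56, v ≠ 0 ∧ ∀ g, ρ g v = v) ∨
    ∃ f : Dual (ZMod 2) V56, f ≠ 0 ∧ ∀ g v, f (ρ g v) = f v

theorem Good.comp {ρ : Representation (ZMod 2) G V56} (h : Good ρ) {S : Type*} [Group S]
    (f : S →* G) (hf : Function.Injective f) : Good (G := S) (ρ.comp f) :=
  ⟨fun g hg => h.five (f g) (by rwa [orderOf_injective f hf]),
    fun g hg => h.three (f g) (by rwa [orderOf_injective f hf])⟩

theorem fd_conj (ρ : Representation (ZMod 2) G V56) {a b : G} (h : IsConj a b) :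
    fd ρ a = fd ρ b := by
  obtain ⟨c, rfl⟩ := isConj_iff.1 h
  let e : V56 ≃ₗ[ZMod 2] V56 := LinearEquiv.ofLinear (ρ c) (ρ c⁻¹)
    (by rw [← Module.End.mul_eq_comp, ← map_mul]; simp [Module.End.one_eq_id])
    (by rw [← Module.End.mul_eq_comp, ← map_mul]; simp [Module.End.one_eq_id])
  refine (LinearEquiv.finrank_map_eq e _).symm.trans (congrArg dm ?_)
  ext v
  rw [Submodule.mem_map_equiv, mem_kf, mem_kf]
  change ρ a (ρ c⁻¹ v) = ρ c⁻¹ v ↔ _
  rw [map_mul, map_mul, Module.End.mul_apply, Module.End.mul_apply]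
  refine ⟨fun h => by rw [h, ← Module.End.mul_apply, ← map_mul]; simp, fun h => ?_⟩
  conv_rhs => rw [← h, ← Module.End.mul_apply, ← map_mul]
  simp

/-- `5² : 3`. -/
structure C53 (a b s : G) : Prop where
  oa : orderOf a = 5
  ob : ∀ i < 5, orderOf (a ^ i * b) = 5
  os : orderOf s = 3
  ab : Commute a b
  sa : s * a * s⁻¹ = b
  sb : s * b * s⁻¹ = (a * b)⁻¹

/-- `5 × A₅`. -/
structure C15 (z t y w : G) : Prop where
  oz : orderOf z = 5
  oy : ∀ i < 5, orderOf (z ^ i * y) = 5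
  ot : orderOf t = 3
  zy : Commute z y
  zt : Commute z t
  ty : (t * y) ^ 2 = 1
  wz : Commute w z
  wt : w * t * w⁻¹ = t⁻¹

variable (G) in
/-- `(2,5,5)`-generation. -/
def Cfg255 : Prop :=
  ∃ u x : G, u ^ 2 = 1 ∧ orderOf x = 5 ∧ orderOf (u * x) = 5 ∧ Subgroup.closure {u, x} = ⊤

variable (G) in
/-- `(2,3,15)`-generation of `U₃(4)`. -/
def CfgU : Prop :=
  ∃ u x a b s z t y w : G, u ^ 2 = 1 ∧ Subgroup.closure {u, x} = ⊤ ∧ C53 a b s ∧ C15 z t y w ∧
    IsConj x s ∧ IsConj t s ∧ IsConj (u * x) (z * t)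

variable (G) in
/-- The configuration `(5² × 3) : S₃` in `L₃(16)`. -/
def CfgL : Prop :=
  ∃ a b s t w : G, C53 a b s ∧ Commute t a ∧ Commute t b ∧ Commute t s ∧ IsConj t s ∧
    Commute w a ∧ w * b * w⁻¹ = (a * b)⁻¹ ∧ w * t * w⁻¹ = t⁻¹

variable (G) in
/-- The configuration `A₅ × A₅`, `3^{1+2}` in `G₂(4)`. -/
def CfgG : Prop :=
  ∃ a b c y z w : G, C15 z a y w ∧ orderOf c = 3 ∧ a * b = b * a * c ∧ Commute c a ∧
    Commute c b ∧ IsConj b a ∧ IsConj (a * b) a ∧ IsConj (a ^ 2 * b) a ∧ Commute c y ∧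
    (c * z) ^ 2 = 1

end rep

/-- The weights of elements of order three and five of the torus. -/
def JobW : Prop :=
  (∀ a : Fin 7 → ZMod 3, (Finset.univ.filter fun j : Fin 56 =>
      ∑ k, a k * (H26.E7.wt k j : ZMod 3) = 0).card ∈ ({2, 14, 20, 32, 56} : Finset ℕ)) ∧
  ∀ a : Fin 7 → ZMod 5,
    (Finset.univ.filter fun j : Fin 56 => ∑ k, a k * (H26.E7.wt k j : ZMod 5) = 1).card =
      (Finset.univ.filter fun j : Fin 56 => ∑ k, a k * (H26.E7.wt k j : ZMod 5) = 2).card →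
    (Finset.univ.filter fun j : Fin 56 =>
      ∑ k, a k * (H26.E7.wt k j : ZMod 5) = 0).card ∈ ({16, 56} : Finset ℕ)

/-- The 56-dimensional module of `E₇(2)`. -/
def JobRep : Prop :=
  ∃ ρ : Representation (ZMod 2) (Lie.chevE7.group (ZMod 2)) V56, Good ρ ∧ ¬ HasFix ρ

/-- The module arguments. -/
def JobModU : Prop :=
  ∀ (G : Type u) [Group G] (ρ : Representation (ZMod 2) G V56), Good ρ →
    (Cfg255 G → HasFix ρ) ∧ (CfgU G → HasFix ρ)

def JobModL : Prop :=
  ∀ (G : Type u) [Group G] (ρ : Representation (ZMod 2) G V56), Good ρ → ¬ CfgL G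

def JobModG : Prop :=
  ∀ (G : Type u) [Group G] (ρ : Representation (ZMod 2) G V56), Good ρ → ¬ CfgG G

def JobL34 : Prop :=
  ∀ (F : Type u) [Field F] [Fintype F], Fintype.card F = 4 →
    Cfg255 (Matrix.ProjectiveSpecialLinearGroup (Fin 3) F)

def JobSz : Prop :=
  ∀ (F : Type u) [Field F] [Fintype F], Fintype.card F = 8 → Cfg255 (Lie.Sz F 4)

def JobU34 : Prop :=
  ∀ (F : Type u) [Field F] [Fintype F], Fintype.card F = 16 → CfgU (PSU 3 F 4)

def JobL316 : Prop :=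
  ∀ (F : Type u) [Field F] [Fintype F], Fintype.card F = 16 →
    CfgL (Matrix.ProjectiveSpecialLinearGroup (Fin 3) F)

def JobG24 : Prop :=
  ∀ (F : Type u) [Field F] [Fintype F], Fintype.card F = 4 → CfgG (Lie.chevG2.group F)

end H40.E7S
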