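/- The tower E7S: from a fixed vector of the socle to non-maximality. -/
import Cfsg.Agent.H40.E7Spec
import Cfsg.Agent.H87.Simple
import Cfsg.Agent.S1054
import Cfsg.Agent.S1064
import Cfsg.Agent.S1265

set_option autoImplicit false

namespace H40.E7S

open Module Cfsg MulAction
open scoped Pointwise

theorem index_dvd_out {G : Type*} [Group G] [Finite G] {X : Subgroup G} [X.Normal]
    (hc : Subgroup.centralizer (X : Set G) ≤ X) {Y : Type*} [Group Y] (e : X ≃* Y)
    (hY : Subgroup.center Y = ⊥) : X.index ∣ Nat.card (Out Y) := by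
  let φ : G →* MulAut Y := (MulAut.congr e).toMonoidHom.comp MulAut.conjNormal
  have inj : Function.Injective φ := (MulAut.congr e).injective.comp <|
    (injective_iff_map_eq_one _).2 fun g hg => by
      have h1 : g ∈ Subgroup.centralizer (X : Set G) := fun x hx => by
        have := congrArg Subtype.val (DFunLike.congr_fun hg ⟨x, hx⟩)
        exact (mul_inv_eq_iff_eq_mul.1 this).symm
      have h2 : e ⟨g, hc h1⟩ = 1 := hY.le (Subgroup.mem_center_iff.2 fun y => by
        obtain ⟨y, rfl⟩ := e.surjective y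
        rw [← map_mul, ← map_mul]
        exact congrArg e (Subtype.ext (h1 y y.2)))
      exact congrArg Subtype.val (e.map_eq_one_iff.1 h2)
  have k : ∀ x : X, φ x = MulAut.conj (e x) := fun x => by
    ext y
    obtain ⟨y, rfl⟩ := e.surjective y
    have : MulAut.conjNormal (x : G) y = x * y * x⁻¹ := Subtype.ext rfl
    simp [φ, MulAut.congr, this]
  have : ((QuotientGroup.mk' (Inn Y)).comp φ).ker = X := by
    ext g
    rw [MonoidHom.mem_ker, MonoidHom.comp_apply, QuotientGroup.mk'_apply, QuotientGroup.eq_one_iff]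
    constructor
    · rintro ⟨y, hy⟩
      obtain ⟨x, rfl⟩ := e.surjective y
      exact inj ((k x).trans hy) ▸ x.2
    · exact fun hg => ⟨_, (k ⟨g, hg⟩).symm⟩
  rw [← this, Subgroup.index_ker]
  exact Subgroup.card_subgroup_dvd_card _

variable {W : Type*} [AddCommGroup W] [Finite W]

theorem exists_small_orbit {H : Type*} [Group H] [Finite H] [DistribMulAction H W] {n : ℕ}
    (hW : Nat.card W = 2 ^ n) (S : Subgroup H) [S.Normal] (hS : S.index ∣ 12) {v : W} (hv : v ≠ 0)
    (h : ∀ s ∈ S, s • v = v) : ∃ w : W, w ≠ 0 ∧ (orbit H w).ncard ∣ 3 := by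
  obtain ⟨T⟩ : Nonempty (Sylow 2 H) := inferInstance
  have h1 : 2 ∣ Nat.card (fixedPoints S W) := by
    obtain ⟨k, -, hk⟩ := (Nat.dvd_prime_pow Nat.prime_two).1
      (hW ▸ (FixedPoints.addSubgroup S W).card_addSubgroup_dvd_card)
    refine (dvd_pow_self 2 ?_).trans hk.symm.dvd
    rintro rfl
    exact hv ((AddSubgroup.card_eq_one.1 hk).le (show v ∈ FixedPoints.addSubgroup S W from
      fun s => h s s.2))
  obtain ⟨w, h2, h3⟩ := T.isPGroup'.exists_fixed_point_of_prime_dvd_card_of_fixed_point _ h1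
    (a := ⟨0, fun s => smul_zero s⟩) fun t => Subtype.ext (smul_zero t.1)
  refine ⟨w.1, fun e => h3 (Subtype.ext e.symm), ?_⟩
  rw [← index_stabilizer]
  have h4 : (stabilizer H w.1).index ∣ 3 * 2 ^ 2 :=
    (Subgroup.index_dvd_of_le fun s hs => w.2 ⟨s, hs⟩).trans hS
  refine Nat.Coprime.dvd_of_dvd_mul_right (Nat.Coprime.pow_right 2 ?_) h4
  exact (Nat.prime_two.coprime_iff_not_dvd.2 fun h5 => T.not_dvd_index (h5.trans
    (Subgroup.index_dvd_of_le fun t ht => congrArg Subtype.val (h2 ⟨t, ht⟩)))).symm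

omit [Finite W] in
theorem exists_set {H : Type*} [Group H] [DistribMulAction H W] {w : W} (hw : w ≠ 0)
    (h : (orbit H w).ncard ∣ 3) : ∃ (O : Set W) (a b c : W), O = {a, b, c} ∧ a ≠ 0 ∧
      (c = a ∨ c = -(a + b)) ∧ ∀ g : H, g • O = O := by
  classical
  rcases (Nat.dvd_prime Nat.prime_three).1 h with h | h
  · obtain ⟨a, ha⟩ := Set.ncard_eq_one.1 h
    obtain rfl : w = a := by simpa [ha] using mem_orbit_self (M := H) w
    exact ⟨_, w, w, w, by simp [ha], hw, .inl rfl, fun g => smul_orbit g w⟩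
  obtain ⟨a, b, c, h1, h2, h3, h4⟩ := Set.ncard_eq_three.1 h
  by_cases h5 : a + b + c = 0
  · refine ⟨_, a, b, c, h4, ?_, .inr (eq_neg_of_add_eq_zero_right h5), fun g => smul_orbit g w⟩
    obtain ⟨g, rfl⟩ : a ∈ orbit H w := by simp [h4]
    exact (smul_ne_zero_iff_ne g).2 hw
  refine ⟨{a + b + c}, _, a + b + c, _, by simp, h5, .inl rfl, fun g => ?_⟩
  have h6 : ({a, b, c} : Finset W).image (g • ·) = {a, b, c} := Finset.coe_injective (by
    rw [Finset.coe_image, Finset.coe_insert, Finset.coe_pair, ← h4]; exact smul_orbit g w)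
  have h7 : ∑ x ∈ ({a, b, c} : Finset W), x = a + b + c := by
    rw [Finset.sum_insert (by simp [h1, h2]), Finset.sum_pair h3, add_assoc]
  rw [Set.smul_set_singleton, ← h7, Finset.smul_sum,
    ← Finset.sum_image (f := fun x => x) (MulAction.injective g).injOn, h6]

theorem card_le {G : Type*} [Group G] [Finite G] [IsSimpleGroup G] (hG : ¬ IsMulCommutative G)
    [DistribMulAction G W] {n : ℕ} (hW : Nat.card W = 2 ^ n)
    (h0 : ∀ w : W, (∀ g : G, g • w = w) → w = 0) {H : Subgroup G} (hH : IsCoatom H)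
    (S : Subgroup H) [S.Normal] (hS : S.index ∣ 12) {v : W} (hv : v ≠ 0)
    (h : ∀ s ∈ S, s • v = v) : Nat.card G ≤ 2 ^ n * 2 ^ n * Nat.card H ∨ Nat.card G ≤ 3 := by
  obtain ⟨w, h1, h2⟩ := exists_small_orbit hW S hS hv h
  obtain ⟨O, a, b, c, h3, h4, h5, h6⟩ := exists_set h1 h2
  rcases (hH.le_iff (x := stabilizer G O)).1 fun g hg => h6 ⟨g, hg⟩ with h7 | h7
  · have h8 : (stabilizer G a).index ≤ 3 := by
      rw [index_stabilizer]
      refine (Set.ncard_le_ncard (t := O) ?_).trans ?_
      · rintro _ ⟨g, rfl⟩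
        exact (h7.ge (Subgroup.mem_top g) : g • O = O) ▸ Set.smul_mem_smul_set (by simp [h3])
      · rw [h3]
        exact (Set.ncard_insert_le _ _).trans (Nat.succ_le_succ ((Set.ncard_insert_le _ _).trans
          (by simp)))
    have h9 := (Nat.le_of_dvd (Nat.factorial_pos _) (H87.two_mul_card_dvd_factorial hG
      (stabilizer G a) fun e => h4 (h0 a fun g => e.ge (Subgroup.mem_top g)))).trans
        (Nat.factorial_le h8)
    exact .inr (by rw [show Nat.factorial 3 = 6 from rfl] at h9; omega)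
  · rw [← (stabilizer G (a, b)).index_mul_card, index_stabilizer, ← hW, ← Nat.card_prod]
    refine .inl (Nat.mul_le_mul (Set.ncard_le_card _) (Subgroup.card_le_of_le fun g hg => ?_))
    obtain ⟨ha, hb⟩ := Prod.ext_iff.1 hg
    rw [← h7, mem_stabilizer_iff, h3, Set.smul_set_insert, Set.smul_set_insert,
      Set.smul_set_singleton]
    dsimp at ha hb
    rcases h5 with rfl | rfl <;> simp only [smul_neg, smul_add, ha, hb]

theorem isEmpty_of_card {G : Type*} [Group G] [Finite G] [IsSimpleGroup G]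
    (hG : ¬ IsMulCommutative G) (hN : 2 ^ 133 ≤ 2 * Nat.card G)
    {ρ : Representation (ZMod 2) G V56} (h1 : Good ρ) (h2 : ¬ HasFix ρ)
    {L : Type*} [Group L] [IsSimpleGroup L]
    (hL : ¬ IsMulCommutative L) (hO : Nat.card (Out L) ∣ 12) (hc : Nat.card L ≤ 80000)
    (hf : ∀ ρ : Representation (ZMod 2) L V56, Good ρ → HasFix ρ)
    {H : Subgroup G} (hH : IsCoatom H) : IsEmpty (generalizedFittingSubgroup H ≃* L) := by
  refine ⟨fun e => ?_⟩
  have h3 := (index_dvd_out Agent.S1265.result e (H87.center_eq_bot hL)).trans hO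
  have h4 : ¬ (Nat.card G ≤ 2 ^ 56 * 2 ^ 56 * Nat.card H ∨ Nat.card G ≤ 3) := by
    have := Nat.mul_le_mul (Nat.le_of_dvd (by decide) h3) ((Nat.card_congr e.toEquiv).trans_le hc)
    rw [Subgroup.index_mul_card] at this
    omega
  rcases hf _ (h1.comp ((H.subtype.comp (Subgroup.subtype _)).comp e.symm.toMonoidHom)
    ((H.subtype_injective.comp (Subgroup.subtype_injective _)).comp e.symm.injective)) with
    ⟨v, hv, h⟩ | ⟨f, hv, h⟩
  · let := DistribMulAction.compHom V56 ρ
    refine h4 (card_le hG (n := 56) (by simp) (fun w hw => by_contra fun h0 =>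
      h2 (.inl ⟨w, h0, hw⟩)) hH _ h3 hv fun s hs => ?_)
    change ρ s v = v
    simpa using h (e ⟨s, hs⟩)
  · let := DistribMulAction.compHom (Dual (ZMod 2) V56) ρ.dual
    have : Finite (Dual (ZMod 2) V56) := Module.finite_of_finite (ZMod 2)
    refine h4 (card_le hG (n := 56) ?_ (fun w hw => by_contra fun h0 => h2 (.inr ⟨w, h0, fun g v =>
      ?_⟩)) hH _ h3 hv fun s hs => LinearMap.ext fun v => ?_)
    · rw [Module.natCard_eq_pow_finrank (K := ZMod 2), Subspace.dual_finrank_eq]; simp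
    · exact inv_inv g ▸ LinearMap.congr_fun (hw g⁻¹) v
    · change f (ρ (s : G)⁻¹ v) = f v
      simpa using h (e ⟨s, hs⟩)⁻¹ v

/-- A group that always fixes a vector is not the socle of a maximal subgroup. -/
theorem isEmpty_of_fix (hR : JobRep) {L : Type*} [Group L] [IsSimpleGroup L]
    (hO : Nat.card (Out L) ∣ 12) (hc : Nat.card L ≤ 80000) (hp : ¬ (Nat.card L).Prime)
    (hf : ∀ ρ : Representation (ZMod 2) L V56, Good ρ → HasFix ρ)
    {H : Subgroup (Lie.chevE7.group (ZMod 2))} (hH : IsCoatom H) :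
    IsEmpty (generalizedFittingSubgroup H ≃* L) := by
  obtain ⟨ρ, h1, h2⟩ := hR
  have h0 := Agent.S1064.result (ZMod.card 2)
  norm_num at h0
  have : Finite (Lie.chevE7.group (ZMod 2)) := Nat.finite_of_card_ne_zero (by omega)
  obtain ⟨hS, hG⟩ := Agent.S1054.result (F := ZMod 2) Lie.chevE7 (by simp)
  refine @isEmpty_of_card _ _ this hS hG (by omega) ρ h1 h2 L _ _ (fun h => hp ?_) hO hc hf H hH
  let : CommGroup L := { mul_comm := h.is_comm.comm }
  exact IsSimpleGroup.prime_card

/-- A group without good module does not embed. -/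
theorem isEmpty_of_not_good (hR : JobRep) {L : Type*} [Group L]
    (hf : ∀ ρ : Representation (ZMod 2) L V56, ¬ Good ρ)
    (H : Subgroup (Lie.chevE7.group (ZMod 2))) : IsEmpty (generalizedFittingSubgroup H ≃* L) :=
  ⟨fun e => hR.elim fun _ h => hf _ (h.1.comp
    ((H.subtype.comp (Subgroup.subtype _)).comp e.symm.toMonoidHom)
    ((H.subtype_injective.comp (Subgroup.subtype_injective _)).comp e.symm.injective))⟩

end H40.E7S
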