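/- The tower E7S: the five cases. -/
import Cfsg.Agent.H40.E7Fin
import Cfsg.Agent.S0243
import Cfsg.Agent.S0249
import Cfsg.Agent.S0280
import Cfsg.Agent.S0283
import Cfsg.Agent.S1162
import Cfsg.Agent.S1163
import Cfsg.Agent.S2126
import Cfsg.Agent.S2601
import Cfsg.Agent.S2603

set_option autoImplicit false

namespace H40.E7S

open Cfsg

universe u

theorem card_of_hom {A B : Type*} [Group A] [Group B] {φ : A →* B} (h : Function.Surjective φ) :
    Nat.card A = Nat.card B * Nat.card φ.ker := by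
  rw [← φ.ker.index_mul_card, Subgroup.index_ker, MonoidHom.range_eq_top.2 h, Subgroup.card_top]

variable (hR : JobRep) {F : Type u} [Field F] [Fintype F]
  {H : Subgroup (Lie.chevE7.group (ZMod 2))}
include hR

theorem caseL34 (hM : JobModU.{u}) (hC : JobL34.{u}) (hF : Fintype.card F = 4) (hH : IsCoatom H) :
    IsEmpty (generalizedFittingSubgroup H ≃* Matrix.ProjectiveSpecialLinearGroup (Fin 3) F) := by
  have := Agent.S0249.result (F := F) 3 le_rfl
  have h1 := Agent.S0243.result hF 3 (by decide)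
  have h2 : Nat.card (Matrix.ProjectiveSpecialLinearGroup (Fin 3) F) = 20160 := by
    simp [Fin.prod_univ_three] at h1; omega
  obtain ⟨φ, h3, -, h4⟩ := Agent.S2601.result (p := 2) (f := 2) (n := 3) (by decide) hF le_rfl
  exact isEmpty_of_fix hR (by rw [card_of_hom h3, h4]; simp) (by omega) (by rw [h2]; norm_num)
    (fun ρ h => (hM _ ρ h).1 (hC F hF)) hH

theorem caseU34 (hM : JobModU.{u}) (hC : JobU34.{u}) (hF : Fintype.card F = 16) (hH : IsCoatom H) :
    IsEmpty (generalizedFittingSubgroup H ≃* PSU 3 F 4) := by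
  have := Agent.S0283.result (q := 4) hF 3 le_rfl (by decide)
  have h1 := Agent.S0280.result (q := 4) hF 3 (by decide)
  have h2 : Nat.card (PSU 3 F 4) = 62400 := by
    norm_num [Finset.prod_range_succ] at h1; omega
  obtain ⟨φ, h3, -, h4⟩ := Agent.S2603.result (p := 2) (f := 2) (q := 4) (n := 3) (by decide) rfl hF
    le_rfl (by decide)
  exact isEmpty_of_fix hR (by rw [card_of_hom h3, h4]; simp) (by omega) (by rw [h2]; norm_num)
    (fun ρ h => (hM _ ρ h).2 (hC F hF)) hH

theorem caseSz (hM : JobModU.{u}) (hC : JobSz.{u}) (hF : Fintype.card F = 8) (hH : IsCoatom H) :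
    IsEmpty (generalizedFittingSubgroup H ≃* Lie.Sz F 4) := by
  have : IsSimpleGroup (Lie.Sz F 4) := Agent.S1162.result (m := 1) le_rfl hF
  have h2 : Nat.card (Lie.Sz F 4) = 29120 := (Agent.S1163.result (m := 1) le_rfl hF).1
  have h3 : Nat.card (Out (Lie.Sz F 4)) = 3 := Agent.S2126.result (m := 1) le_rfl hF
  exact isEmpty_of_fix hR (by rw [h3]; decide) (by omega) (by rw [h2]; norm_num)
    (fun ρ h => (hM _ ρ h).1 (hC F hF)) hH

theorem caseG24 (hM : JobModG.{u}) (hC : JobG24.{u}) (hF : Fintype.card F = 4) :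
    IsEmpty (generalizedFittingSubgroup H ≃* Lie.chevG2.group F) :=
  isEmpty_of_not_good hR (fun ρ h => hM _ ρ h (hC F hF)) H

theorem caseL316 (hM : JobModL.{u}) (hC : JobL316.{u}) (hF : Fintype.card F = 16) :
    IsEmpty (generalizedFittingSubgroup H ≃* Matrix.ProjectiveSpecialLinearGroup (Fin 3) F) :=
  isEmpty_of_not_good hR (fun ρ h => hM _ ρ h (hC F hF)) H

end H40.E7S
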