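/- Tower E8F: the group theory of `L₂(7)` and the rational line. -/
import Cfsg.Agent.H40.E8FKit
import Cfsg.Agent.H40.E7Asm
import Cfsg.Agent.H61.PSLMin
import Cfsg.Agent.S2602
import Cfsg.Agent.S0243

set_option autoImplicit false

namespace H40.E8F

open Cfsg Cfsg.Lie H63 H64 H65 H46 H14.E8 Matrix Module
open scoped MatrixGroups

universe u

theorem exists_psi {F : Type u} [Field F] [Fintype F] (hF : Fintype.card F = 7) :
    ∃ ψ : S7 →* PSL(2, F), Function.Surjective ψ ∧ ψ (-1) = 1 ∧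
      ∀ g, ψ g = 1 → ∀ h, h * g = g * h := by
  have : Fact (Nat.Prime 7) := ⟨by norm_num⟩
  let e : ZMod 7 ≃+* F := ZMod.ringEquivOfPrime F (by norm_num) hF
  have h1 (g : SL(2, F)) : SpecialLinearGroup.map (e : ZMod 7 →+* F)
      (SpecialLinearGroup.map (e.symm : F →+* ZMod 7) g) = g := by
    ext i j; simp
  have h2 (g : S7) : SpecialLinearGroup.map (e.symm : F →+* ZMod 7)
      (SpecialLinearGroup.map (e : ZMod 7 →+* F) g) = g := by
    ext i j; simp
  refine ⟨(QuotientGroup.mk' _).comp (SpecialLinearGroup.map (e : ZMod 7 →+* F)),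
    (QuotientGroup.mk'_surjective _).comp fun g => ⟨_, h1 g⟩,
    (QuotientGroup.eq_one_iff _).2 (Subgroup.mem_center_iff.2 fun g => ?_), fun g hg h => ?_⟩
  · rw [← h1 g, ← map_mul, ← map_mul, mul_neg_one, neg_one_mul]
  · have := Subgroup.mem_center_iff.1 ((QuotientGroup.eq_one_iff _).1 hg)
      (SpecialLinearGroup.map (e : ZMod 7 →+* F) h)
    rw [← map_mul, ← map_mul] at this
    rw [← h2 (h * g), this, h2]

theorem jobGrp : JobGrp.{u} := by
  intro F _ _ hF G _ _ H ⟨e⟩
  obtain ⟨ψ, h1, h2, h3⟩ := exists_psi hF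
  have := H61.isSimpleGroup_psl (F := F) (by rw [Nat.card_eq_fintype_card, hF]; decide)
  have h4 := Agent.S0243.result hF 2 le_rfl
  have h5 : Nat.card PSL(2, F) = 168 := by
    simp [Fin.prod_univ_two] at h4; omega
  have : Fact (Nat.Prime 7) := ⟨by norm_num⟩
  obtain ⟨φ, h6, -, h7⟩ := Agent.S2602.result (p := 7) (f := 1) le_rfl hF (by decide)
  have h8 : (generalizedFittingSubgroup H).index ∣ 2 :=
    (E7S.index_dvd_out Agent.S1265.result e
      (H87.center_eq_bot H61.not_isMulCommutative_psl)).trans (by rw [E7S.card_of_hom h6, h7]; simp)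
  let ι : PSL(2, F) →* G := (H.subtype.comp (Subgroup.subtype _)).comp e.symm.toMonoidHom
  have hι : Function.Injective ι :=
    (H.subtype_injective.comp (Subgroup.subtype_injective _)).comp e.symm.injective
  have h9 : (ι.comp ψ).range.subgroupOf H = generalizedFittingSubgroup H := by
    ext x
    refine ⟨fun ⟨g, hg⟩ => ?_, fun hx => ?_⟩
    · rw [show x = (e.symm (ψ g)).1 from Subtype.ext hg.symm]
      exact (e.symm (ψ g)).2
    · obtain ⟨g, hg⟩ := h1 (e ⟨x, hx⟩)
      exact ⟨g, by simp [ι, hg]⟩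
  have h10 : Nat.card H ∣ 336 := by
    rw [← (generalizedFittingSubgroup H).index_mul_card, Nat.card_congr e.toEquiv, h5]
    exact Nat.mul_dvd_mul_right h8 168
  refine ⟨ι.comp ψ, by simp [h2], ?_, ?_, ?_, h9 ▸ h8, fun h => absurd (h.trans h10) (by decide),
    fun A hA hc => ?_⟩
  · rw [MonoidHom.comp_apply, orderOf_injective ι hι]
    have : Fact (Nat.Prime 2) := ⟨Nat.prime_two⟩
    refine orderOf_eq_prime_pow (p := 2) (n := 1) (fun h => ?_) ?_
    · exact absurd (h3 _ ((map_pow ψ _ _).trans h) gx) (by decide)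
    · rw [← map_pow, show (gs * ga) ^ 2 ^ (1 + 1) = -1 by decide, h2]
  · rw [MonoidHom.comp_apply, orderOf_injective ι hι]
    refine orderOf_eq_prime ?_ fun h => absurd (h3 _ h ga) (by decide)
    rw [← map_pow, show gx ^ 7 = 1 by decide, map_one]
  · rintro _ ⟨g, rfl⟩
    exact (e.symm (ψ g)).1.2
  · by_contra h
    have h11 : (A.subgroupOf H).index ≤ 2 := by
      have h12 := (A.subgroupOf H).index_mul_card
      rw [Nat.card_congr (Subgroup.subgroupOfEquivOfLe hA).toEquiv] at h12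
      have := Nat.le_of_dvd (by decide) h10
      nlinarith
    let κ : PSL(2, F) →* H := (Subgroup.subtype _).comp e.symm.toMonoidHom
    have h13 : ((A.subgroupOf H).comap κ).index ≤ 2 := by
      rw [Subgroup.index_comap]
      exact (Subgroup.relIndex_le_of_le_right le_top (by
        rw [Subgroup.relIndex_top_right]; exact Subgroup.FiniteIndex.index_ne_zero)).trans
        (by rwa [Subgroup.relIndex_top_right])
    have h14 : (A.subgroupOf H).comap κ = ⊤ := by
      have h15 := ((A.subgroupOf H).comap κ).index_ne_zero_of_finite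
      rcases (by omega : ((A.subgroupOf H).comap κ).index = 1 ∨
        ((A.subgroupOf H).comap κ).index = 2) with h16 | h16
      · exact Subgroup.index_eq_one.1 h16
      · refine ((Subgroup.normal_of_index_eq_two h16).eq_bot_or_eq_top).resolve_left fun h17 => ?_
        rw [h17, Subgroup.index_bot, h5] at h16
        omega
    refine H61.not_isMulCommutative_psl (F := F) ⟨⟨fun a b => hι ?_⟩⟩
    rw [map_mul, map_mul]
    exact hc _ (h14.ge (Subgroup.mem_top a)) _ (h14.ge (Subgroup.mem_top b))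

theorem adj_eq {D : ChevalleyDatum} [RS D] [Tab D] [Comm D] (g : D.group (ZMod 3))
    (v : D.Idx → K3) : H56.SL2M.adj D (ZMod 3) g v = act (H67.toAlg D (ZMod 3) g).1 v := rfl

theorem adj_apply {D : ChevalleyDatum} [RS D] [Tab D] [Comm D] (g : D.group (ZMod 3))
    (v : D.Idx → K3) (i : D.Idx) : H56.SL2M.adj D (ZMod 3) g v i =
    ∑ j, algebraMap (ZMod 3) K3 ((g.1 : Matrix D.Idx D.Idx (ZMod 3)) i j) * v j := rfl

attribute [local instance] H65.tabE8 H65.commE8

theorem ad_eq (g : G8) (v : V8) : ad g v = act (H67.toAlg chevE8 (ZMod 3) g).1 v := adj_eq g v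

theorem frob_iff (t : K3) : frobenius K3 3 t = t ↔ t ∈ (algebraMap (ZMod 3) K3).range := by
  refine ⟨fun h => ?_, fun ⟨a, h⟩ => by rw [← h, frobenius_def, ← map_pow, ZMod.pow_card]⟩
  have h1 : t * (t - 1) * (t + 1) = 0 := by
    rw [frobenius_def] at h
    linear_combination h
  rcases mul_eq_zero.1 h1 with h1 | h1
  · rcases mul_eq_zero.1 h1 with h1 | h1
    · exact ⟨0, by rw [h1, map_zero]⟩
    · exact ⟨1, by rw [sub_eq_zero.1 h1, map_one]⟩
  · exact ⟨-1, by rw [eq_neg_of_add_eq_zero_left h1, map_neg, map_one]⟩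

theorem ad_apply (g : G8) (v : V8) (i : chevE8.Idx) : ad g v i =
    ∑ j, algebraMap (ZMod 3) K3 ((g.1 : Matrix chevE8.Idx chevE8.Idx (ZMod 3)) i j) * v j :=
  adj_apply g v i

theorem Rat.ad {v : V8} (h : Rat v) (g : G8) : Rat (ad g v) := funext fun i => by
  rw [Function.comp_apply, ad_apply, map_sum]
  refine Finset.sum_congr rfl fun j _ => ?_
  rw [map_mul, (frob_iff _).2 ⟨_, rfl⟩, show frobenius K3 3 (v j) = v j from congrFun h j]

theorem jobRat : JobRat := by
  intro H S hS hi v hv h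
  obtain ⟨j, hj⟩ := Function.ne_iff.1 hv
  obtain ⟨f, hf⟩ := not_forall.1 (mt (Module.forall_dual_apply_eq_zero_iff (ZMod 3) (v j)).1 hj)
  let w : V8 := fun i => algebraMap (ZMod 3) K3 (f (v i))
  have h1 : w ≠ 0 := fun e => hf ((map_eq_zero _).1 (congrFun e j))
  have h2 : Rat w := funext fun i => (frob_iff _).2 ⟨_, rfl⟩
  have h3 : ∀ g ∈ S, ad g w = w := fun g hg => funext fun i => by
    change _ = algebraMap (ZMod 3) K3 (f (v i))
    rw [← h g hg, ad_apply, ad_apply, map_sum, map_sum]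
    refine Finset.sum_congr rfl fun j _ => ?_
    rw [← Algebra.smul_def, ← Algebra.smul_def, map_smul, Algebra.smul_def, smul_eq_mul, map_mul]
  rcases (Nat.dvd_prime Nat.prime_two).1 hi with h4 | h4
  · exact ⟨w, h1, h2, fun g hg => .inl (h3 g ((Subgroup.index_eq_one.1 h4).ge
      (Subgroup.mem_top ⟨g, hg⟩)))⟩
  obtain ⟨y, hy⟩ := Subgroup.index_eq_two_iff.1 h4
  have h5 (g : G8) (hg : g ∈ H) (h0 : g ∉ S) : ad g w = ad y w := by
    have h6 : (y : G8)⁻¹ * g ∈ S := by
      have h7 : y ∉ S.subgroupOf H := fun h7 => (hy 1).elim (fun h => h.2 (one_mem _))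
        fun h => h.2 (by simpa using h7)
      exact (Subgroup.mul_mem_iff_of_index_two h4 (a := y⁻¹) (b := ⟨g, hg⟩)).2
        (iff_of_false (by simpa using h7) h0)
    rw [← mul_inv_cancel_left (y : G8) g, map_mul, Module.End.mul_apply, h3 _ h6]
  have h7 : (y : G8) ∉ S := fun h7 => (hy 1).elim (fun h => h.2 (one_mem _))
    fun h => h.2 (by simpa [Subgroup.mem_subgroupOf] using h7)
  have h8 (g : G8) (hg : g ∈ H) : (g ∈ S → ad g (ad y w) = ad y w) ∧
      (g ∉ S → ad g (ad y w) = w) := by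
    have := Subgroup.mul_mem_iff_of_index_two h4 (a := ⟨g, hg⟩) (b := y)
    rw [← Module.End.mul_apply, ← map_mul]
    exact ⟨fun h0 => h5 _ (mul_mem hg y.2) fun h9 => h7 ((this.1 h9).1 h0),
      fun h0 => h3 _ (this.2 (iff_of_false h0 h7))⟩
  by_cases h9 : w + ad y w = 0
  · refine ⟨w, h1, h2, fun g hg => ?_⟩
    by_cases h0 : g ∈ S
    · exact .inl (h3 g h0)
    · exact .inr ((h5 g hg h0).trans (eq_neg_of_add_eq_zero_right h9))
  · refine ⟨_, h9, funext fun i => ?_, fun g hg => .inl ?_⟩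
    · rw [Function.comp_apply, Pi.add_apply, map_add]
      exact congrArg₂ _ (congrFun h2 i) (congrFun (h2.ad y) i)
    · by_cases h0 : g ∈ S
      · rw [map_add, h3 g h0, (h8 g hg).1 h0]
      · rw [map_add, h5 g hg h0, (h8 g hg).2 h0, add_comm]

/-- The stabiliser of a vector up to sign. -/
def sgnStab (s : V8) : Subgroup G8 where
  carrier := {g | ad g s = s ∨ ad g s = -s}
  one_mem' := .inl (by simp)
  mul_mem' := by
    rintro a b (ha | ha) (hb | hb) <;> simp [ha, hb]
  inv_mem' := by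
    intro a ha
    have h (z : V8) : ad a⁻¹ (ad a z) = z := by
      rw [← Module.End.mul_apply, ← map_mul, inv_mul_cancel, map_one, Module.End.one_apply]
    rcases ha with ha | ha
    · exact .inl (by have := h s; rwa [ha] at this)
    · exact .inr (by have := h s; rwa [ha, map_neg, neg_eq_iff_eq_neg] at this)

theorem jobHub (hB : JobB) (hD : JobJD) (hA : JobAd) (hJ : JobJor) (hN : JobNil) (hS : JobSS) :
    JobHub := by
  intro H hH v hv h1 h2
  obtain ⟨h₀, h3, h4⟩ := hA.2.2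
  obtain ⟨g₁, h5, h6⟩ := hB chevE8 K3 h₀ h3 h4 v
  obtain ⟨g₂, h7, h8⟩ := hD chevE8 K3 _ h6
  rw [← act_mul] at h8
  have h9 := mul_mem h7 h5
  generalize g₂ * g₁ = g at h8 h9
  obtain ⟨h10, h11⟩ := hJ v g h9 h8.1 h8.2
  by_cases h0 : hp (act g v) = 0
  · obtain ⟨M, h12, h13, h14⟩ := hN H v hv h1 h2 ⟨g, h9, h8.1, noH_iff.2 h0⟩
    rw [(hH.le_iff.1 h12).resolve_left h13] at h14
    exact .inl h14
  obtain ⟨A, h12, h13, h14⟩ := hS _ (h11 h1) ⟨g, h9, by rw [act_act_inv]; exact inH_hp _⟩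
  have h15 : H ≤ sgnStab (act g⁻¹ (hp (act g v))) := fun γ hγ => by
    have := h10 _ (H67.toAlg chevE8 (ZMod 3) γ).2
    rcases h2 γ hγ with h | h
    · exact .inl (by rw [ad_eq, this 1 (.inl rfl) (by rw [← ad_eq, h, one_smul]), one_smul])
    · exact .inr (by
        rw [ad_eq, this (-1) (.inr rfl) (by rw [← ad_eq, h, neg_one_smul]), neg_one_smul])
  refine .inr ⟨A, fun a ha => ?_, h12, h13⟩
  refine ((hH.le_iff.1 h15).resolve_left fun e => h0 ?_).le (.inl (h14 a ha))
  rw [← act_act_inv g (hp (act g v)), hA.2.1 (act g⁻¹ (hp (act g v))) fun r => ?_]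
  · exact mulVec_zero _
  · have := e.ge (Subgroup.mem_top (xG chevE8 (ZMod 3) r 1))
    have e1 : (H67.toAlg chevE8 (ZMod 3) (xG chevE8 (ZMod 3) r 1)).1 = xU chevE8 K3 r 1 :=
      (map_xU _ _ _).trans (by rw [map_one])
    change _ ∨ _ at this
    rwa [ad_eq, e1] at this

theorem main (hH : JobHub) (hF : JobForm) (hD : JobDim) (hM : JobM) {F : Type u} [Field F]
    [Fintype F] (h7 : Fintype.card F = 7) (H : Subgroup G8)
    (h : Nonempty (↥(generalizedFittingSubgroup ↥H) ≃* PSL(2, F))) : ¬ IsCoatom H := by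
  intro hc
  obtain ⟨ψ, h1, h2, h3, h4, h5, h6, h8⟩ := jobGrp h7 H h
  obtain ⟨β, h9, h10⟩ := hF
  have h11 : ¬ ∀ v : V8, (∀ g, ad (ψ g) v = v) → v = 0 := fun h11 => by
    have := hM K3 V8 (ad.comp ψ) β (by simp [h1]) h9 (fun g => h10 _) h11
    have h12 := (hD _).1 h2
    have h13 := (hD _).2 h3
    rw [finrank_ad] at this
    exact absurd ((add_le_add (Nat.mul_le_mul_left 3 h12) (Nat.mul_le_mul_left 2 h13)).trans this)
      (by decide)
  push Not at h11
  obtain ⟨v, h12, h13⟩ := h11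
  obtain ⟨w, h14, h15, h16⟩ := jobRat H ψ.range h4 h5 v h13 (by rintro _ ⟨g, rfl⟩; exact h12 g)
  rcases hH H hc w h14 h15 h16 with h17 | ⟨A, h17, h18, h19⟩
  · exact h6 h17
  · exact (h8 A h17 h18).not_ge h19

end H40.E8F
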