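/- Tower E8F: the hub, unconditionally. -/
import Cfsg.Agent.H40.E8FGrp
import Cfsg.Agent.H40.E8FAd
import Cfsg.Agent.H78.E8Red
import Cfsg.Agent.H73.E8Pow
import Cfsg.Agent.H99.E8Kempf
import Cfsg.Agent.H66.E8FOpt
import Cfsg.Agent.H20.E8Strip
import Cfsg.Agent.H81.E8Nil
import Cfsg.Agent.H81.E8SS
import Cfsg.Agent.H72.E8FTw

set_option autoImplicit false

namespace H40.E8F

theorem hub : JobHub :=
  jobHub H78.E8F.jobB jobJD jobAd (jobJor H73.E8Pow.jobPow)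
    (H81.E8Nil.jobNil (H99.E8K.jobKempf H66.E8FOpt.jobOpt))
    (H81.E8SS.jobSS H20.E8F.jobStrip H72.E8F.jobTw)

end H40.E8F
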