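/- Tower E8G: subgroups of `E₈(3)` with generalized Fitting subgroup `Sz(8)`, `Ω₈⁺(2)`, `L₂(13)` or
`Sp₆(2)` are not maximal. Definitions and job statements; the plan is in `blueprints/E8G.md`. -/
import Cfsg.Agent.H40.E8FSpec
import Cfsg.Prelude.Def_Sz
import Cfsg.Prelude.Def_Classical

set_option autoImplicit false

namespace H40.E8G

open Cfsg.Lie H63 H64 H65 H46 H14.E8 Matrix Module H40.E8F
open scoped MatrixGroups

universe u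

attribute [local instance] H65.tabE8 H65.commE8

/-- The vectors fixed by a set of group elements. -/
noncomputable def Fx {k V : Type} {Γ : Type*} [Field k] [AddCommGroup V] [Module k V] (ρ : Γ → End k V)
    (S : Set Γ) : Submodule k V := ⨅ g ∈ S, fx (ρ g)

theorem mem_fx {k V : Type} [Field k] [AddCommGroup V] [Module k V] {f : End k V} {v : V} :
    v ∈ fx f ↔ f v = v := by
  rw [End.mem_eigenspace_iff, one_smul]

theorem mem_Fx {k V : Type} {Γ : Type*} [Field k] [AddCommGroup V] [Module k V] {ρ : Γ → End k V}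
    {S : Set Γ} {v : V} : v ∈ Fx ρ S ↔ ∀ g ∈ S, ρ g v = v := by
  simp only [Fx, Submodule.mem_iInf, mem_fx]

/-- The subspace is stable under the Frobenius map on coordinates. -/
def FrSt (W : Submodule K3 V8) : Prop := ∀ v ∈ W, frobenius K3 3 ∘ v ∈ W

/-! ### The stronger hub -/

/-- A twisted torus has a point killed by a small stable set of roots. -/
def JobTwZ : Prop := ∀ (L : List ℕ) (Ψ : Set (Rt chevE8)), (∀ r, (wW chevE8 L).1 r ∈ Ψ ↔ r ∈ Ψ) →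
  (∀ r ∈ Ψ, negR r ∈ Ψ) → {r | r ∈ Ψ ∧ Pos r}.ncard < 8 →
  ∃ c ∈ Tw chevE8 L (frobenius K3 3), c ≠ 1 ∧ ∀ r ∈ Ψ, chi chevE8 c r = 1

/-- The fixed points of a twisted Frobenius map. -/
def Tfix {n k : Type} [Fintype n] [DecidableEq n] [Field k] (P : GL n k) (φ : k →+* k) :
    Subgroup (GL n k) :=
  ((MulAut.conj P).toMonoidHom.comp (GeneralLinearGroup.map φ)).eqLocus (MonoidHom.id _)

theorem mem_Tfix {n k : Type} [Fintype n] [DecidableEq n] [Field k] {P g : GL n k} {φ : k →+* k} :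
    g ∈ Tfix P φ ↔ P * GeneralLinearGroup.map φ g * P⁻¹ = g := Iff.rfl

/-- The twisted points of a unipotent subgroup. -/
def JobU : Prop := ∀ (D : ChevalleyDatum) [RS D] [Tab D] [Comm D] (k : Type) [Field k]
  [IsAlgClosed k] (φ : k →+* k) (q : ℕ), 2 ≤ q → Odd q → (q : k) = 0 → (∀ t, φ t = t ^ q) →
  ∀ (L : List ℕ) (Ψ : Set (Rt D)), (∀ r ∈ Ψ, Pos r) →
  (∀ r ∈ Ψ, ∀ s ∈ Ψ, ∀ (c : Rt D) (i j : ℤ), 1 ≤ i → 1 ≤ j → rt c = i • rt r + j • rt s → c ∈ Ψ) →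
  (∀ r ∈ Ψ, (wW D L).1 r ∈ Ψ) →
  q ^ Ψ.ncard ∣ Nat.card ↥(gen (XR D (xU D k)) Ψ ⊓ Tfix (nL D (xU D k) L) φ)

/-- The hub. -/
def JobHub2 : Prop := ∀ (H : Subgroup G8), IsCoatom H → ∀ v : V8, v ≠ 0 → Rat v →
  (∀ h ∈ H, ad h v = v ∨ ad h v = -v) → 3 ^ 8 ∣ Nat.card H ∨
  ∃ Z : Subgroup G8, Z ≤ H ∧ Z ≠ ⊥ ∧ (∀ a ∈ Z, ∀ b ∈ Z, a * b = b * a) ∧
    ∀ h ∈ H, ∀ a ∈ Z, h * a * h⁻¹ ∈ Z

/-! ### Dimensions -/

/-- An element of order seven on a rational subspace. -/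
def JobRat7 : Prop := ∀ (W : Submodule K3 V8) (y : G8), y ^ 7 = 1 → FrSt W →
  (∀ v ∈ W, ad y v ∈ W) → ∃ m, finrank K3 W = finrank K3 ↥(W ⊓ fx (ad y)) + 6 * m

def JobDim2 : Prop := ∀ g : G8, (orderOf g = 2 → 120 ≤ finrank K3 (fx (ad g))) ∧
  (orderOf g = 5 → 48 ≤ finrank K3 (fx (ad g))) ∧ (orderOf g = 7 → 38 ≤ finrank K3 (fx (ad g))) ∧
  (orderOf g = 13 → 20 ≤ finrank K3 (fx (ad g)))

/-! ### `L₂(13)` -/

/-- The group `SL₂(13)`. -/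
abbrev S13 : Type := SL(2, ZMod 13)

def eu : S13 := ⟨!![1, 1; 0, 1], by decide⟩
def ew : S13 := ⟨!![0, 12; 1, 0], by decide⟩
def et : S13 := ⟨!![3, 0; 0, 9], by decide⟩
def ez : S13 := ⟨!![8, 0; 0, 5], by decide⟩
def eb : S13 := ⟨!![2, 1; 6, 10], by decide⟩

/-- Scott's lemma, the dihedral group of order 26, and the Frobenius group of order 39. -/
def JobLin : Prop := ∀ (k V : Type) [Field k] [CharP k 3] [AddCommGroup V] [Module k V]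
  [FiniteDimensional k V],
  (∀ x y : End k V, IsUnit x → IsUnit y → (∀ v, x v = v → y v = v → v = 0) →
    LinearMap.range (x - 1) ⊔ LinearMap.range (y - 1) = ⊤ →
    finrank k (fx x) + finrank k (fx y) + finrank k (fx (x * y)) ≤ finrank k V) ∧
  (∀ u z : End k V, u ^ 13 = 1 → z * z = 1 → z * u * (z * u) = 1 →
    finrank k V + 2 * finrank k ↥(fx u ⊓ fx z) ≤ finrank k (fx u) + 2 * finrank k (fx z)) ∧
  ∀ u t : End k V, u ^ 13 = 1 → t ^ 3 = 1 → t * u = u ^ 9 * t → (∀ v, u v = v → t v = v) →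
    finrank k V + 2 * finrank k (fx u) ≤ 3 * finrank k (fx t)

/-- The Hecke involution. -/
noncomputable def hk {k V : Type} [Field k] [AddCommGroup V] [Module k V] (ρ : S13 →* End k V) :
    End k V := ∑ i ∈ Finset.range 13, ρ (eu ^ i * ew) + (1 + ρ et + ρ et ^ 2)

/-- The fixed space of the dihedral group of order 26 is a module for `S₃`. -/
def JobHk : Prop := ∀ (k V : Type) [Field k] [CharP k 3] [AddCommGroup V] [Module k V]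
  (ρ : S13 →* End k V), ρ (-1) = 1 → ∀ v ∈ fx (ρ eu) ⊓ fx (ρ ez),
  ρ et v ∈ fx (ρ eu) ⊓ fx (ρ ez) ∧ hk ρ v ∈ fx (ρ eu) ⊓ fx (ρ ez) ∧ hk ρ (hk ρ v) = v ∧
  hk ρ (ρ et v) = ρ et (ρ et (hk ρ v)) ∧ (ρ et v = v → hk ρ v = v → ∀ g, ρ g v = v) ∧
  ∀ β : V →ₗ[k] V →ₗ[k] k, (∀ g a b, β (ρ g a) (ρ g b) = β a b) →
    ∀ w ∈ fx (ρ eu) ⊓ fx (ρ ez), β (hk ρ v) (hk ρ w) = β v w

/-- In a simple module the element of order three fixes what the unipotent element fixes. -/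
def JobSim : Prop := ∀ (k V : Type) [Field k] [CharP k 3] [AddCommGroup V] [Module k V]
  (ρ : S13 →* End k V), (∀ W : Submodule k V, (∀ g, ∀ v ∈ W, ρ g v ∈ W) → W = ⊥ ∨ W = ⊤) →
  ∀ v, ρ eu v = v → ρ et v = v

/-- The number of trivial composition factors. -/
def JobInd : Prop := ∀ (k V : Type) [Field k] [CharP k 3] [AddCommGroup V] [Module k V]
  [FiniteDimensional k V] (ρ : S13 →* End k V), ρ (-1) = 1 →
  3 * finrank k (fx (ρ ez)) + 3 * finrank k (fx (ρ (ew * eb))) + 2 * finrank k (fx (ρ eu)) ≤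
    2 * finrank k V + 6 * finrank k ↥(fx (ρ eu) ⊓ fx (ρ ez) ⊓ fx (hk ρ))

def JobM13 : Prop := ∀ (k V : Type) [Field k] [CharP k 3] [AddCommGroup V] [Module k V]
  [FiniteDimensional k V] (ρ : S13 →* End k V) (β : V →ₗ[k] V →ₗ[k] k), ρ (-1) = 1 →
  (∀ v, (∀ w, β v w = 0) → v = 0) → (∀ g v w, β (ρ g v) (ρ g w) = β v w) →
  (∀ v, (∀ g, ρ g v = v) → v = 0) →
  finrank k (fx (ρ ez)) + 3 * finrank k (fx (ρ (ew * eb))) + finrank k (fx (ρ eu)) ≤ finrank k V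

def JobL13 : Prop := ∀ {F : Type u} [Field F] [Fintype F], Fintype.card F = 13 →
  ∀ ψ : PSL(2, F) →* G8, Function.Injective ψ → ∃ v : V8, v ≠ 0 ∧ ∀ g, ad (ψ g) v = v

/-! ### `Sz(8)` -/

/-- The partition formula for a group of order prime to three. -/
def JobPart : Prop := ∀ (Γ : Type u) [Group Γ] [Finite Γ] (ψ : Γ →* G8), ¬ 3 ∣ Nat.card Γ →
  ∀ P : Finset (Subgroup Γ), (∀ g : Γ, g ≠ 1 → ∃! K, K ∈ P ∧ g ∈ K) →
  ∑ K ∈ P, ((Nat.card K : ℤ) * finrank K3 (Fx (fun g => ad (ψ g)) (K : Set Γ)) - 248) + 248 =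
    Nat.card Γ * finrank K3 (Fx (fun g => ad (ψ g)) Set.univ)

def JobSz : Prop := ∀ {F : Type u} [Field F] [Fintype F], Fintype.card F = 8 →
  ∀ ψ : ↥(Cfsg.Lie.Sz F 4) →* G8, Function.Injective ψ → ∃ v : V8, v ≠ 0 ∧ ∀ g, ad (ψ g) v = v

/-! ### `Ω₈⁺(2)` -/

/-- The group `Ω₈⁺(2)`. -/
abbrev O8 : Type := Cfsg.Omega (ZMod 2) (Cfsg.quadFormPlus 4 (ZMod 2))

/-- An elementary abelian group of order 64 with classes of sizes 35 and 28. -/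
def JobE10 : Prop := ∀ φ : Multiplicative (Fin 6 → ZMod 2) →* G8, Function.Injective φ →
  ∀ c : Multiplicative (Fin 6 → ZMod 2) → Bool,
  (Finset.univ.filter fun v => v ≠ 1 ∧ c v = true).card = 35 →
  (∀ v w, v ≠ 1 → w ≠ 1 → c v = c w → IsConj (φ v) (φ w)) →
  finrank K3 (Fx (fun v => ad (φ v)) Set.univ) = 10

/-- An elementary abelian group of order 8 on a space of dimension ten. -/
def JobQ3 : Prop := ∀ (k V : Type) [Field k] [AddCommGroup V] [Module k V] [FiniteDimensional k V]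
  (M : Submodule k V) (χ : Multiplicative (Fin 3 → ZMod 2) →* End k V), (2 : k) ≠ 0 →
  finrank k M = 10 → (∀ a, ∀ v ∈ M, χ a v ∈ M) →
  (∀ a b, a ≠ 1 → b ≠ 1 → finrank k ↥(M ⊓ fx (χ a)) = finrank k ↥(M ⊓ fx (χ b))) →
  finrank k ↥(M ⊓ Fx χ Set.univ) = 3 ∨ finrank k ↥(M ⊓ Fx χ Set.univ) = 10

/-- `L₄(2)` on a rational subspace of dimension ten. -/
def JobL4 : Prop := ∀ (θ : SL(4, ZMod 2) →* G8) (M : Submodule K3 V8), FrSt M →
  finrank K3 M = 10 → (∀ A, ∀ v ∈ M, ad (θ A) v ∈ M) →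
  (∃ v ∈ M, v ≠ 0 ∧ ∀ A, ad (θ A) v = v) ∧
  ∀ v ∈ M, (∀ A : SL(4, ZMod 2), (∀ i j, j < i → A.1 i j = 0) → ad (θ A) v = v) →
    ∀ A, ad (θ A) v = v

def JobO8 : Prop :=
  ∀ ψ : O8 →* G8, Function.Injective ψ → ∃ v : V8, v ≠ 0 ∧ ∀ g, ad (ψ g) v = v

/-! ### `Sp₆(2)` -/

/-- The group `Sp₆(2)`. -/
abbrev Sp6 : Type := symplecticGroup (Fin 3) (ZMod 2)

/-- An element of `Sp₆(2)` from three blocks. -/
def mkS (A B D : Matrix (Fin 3) (Fin 3) (ZMod 2))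
    (h : fromBlocks A B 0 D * J (Fin 3) (ZMod 2) * (fromBlocks A B 0 D)ᵀ = J (Fin 3) (ZMod 2)) :
    Sp6 := ⟨fromBlocks A B 0 D, SymplecticGroup.mem_iff.2 h⟩

/-- The positive root elements `2e₁, 2e₂, 2e₃, e₁+e₂, e₁+e₃, e₂+e₃, e₁-e₂, e₁-e₃, e₂-e₃`. -/
def sr : Fin 9 → Sp6 :=
  ![mkS 1 !![1, 0, 0; 0, 0, 0; 0, 0, 0] 1 (by decide +kernel),
    mkS 1 !![0, 0, 0; 0, 1, 0; 0, 0, 0] 1 (by decide +kernel),
    mkS 1 !![0, 0, 0; 0, 0, 0; 0, 0, 1] 1 (by decide +kernel),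
    mkS 1 !![0, 1, 0; 1, 0, 0; 0, 0, 0] 1 (by decide +kernel),
    mkS 1 !![0, 0, 1; 0, 0, 0; 1, 0, 0] 1 (by decide +kernel),
    mkS 1 !![0, 0, 0; 0, 0, 1; 0, 1, 0] 1 (by decide +kernel),
    mkS !![1, 1, 0; 0, 1, 0; 0, 0, 1] 0 !![1, 0, 0; 1, 1, 0; 0, 0, 1] (by decide +kernel),
    mkS !![1, 0, 1; 0, 1, 0; 0, 0, 1] 0 !![1, 0, 0; 0, 1, 0; 1, 0, 1] (by decide +kernel),
    mkS !![1, 0, 0; 0, 1, 1; 0, 0, 1] 0 !![1, 0, 0; 0, 1, 0; 0, 1, 1] (by decide +kernel)]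

/-- The fixed spaces of the Sylow 2-subgroup and of the radicals of the minimal parabolics. -/
def SpIneq {k V : Type} [Field k] [AddCommGroup V] [Module k V] (ρ : Sp6 → End k V) : Prop :=
  finrank k (Fx (fun j => ρ (sr j)) {j | j ≠ 6}) + finrank k (Fx (fun j => ρ (sr j)) {j | j ≠ 8}) +
    finrank k (Fx (fun j => ρ (sr j)) {j | j ≠ 2}) <
      4 * finrank k (Fx (fun j => ρ (sr j)) Set.univ)

def JobSpA : Prop := ∀ ψ : Sp6 →* G8, Function.Injective ψ → SpIneq fun g => ad (ψ g)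

def JobSpC : Prop := ∀ (k V : Type) [Field k] [AddCommGroup V] [Module k V] [FiniteDimensional k V]
  (ρ : Sp6 →* End k V), SpIneq ρ → ∃ v : V, v ≠ 0 ∧ ∀ g, ρ g v = v

/-! ### The group theory -/

def JobGrp2 : Prop := ∀ {G : Type} [Group G] [Finite G] (H : Subgroup G) {S : Type u} [Group S]
  [IsSimpleGroup S], (∃ a b : S, a * b ≠ b * a) → Nat.card (MulAut S) ∣ 6 * Nat.card S →
  Nonempty (↥(Cfsg.generalizedFittingSubgroup ↥H) ≃* S) →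
  ∃ ψ : S →* G, Function.Injective ψ ∧ ψ.range ≤ H ∧ (∀ h ∈ H, ∀ a ∈ ψ.range, h * a * h⁻¹ ∈ ψ.range) ∧
    Nat.card H ∣ 6 * Nat.card S ∧
    ∀ Z : Subgroup G, Z ≤ H → (∀ a ∈ Z, ∀ b ∈ Z, a * b = b * a) →
      (∀ h ∈ H, ∀ a ∈ Z, h * a * h⁻¹ ∈ Z) → Z = ⊥

/-- A rational line fixed by an extension of degree dividing six. -/
def JobRat2 : Prop := ∀ (H S : Subgroup G8), S ≤ H → (∀ h ∈ H, ∀ a ∈ S, h * a * h⁻¹ ∈ S) →
  Nat.card H ∣ 6 * Nat.card S → ∀ v : V8, v ≠ 0 → (∀ g ∈ S, ad g v = v) →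
  ∃ v' : V8, v' ≠ 0 ∧ Rat v' ∧ ∀ h ∈ H, ad h v' = v' ∨ ad h v' = -v'

end H40.E8G
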