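/- Tower E8G: the stabiliser of a rational line has a large Sylow 3-subgroup or an abelian normal
subgroup. -/
import Cfsg.Agent.H40.E8GSpec
import Cfsg.Agent.H40.E8FHub
import Cfsg.Agent.H63.Long

set_option autoImplicit false
set_option linter.unusedSectionVars false

namespace H40.E8G

open Cfsg.Lie H63 H64 H65 H46 H14.E8 Matrix Module H40.E8F H81.E8SS

section Gen

variable {D : ChevalleyDatum} [RS D] {k : Type} [Field k]

theorem rv_comb (v : D.Idx → k) {r s u : Rt D} {a b : ℤ} (h : rt u = a • rt r + b • rt s) :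
    rv v u = a * rv v r + b * rv v s := by
  simp only [rv, cartan_of_comb _ h, Finset.mul_sum, ← Finset.sum_add_distrib]
  exact Finset.sum_congr rfl fun i _ => by push_cast; ring

theorem rv_negR (v : D.Idx → k) (r : Rt D) : rv v (negR r) = - rv v r := by
  rw [rv_comb v (r := r) (s := r) (a := -1) (b := 0) (by rw [rt_negR]; simp)]; simp

theorem rv_neg (v : D.Idx → k) (r : ℕ) : rv (-v) r = - rv v r := by simp [rv]

variable [Tab D] [Comm D]

theorem x_mem_CC {h : D.Idx → k} {r : Rt D} (hr : rv h r = 0) (t : k) : xU D k r t ∈ CC h :=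
  Subgroup.mem_sup_left (le_gen _ (c := r) hr (x_mem_XR D _ r t))

theorem nn_mem_CC {h : D.Idx → k} {r : Rt D} (hr : rv h r = 0) : nn D (xU D k) r 1 ∈ CC h := by
  rw [nn_eq]
  exact mul_mem (mul_mem (x_mem_CC hr _) (x_mem_CC (r := negR r)
    (by rw [rv_negR, hr, neg_zero]) _)) (x_mem_CC hr _)

theorem conj_CC {m : GL D.Idx k} {w : (H64.wdata D).W} (hm : m ∈ (stB_xU D k).rgd.N)
    (hw : (stB_xU D k).rgd.Act m w) {h : D.Idx → k} {y : GL D.Idx k} (hy : y ∈ CC h) :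
    m * y * m⁻¹ ∈ CC (act m h) := by
  refine (sup_le ?_ ?_ : CC h ≤ (CC (act m h)).comap (MulAut.conj m).toMonoidHom) hy
  · exact fun u hu => Subgroup.mem_sup_left (hw.conj_gen (fun r hr =>
      ((jobN D k _ _ hm hw).2.2 h r).trans hr) hu)
  · exact fun u hu => Subgroup.mem_sup_right ((stB_xU D k).rgd.conj_H hm hu)

theorem strip_N {h₁ : D.Idx → k} (hh : InH h₁) {m : GL D.Idx k} {w : (H64.wdata D).W}
    (hm : m ∈ (stB_xU D k).rgd.N) (hw : (stB_xU D k).rgd.Act m w) :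
    ∃ L : List ℕ, ∃ y ∈ CC (act m h₁), m = y * nL D (xU D k) L ∧
      ∀ r : Rt D, Pos r → rv h₁ r = 0 → Pos ((wW D L).1 r) := by
  induction hn : (H64.wdata D).len w using Nat.strong_induction_on generalizing m w with
  | _ n ih =>
  by_cases hp : ∀ r : Rt D, Pos r → rv h₁ r = 0 → Pos (w.1 r)
  · obtain ⟨l, h, h1, e⟩ := (stB_xU D k).rgd.mem_N_iff.1 hm
    have h2 := (nL_mem_act (stB_xU D k) (l.map Fin.val))
    rw [H20.E8F.nw_eq] at e
    refine ⟨l.map Fin.val, _, Subgroup.mem_sup_right ((stB_xU D k).rgd.conj_H h2.1 h1),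
      by rw [e]; group, ?_⟩
    rwa [show wW D (l.map Fin.val) = w from
      (mul_one _).symm.trans ((h2.2.mul ((stB_xU D k).rgd.act_H h1)).unique (e ▸ hw))]
  · push Not at hp
    obtain ⟨r, h1, h2, h3⟩ := hp
    obtain ⟨L, y, hy, h4, h5⟩ := ih _ (hn ▸ H67.len_mul_reflW_lt h1 h3)
      (mul_mem hm ((stB_xU D k).nn_mem_N r one_ne_zero)) (hw.mul (H67.act_nn (stB_xU D k) r)) rfl
    rw [act_mul, act_CC hh (nn_mem_CC h2)] at hy
    refine ⟨L, (m * nn D (xU D k) r 1 * m⁻¹)⁻¹ * y,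
      mul_mem (inv_mem (conj_CC hm hw (nn_mem_CC h2))) hy, ?_, h5⟩
    rw [mul_assoc, ← h4]
    group

theorem strip2 {h₀ h₁ : D.Idx → k} (hh₀ : InH h₀) (hh₁ : InH h₁) {c : GL D.Idx k}
    (hc : c ∈ D.group k) (e : act c h₁ = h₀) : ∃ L : List ℕ, ∃ y ∈ CC h₀,
      c = y * nL D (xU D k) L ∧ act (nL D (xU D k) L) h₁ = h₀ ∧
      ∀ r : Rt D, Pos r → rv h₁ r = 0 → Pos ((wW D L).1 r) := by
  obtain ⟨L, y, hy, rfl⟩ := H20.E8F.jobStrip D k _ _ hh₀ hh₁ c hc e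
  have e1 : ∀ {y m : GL D.Idx k}, y ∈ CC h₀ → act (y * m) h₁ = h₀ → act m h₁ = h₀ :=
    fun {y m} hy e => by rw [← act_inv_act y (act _ _), ← act_mul, ← act_mul, mul_assoc, act_mul, e,
      act_CC hh₀ (inv_mem hy)]
  obtain ⟨hN, hw⟩ := nL_mem_act (stB_xU D k) L
  obtain ⟨L', y', hy', h1, h2⟩ := strip_N hh₁ hN hw
  rw [e1 hy e] at hy'
  rw [h1, ← mul_assoc] at e ⊢
  exact ⟨L', _, mul_mem hy hy', rfl, e1 (mul_mem hy hy') e, h2⟩

theorem CC_le (h : D.Idx → k) : CC h ≤ D.group k := by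
  rw [group_eq]
  exact sup_le (gen_mono _ (Set.subset_univ _)) HH_le_GG

theorem CC_comm {h : D.Idx → k} {c : Fin D.rank → kˣ} (hc : ∀ r : Rt D, rv h r = 0 → chi D c r = 1)
    {y : GL D.Idx k} (hy : y ∈ CC h) : y * tor D k c = tor D k c * y :=
  Subgroup.mem_centralizer_singleton_iff.1 (H67.CP_le torOK_xU (stB_xU D k).toStN c
    (sup_le_sup_right (gen_mono _ hc) _ hy))

variable [IsAlgClosed k] {φ : k →+* k}

theorem exists_x2 {q : ℕ} (hq : 2 ≤ q) (hφ : ∀ t, φ t = t ^ q) {s : D.Idx → k}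
    (hs : φ ∘ s = s) {g : GL D.Idx k} (hg : g ∈ D.group k) (h0 : InH (act g s)) :
    ∃ x ∈ D.group k, ∃ L, x⁻¹ * GeneralLinearGroup.map φ x = nL D (xU D k) L ∧
      InH (act x⁻¹ s) ∧ (∀ r : Rt D, rv (act x⁻¹ s) ((wW D L).1 r) = 0 ↔ rv (act x⁻¹ s) r = 0) ∧
      ∀ r : Rt D, Pos r → rv (act x⁻¹ s) r = 0 → Pos ((wW D L).1 r) := by
  have e1 : φ ∘ act g s = act (GeneralLinearGroup.map φ g) s := by rw [comp_act, hs]
  have e2 : act (g * (GeneralLinearGroup.map φ g)⁻¹) (φ ∘ act g s) = act g s := by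
    rw [e1, act_mul, act_inv_act]
  obtain ⟨L, c, hc, e, e3, e5⟩ := strip2 h0 (fun r => by
    rw [Function.comp_apply, h0 r, map_zero]) (mul_mem hg (inv_mem (map_mem_group φ hg))) e2
  obtain ⟨hN, hw⟩ := nL_mem_act (stB_xU D k) L
  have e6 : ∀ r : Rt D, rv (act g s) ((wW D L).1 r) = φ (rv (act g s) r) := fun r => by
    have := (jobN D k _ _ hN hw).2.2 (φ ∘ act g s) r
    rwa [e3, rv_comp] at this
  have hθ : ∀ (r : Rt D) t, GeneralLinearGroup.map φ (xU D k r t) = xU D k r (φ t) :=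
    fun r t => map_xU φ r t
  have hP : GeneralLinearGroup.map φ (nL D (xU D k) L) = nL D (xU D k) L :=
    map_nL _ (fun i => (fld_nn hθ (simpleR i) 1).trans (by rw [map_one]; rfl)) L
  obtain ⟨n, hn, h9⟩ := H67.Sub.exists_pow_eq_one_of_fix hq hφ hP
  obtain ⟨y, hy, e4⟩ := (conn_gen_sup {r : Rt D | rv (act g s) r = 0}).lang_tw φ hq hφ _ hP hn
    (fun g _ => by rw [h9, one_mul, mul_one]) (fun y hy => by
      refine (sup_le ?_ ?_ : CC (act g s) ≤ (CC (act g s)).comap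
        ((MulAut.conj (nL D (xU D k) L)).toMonoidHom.comp (GeneralLinearGroup.map φ))) hy
      · refine fun u hu => Subgroup.mem_sup_left (hw.conj_gen (fun r hr => ?_) (fld_gen hθ hu))
        exact (e6 r).trans (by rw [show rv (act g s) r = 0 from hr, map_zero])
      · exact fun u hu => Subgroup.mem_sup_right ((stB_xU D k).rgd.conj_H hN (fld_HH hθ hu))) hc
  have e7 : act (g⁻¹ * y⁻¹)⁻¹ s = act g s := by
    rw [_root_.mul_inv_rev, inv_inv, inv_inv, act_mul, act_CC h0 hy]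
  refine ⟨g⁻¹ * y⁻¹, mul_mem (inv_mem hg) (inv_mem (CC_le _ hy)), L, ?_, ?_⟩
  · calc _ = y * (g * (GeneralLinearGroup.map φ g)⁻¹) * (GeneralLinearGroup.map φ y)⁻¹ := by
          rw [map_mul, map_inv, map_inv]; group
      _ = _ := by rw [e, ← e4]; group
  · rw [e7]
    exact ⟨h0, fun r => by rw [e6, map_eq_zero], fun r h1 h2 => e5 r h1 (by
      rw [rv_comp, h2, map_zero])⟩

variable {F : Type} [Field F] [Finite F] {ι : F →+* k}

theorem exists_rat (hfix : ∀ t, φ t = t ↔ t ∈ ι.range) (hc : cker D kˣ = ⊥) {x : GL D.Idx k}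
    (hx : x ∈ D.group k) {P : GL D.Idx k} (e : x⁻¹ * GeneralLinearGroup.map φ x = P)
    {u : GL D.Idx k} (hu : u ∈ D.group k) (hu' : u ∈ Tfix P φ) :
    ∃ a : D.group F, (mapG D ι a : GL D.Idx k) = x * u * x⁻¹ := by
  obtain ⟨y, hy⟩ : (⟨x * u * x⁻¹, mul_mem (mul_mem hx hu) (inv_mem hx)⟩ : D.group k) ∈
      (mapG D ι).range := by
    rw [range_mapG matOK matOK hc ι φ hfix]
    refine Subtype.ext ?_
    change GeneralLinearGroup.map φ (x * u * x⁻¹) = x * u * x⁻¹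
    conv_rhs => rw [← mem_Tfix.1 hu', ← e]
    rw [map_mul, map_mul, map_inv]
    group
  exact ⟨y, congrArg Subtype.val hy⟩

theorem dvd_card (hfix : ∀ t, φ t = t ↔ t ∈ ι.range) (hc : cker D kˣ = ⊥) {s : D.Idx → k}
    {x : GL D.Idx k} (hx : x ∈ D.group k) {P : GL D.Idx k}
    (e : x⁻¹ * GeneralLinearGroup.map φ x = P) (h0 : InH (act x⁻¹ s)) {H : Subgroup (D.group F)}
    (hH : ∀ a : D.group F, act (mapG D ι a : GL D.Idx k) s = s → a ∈ H) {A : Subgroup (GL D.Idx k)}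
    (hA : A ≤ CC (act x⁻¹ s)) : Nat.card ↥(A ⊓ Tfix P φ) ∣ Nat.card H := by
  let θ := (D.group k).subtype.comp (mapG D ι)
  have hθ : Function.Injective θ := Subtype.val_injective.comp (mapG_injective ι)
  rw [← Subgroup.card_map_of_injective (K := H) hθ,
    ← Subgroup.card_map_of_injective (f := (MulAut.conj x).toMonoidHom) (MulAut.conj x).injective]
  refine Subgroup.card_dvd_of_le ?_
  rintro _ ⟨u, ⟨h1, h2⟩, rfl⟩
  obtain ⟨a, ha⟩ := exists_rat hfix hc hx e (CC_le _ (hA h1)) h2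
  refine ⟨a, hH a ?_, ha⟩
  rw [ha, act_mul, act_mul, act_CC h0 (hA h1), act_act_inv]

theorem exists_Z (hfix : ∀ t, φ t = t ↔ t ∈ ι.range) (hc : cker D kˣ = ⊥) {s : D.Idx → k}
    {x : GL D.Idx k} (hx : x ∈ D.group k) {L : List ℕ}
    (e : x⁻¹ * GeneralLinearGroup.map φ x = nL D (xU D k) L) (h0 : InH (act x⁻¹ s))
    {c : Fin D.rank → kˣ} (h1 : c ∈ Tw D L φ) (h2 : c ≠ 1)
    (h3 : ∀ r : Rt D, rv (act x⁻¹ s) r = 0 → chi D c r = 1) :
    ∃ Z : Subgroup (D.group F), (∀ a ∈ Z, act (mapG D ι a : GL D.Idx k) s = s) ∧ Z ≠ ⊥ ∧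
      (∀ a ∈ Z, ∀ b ∈ Z, a * b = b * a) ∧ ∀ h : D.group F,
        act (mapG D ι h : GL D.Idx k) s = s ∨ act (mapG D ι h : GL D.Idx k) s = -s →
        ∀ a ∈ Z, h * a * h⁻¹ ∈ Z := by
  have T := twT_untw hfix (tor_injective_of_cker hc) hx e
  let θ := (D.group k).subtype.comp (mapG D ι)
  have hθ : Function.Injective θ := Subtype.val_injective.comp (mapG_injective ι)
  let τ := (MulAut.conj x).toMonoidHom.comp (tor D k)
  let C : Subgroup (Fin D.rank → kˣ) :=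
    { carrier := {c | ∀ r : Rt D, rv (act x⁻¹ s) r = 0 → chi D c r = 1}
      one_mem' := fun r _ => H67.chi_one r
      mul_mem' := fun ha hb r hr => by rw [H67.chi_mul, ha r hr, hb r hr, one_mul]
      inv_mem' := fun ha r hr => by rw [chi_eq, inv_ev, ← chi_eq, ha r hr, inv_one] }
  refine ⟨(C.map τ).comap θ, fun a ⟨c, _, ha⟩ => ?_, fun h4 => h2 ?_,
    fun a ⟨c, _, ha⟩ b ⟨d, _, hb⟩ => hθ ?_, fun h hh a ⟨c, h4, ha⟩ => ?_⟩
  · change act (θ a) s = s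
    rw [← ha]
    change act (x * tor D k c * x⁻¹) s = s
    rw [act_mul, act_mul, act_CC h0 (Subgroup.mem_sup_right (tor_mem_HH c)), act_act_inv]
  · obtain ⟨a, ha, ha'⟩ := T.conj_mem _ h1
    have h5 : (⟨a, ha⟩ : D.group F) = 1 := h4.le ⟨c, h3, ha'.symm⟩
    refine (MonoidHom.ker_eq_bot_iff _).1 (tor_ker.trans hc) ((MulAut.conj x).injective ?_)
    rw [map_one, map_one]
    exact ha'.symm.trans ((congrArg θ h5).trans (map_one θ))
  · rw [map_mul, map_mul, ← ha, ← hb, ← map_mul, ← map_mul, mul_comm]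
  · obtain ⟨h₁, h5, h6, h7⟩ : ∃ h₁ : D.Idx → k, InH h₁ ∧ act (x⁻¹ * θ h * x) h₁ = act x⁻¹ s ∧
        ∀ r : Rt D, rv h₁ r = 0 ↔ rv (act x⁻¹ s) r = 0 := by
      rcases hh with hh | hh
      · exact ⟨_, h0, by rw [act_mul, act_act_inv, act_mul]; exact congrArg _ hh, fun _ => Iff.rfl⟩
      · refine ⟨-act x⁻¹ s, fun r => by rw [Pi.neg_apply, h0 r, neg_zero], ?_,
          fun r => by rw [rv_neg, neg_eq_zero]⟩
        rw [act, mulVec_neg, ← act, act_mul, act_act_inv, act_mul]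
        exact (congrArg (fun z => -act x⁻¹ z) hh).trans (by rw [act, mulVec_neg, neg_neg])
    obtain ⟨L', y, hy, h8, h9, -⟩ := strip2 h0 h5
      (mul_mem (mul_mem (inv_mem hx) (mapG D ι h).2) hx) h6
    obtain ⟨hN, hw⟩ := nL_mem_act (stB_xU D k) L'
    have h10 := torOK_xU.nL_conj (stB_xU D k).toStN L' c
    have h11 : wT D L' c ∈ C := fun r hr => by
      obtain ⟨r, rfl⟩ := (wW D L').1.surjective r
      rw [torOK_xU.chi_conj (stB_xU D k) hN hw (mul_inv_eq_iff_eq_mul.1 h10)]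
      exact h4 r ((h7 r).1 (by rw [← (jobN D k _ _ hN hw).2.2 h₁ r, h9]; exact hr))
    refine ⟨_, h11, ?_⟩
    change x * tor D k _ * x⁻¹ = θ (h * a * h⁻¹)
    rw [map_mul, map_mul, map_inv, ← ha, show θ h = x * (y * nL D (xU D k) L') * x⁻¹ by
      rw [← h8]; change _ = x * (x⁻¹ * θ h * x) * x⁻¹; group,
      ← mul_inv_cancel_right (tor D k (wT D L' c)) y, ← CC_comm h11 hy, ← h10]
    change _ = _ * (x * tor D k c * x⁻¹) * _
    group

theorem ss2 (hU : JobU) {q n : ℕ} (hq : 2 ≤ q) (ho : Odd q) (hq0 : (q : k) = 0)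
    (hφ : ∀ t, φ t = t ^ q) (hfix : ∀ t, φ t = t ↔ t ∈ ι.range) (hc : cker D kˣ = ⊥)
    (tw : ∀ (L : List ℕ) (Ψ : Set (Rt D)), (∀ r, (wW D L).1 r ∈ Ψ ↔ r ∈ Ψ) →
      (∀ r ∈ Ψ, negR r ∈ Ψ) → {r | r ∈ Ψ ∧ Pos r}.ncard < n →
      ∃ c ∈ Tw D L φ, c ≠ 1 ∧ ∀ r ∈ Ψ, chi D c r = 1)
    {s : D.Idx → k} (hs : φ ∘ s = s) {g : GL D.Idx k}
    (hg : g ∈ D.group k) (h0 : InH (act g s)) {H : Subgroup (D.group F)}
    (hH : ∀ a, a ∈ H ↔
      act (mapG D ι a : GL D.Idx k) s = s ∨ act (mapG D ι a : GL D.Idx k) s = -s) :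
    q ^ n ∣ Nat.card H ∨ ∃ Z : Subgroup (D.group F), Z ≤ H ∧ Z ≠ ⊥ ∧
      (∀ a ∈ Z, ∀ b ∈ Z, a * b = b * a) ∧ ∀ h ∈ H, ∀ a ∈ Z, h * a * h⁻¹ ∈ Z := by
  obtain ⟨x, hx, L, e, h1, h2, h3⟩ := exists_x2 hq hφ hs hg h0
  have h4 : ∀ a, act (mapG D ι a : GL D.Idx k) s = s → a ∈ H := fun a ha => (hH a).2 (.inl ha)
  by_cases h5 : {r | r ∈ {r : Rt D | rv (act x⁻¹ s) r = 0} ∧ Pos r}.ncard < n
  · obtain ⟨c, h6, h7, h8⟩ := tw L _ h2 (fun r hr =>
      (rv_negR _ r).trans (neg_eq_zero.2 hr)) h5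
    obtain ⟨Z, h9, h10, h11, h12⟩ := exists_Z hfix hc hx e h1 h6 h7 h8
    exact .inr ⟨Z, fun a ha => h4 a (h9 a ha), h10, h11, fun h hh => h12 h ((hH h).1 hh)⟩
  · have h6 := hU D k φ q hq ho hq0 hφ L {r | r ∈ {r : Rt D | rv (act x⁻¹ s) r = 0} ∧ Pos r}
      (fun r hr => hr.2) (fun r hr u hu c i j hi hj hc => ⟨(rv_comb _ hc).trans (by
        rw [show rv (act x⁻¹ s) r = 0 from hr.1, show rv (act x⁻¹ s) u = 0 from hu.1, mul_zero,
          mul_zero, add_zero]),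
        pos_of_comb hr.2 hu.2 hi hj hc⟩) fun r hr => ⟨(h2 r).2 hr.1, h3 r hr.2 hr.1⟩
    exact .inl ((pow_dvd_pow q (not_lt.1 h5)).trans (h6.trans (dvd_card hfix hc hx e h1 h4
      ((gen_mono _ fun r hr => hr.1).trans le_sup_left))))

end Gen

attribute [local instance] H65.tabE8 H65.commE8

theorem jobHub2 (tw : JobTwZ) (hU : JobU) : JobHub2 := by
  intro H hH v hv h1 h2
  obtain ⟨h₀, h3, h4⟩ := jobAd.2.2
  obtain ⟨g₁, h5, h6⟩ := H78.E8F.jobB chevE8 K3 h₀ h3 h4 v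
  obtain ⟨g₂, h7, h8⟩ := jobJD chevE8 K3 _ h6
  rw [← act_mul] at h8
  have h9 := mul_mem h7 h5
  generalize g₂ * g₁ = g at h8 h9
  obtain ⟨h10, h11⟩ := jobJor H73.E8Pow.jobPow v g h9 h8.1 h8.2
  by_cases h0 : hp (act g v) = 0
  · obtain ⟨M, h12, h13, h14⟩ := H81.E8Nil.exists_M (ι := algebraMap (ZMod 3) K3)
      (H99.E8K.jobKempf H66.E8FOpt.jobOpt) (q := 3) (by norm_num) (frobenius_def 3) frob_iff
      (kerE8.cker_eq_bot _) H hv h1 h2 ⟨g, h9, h8.1, noH_iff.2 h0⟩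
    rw [(hH.le_iff.1 h12).resolve_left h13, Nat.card_zmod] at h14
    exact .inl ((pow_dvd_pow 3 (show 8 ≤ _ by decide)).trans h14)
  have h15 : H ≤ sgnStab (act g⁻¹ (hp (act g v))) := fun γ hγ => by
    have := h10 _ (H67.toAlg chevE8 (ZMod 3) γ).2
    rcases h2 γ hγ with h | h
    · exact .inl (by rw [ad_eq, this 1 (.inl rfl) (by rw [← ad_eq, h, one_smul]), one_smul])
    · exact .inr (by
        rw [ad_eq, this (-1) (.inr rfl) (by rw [← ad_eq, h, neg_one_smul]), neg_one_smul])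
  suffices e : sgnStab (act g⁻¹ (hp (act g v))) = H from
    ss2 (ι := algebraMap (ZMod 3) K3) hU (by norm_num) (by decide) (CharP.cast_eq_zero K3 3)
      (frobenius_def 3) frob_iff (kerE8.cker_eq_bot _) tw (h11 h1) h9
      (by rw [act_act_inv]; exact inH_hp _) fun a => by rw [← e]; exact Iff.rfl
  refine (hH.le_iff.1 h15).resolve_left fun e => h0 ?_
  rw [← act_act_inv g (hp (act g v)), jobAd.2.1 (act g⁻¹ (hp (act g v))) fun r => ?_]
  · exact mulVec_zero _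
  · have := e.ge (Subgroup.mem_top (xG chevE8 (ZMod 3) r 1))
    have e1 : (H67.toAlg chevE8 (ZMod 3) (xG chevE8 (ZMod 3) r 1)).1 = xU chevE8 K3 r 1 :=
      (map_xU _ _ _).trans (by rw [map_one])
    change _ ∨ _ at this
    rwa [ad_eq, e1] at this

end H40.E8G
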