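/- Tower CB (S1308): job X1. -/
import Cfsg.Agent.H14.CBSpec
import Cfsg.Agent.H14.FEKit

set_option autoImplicit false

namespace H40.CBX1

open Cfsg Subgroup MulAction H14 H98 H1.Gold H31.S2 H14.GC H14.FE H14.NF H14.CB
open scoped commutatorElement

universe u

theorem jobX : JX1.{u} := by
  intro G _ _ K hK E tg out Q₁ T P ⟨col, pg, fu⟩
  have ni := out Q₁ T col
  obtain ⟨g, rfl, rfl⟩ := col.p2
  have TE := col.comm
  have TQ : cj g E ≤ cj g (cen K) := cj_mono g tg.le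
  have elT : El (cj g E) := by
    rintro _ ⟨a, ha, rfl⟩
    rw [← map_mul, tg.el a ha, map_one]
  have c1 : ∀ t ∈ cj g E, t ≠ 1 → cen1 t ≤ nor (cj g (cen K)) := fun t ht h1 =>
    tg.cen_le g t (TQ ht) ⟨h1, elT t ht⟩
  generalize cj g E = T at *
  generalize cj g (cen K) = Q₁ at *
  have TK : T ≤ nor K := by
    obtain ⟨d, hd, h2⟩ := four_exists_inv tg.four
    have := tg.cen_le 1 d (by rw [cj_one]; exact tg.le hd) h2
    rw [cj_one] at this
    exact fun t ht => hK.2.2.2.ge (this (mem_centralizer_singleton_iff.2 (TE ht d hd).symm))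
  have PK : P ≤ cen K := pg.le.trans inf_le_left
  have PE : P ≤ cen E := pg.le.trans inf_le_right
  have KE : K ≤ cen E := le_centralizer_iff.1 tg.le
  refine ⟨TK, inf_le_right, fun d hd => ni d ⟨hd.1, mem_sup_left hd.2⟩,
    le_normalizer_inf (le_normalizer_of_le TQ) TK,
    fun d hd => ni d ⟨sup_le TQ inf_le_left hd.1, sup_le_sup_left tg.le K hd.2⟩,
    fun x hx t ht t1 hc => ?_⟩
  obtain ⟨y, yP, hy⟩ := fu t ht t1 _ hc
  have TP : T ≤ nor P := H1.le_normalizer_of_conj_mem fun a ha b hb => by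
    have := mul_mem (pg.lt.le (pg.cm a ha b hb)) hb
    rwa [commutatorElement_def, inv_mul_cancel_right] at this
  have key : Q₁ ⊓ (K ⊔ P ⊔ T) = T ⊔ Q₁ ⊓ K := by
    refine le_antisymm (fun a ha => ?_) (sup_le (le_inf TQ le_sup_right)
      (inf_le_inf_left _ (le_sup_left.trans le_sup_left)))
    obtain ⟨k', hk', τ, hτ, rfl⟩ := (mem_sup_right_norm (le_normalizer_sup TK TP)).1 ha.2
    have kQ : k' ∈ Q₁ := (mul_mem_cancel_right (TQ hτ)).1 ha.1
    refine mul_mem (mem_sup_right (mem_inf.2 ⟨kQ, ?_⟩)) (mem_sup_left hτ)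
    have hm : k' ^ Nat.card ↥(Q₁ ⊓ (K ⊔ cen K)) = 1 := orderOf_dvd_iff_pow_eq_one.1
      (orderOf_dvd_natCard _ (mem_inf.2 ⟨kQ, sup_le_sup_left PK K hk'⟩))
    obtain ⟨k, hk, p, hp, rfl⟩ := (mem_sup_right_norm (le_normalizer_of_le_centralizer PK)).1 hk'
    have cm : Commute k p := PK hp k hk
    rw [cm.mul_pow] at hm
    have h1 : p ^ Nat.card ↥(Q₁ ⊓ (K ⊔ cen K)) ∈ K :=
      eq_inv_of_mul_eq_one_right hm ▸ inv_mem (pow_mem hk _)
    obtain ⟨n, hn⟩ := isPGroup_iff_forall.1 pg.two p hp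
    refine mul_mem hk (zpowers_le.2 h1 (mem_zpowers_pow_iff.2 ?_))
    exact Nat.Coprime.coprime_dvd_right (orderOf_dvd_of_pow_eq_one hn)
      (Nat.Coprime.pow_right n (Nat.coprime_two_right.2 ni.odd))
  have nX : y⁻¹ * x ∈ K ⊔ P ⊔ T := mul_mem (inv_mem (mem_sup_left (mem_sup_right yP)))
    (sup_le_sup_right (sup_le_sup_left pg.lt.le K) T hx)
  have nQ : y⁻¹ * x ∈ nor Q₁ := c1 t ht t1 (mem_centralizer_singleton_iff.2 (by
    have e : t * y * t⁻¹ * y⁻¹ = t * x * t⁻¹ * x⁻¹ := hy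
    calc y⁻¹ * x * t = y⁻¹ * (t * x * t⁻¹ * x⁻¹)⁻¹ * t * x := by group
      _ = _ := by rw [← e]; group))
  have n1 : y⁻¹ * x ∈ nor (E ⊔ T ⊔ Q₁ ⊓ K) := by
    rw [sup_assoc, ← key]
    exact le_normalizer_sup (H := zpowers (y⁻¹ * x))
      (zpowers_le.2 (centralizer_le_normalizer _ (sup_le (sup_le KE PE) TE nX)))
      (le_normalizer_inf (zpowers_le.2 nQ) (zpowers_le.2 (le_normalizer nX))) (mem_zpowers _)
  have n2 : P ≤ nor (E ⊔ T) := fun b hb => mem_normalizer_of_cj_le (by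
    rw [cj_sup, cj_eq_self (centralizer_le_normalizer _ (PE hb))]
    refine sup_le le_sup_left ?_
    rintro _ ⟨a, ha, rfl⟩
    have := mul_mem (mem_sup_right ha : a ∈ E ⊔ T) (mem_sup_left (pg.cm _ (inv_mem ha) b hb))
    rw [commutatorElement_def] at this
    convert this using 1
    simp [mul_assoc])
  have n3 : y ∈ nor (E ⊔ T ⊔ Q₁ ⊓ K) := le_normalizer_sup n2 (le_normalizer_of_le_centralizer
    (PK.trans (centralizer_le (SetLike.coe_subset_coe.2 inf_le_right)))) yP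
  simpa using mul_mem n3 n1

end H40.CBX1
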