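import Cfsg.Agent.H32.Clifford
import Cfsg.Agent.H28.Degree
import Cfsg.Agent.H9.PBasic

/-!
# Sylow subgroups of symmetric groups: restrictions to orbits and characters of degree `p`.
-/

set_option autoImplicit false
set_option linter.unusedSectionVars false

namespace H40.Sn

open Equiv Cfsg H28

variable {p : ℕ} [hp : Fact p.Prime]

theorem exists_irr_deg_of_hom {G : Type*} [Group G] [Finite G] (M : Subgroup G) [hN : M.Normal]
    (hM : M.index = p) (l : M →* ℂˣ) {x : G} {m : M}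
    (h : l ⟨x * m * x⁻¹, hN.conj_mem m m.2 x⟩ ≠ l m) :
    ∃ φ : IrrCharacter G, charDegree φ.1 = p := by
  have := Fintype.ofFinite G
  have h1 := isIrrCharacter_of_hom l
  have h2 : H32.inertia (fun m : M => (l m : ℂ)) ≤ M := by
    have h3 := H32.le_inertia h1.isClassFunction
    rcases (Nat.dvd_prime hp.out).1 (hM ▸ Subgroup.index_dvd_of_le h3) with h4 | h4
    · exact absurd (Units.ext (H32.inertia_eq_top_iff.1 (Subgroup.index_eq_one.1 h4) x m)) h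
    · exact (Subgroup.relIndex_eq_one.1 (Nat.eq_of_mul_eq_mul_right hp.out.pos (by
        rw [one_mul]; conv_lhs => rw [← h4, Subgroup.relIndex_mul_index h3, hM])))
  refine ⟨⟨_, (H32.isIrrCharacter_indFun_iff h1).2 h2⟩, ?_⟩
  rw [h1.isCharacter.charDegree_indFun, charDegree_hom, hM, mul_one]

theorem exists_coatom {G : Type*} [Group G] [Finite G] (hG : IsPGroup p G) {S : Subgroup G}
    (h : S ≠ ⊤) : ∃ M : Subgroup G, S ≤ M ∧ IsCoatom M ∧ M.Normal ∧ M.index = p := by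
  obtain ⟨M, h1, h2⟩ := (eq_top_or_exists_le_coatom S).resolve_left h
  exact ⟨M, h2, h1, H9.normal_of_isCoatom hG h1, H9.index_of_isCoatom hG h1⟩

theorem exists_hom_of_ne_top {G : Type*} [Group G] [Finite G] (hG : IsPGroup p G) {S : Subgroup G}
    (h : S ≠ ⊤) : ∃ l : G →* ℂˣ, (∀ s ∈ S, l s = 1) ∧ ∃ g, l g ≠ 1 := by
  obtain ⟨M, h1, h2, h3, h4⟩ := exists_coatom hG h
  have : IsCyclic (G ⧸ M) := isCyclic_of_prime_card h4
  let _ : CommGroup (G ⧸ M) := IsCyclic.commGroup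
  obtain ⟨g, hg⟩ := SetLike.exists_of_lt h2.1.lt_top
  have : NeZero (Monoid.exponent (G ⧸ M)) := ⟨Monoid.exponent_ne_zero_of_finite⟩
  obtain ⟨φ, hφ⟩ := CommGroup.exists_apply_ne_one_of_hasEnoughRootsOfUnity (G ⧸ M) ℂ
    (a := (g : G ⧸ M)) (by simpa using hg.2)
  exact ⟨φ.comp (QuotientGroup.mk' M), fun s hs => by
    simp [(QuotientGroup.eq_one_iff s).2 (h1 hs)], g, hφ⟩

variable {Ω : Type*} [Fintype Ω] [DecidableEq Ω]

/-- A permutation acting on every orbit of a normal subgroup `M` of a Sylow subgroup `P` of the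
symmetric group as an element of `M` lies in `P`. -/
theorem mem_sylow_of_orbits (P : Sylow p (Perm Ω)) (M : Subgroup P) [hN : M.Normal] {g : Perm Ω}
    (hg : ∀ b, ∃ m ∈ M, ∀ m' ∈ M, g ((m' : Perm Ω) b) = (m : Perm Ω) ((m' : Perm Ω) b)) :
    g ∈ (P : Subgroup (Perm Ω)) := by
  let R : Subgroup (Perm Ω) :=
    { carrier := {g | ∀ b, ∃ m ∈ M, ∀ m' ∈ M, g ((m' : Perm Ω) b) = (m : Perm Ω) ((m' : Perm Ω) b)}
      one_mem' := fun b => ⟨1, one_mem _, fun _ _ => rfl⟩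
      mul_mem' := fun {g g'} h h' b => by
        obtain ⟨m, hm, h⟩ := h b
        obtain ⟨m', hm', h'⟩ := h' b
        exact ⟨m * m', mul_mem hm hm', fun u hu => by
          rw [Perm.mul_apply, h' u hu]; exact h _ (mul_mem hm' hu)⟩
      inv_mem' := fun {g} h b => by
        obtain ⟨m, hm, h⟩ := h b
        refine ⟨m⁻¹, inv_mem hm, fun u hu => Perm.inv_eq_iff_eq.2 ?_⟩
        simpa using (h _ (mul_mem (inv_mem hm) hu)).symm }
  have h1 : IsPGroup p R := fun g => by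
    obtain ⟨k, hk⟩ := P.isPGroup'.exists_card_eq
    refine ⟨k, Subtype.ext (Equiv.ext fun b => ?_)⟩
    obtain ⟨m, hm, h⟩ := g.2 b
    have h2 : ∀ j : ℕ, (g.1 ^ j) b = ((m ^ j : P) : Perm Ω) b := fun j => by
      induction j with
      | zero => rfl
      | succ j ih => rw [pow_succ', Perm.mul_apply, ih, h _ (pow_mem hm j), pow_succ']; rfl
    rw [Subgroup.coe_pow, h2, ← hk, pow_card_eq_one']; rfl
  have h2 : (P : Subgroup (Perm Ω)) ≤ Subgroup.normalizer R := fun y hy => by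
    refine Subgroup.mem_normalizer_fintype fun g h b => ?_
    obtain ⟨m, hm, h⟩ := h (y⁻¹ b)
    refine ⟨_, hN.conj_mem m hm ⟨y, hy⟩, fun u hu => ?_⟩
    simpa using h _ (hN.conj_mem' u hu ⟨y, hy⟩)
  have h3 := P.is_maximal' (IsPGroup.to_sup_of_normal_right' P.isPGroup' h1 h2) le_sup_left
  exact h3.le (Subgroup.mem_sup_right (show g ∈ R from hg))

theorem exists_mem_sylow_isConj {G : Type*} [Group G] [Finite G] (P : Sylow p G) {x : G} {k : ℕ}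
    (hx : x ^ p ^ k = 1) : ∃ y ∈ (P : Subgroup G), IsConj x y := by
  obtain ⟨Q, hQ⟩ := (isPGroup_zpowers_of_pow hx).exists_le_sylow
  obtain ⟨g, rfl⟩ := MulAction.exists_smul_eq G Q P
  exact ⟨_, ⟨x, hQ (Subgroup.mem_zpowers x), rfl⟩, isConj_iff.2 ⟨g, rfl⟩⟩

/-- The situation in a Sylow subgroup with an orbit of length at least `p ^ 2`. -/
theorem exists_blocks (P : Sylow p (Perm Ω)) (hΩ : p ^ 2 ≤ Fintype.card Ω) :
    ∃ (a : Ω) (M : Subgroup P) (l : M →* ℂˣ) (x : P) (m : M), IsCoatom M ∧ M.Normal ∧ M.index = p ∧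
      x ∉ M ∧ (∀ g : P, (g : Perm Ω) a = a → ∃ h : g ∈ M, l ⟨g, h⟩ = 1) ∧ l m ≠ 1 ∧
      ((m : P) : Perm Ω) ((x : Perm Ω)⁻¹ a) = (x : Perm Ω)⁻¹ a := by
  classical
  have h2 := hp.out.two_le
  obtain ⟨c₀, hc₀⟩ := (Perm.exists_with_cycleType_iff Ω (m := {p ^ 2})).2
    ⟨by simpa using hΩ, by simp; nlinarith⟩
  obtain ⟨c, hcP, hc⟩ := exists_mem_sylow_isConj P (x := c₀) (k := 2) (by
    rw [← orderOf_dvd_iff_pow_eq_one, ← Perm.lcm_cycleType, hc₀]; simp)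
  rw [Perm.isConj_iff_cycleType_eq, hc₀, eq_comm] at hc
  have hcyc : c.IsCycle := Perm.card_cycleType_eq_one.1 (by rw [hc]; rfl)
  have hord : orderOf c = p ^ 2 := by rw [← Perm.lcm_cycleType, hc]; simp
  obtain ⟨a, ha, -⟩ := id hcyc
  let S := MulAction.stabilizer P a
  obtain ⟨M, h1, hM, hN, h3⟩ := exists_coatom P.isPGroup' (S := S) fun h =>
    ha (h.ge (Subgroup.mem_top ⟨c, hcP⟩))
  have h4 : (⟨c, hcP⟩ : P) ^ p ∈ M := by
    have := M.pow_index_mem ⟨c, hcP⟩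
    rwa [h3] at this
  obtain ⟨l, h5, m, h6⟩ := exists_hom_of_ne_top (P.isPGroup'.to_subgroup M) (S := S.subgroupOf M)
    fun h => by
      have := (hcyc.pow_eq_one_iff' ha (n := p)).2 (h.ge (Subgroup.mem_top ⟨_, h4⟩))
      have := Nat.le_of_dvd hp.out.pos (hord ▸ orderOf_dvd_of_pow_eq_one this)
      nlinarith
  obtain ⟨x, -, hx⟩ := SetLike.exists_of_lt hM.1.lt_top
  let Γ : Ω → Prop := fun y => ∃ u ∈ M, (u : Perm Ω) a = y
  have hΓ : ∀ u ∈ M, ∀ y, Γ ((u : Perm Ω) y) ↔ Γ y := fun u hu y =>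
    ⟨fun ⟨v, hv, e⟩ => ⟨u⁻¹ * v, mul_mem (inv_mem hu) hv, by simp [e]⟩,
      fun ⟨v, hv, e⟩ => ⟨u * v, mul_mem hu hv, by simp [e]⟩⟩
  let m₀ : Perm Ω := Perm.ofSubtype (Perm.subtypePerm ((m : P) : Perm Ω) (hΓ _ m.2))
  have h7 : ∀ y, Γ y → m₀ y = ((m : P) : Perm Ω) y := fun y hy =>
    Perm.ofSubtype_subtypePerm_of_mem _ hy
  have h8 : ∀ y, ¬ Γ y → m₀ y = y := fun y hy => Perm.ofSubtype_apply_of_not_mem _ hy
  have h9 : m₀ ∈ (P : Subgroup (Perm Ω)) := mem_sylow_of_orbits P M fun b => by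
    by_cases hb : Γ b
    · exact ⟨m, m.2, fun u hu => h7 _ ((hΓ u hu b).2 hb)⟩
    · exact ⟨1, one_mem _, fun u hu => h8 _ (mt (hΓ u hu b).1 hb)⟩
  have h10 : (m : P)⁻¹ * ⟨m₀, h9⟩ ∈ S := by
    change (((m : P) : Perm Ω)⁻¹ * m₀) a = a
    rw [Perm.mul_apply, h7 a ⟨1, one_mem _, rfl⟩]; simp
  have h11 : (⟨m₀, h9⟩ : P) ∈ M := by simpa using mul_mem m.2 (h1 h10)
  refine ⟨a, M, l, x, ⟨_, h11⟩, hM, hN, h3, hx, fun g hg => ⟨h1 hg, h5 _ hg⟩, fun h => h6 ?_,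
    h8 _ ?_⟩
  · have := h5 (m⁻¹ * ⟨_, h11⟩) (Subgroup.mem_subgroupOf.2 (by
      rw [Subgroup.coe_mul, Subgroup.coe_inv]; exact h10))
    rwa [map_mul, h, mul_one, map_inv, inv_eq_one] at this
  · rintro ⟨u, hu, e⟩
    have : x * u ∈ S := by
      change ((x : Perm Ω) * u) a = a
      rw [Perm.mul_apply, e]; simp
    exact hx (by simpa using mul_mem (h1 this) (inv_mem hu))

theorem exists_irr_deg (P : Sylow p (Perm Ω)) (hΩ : p ^ 2 ≤ Fintype.card Ω) {D : Type*} [Group D]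
    [Finite D] (f : D →* P) (hf : ∀ (a b : Ω) (g : P), ∃ τ : P, (τ : Perm Ω) a = a ∧
      (τ : Perm Ω) b = b ∧ g * τ ∈ f.range) : ∃ φ : IrrCharacter D, charDegree φ.1 = p := by
  obtain ⟨a, M, l, x, m, h1, h2, h3, h4, h5, h6, h7⟩ := exists_blocks P hΩ
  obtain ⟨τ, h8, h9, y, hy⟩ := hf a ((x : Perm Ω)⁻¹ a) x
  obtain ⟨τ', h8', h9', u, hu⟩ := hf a ((x : Perm Ω)⁻¹ a) m
  obtain ⟨h10, -⟩ := h5 τ h8
  obtain ⟨h11, h12⟩ := h5 τ' h8'
  have h13 : u ∈ M.comap f := by rw [Subgroup.mem_comap, hu]; exact mul_mem m.2 h11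
  refine exists_irr_deg_of_hom (M.comap f) ?_ (l.comp (f.subgroupComap M)) (x := y)
    (m := ⟨u, h13⟩) ?_
  · rw [Subgroup.index_comap, ← Subgroup.relIndex_sup_left, h1.2 (M ⊔ f.range),
      Subgroup.relIndex_top_right, h3]
    refine lt_of_le_of_ne le_sup_left fun e => h4 ?_
    have : f y ∈ M := e ▸ Subgroup.mem_sup_right ⟨y, rfl⟩
    rw [hy] at this
    exact (mul_mem_cancel_right h10).1 this
  · obtain ⟨h14, h15⟩ := h5 (f (y * u * y⁻¹)) (by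
      have : (τ : Perm Ω)⁻¹ ((x : Perm Ω)⁻¹ a) = (x : Perm Ω)⁻¹ a := Perm.inv_eq_iff_eq.2 h9.symm
      rw [map_mul, map_mul, map_inv, hy, hu]
      change (x : Perm Ω) ((τ : Perm Ω) (((m : P) : Perm Ω) ((τ' : Perm Ω)
        ((τ : Perm Ω)⁻¹ ((x : Perm Ω)⁻¹ a))))) = a
      rw [this, h9', h7, h9]; simp)
    intro e
    refine h6 ?_
    have h16 : (f.subgroupComap M) ⟨u, h13⟩ = m * ⟨τ', h11⟩ := Subtype.ext hu
    rw [MonoidHom.comp_apply, MonoidHom.comp_apply, h16, map_mul, h12, mul_one] at e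
    exact e.symm.trans h15

end H40.Sn
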