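/- Tower NF (S1308), chapter TE part 1: job OD. -/
import Cfsg.Agent.H28.TESpec

set_option autoImplicit false

open Cfsg Subgroup H14 H98 H1.Gold H31.S2 H14.GC H14.FE H14.NF H28.TE

namespace H40.TEOD

universe u

theorem cjp {Γ : Type*} [Group Γ] {a α : Γ} (h : α * a⁻¹ = a * α) (j : ℕ) :
    a ^ j * α * (a ^ j)⁻¹ = a ^ (2 * j) * α := by
  have := (show SemiconjBy α a⁻¹ a from h).pow_right j
  rw [inv_pow] at this
  rw [mul_assoc, this.eq, two_mul, pow_add, mul_assoc]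

theorem cmp {Γ : Type*} [Group Γ] {a α : Γ} (h : α * a⁻¹ = a * α) {n : ℕ} (hn : a ^ (2 * n) = 1) :
    a ^ n * α * (a ^ n)⁻¹ * α⁻¹ = 1 := by rw [cjp h, hn, one_mul, mul_inv_cancel]

theorem jobOD : JobOD.{u} := by
  intro kt hz G _ _ Q Q₁ E Q₂ T ln y u hy hu
  have k1 := kt G Q Q₁ E Q₂ T ln
  have h1 := hz G Q Q₁ E Q₂ T ln
  have h2 := hz G Q Q₂ T Q₁ E ln.symm
  have yN := k1.nrF y hy
  have uN := (kt G Q Q₂ T Q₁ E ln.symm).nrF u hu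
  rw [sup_comm] at uN
  beta_reduce at h1 h2
  rw [HZ, sup_comm] at h2
  have FC : E ⊔ T ≤ cen (E ⊔ T) := fun a ha b hb => k1.abF b hb a ha
  let f := normalizerMonoidHom (E ⊔ T)
  have kf : ∀ g : nor (E ⊔ T), f g = 1 ↔ (g : G) ∈ cen (E ⊔ T) := fun g => by
    rw [← MonoidHom.mem_ker, normalizerMonoidHom_ker]
    rfl
  obtain ⟨Y, rfl⟩ : ∃ Y : nor (E ⊔ T), (Y : G) = y := ⟨⟨y, yN⟩, rfl⟩
  obtain ⟨U, rfl⟩ : ∃ U : nor (E ⊔ T), (U : G) = u := ⟨⟨u, uN⟩, rfl⟩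
  have a1 : f Y * f Y = 1 := by rw [← map_mul, kf]; exact FC (mem_sup_left hy.sq)
  have a2 : f U * f U = 1 := by rw [← map_mul, kf]; exact FC (mem_sup_right hu.sq)
  have i1 := eq_inv_of_mul_eq_one_left a1
  have i2 := eq_inv_of_mul_eq_one_left a2
  have au : f (Y * U) * f U = f Y := by rw [map_mul, mul_assoc, a2, mul_one]
  have b1 : f Y * (f (Y * U))⁻¹ = f (Y * U) * f Y := by
    rw [map_mul, mul_inv_rev, ← i1, ← i2, mul_assoc]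
  have b2 : f U * (f (Y * U))⁻¹ = f (Y * U) * f U := by
    rw [au, map_mul, mul_inv_rev, mul_inv_cancel_left, ← i1]
  obtain ⟨n, hn | hn⟩ := Nat.even_or_odd' (orderOf (f (Y * U)))
  swap
  · exact ⟨_, ⟨n, rfl⟩, (kf ((Y * U) ^ (2 * n + 1))).1 (by rw [map_pow, ← hn, pow_orderOf_eq_one])⟩
  have p0 := orderOf_pos (f (Y * U))
  have zz : f (Y * U) ^ (2 * n) = 1 := by rw [← hn, pow_orderOf_eq_one]
  generalize Y * U = A at au b1 b2 hn p0 zz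
  refine absurd ((kf (A ^ n)).2 ?_) (by
    rw [map_pow]
    exact pow_ne_one_of_lt_orderOf (by omega) (by omega))
  have z2 := (kf (A ^ n * A ^ n)).1 (by rw [← pow_add, ← two_mul, map_pow, zz])
  have c1 := (kf (A ^ n * Y * (A ^ n)⁻¹ * Y⁻¹)).1 (by
    simpa only [map_mul, map_inv, map_pow] using cmp b1 zz)
  have c2 := (kf (A ^ n * U * (A ^ n)⁻¹ * U⁻¹)).1 (by
    simpa only [map_mul, map_inv, map_pow] using cmp b2 zz)
  have d : ∀ (X V : nor (E ⊔ T)) (j : ℕ), f A ^ n * f X = f A ^ j * f V * (f A ^ j)⁻¹ →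
      ((A ^ n * X * (A ^ j * V * (A ^ j)⁻¹)⁻¹ : nor (E ⊔ T)) : G) ∈ cen (E ⊔ T) := fun X V j e =>
    (kf _).1 (by simpa only [map_mul, map_inv, map_pow, mul_inv_eq_one] using e)
  have key : ((A ^ n : nor (E ⊔ T)) : G) ∈ cen E ∧ ((A ^ n : nor (E ⊔ T)) : G) ∈ cen T := by
    obtain ⟨j, rfl | rfl⟩ := Nat.even_or_odd' n
    · exact ⟨h1 _ _ _ _ hy (A ^ _).2 z2 c1 (A ^ j).2 (.inl hy) (d Y Y j (cjp b1 j).symm),
        h2 _ _ _ _ hu (A ^ _).2 z2 c2 (A ^ j).2 (.inl hu) (d U U j (cjp b2 j).symm)⟩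
    · exact ⟨h1 _ _ _ _ hy (A ^ _).2 z2 c1 (A ^ (j + 1)).2 (.inr hu) (d Y U (j + 1) (by
          rw [cjp b2, show 2 * (j + 1) = 2 * j + 1 + 1 from rfl, pow_succ _ (2 * j + 1), mul_assoc,
            au])),
        h2 _ _ _ _ hu (A ^ _).2 z2 c2 (A ^ j).2 (.inr hy) (d U Y j (by
          rw [cjp b1, pow_succ, mul_assoc, au]))⟩
  intro g hg
  obtain ⟨e, he, t, ht, rfl⟩ := k1.dec g hg
  exact (Commute.mul_left (key.1 e he) (key.2 t ht)).eq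

end H40.TEOD
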