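/- SPECTRA (S3535): Mazurov's lemma `JobMaz`. -/
import Cfsg.Agent.H40.SPSpec

set_option autoImplicit false

namespace H40.SP

universe u

open scoped IsMulCommutative in
theorem maz_core {V : Type*} [Group V] [Finite V] [IsMulCommutative V] (F : Subgroup (MulAut V))
    (ζ : MulAut V) (n : ℕ) (hn : 0 < n) (hζ : ∀ a ∈ F, ζ * a * ζ⁻¹ ∈ F)
    (hfix : ∀ v : V, (∀ a ∈ F, a v = v) → v = 1)
    (hfr : ∀ i, 0 < i → i < n → ∀ a ∈ F, a⁻¹ * (ζ ^ i * a * (ζ ^ i)⁻¹) = 1 → a = 1)
    (v : V) (h : ∀ a ∈ F, ∏ i ∈ Finset.range n, (a⁻¹ * ζ ^ i * a) v = 1) : v ^ Nat.card F = 1 := by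
  classical
  have := Fintype.ofFinite F
  have hp : ∀ i, ∀ a ∈ F, ζ ^ i * a * (ζ ^ i)⁻¹ ∈ F := by
    intro i a ha
    induction i with
    | zero => simpa using ha
    | succ i ih =>
      have := hζ _ ih
      convert this using 1
      group
  have hT : ∀ w : V, ∏ a : F, (a : MulAut V) w = 1 := by
    intro w
    refine hfix _ fun b hb => ?_
    rw [map_prod]
    exact Fintype.prod_equiv (Equiv.mulLeft (⟨b, hb⟩ : F)) _ _ fun a => rfl
  have h1 : ∏ a : F, ∏ i ∈ Finset.range n, ((a : MulAut V)⁻¹ * ζ ^ i * a) v = 1 :=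
    Finset.prod_eq_one fun a _ => h a a.2
  rw [Finset.prod_comm, Finset.prod_eq_single_of_mem 0 (Finset.mem_range.2 hn)] at h1
  · simpa [Nat.card_eq_fintype_card] using h1
  intro i hi h0
  let c : F → F := fun a => ⟨(a : MulAut V)⁻¹ * (ζ ^ i * a * (ζ ^ i)⁻¹), F.mul_mem (F.inv_mem a.2) (hp i a a.2)⟩
  have hc : Function.Injective c := by
    intro a b hab
    have h2 : (a : MulAut V)⁻¹ * (ζ ^ i * a * (ζ ^ i)⁻¹) = (b : MulAut V)⁻¹ * (ζ ^ i * b * (ζ ^ i)⁻¹) :=
      congrArg Subtype.val hab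
    have h3 := hfr i (Nat.pos_of_ne_zero h0) (Finset.mem_range.1 hi) _ (a * b⁻¹).2 (by
      push_cast
      calc ((a : MulAut V) * (b : MulAut V)⁻¹)⁻¹ * (ζ ^ i * (a * (b : MulAut V)⁻¹) * (ζ ^ i)⁻¹)
          = b * ((a : MulAut V)⁻¹ * (ζ ^ i * a * (ζ ^ i)⁻¹)) * (ζ ^ i * (b : MulAut V)⁻¹ * (ζ ^ i)⁻¹) := by
            group
        _ = 1 := by rw [h2]; group)
    exact mul_inv_eq_one.1 (Subtype.ext h3)
  rw [← hT ((ζ ^ i) v)]
  refine Fintype.prod_bijective c (Finite.injective_iff_bijective.1 hc) _ _ fun a => ?_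
  show _ = ((a : MulAut V)⁻¹ * (ζ ^ i * a * (ζ ^ i)⁻¹)) ((ζ ^ i) v)
  rw [← MulAut.mul_apply]
  congr 1
  group

open scoped IsMulCommutative in
theorem jobMaz : JobMaz.{u} := by
  intro G _ _ V F z r hr hV hexp hcomm hF hFN hz hzF hfix hfr
  have : IsMulCommutative V := ⟨⟨fun a b => Subtype.ext (hcomm a a.2 b b.2)⟩⟩
  let φ := V.normalizerMonoidHom
  have hφ : ∀ (g : Subgroup.normalizer (V : Set G)) (v : V), ((φ g v : V) : G) = g * v * (g : G)⁻¹ :=
    fun g v => rfl
  have hker : ∀ g : Subgroup.normalizer (V : Set G), φ g = 1 ↔ ∀ v ∈ V, (g : G) * v = v * g := by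
    intro g
    constructor
    · intro h v hv
      have := hφ g ⟨v, hv⟩
      rw [h] at this
      exact (mul_inv_eq_iff_eq_mul.1 this.symm)
    · intro h
      ext v
      rw [hφ, h v v.2]
      simp
  let z' : Subgroup.normalizer (V : Set G) := ⟨z, hz⟩
  let F' := (F.subgroupOf (Subgroup.normalizer (V : Set G))).map φ
  have hn : 0 < orderOf z := orderOf_pos z
  by_contra hno
  obtain ⟨v, hv, hv1⟩ := (Subgroup.bot_or_exists_ne_one V).resolve_left hV
  have key := maz_core F' (φ z') (orderOf z) hn ?_ ?_ ?_ ⟨v, hv⟩ ?_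
  · have h1 : Nat.card F' ∣ Nat.card F := (Subgroup.card_map_dvd _ _).trans (by
      rw [Nat.card_congr (Subgroup.subgroupOfEquivOfLe hFN).toEquiv])
    have h2 : v ^ Nat.card F = 1 := by
      obtain ⟨k, hk⟩ := h1
      have : v ^ Nat.card F' = 1 := congrArg Subtype.val key
      rw [hk, pow_mul, this, one_pow]
    exact hv1 (orderOf_eq_one_iff.1 (Nat.eq_one_of_dvd_coprimes ((Nat.Prime.coprime_iff_not_dvd hr).2 hF)
      (orderOf_dvd_of_pow_eq_one (hexp v hv)) (orderOf_dvd_of_pow_eq_one h2)))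
  · rintro _ ⟨f, hf, rfl⟩
    exact ⟨z' * f * z'⁻¹, (Subgroup.mem_normalizer_iff.1 hzF f).1 hf, by simp⟩
  · intro w hw
    refine Subtype.ext (hfix w w.2 fun f hf => ?_)
    have := congrArg Subtype.val (hw _ ⟨⟨f, hFN hf⟩, hf, rfl⟩)
    rw [hφ] at this
    exact mul_inv_eq_iff_eq_mul.1 this
  · rintro i h0 hi _ ⟨f, hf, rfl⟩ h
    refine (hker f).2 (hfr i h0 hi f hf ((hker (f⁻¹ * (z' ^ i * f * (z' ^ i)⁻¹))).1 ?_))
    simpa using h
  · rintro _ ⟨f, hf, rfl⟩
    by_contra hne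
    apply hno
    set w := f⁻¹ * z' * f with hw
    have hwi : ∀ i, (φ f)⁻¹ * φ z' ^ i * φ f = φ (w ^ i) := by
      intro i
      have : w ^ i = f⁻¹ * z' ^ i * f := by
        simpa using conj_pow (a := f⁻¹) (b := z') (i := i)
      simp [this]
    simp only [hwi] at hne
    have hpow : ∀ k, (v * w : G) ^ k =
        ((∏ i ∈ Finset.range k, φ (w ^ i) ⟨v, hv⟩ : V) : G) * (w : G) ^ k := by
      intro k
      induction k with
      | zero => simp
      | succ k ih =>
        rw [pow_succ, ih, Finset.prod_range_succ, V.coe_mul, hφ, Subgroup.coe_pow]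
        group
    have hwz : ∀ k, (w : G) ^ k = (f : G)⁻¹ * z ^ k * f := fun k => by
      simpa [hw, z'] using conj_pow (a := (f : G)⁻¹) (b := z) (i := k)
    have hvn : (v * w : G) ^ orderOf z =
        ((∏ i ∈ Finset.range (orderOf z), φ (w ^ i) ⟨v, hv⟩ : V) : G) := by
      rw [hpow, hwz, pow_orderOf_eq_one]; simp
    have hd : orderOf z ∣ orderOf (v * w : G) := by
      have h1 := hpow (orderOf (v * w : G))
      rw [pow_orderOf_eq_one, hwz] at h1
      set k := orderOf (v * w : G)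
      have h2 : z ^ k ∈ V := by
        have h3 : (f : G)⁻¹ * z ^ k * f ∈ V := by
          rw [eq_inv_of_mul_eq_one_right h1.symm]
          exact V.inv_mem (Subtype.property _)
        have := (Subgroup.mem_normalizer_iff.1 f.2 _).1 h3
        simpa [mul_assoc] using this
      rw [← pow_mod_orderOf] at h2
      by_contra h4
      refine hv1 (hfix v hv fun g hg => hfr (k % orderOf z)
        (Nat.pos_of_ne_zero fun h => h4 (Nat.dvd_of_mod_eq_zero h)) (Nat.mod_lt _ hn) g hg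
        (fun u hu => hcomm _ ?_ u hu) v hv)
      have := (Subgroup.mem_normalizer_iff.1 (Subgroup.inv_mem _ (hFN hg)) _).1 h2
      simpa [mul_assoc] using V.mul_mem this (V.inv_mem h2)
    obtain ⟨k, hk⟩ := hd
    have h5 : orderOf (v * w : G) ∣ orderOf z * r := by
      apply orderOf_dvd_of_pow_eq_one
      rw [pow_mul, hvn]
      exact hexp _ (Subtype.property _)
    rw [hk] at h5
    rcases (Nat.dvd_prime hr).1 (Nat.dvd_of_mul_dvd_mul_left hn h5) with rfl | rfl
    · exact absurd (Subtype.ext (by rw [← hvn, ← mul_one (orderOf z), ← hk, pow_orderOf_eq_one]; rfl)) hne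
    · exact ⟨_, hk⟩

end H40.SP
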