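import Cfsg.Agent.H28.Degree
import Cfsg.Agent.H28.Unitary
import Cfsg.Agent.H90.PermMod

/-! Degrees of constituents of permutation characters when a `p`-subgroup acts freely off one
point. -/

set_option autoImplicit false

open Cfsg H28
open scoped ComplexConjugate Pointwise

namespace H40

theorem exists_valuationSubring_prime (p : ℕ) [hp : Fact p.Prime] :
    ∃ O : ValuationSubring ℂ, CharP (IsLocalRing.ResidueField O) p := by
  let A : Subring ℂ := (Int.castRingHom ℂ).range
  obtain ⟨O, -, h2⟩ := Ideal.image_subset_nonunits_valuationSubring (A := A)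
    (Ideal.span {(p : A)}) (fun ht => by
      obtain ⟨⟨_, z, rfl⟩, hz⟩ := Ideal.mem_span_singleton.1 (ht ▸ Submodule.mem_top :
        (1 : A) ∈ Ideal.span {(p : A)})
      have h1 : (1 : ℂ) = p * z := congrArg Subtype.val hz
      have h2 : (1 : ℤ) = p * z := by exact_mod_cast h1
      exact hp.out.one_lt.ne' (Nat.dvd_one.1 (Int.natCast_dvd_natCast.1 ⟨z, h2⟩)))
  refine ⟨O, (CharP.charP_iff_prime_eq_zero hp.out).2 ?_⟩
  have h3 : ((p : O) : ℂ) ∈ O.nonunits := h2 ⟨p, Ideal.mem_span_singleton_self _, by simp⟩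
  rw [← map_natCast (IsLocalRing.residue O), IsLocalRing.residue_eq_zero_iff]
  exact ValuationSubring.coe_mem_nonunits_iff.1 h3

/-- The group matrix of a function on a `p`-group with nonzero sum is invertible in
characteristic `p`. -/
theorem det_groupMatrix_ne_zero {k : Type*} [Field k] {p : ℕ} [Fact p.Prime] [CharP k p]
    {P : Type*} [Group P] [Fintype P] [DecidableEq P] (hP : IsPGroup p P) (f : P → k)
    (hf : ∑ x, f x ≠ 0) : (Matrix.of fun y x : P => f (y⁻¹ * x)).det ≠ 0 := by
  intro h0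
  obtain ⟨v, hv0, hv⟩ := Matrix.exists_mulVec_eq_zero_iff.2 h0
  let ρ : Representation k P (P → k) :=
    { toFun := fun g => LinearMap.funLeft k k fun x => g⁻¹ * x
      map_one' := by ext; simp
      map_mul' := fun a b => by ext; simp [mul_assoc] }
  obtain ⟨c, hc, hc0, hfix⟩ := H90.exists_fixed_of_isPGroup hP ρ
    (LinearMap.ker (Matrix.of fun y x : P => f (y⁻¹ * x)).mulVecLin)
    (fun hb => hv0 (by rw [← Submodule.mem_bot k, ← hb]; exact hv)) (fun g c hc => by
      funext y
      have h1 := congrFun (LinearMap.mem_ker.1 hc) (g⁻¹ * y)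
      simp only [Matrix.mulVecLin_apply, Matrix.mulVec, dotProduct, Matrix.of_apply,
        Pi.zero_apply] at h1 ⊢
      rw [← h1, ← Equiv.sum_comp (Equiv.mulLeft g)]
      refine Finset.sum_congr rfl fun x _ => ?_
      simp [ρ, mul_assoc])
  have h1 : ∀ x, c x = c 1 := fun x => by
    have := congrFun (hfix x⁻¹) 1
    simpa [ρ] using this
  have h2 := congrFun (LinearMap.mem_ker.1 hc) 1
  simp only [Matrix.mulVecLin_apply, Matrix.mulVec, dotProduct, Matrix.of_apply, Pi.zero_apply,
    inv_one, one_mul, h1, ← Finset.sum_mul] at h2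
  exact hc0 (funext fun x => (h1 x).trans ((mul_eq_zero.1 h2).resolve_left hf))

theorem exists_reps_of_free {P X : Type*} [Group P] [Fintype P] [MulAction P X] (s : Finset X)
    (hs : ∀ (g : P), ∀ x ∈ s, g • x ∈ s) (hfree : ∀ (g : P), ∀ x ∈ s, g • x = x → g = 1) :
    ∃ R : Finset X, ∀ {M : Type} [AddCommMonoid M] (u : X → M),
      ∑ x ∈ s, u x = ∑ g : P, ∑ r ∈ R, u (g • r) := by
  classical
  let rep : X → X := fun x => (Quotient.mk (MulAction.orbitRel P X) x).out
  have hrep : ∀ x, ∃ g : P, g • x = rep x := fun x =>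
    MulAction.mem_orbit_iff.1 (Quotient.mk_out (s := MulAction.orbitRel P X) x)
  have hrep' : ∀ (g : P) x, rep (g • x) = rep x := fun g x =>
    congrArg Quotient.out (Quotient.sound (s := MulAction.orbitRel P X) (MulAction.mem_orbit x g))
  refine ⟨s.filter fun x => rep x = x, fun u => ?_⟩
  rw [← Finset.sum_product']
  symm
  refine Finset.sum_bij (fun a _ => a.1 • a.2) (fun a ha => ?_) (fun a ha b hb e => ?_)
    (fun x hx => ?_) fun _ _ => rfl
  · exact hs _ _ (Finset.mem_filter.1 (Finset.mem_product.1 ha).2).1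
  · obtain ⟨h1, h2⟩ := Finset.mem_filter.1 (Finset.mem_product.1 ha).2
    obtain ⟨-, h4⟩ := Finset.mem_filter.1 (Finset.mem_product.1 hb).2
    have h5 : a.2 = b.2 := by rw [← h2, ← h4, ← hrep' a.1, e, hrep']
    refine Prod.ext ?_ h5
    rw [← h5, ← inv_smul_eq_iff, smul_smul] at e
    exact (inv_mul_eq_one.1 (hfree _ _ h1 e)).symm
  · obtain ⟨g, hg⟩ := hrep x
    refine ⟨(g⁻¹, g • x), Finset.mem_product.2 ⟨Finset.mem_univ _,
      Finset.mem_filter.2 ⟨hs g x hx, by rw [hrep', hg]⟩⟩, inv_smul_smul g x⟩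

variable {G : Type*} [Group G] [Fintype G]

/-- If a `p`-subgroup `P ≤ H` acts freely on the cosets of `H` other than `H`, then the
nonprincipal constituents of the permutation character have degree at least `|P|`. -/
theorem card_le_degree_of_free {p : ℕ} [Fact p.Prime] {P H : Subgroup G} [Fintype H]
    (hP : IsPGroup p P) (hPH : P ≤ H) (hfree : ∀ x ∈ P, ∀ g, g ∉ H → g⁻¹ * x * g ∈ H → x = 1)
    {ψ : G → ℂ} (hψ : IsIrrCharacter G ψ) (h1 : ψ ≠ fun _ => 1) (hH : ∑ h : H, ψ h ≠ 0) :
    Nat.card P ≤ charDegree ψ := by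
  classical
  have hsum := hψ.sum_eq_zero h1
  obtain ⟨n, ρ, hρ, rfl⟩ := hψ
  have hG : ∑ g, ρ g = 0 := by
    have := sum_smul_rep_eq ρ (isClassFunction_const 1)
    simpa [hsum] using this
  obtain ⟨u, hu⟩ : ∃ u, (∑ h : H, ρ h) u ≠ 0 := by
    by_contra hc
    push Not at hc
    apply hH
    have := congrArg (LinearMap.trace ℂ _) (LinearMap.ext hc : (∑ h : H, ρ h) = 0)
    rwa [map_sum, map_zero] at this
  set v := (∑ h : H, ρ h) u with hv
  have hvH : ∀ h ∈ H, ρ h v = v := fun h hh => by
    rw [hv, ← Module.End.mul_apply, Finset.mul_sum]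
    simp only [← map_mul]
    congr 1
    exact Equiv.sum_comp (Equiv.mulLeft (⟨h, hh⟩ : H)) fun x : H => ρ x
  obtain ⟨O, hO⟩ := exists_valuationSubring_prime p
  obtain ⟨i, hi⟩ := Function.ne_iff.1 hu
  obtain ⟨h, -, hmax⟩ := Finset.exists_max_image Finset.univ
    (fun g : G => O.valuation (ρ g v i)) Finset.univ_nonempty
  have hh0 : ρ h v i ≠ 0 := fun h0 => by
    have := hmax 1 (Finset.mem_univ _)
    rw [h0, map_zero, map_one, le_zero_iff, map_eq_zero] at this
    exact hi this
  let lam : (Fin n → ℂ) →ₗ[ℂ] ℂ := (ρ h v i)⁻¹ • (LinearMap.proj i ∘ₗ ρ h)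
  have hlam1 : lam v = 1 := inv_mul_cancel₀ hh0
  have hlamO : ∀ g, lam (ρ g v) ∈ O := fun g => by
    rw [← O.valuation_le_one_iff]
    change O.valuation ((ρ h v i)⁻¹ * ρ h (ρ g v) i) ≤ 1
    rw [← Module.End.mul_apply (ρ h) (ρ g), ← map_mul ρ, map_mul O.valuation, map_inv₀,
      inv_mul_le_iff₀ (zero_lt_iff.2 ((map_ne_zero _).2 hh0)), mul_one]
    exact hmax _ (Finset.mem_univ _)
  have := Fintype.ofFinite P
  have := Fintype.ofFinite (G ⧸ H)
  let U : G ⧸ H → Fin n → ℂ := fun q => ρ q.out v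
  have hU : ∀ g : G, U g = ρ g v := fun g => by
    obtain ⟨k, hk⟩ := QuotientGroup.mk_out_eq_mul H g
    simp only [U, hk, map_mul, Module.End.mul_apply, hvH k k.2]
  have hUs : ∀ (g : G) (q : G ⧸ H), U (g • q) = ρ g (U q) := fun g q => by
    obtain ⟨x, rfl⟩ := QuotientGroup.mk_surjective q
    rw [MulAction.Quotient.smul_mk, hU, hU, smul_eq_mul, map_mul, Module.End.mul_apply]
  have hU0 : ∑ q, U q = 0 := by
    have h2 : ∑ g : G, U g = 0 := by
      simp only [hU]
      rw [← LinearMap.sum_apply, hG, LinearMap.zero_apply]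
    rw [← Finset.sum_fiberwise (g := fun g : G => (g : G ⧸ H)),
      Finset.sum_congr rfl (g := fun q => (Nat.card H : ℂ) • U q) (fun q _ => by
        rw [Finset.sum_congr rfl (g := fun _ => U q) (fun g hg => by
          rw [(Finset.mem_filter.1 hg).2]), Finset.sum_const, Nat.cast_smul_eq_nsmul]
        congr 1
        rw [← Fintype.card_subtype, ← Nat.card_eq_fintype_card]
        obtain ⟨x, rfl⟩ := QuotientGroup.mk_surjective q
        refine Nat.card_congr
          { toFun := fun g => ⟨x⁻¹ * g, QuotientGroup.eq.1 g.2.symm⟩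
            invFun := fun k => ⟨x * k, QuotientGroup.mk_mul_of_mem x k.2⟩
            left_inv := fun g => by simp
            right_inv := fun k => by simp }), ← Finset.smul_sum] at h2
    exact (smul_eq_zero.1 h2).resolve_left (card_ne_zero' H)
  obtain ⟨R, hR⟩ := exists_reps_of_free (P := P) (Finset.univ.erase ((1 : G) : G ⧸ H))
    (fun g q hq => by
      refine Finset.mem_erase.2 ⟨fun e => (Finset.mem_erase.1 hq).1 ?_, Finset.mem_univ _⟩
      rw [← inv_smul_smul g q, e]
      exact QuotientGroup.eq.2 (by simpa using hPH g.2))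
    (fun g q hq e => by
      obtain ⟨x, rfl⟩ := QuotientGroup.mk_surjective q
      refine Subtype.ext (hfree g g.2 x (fun hx => (Finset.mem_erase.1 hq).1
        (QuotientGroup.eq.2 (by simpa using hx))) ?_)
      have := QuotientGroup.eq.1 e.symm
      simpa [mul_assoc] using this)
  set w := -∑ r ∈ R, U r with hw
  have hvw : ∑ g : P, ρ g w = v := by
    rw [← Finset.add_sum_erase _ _ (Finset.mem_univ ((1 : G) : G ⧸ H)), hR U, hU, map_one,
      Module.End.one_apply] at hU0
    rw [eq_neg_of_add_eq_zero_left hU0, ← Finset.sum_neg_distrib]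
    refine Finset.sum_congr rfl fun g _ => ?_
    rw [hw, map_neg, map_sum]
    congr 1
    exact Finset.sum_congr rfl fun r _ => (hUs g r).symm
  have hfO : ∀ g : G, lam (ρ g w) ∈ O := fun g => by
    rw [hw, map_neg, map_sum, map_neg, map_sum]
    refine neg_mem (sum_mem fun r _ => ?_)
    rw [← hUs]
    exact hlamO _
  let f : P → O := fun g => ⟨lam (ρ g w), hfO g⟩
  have hf : ∑ g, f g = 1 := Subtype.ext (by
    rw [AddSubmonoidClass.coe_finsetSum, ← map_sum, hvw, hlam1]
    rfl)
  have hdet := det_groupMatrix_ne_zero hP (fun g => IsLocalRing.residue O (f g))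
    (by rw [← map_sum, hf, map_one]; exact one_ne_zero)
  have hdet' : (Matrix.of fun y x : P => lam (ρ ((y⁻¹ * x : P) : G) w)).det ≠ 0 := by
    intro h0
    apply hdet
    have h2 := O.subtype.map_det (Matrix.of fun y x : P => f (y⁻¹ * x))
    have h3 := (IsLocalRing.residue O).map_det (Matrix.of fun y x : P => f (y⁻¹ * x))
    have h4 : (Matrix.of fun y x : P => f (y⁻¹ * x)).det = 0 := Subtype.ext (h2.trans h0)
    rw [h4, map_zero] at h3
    exact h3.symm
  have hli : LinearIndependent ℂ fun g : P => ρ g w := by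
    rw [Fintype.linearIndependent_iff]
    intro c hc
    refine congrFun (Matrix.eq_zero_of_mulVec_eq_zero hdet' (funext fun y => ?_))
    have := congrArg (fun z => lam (ρ (y : G)⁻¹ z)) hc
    simp only [map_sum, map_smul, map_zero, smul_eq_mul] at this
    simp only [Matrix.mulVec, dotProduct, Matrix.of_apply, Pi.zero_apply, Subgroup.coe_mul,
      Subgroup.coe_inv, map_mul, Module.End.mul_apply]
    rw [← this]
    exact Finset.sum_congr rfl fun x _ => mul_comm _ _
  rw [charDegree_rep, Nat.card_eq_fintype_card]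
  exact hli.fintype_card_le_finrank

theorem classInner_self_eq_restrict_of_free {p : ℕ} [Fact p.Prime] {P H : Subgroup G} [Fintype H]
    (hP : IsPGroup p P) (hPH : P ≤ H) (hfree : ∀ x ∈ P, ∀ g, g ∉ H → g⁻¹ * x * g ∈ H → x = 1)
    {χ : G → ℂ} (hχ : IsCharacter G χ) (hdeg : charDegree χ ^ 2 ≤ Nat.card P) :
    classInner χ χ = classInner (fun h : H => χ h) (fun h : H => χ h) := by
  classical
  have hΘ := hχ.mul hχ.conj
  rw [classInner_eq_mul_one χ, classInner_eq_mul_one (fun h : H => χ h)]
  set Θ := χ * fun g => conj (χ g) with hΘdef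
  change _ = classInner (fun h : H => Θ h) fun _ => 1
  have h1 : (fun h : H => Θ h) =
      ∑ ψ : IrrCharacter G, classInner Θ ψ • fun h : H => (ψ : G → ℂ) h := by
    funext h
    rw [hΘ.isClassFunction.apply_eq_sum_irr h, Finset.sum_apply]
    rfl
  let t : IrrCharacter G := ⟨fun _ => 1, isIrrCharacter_one⟩
  rw [h1, classInner_sum_left, Finset.sum_eq_single t (fun ψ _ hψ => ?_) (by simp),
    classInner_smul_left, classInner_one_one, mul_one]
  rw [classInner_smul_left]
  by_contra h0
  obtain ⟨h2, h3⟩ := mul_ne_zero_iff.1 h0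
  rw [classInner_one_right] at h3
  have h4 := card_le_degree_of_free hP hPH hfree ψ.2 (fun e => hψ (Subtype.ext e))
    (right_ne_zero_of_mul h3)
  have h5 : classInner Θ t ≠ 0 := fun h6 => by
    have h7 : χ = 0 := classInner_self_eq_zero.1 ((classInner_eq_mul_one χ χ).trans h6)
    apply h2
    rw [hΘdef, h7, zero_mul, classInner_zero_left]
  have h6 := hΘ.sum_degree_le {ψ, t} (by simp [h2, h5])
  rw [Finset.sum_pair hψ, hΘdef, hχ.charDegree_mul hχ.conj, hχ.charDegree_conj, ← sq] at h6
  have h7 := t.2.charDegree_pos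
  omega

end H40
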