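/- Blocks of a normal subgroup of index two. -/
import Cfsg.Agent.H34.PRat
import Cfsg.Agent.H38.Reyn
import Cfsg.Agent.H32.Clifford

set_option autoImplicit false
set_option linter.unusedSectionVars false

namespace H40.An

open Cfsg H28 H35 H38 Finset Module
open H34 (fC IntC intC_fC)

variable {p : ℕ} [hp : Fact p.Prime] {M : Ideal AlgInt}

/-- The span of the `p`-regular parts. -/
noncomputable def LB (p : ℕ) {N : Type*} [Group N] (b : Set (IrrCharacter N)) :
    Submodule ℂ (N → ℂ) :=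
  Submodule.span ℂ ((fun χ : IrrCharacter N => pRegularPart p (χ : N → ℂ)) '' b)

section general

variable {N : Type*} [Group N] [Fintype N]

theorem exists_trace [M.IsMaximal] (hM : IsPModular p M) {b : Set (IrrCharacter N)}
    (hb : IntC M (fC b)) (α : N ≃* N) : ∃ n : ℕ, LinearMap.trace ℂ _
      ((LinearMap.funLeft ℂ ℂ α).comp ((H41.blockPartL b).comp (pRegL p N))) = n := by
  classical
  refine H34.Pim.trace_nat (H34.Pim.linearIndependent_PS hM (1 : MonoidAlgebra (F M) N)) _
    (fun f => ?_) fun Φ h => ?_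
  · have h1 := H34.Pim.mem_span_PS hM (f := fun x => blockPart b f (α x)) fun g x => by
      simp only [map_mul, map_inv, H37.blockPart_isClassFunction b f (α g)]
    change (fun x => blockPart b (pRegularPart p f) (α x)) ∈ _
    rw [H41.blockPart_pReg_comm_of_coeff_mem hM hb]
    convert h1 using 2 with x
    simp only [pReg_apply, α.orderOf_eq]
  · obtain ⟨h1, h2⟩ := H34.Pim.blockPart_PS hM hb h
    change (fun x => blockPart b (pRegularPart p Φ) (α x)) = 0 ∨
      (fun x => blockPart b (pRegularPart p Φ) (α x)) ∈ _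
    rw [h1]
    exact h2.imp (fun e => by rw [e]; rfl) fun e => by rw [e]; exact H34.Pim.comp_mem_PS hM α h

theorem isProj_LB [M.IsMaximal] (hM : IsPModular p M) {b : Set (IrrCharacter N)}
    (hb : IntC M (fC b)) :
    LinearMap.IsProj (LB p b) ((H41.blockPartL b).comp (pRegL p N)) := by
  refine ⟨fun f => ?_, fun f hf => ?_⟩
  · change blockPart b (pRegularPart p f) ∈ _
    rw [H41.blockPart_pReg_comm_of_coeff_mem hM hb, blockPart_eq, pReg_sum]
    refine Submodule.sum_mem _ fun χ hχ => ?_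
    rw [pReg_smul]
    exact Submodule.smul_mem _ _ (Submodule.subset_span ⟨χ, by simpa [bF] using hχ, rfl⟩)
  · induction hf using Submodule.span_induction with
    | mem x hx =>
      obtain ⟨χ, hχ, rfl⟩ := hx
      change blockPart b (pRegularPart p (pRegularPart p _)) = _
      rw [pReg_pReg, H41.blockPart_pReg_comm_of_coeff_mem hM hb, H41.blockPart_irr_of_mem hχ]
    | zero => exact map_zero _
    | add x y _ _ hx hy => rw [map_add, hx, hy]
    | smul c x _ hx => rw [map_smul, hx]

/-- An involutive automorphism fixes at least half of the span. -/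
theorem finrank_le_two_mul [M.IsMaximal] (hM : IsPModular p M) {b : Set (IrrCharacter N)}
    (hb : IntC M (fC b)) (α : N ≃* N) (h1 : ∀ θ ∈ b, trI α θ ∈ b)
    (h2 : ∀ x, IsConj x (α (α x))) (W : Submodule ℂ (N → ℂ))
    (hW : ∀ θ ∈ b, pRegularPart p (θ.1 + (trI α θ).1) ∈ W) :
    finrank ℂ (LB p b) ≤ 2 * finrank ℂ W := by
  obtain ⟨n, hn⟩ := exists_trace hM hb α
  have hP := isProj_LB hM hb
  set P := (H41.blockPartL b).comp (pRegL p N)
  set T : End ℂ (N → ℂ) := LinearMap.funLeft ℂ ℂ α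
  have hT : ∀ θ : IrrCharacter N, T (pRegularPart p θ.1) = pRegularPart p (trI α θ).1 := fun θ => by
    funext x
    change pRegularPart p θ.1 (α x) = _
    simp only [pReg_apply, α.orderOf_eq, trI_apply]
  have h3 : ∀ f ∈ LB p b, T f ∈ LB p b ∧ T (T f) = f ∧ f + T f ∈ W := fun f hf => by
    induction hf using Submodule.span_induction with
    | mem x hx =>
      obtain ⟨χ, hχ, rfl⟩ := hx
      refine ⟨by rw [hT]; exact Submodule.subset_span ⟨_, h1 χ hχ, rfl⟩, ?_,
        by rw [hT, ← pReg_add]; exact hW χ hχ⟩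
      rw [hT, hT]
      congr 1
      funext x
      obtain ⟨c, hc⟩ := isConj_iff.1 (h2 x)
      rw [trI_apply, trI_apply, ← hc, χ.2.isClassFunction]
    | zero => simp
    | add x y _ _ hx hy =>
      refine ⟨by rw [map_add]; exact add_mem hx.1 hy.1, by rw [map_add, map_add, hx.2.1, hy.2.1], ?_⟩
      rw [map_add, add_add_add_comm]
      exact add_mem hx.2.2 hy.2.2
    | smul c x _ hx =>
      refine ⟨by rw [map_smul]; exact Submodule.smul_mem _ _ hx.1,
        by rw [map_smul, map_smul, hx.2.1], ?_⟩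
      rw [map_smul, ← smul_add]
      exact Submodule.smul_mem _ _ hx.2.2
  have hQ : LinearMap.IsProj (LB p b ⊓ LinearMap.ker (T - 1)) ((2 : ℂ)⁻¹ • (P + T.comp P)) := by
    refine ⟨fun f => ?_, fun f hf => ?_⟩
    · obtain ⟨a1, a2, -⟩ := h3 _ (hP.map_mem f)
      refine Submodule.smul_mem _ _ ⟨add_mem (hP.map_mem f) a1, ?_⟩
      change T (P f + T (P f)) - (P f + T (P f)) = 0
      rw [map_add, a2, add_comm, sub_self]
    · have a1 : T f = f := sub_eq_zero.1 hf.2
      change (2 : ℂ)⁻¹ • (P f + T (P f)) = f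
      rw [hP.map_id f hf.1, a1, ← two_smul ℂ, smul_smul]; simp
  have h4 := hQ.trace
  rw [map_smul, map_add, hP.trace, hn] at h4
  have h5 : finrank ℂ (LB p b ⊓ LinearMap.ker (T - 1) : Submodule ℂ _) ≤ finrank ℂ W :=
    Submodule.finrank_mono fun f hf => by
      have a1 : T f = f := sub_eq_zero.1 hf.2
      have a2 := W.smul_mem (2 : ℂ)⁻¹ (h3 f hf.1).2.2
      rw [a1, ← two_smul ℂ, smul_smul] at a2
      simpa using a2
  have h6 : finrank ℂ (LB p b) + n =
      2 * finrank ℂ (LB p b ⊓ LinearMap.ker (T - 1) : Submodule ℂ _) := by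
    have : ((finrank ℂ (LB p b) + n : ℕ) : ℂ) =
        (2 * finrank ℂ (LB p b ⊓ LinearMap.ker (T - 1) : Submodule ℂ _) : ℕ) := by
      push_cast
      rw [← h4, smul_eq_mul]; ring
    exact_mod_cast this
  omega

end general

variable {G : Type*} [Group G] [Fintype G] {N : Subgroup G} [hN : N.Normal] [Fintype N]

omit hp in
theorem add_cj_eq (h2 : N.index = 2) {τ : G} (hτ : τ ∉ N) {χ : G → ℂ} (hχ : IsIrrCharacter G χ)
    {θ : N → ℂ} (hθ : IsIrrCharacter N θ) (h : classInner (fun n : N => χ n) θ ≠ 0) :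
    ∃ c : ℂ, θ + H32.cj τ θ = c • fun n : N => χ n := by
  classical
  have h1 : ∀ g, H32.cj g θ = θ ∨ H32.cj g θ = H32.cj τ θ := fun g => by
    by_cases hg : g ∈ N
    · exact .inl (H32.cj_of_mem hθ.isClassFunction hg)
    · refine .inr (H32.cj_eq_cj_iff.2 (H32.le_inertia hθ.isClassFunction ?_))
      exact (Subgroup.mul_mem_iff_of_index_two h2).2 (by simp [hg, hτ])
  have h3 : H32.conjSet θ = {θ, H32.cj τ θ} := by
    ext φ
    rw [H32.mem_conjSet, mem_insert, mem_singleton]
    exact ⟨fun ⟨g, hg⟩ => hg ▸ h1 g, fun e => e.elim (fun e => ⟨1, by rw [e, H32.cj_one]⟩)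
      fun e => ⟨τ, e⟩⟩
  have h4 := H32.clifford hχ hθ h
  rw [h3] at h4
  by_cases e : θ = H32.cj τ θ
  · rw [← e, insert_eq_of_mem (mem_singleton_self _), sum_singleton] at h4
    refine ⟨2 * (classInner (fun n : N => χ n) θ)⁻¹, ?_⟩
    rw [← e]
    conv_rhs => enter [2]; rw [h4]
    rw [smul_smul, mul_assoc, inv_mul_cancel₀ h, mul_one, two_smul]
  · rw [sum_pair e] at h4
    refine ⟨(classInner (fun n : N => χ n) θ)⁻¹, ?_⟩
    conv_rhs => enter [2]; rw [h4]
    rw [smul_smul, inv_mul_cancel₀ h, one_smul]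

/-- **The rank of a covered block.** -/
theorem blockRank_le_two_mul (hM : IsPModular p M) (h2 : N.index = 2) {B : Set (IrrCharacter G)}
    (hB : IsPBlock M B) {b : Set (IrrCharacter N)} (hb : IsPBlock M b)
    (h : Covers N.subtype B b) : blockRank p b ≤ 2 * blockRank p B := by
  have := hM.2.1
  obtain ⟨τ, hτ⟩ : ∃ τ, τ ∉ N := by
    by_contra! h0
    rw [(Subgroup.eq_top_iff' N).2 h0, Subgroup.index_top] at h2
    omega
  let E := NEmb.ofNormal N
  have h1 := finrank_le_two_mul hM (NEmb.bcl_orb (E := E) (bcl_of_isPBlock hb)).intC (E.α τ)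
    (fun θ hθ => NEmb.gInv_orb b τ θ hθ) (fun x => by
      rw [← E.α_mul, show τ * τ = E.ι ⟨τ * τ, Subgroup.mul_self_mem_of_index_two h2 τ⟩ from rfl,
        E.α_ι]
      exact isConj_iff.2 ⟨_, rfl⟩) ((LB p B).map (LinearMap.funLeft ℂ ℂ N.subtype)) fun θ hθ => by
      obtain ⟨g, θ', h3, rfl⟩ := NEmb.mem_orb_iff.1 hθ
      obtain ⟨χ, hχ, h4⟩ := h.exists_over hB hb h3
      obtain ⟨c, hc⟩ := add_cj_eq h2 hτ χ.2 (E.cjI g θ').2
        ((E.over_cjI χ.2.isClassFunction g θ').2 h4)
      refine ⟨c • pRegularPart p χ.1, Submodule.smul_mem _ _ (Submodule.subset_span ⟨χ, hχ, rfl⟩), ?_⟩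
      erw [hc]
      funext x
      change c * pRegularPart p χ.1 x = _
      simp only [pReg_apply, Subgroup.orderOf_coe, Pi.smul_apply, smul_eq_mul, mul_ite, mul_zero]
  exact (Submodule.finrank_mono (Submodule.span_mono (Set.image_mono (NEmb.subset_orb b)))).trans
    (h1.trans (Nat.mul_le_mul_left 2 (Submodule.finrank_map_le _ _)))

omit hp in
/-- A character which does not vanish outside `N` restricts irreducibly. -/
theorem charDegree_eq_of_ne_zero (h2 : N.index = 2) {χ : IrrCharacter G} {g : G} (hg : g ∉ N)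
    (h0 : χ.1 g ≠ 0) {θ : IrrCharacter N} (h : Over N.subtype χ.1 θ.1) :
    charDegree χ.1 = charDegree θ.1 := by
  classical
  obtain ⟨e, he⟩ := (χ.2.isCharacter.restrict N).classInner_nat θ.2.isCharacter
  have he0 : e ≠ 0 := fun e0 => h (by rw [e0, Nat.cast_zero] at he; exact he)
  have h1 := H32.classInner_res_self χ.2 θ.2 he he0
  have h3 := card_mul_classInner (fun n : N => χ.1 n) (fun n : N => χ.1 n)
  have h4 := card_mul_classInner χ.1 χ.1
  rw [χ.2.classInner_self, mul_one] at h4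
  rw [h1] at h3
  simp only [Complex.mul_conj] at h3 h4
  have h5 : (Nat.card N : ℝ) * (e ^ 2 * (H32.inertia θ.1).index : ℕ) =
      ∑ n : N, Complex.normSq (χ.1 n) := by exact_mod_cast h3
  have h6 : (Nat.card G : ℝ) = ∑ n, Complex.normSq (χ.1 n) := by exact_mod_cast h4
  have h7 : ∑ n : N, Complex.normSq (χ.1 n) < ∑ n, Complex.normSq (χ.1 n) := by
    rw [← sum_subtype (univ.filter (· ∈ N)) (by simp) fun n => Complex.normSq (χ.1 n)]
    exact sum_lt_sum_of_subset (filter_subset _ _) (mem_univ g) (by simpa using hg)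
      (Complex.normSq_pos.2 h0) fun _ _ _ => Complex.normSq_nonneg _
  rw [← h5, ← h6, ← N.card_mul_index, h2] at h7
  have h8 : Nat.card N * (e ^ 2 * (H32.inertia θ.1).index) < Nat.card N * 2 := by exact_mod_cast h7
  have h9 := Nat.lt_of_mul_lt_mul_left h8
  have h10 : (H32.inertia θ.1).index ≠ 0 := Subgroup.index_ne_zero_of_finite
  have h11 : e ^ 2 * (H32.inertia θ.1).index = 1 := by
    have := Nat.mul_pos (Nat.pow_pos (n := 2) (Nat.pos_of_ne_zero he0)) (Nat.pos_of_ne_zero h10)
    omega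
  have h12 := H32.clifford_degree χ.2 θ.2 h
  rw [he, Nat.eq_one_of_mul_eq_one_left h11,
    (Nat.pow_eq_one.1 (Nat.eq_one_of_mul_eq_one_right h11)).resolve_right two_ne_zero] at h12
  rw [charDegree, charDegree, h12]
  simp

/-- The height in terms of the defect. -/
theorem height_add {H : Type*} [Group H] [Finite H] {B : Set (IrrCharacter H)} {χ : IrrCharacter H}
    (hχ : χ ∈ B) : blockHeight p B χ.1 + (Nat.card H).factorization p =
      (charDegree χ.1).factorization p + blockDefect p B := by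
  have := Fintype.ofFinite H
  obtain ⟨ψ, h1, h2⟩ := Nat.sInf_mem (s := (fun χ : IrrCharacter H =>
    (charDegree χ.1).factorization p) '' B) ⟨_, χ, hχ, rfl⟩
  have h3 := Nat.sInf_le (s := (fun χ : IrrCharacter H =>
    (charDegree χ.1).factorization p) '' B) ⟨χ, hχ, rfl⟩
  have h5 := (Nat.factorization_le_iff_dvd (ψ.2.isCharacter.charDegree_eq_zero_iff.not.2
    ψ.2.ne_zero) Nat.card_pos.ne').2 ψ.2.charDegree_dvd_card p
  rw [blockDefect, blockHeight, ← h2] at *
  simp only at h3 ⊢
  omega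

end H40.An
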