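import Cfsg.Agent.H40.SnRun

/-!
# The degree formula and the `p`-parts of the degrees.
-/

set_option autoImplicit false
set_option linter.unusedSectionVars false

namespace H40.Sn

open Finset MvPolynomial Equiv Cfsg H28

variable {ι : Type*} [Fintype ι] [DecidableEq ι] {R : Type*} [CommRing R]
variable {K : Type*} [Fintype K] [DecidableEq K]

theorem cf_pm_one (α : ι → ℕ) : cf α (pm ι R (Multiset.replicate (∑ j, α j) 1)) =
    (Nat.multinomial univ α : R) := by
  rw [pm_replicate, psum, sum_pow_eq_sum_piAntidiag]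
  simp only [pow_one, ← mo_eq_prod, ← nsmul_eq_mul, map_sum, map_nsmul, cf_mo, smul_ite, smul_zero,
    sum_ite_eq']
  simp

theorem Xv_one_mul {δ β : ι → ℕ} {n : ℕ} (hβ : ∑ j, β j = n + ∑ j, δ j) :
    Xv δ β (Multiset.replicate n 1) * ∏ j, ((β j).factorial : ℤ) =
      n.factorial * (Matrix.of fun i j => ((β j).descFactorial (δ i) : ℤ)).det := by
  rw [Xv, cf_alt_mul, Matrix.det_apply', sum_mul, mul_sum]
  refine sum_congr rfl fun σ _ => ?_
  simp only [Matrix.of_apply]
  split_ifs with h
  · have h1 := sum_sub_of_le (β := β) (γ := δ ∘ σ) h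
    rw [show ∑ j, (δ ∘ σ) j = ∑ j, δ j from Equiv.sum_comp σ δ] at h1
    obtain rfl : n = ∑ j, (β - δ ∘ σ) j := by omega
    rw [cf_pm_one, ← Nat.multinomial_spec,
      prod_congr rfl fun j _ => by rw [← Nat.factorial_mul_descFactorial (h j)]]
    simp only [Nat.cast_mul, prod_mul_distrib, Nat.cast_prod, Pi.sub_apply, Function.comp_apply]
    ring
  · obtain ⟨j, hj⟩ := not_forall.1 h
    rw [zero_mul, prod_eq_zero (mem_univ j)
      (by rw [Nat.descFactorial_of_lt (not_le.1 hj), Nat.cast_zero])]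
    simp

/-- Twice the valuation of the Vandermonde determinant. -/
def dv (p : ℕ) (β : ι → ℕ) : ℕ := ∑ i, ∑ j, ((β i : ℤ) - β j).natAbs.factorization p

theorem two_mul_nu_det (p : ℕ) {δ β : ι → ℕ} (hδ : Stair1 δ) (hi : Function.Injective β) :
    2 * (Matrix.of fun i j => ((β j).descFactorial (δ i) : ℤ)).det.natAbs.factorization p =
      dv p β := by
  obtain ⟨e, rfl⟩ := hδ.exists_equiv
  obtain ⟨l, rfl⟩ : ∃ l : Fin (Fintype.card ι) → ℕ, β = l ∘ e := ⟨β ∘ e.symm, by ext; simp⟩
  have hl : Function.Injective l := Function.Injective.of_comp_right hi e.surjective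
  have h1 : (Matrix.of fun i j => (((l ∘ e) j).descFactorial (((fun j => j.val) ∘ e) i) : ℤ)).det =
      (Matrix.vandermonde fun i => (l i : ℤ)).det := by
    rw [Matrix.det_eval_matrixOfPolynomials_eq_det_vandermonde _ (fun i => descPochhammer ℤ i)
      (fun i => descPochhammer_natDegree ℤ i) (fun i => monic_descPochhammer ℤ i),
      ← Matrix.det_submatrix_equiv_self e, ← Matrix.det_transpose]
    congr 1
    ext i j
    simp [descPochhammer_eval_eq_descFactorial]
  have h2 : ∀ i j, i ≠ j → ((l j : ℤ) - l i).natAbs ≠ 0 := fun i j h h0 =>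
    h (hl (by omega))
  rw [h1, Matrix.det_vandermonde, ← Int.natAbsHom_apply, map_prod, Nat.factorization_prod_apply
    fun i _ => by rw [map_prod]; exact prod_ne_zero_iff.2 fun j hj => h2 i j (mem_Ioi.1 hj).ne]
  simp only [map_prod, Int.natAbsHom_apply]
  rw [sum_congr rfl fun i _ => Nat.factorization_prod_apply fun j hj => h2 i j (mem_Ioi.1 hj).ne]
  simp only [dv, Function.comp_apply]
  rw [Equiv.sum_comp e fun i => ∑ j, ((l i : ℤ) - l (e j)).natAbs.factorization p]
  conv_rhs =>
    rw [sum_congr rfl fun i _ => Equiv.sum_comp e fun j => ((l i : ℤ) - l j).natAbs.factorization p]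
  have h3 := sum_sum_Ioi_add_eq_sum_sum_off_diag
    fun i j => ((l j : ℤ) - l i).natAbs.factorization p
  rw [two_mul, ← sum_add_distrib]
  refine Eq.trans (sum_congr rfl fun i _ => ?_) (h3.trans (sum_congr rfl fun i _ => ?_))
  · rw [← sum_add_distrib]
    exact sum_congr rfl fun j _ => by rw [← Int.natAbs_neg, neg_sub]
  · rw [← sum_compl_add_sum {i}]; simp

theorem two_mul_nu_Xv (p : ℕ) {δ β : ι → ℕ} (hδ : Stair1 δ) {n : ℕ}
    (hβ : ∑ j, β j = n + ∑ j, δ j) (hi : Function.Injective β) :
    2 * (Xv δ β (Multiset.replicate n 1)).natAbs.factorization p +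
      2 * ∑ j, (β j).factorial.factorization p = 2 * n.factorial.factorization p + dv p β := by
  have h := congrArg Int.natAbs (Xv_one_mul hβ)
  rw [Int.natAbs_mul, Int.natAbs_mul, ← Nat.cast_prod, Int.natAbs_natCast, Int.natAbs_natCast] at h
  have h1 := Int.natAbs_ne_zero.2 (Xv_one_ne_zero hδ hβ hi)
  have h2 : ∏ j, (β j).factorial ≠ 0 := prod_ne_zero_iff.2 fun j _ => Nat.factorial_ne_zero _
  have h3 := (mul_ne_zero_iff.1 (h ▸ mul_ne_zero h1 h2)).2
  have h4 := congrArg (fun x => x.factorization p) h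
  simp only [Nat.factorization_mul h1 h2, Nat.factorization_mul (Nat.factorial_ne_zero _) h3,
    Finsupp.add_apply, Nat.factorization_prod_apply fun j _ => Nat.factorial_ne_zero (β j)] at h4
  rw [← two_mul_nu_det p hδ hi]
  omega

theorem Stair1.two_mul_sum {δ : ι → ℕ} (hδ : Stair1 δ) :
    2 * ∑ j, δ j = Fintype.card ι * (Fintype.card ι - 1) := by
  obtain ⟨e, rfl⟩ := hδ.exists_equiv
  rw [← sum_range_id_mul_two, mul_comm, ← Fin.sum_univ_eq_sum_range fun i => i]
  exact congrArg (· * 2) (Equiv.sum_comp e fun i => i.val)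

theorem nu_factorial_ab {p : ℕ} (hp : p.Prime) (q : ℕ) {r : ℕ} (hr : r < p) :
    (p * q + r).factorial.factorization p = q.factorial.factorization p + q := by
  have := Fact.mk hp
  rw [Nat.factorization_def _ hp, Nat.factorization_def _ hp, padicValNat_factorial_mul_add _ hr,
    padicValNat_factorial_mul]

theorem dv_ab {p : ℕ} (hp : p.Prime) {r : ι → Fin p} {δ γ : ι → ℕ} (hδ : IsStair r δ)
    (hγ : FInj r γ) : dv p (ab r γ) = 2 * ∑ j, δ j + ∑ c, dv p (res r γ c) := by
  rw [← sum_res r δ, mul_sum, ← sum_add_distrib, dv, ← Fintype.sum_fiberwise r]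
  refine sum_congr rfl fun c _ => ?_
  rw [(hδ c).two_mul_sum, dv, ← smul_eq_mul, ← card_univ, ← sum_const, ← sum_add_distrib]
  refine sum_congr rfl fun i _ => ?_
  rw [← Fintype.sum_subtype_add_sum_subtype (fun j => r j = c), sum_eq_zero (s := univ)
    (f := fun j : {j // ¬ r j = c} => _), add_zero, ← card_erase_of_mem (mem_univ i),
    card_eq_sum_ones, ← sum_erase_add _ _ (mem_univ i), ← sum_erase_add _ _ (mem_univ i)]
  · simp only [sub_self, Int.natAbs_zero, Nat.factorization_zero, Finsupp.zero_apply, add_zero]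
    rw [← sum_add_distrib]
    refine sum_congr rfl fun j hj => ?_
    have h1 : ((ab r γ i : ℤ) - ab r γ j).natAbs = p * ((res r γ c i : ℤ) - res r γ c j).natAbs := by
      have : (ab r γ i : ℤ) - ab r γ j = p * ((res r γ c i : ℤ) - res r γ c j) := by
        simp only [ab, res, i.2, j.2]
        push_cast; ring
      rw [this, Int.natAbs_mul, Int.natAbs_natCast]
    have h2 : ((res r γ c i : ℤ) - res r γ c j).natAbs ≠ 0 := fun h0 =>
      ne_of_mem_erase hj (finj_iff.1 hγ c (by omega))
    rw [h1, Nat.factorization_mul hp.ne_zero h2, Finsupp.add_apply, hp.factorization_self]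
  · intro j _
    refine Nat.factorization_eq_zero_of_not_dvd fun h => j.2 ?_
    rw [← Int.natCast_dvd, ← Nat.modEq_iff_dvd] at h
    have h1 := (r i).2
    have h2 := (r j).2
    simp only [ab, Nat.ModEq, Nat.mul_add_mod, Nat.mod_eq_of_lt h1, Nat.mod_eq_of_lt h2] at h
    exact (Fin.ext h).trans i.2

/-- **The `p`-part of the degree.** -/
theorem nu_Xv_ab {p : ℕ} (hp : p.Prime) {δ₀ : ι → ℕ} (hδ₀ : Stair1 δ₀) {r : ι → Fin p}
    {δ γ : ι → ℕ} (hδ : IsStair r δ) (hγ : FInj r γ) {n w : ℕ}
    (hn : ∑ j, ab r γ j = n + ∑ j, δ₀ j) (hw : ∑ j, γ j = w + ∑ j, δ j) :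
    (Xv δ₀ (ab r γ) (Multiset.replicate n 1)).natAbs.factorization p +
        (p * w).factorial.factorization p = n.factorial.factorization p +
      (phi r δ γ (Multiset.replicate w 1)).natAbs.factorization p := by
  have h1 := two_mul_nu_Xv p hδ₀ hn (ab_injective_iff.2 hγ)
  obtain ⟨v, hv, h2⟩ := hδ.exists_wt hγ
  obtain rfl : w = ∑ c, v c := by omega
  have h3 := fun c => two_mul_nu_Xv p (hδ c) (hv c) (finj_iff.1 hγ c)
  have h4 := sum_congr rfl fun c (_ : c ∈ univ) => h3 c
  simp only [sum_add_distrib, ← mul_sum] at h4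
  have h5 : ∑ c, ∑ j, (res r γ c j).factorial.factorization p =
      ∑ j, (γ j).factorial.factorization p :=
    Fintype.sum_fiberwise r fun j => (γ j).factorial.factorization p
  have h6 : ∀ c, (Xv (res r δ c) (res r γ c) (Multiset.replicate (v c) 1)).natAbs ≠ 0 := fun c =>
    Int.natAbs_ne_zero.2 (Xv_one_ne_zero (hδ c) (hv c) (finj_iff.1 hγ c))
  have h7 := congrArg (fun x => x.factorization p) (Nat.multinomial_spec univ v)
  simp only [Nat.factorization_mul (prod_ne_zero_iff.2 fun j _ => Nat.factorial_ne_zero (v j))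
    (Nat.multinomial_pos univ v).ne', Finsupp.add_apply,
    Nat.factorization_prod_apply fun j _ => Nat.factorial_ne_zero (v j)] at h7
  have h8 : (phi r δ γ (Multiset.replicate (∑ c, v c) 1)).natAbs = Nat.multinomial univ v *
      ∏ c, (Xv (res r δ c) (res r γ c) (Multiset.replicate (v c) 1)).natAbs := by
    rw [phi_one v hv, Int.natAbs_mul, Int.natAbs_natCast, ← Int.natAbsHom_apply, map_prod]; rfl
  rw [h8, Nat.factorization_mul (Nat.multinomial_pos univ v).ne'
    (prod_ne_zero_iff.2 fun c _ => h6 c), Finsupp.add_apply,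
    Nat.factorization_prod_apply fun c _ => h6 c, Nat.factorization_factorial_mul hp]
  have h9 : ∑ j, (ab r γ j).factorial.factorization p =
      ∑ j, (γ j).factorial.factorization p + ∑ j, γ j := by
    simp only [ab, nu_factorial_ab hp _ (r _).2, sum_add_distrib]
  rw [dv_ab hp hδ hγ, h9] at h1
  omega

section rows

theorem Stair1.exists_eq {δ : ι → ℕ} (hδ : Stair1 δ) {k : ℕ} (hk : k < Fintype.card ι) :
    ∃ j, δ j = k := by
  obtain ⟨e, rfl⟩ := hδ.exists_equiv
  exact ⟨e.symm ⟨k, hk⟩, by simp⟩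

theorem IsStair.exists_val {r : ι → K} {δ : ι → ℕ} (hδ : IsStair r δ) (j : ι) {k : ℕ}
    (hk : k ≤ δ j) : ∃ i, r i = r j ∧ δ i = k := by
  obtain ⟨i, hi⟩ := (hδ (r j)).exists_eq (hk.trans_lt ((hδ (r j)).2 ⟨j, rfl⟩))
  exact ⟨i, i.2, hi⟩

theorem phi_cons (r : ι → K) (δ γ : ι → ℕ) (k : ℕ) (ρ : Multiset ℕ) :
    phi r δ γ (k ::ₘ ρ) = ∑ j, if k ≤ γ j then phi r δ (γ - Pi.single j k) ρ else 0 := by
  rw [phi, pm_cons, ← mul_assoc, cf_mul_psum]; rfl

theorem phi_eq_zero_of_not_finj {r : ι → K} {δ γ : ι → ℕ} (h : ¬ FInj r γ) (ρ : Multiset ℕ) :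
    phi r δ γ ρ = 0 := ((asr_altr r δ).mul_pm ρ).cf_eq_zero h

theorem phi_self {r : ι → K} {δ : ι → ℕ} (hδ : IsStair r δ) : phi r δ δ 0 = 1 := by
  rw [phi, pm_zero, mul_one, cf_altr_self hδ.finj]

/-- Removal of a hook when only maximal beads are displaced. -/
theorem phi_add_cons {r : ι → K} {δ : ι → ℕ} (hδ : IsStair r δ) {v : ι → ℕ}
    (hv : ∀ i j, r i = r j → δ i < δ j → v i = 0) (k : ℕ) (ρ : Multiset ℕ) :
    phi r δ (δ + v) (k ::ₘ ρ) =
      ∑ j, if k ≤ v j then phi r δ (δ + (v - Pi.single j k)) ρ else 0 := by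
  rw [phi_cons]
  refine sum_congr rfl fun j _ => ?_
  by_cases h : k ≤ v j
  · rw [if_pos h, if_pos (show k ≤ (δ + v) j from h.trans (Nat.le_add_left _ _))]
    congr 1
    funext i
    by_cases hi : i = j
    · subst hi; simp; omega
    · simp [Pi.single_eq_of_ne hi]
  · rw [if_neg h]
    split_ifs with h1
    · simp only [Pi.add_apply] at h1
      obtain ⟨i, h2, h3⟩ := hδ.exists_val j (k := δ j + v j - k) (by omega)
      have h4 : δ i < δ j := by omega
      have h5 : i ≠ j := fun e => by rw [e] at h4; omega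
      refine phi_eq_zero_of_not_finj (fun h6 => h5 (h6 i j h2 ?_)) _
      simp [Pi.single_eq_of_ne h5, hv i j h2 h4, h3]
    · rfl

theorem phi_add_nonneg {r : ι → K} {δ : ι → ℕ} (hδ : IsStair r δ) (ρ : Multiset ℕ)
    {v : ι → ℕ} (hv : ∀ i j, r i = r j → δ i < δ j → v i = 0) :
    0 ≤ phi r δ (δ + v) ρ := by
  induction ρ using Multiset.induction_on generalizing v with
  | empty =>
    by_cases h : v = 0
    · rw [h, add_zero, phi_self hδ]; exact zero_le_one
    · rw [phi_eq_zero_of_ne]
      simp only [Pi.add_apply, sum_add_distrib, Multiset.sum_zero, zero_add, ne_eq, add_eq_left,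
        sum_eq_zero_iff, mem_univ, true_imp_iff]
      exact fun h1 => h (funext h1)
  | cons k ρ ih =>
    rw [phi_add_cons hδ hv]
    refine sum_nonneg fun j _ => ?_
    split_ifs
    · exact ih fun i i' a b => by
        simp [hv i i' a b]
    · rfl

theorem phi_add_one {r : ι → K} {δ : ι → ℕ} (hδ : IsStair r δ) {w : ℕ} {v : ι → ℕ}
    (hv : ∀ i j, r i = r j → δ i < δ j → v i = 0) (hw : ∑ j, v j = w) :
    phi r δ (δ + v) (Multiset.replicate w 1) = Nat.multinomial univ v := by
  have key : phi r δ (δ + v) (Multiset.replicate w 1) = cf v (pm ι ℤ (Multiset.replicate w 1)) := by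
    clear hw
    induction w generalizing v with
    | zero =>
      rw [Multiset.replicate_zero, pm_zero, ← mo_zero, cf_mo]
      split_ifs with h
      · rw [← h, add_zero, phi_self hδ]
      · rw [phi_eq_zero_of_ne]
        simp only [Pi.add_apply, sum_add_distrib, Multiset.sum_zero, zero_add, ne_eq, add_eq_left,
          sum_eq_zero_iff, mem_univ, true_imp_iff]
        exact fun h1 => h (funext h1).symm
    | succ w ih =>
      rw [Multiset.replicate_succ, phi_add_cons hδ hv, pm_cons, cf_mul_psum]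
      refine sum_congr rfl fun j _ => ?_
      split_ifs
      · exact ih fun i i' a b => by simp [hv i i' a b]
      · rfl
  rw [key, ← hw, cf_pm_one]

theorem finj_add {r : ι → K} {δ : ι → ℕ} (hδ : IsStair r δ) {v : ι → ℕ}
    (hv : ∀ i j, r i = r j → δ i < δ j → v i ≤ v j) : FInj r (δ + v) := by
  intro i j h1 h2
  simp only [Pi.add_apply] at h2
  rcases lt_trichotomy (δ i) (δ j) with h | h | h
  · have := hv i j h1 h; omega
  · exact hδ.finj i j h1 h
  · have := hv j i h1.symm h; omega

/-- The degree of the character `(a, 1)`. -/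
theorem phi_hook {r : ι → K} {δ : ι → ℕ} (hδ : IsStair r δ) {t s : ι} (hr : r s = r t)
    (hs : δ s + 1 = δ t) (ht : ∀ j, r j = r t → δ j ≤ δ t) (a : ℕ) :
    phi r δ (δ + Pi.single t a + Pi.single s 1) (Multiset.replicate (a + 1) 1) = a := by
  have hst : s ≠ t := fun e => by rw [e] at hs; omega
  induction a with
  | zero =>
    refine phi_eq_zero_of_not_finj (fun h => hst (h s t hr ?_)) _
    simp [hs, Pi.single_eq_of_ne hst.symm]
  | succ a ih =>
    rw [Multiset.replicate_succ, phi_cons, ← sum_erase_add _ _ (mem_univ t),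
      ← sum_erase_add _ _ (mem_erase.2 ⟨hst, mem_univ s⟩), sum_eq_zero, if_pos (by simp),
      if_pos (by simp; omega), add_tsub_cancel_right, phi_add_one hδ _ (by simp)]
    · have : δ + Pi.single t (a + 1) + Pi.single s 1 - Pi.single t 1 =
          δ + Pi.single t a + Pi.single s 1 := by
        funext i
        by_cases hi : i = t
        · subst hi; simp [Pi.single_eq_of_ne hst.symm]
        · simp [Pi.single_eq_of_ne hi]
      rw [this, ih, Nat.multinomial_single]
      push_cast; ring
    · intro i j h1 h2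
      refine Pi.single_eq_of_ne (fun e => ?_) _
      have := ht j (e ▸ h1.symm)
      rw [e] at h2; omega
    · intro j hj
      have h1 := ne_of_mem_erase hj
      have h2 := ne_of_mem_erase (mem_of_mem_erase hj)
      split_ifs with h
      · simp only [Pi.add_apply, Pi.single_eq_of_ne h1, Pi.single_eq_of_ne h2, add_zero] at h
        obtain ⟨i, h3, h4⟩ := hδ.exists_val j (k := δ j - 1) (by omega)
        have h5 : i ≠ j := fun e => by rw [e] at h4; omega
        have h6 : i ≠ t := fun e => by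
          have := ht j (e ▸ h3.symm)
          rw [e] at h4; omega
        have h7 : i ≠ s := fun e => h2 (hδ.finj j t (h3.symm.trans (e ▸ hr)) (by
          rw [e] at h4; omega))
        refine phi_eq_zero_of_not_finj (fun h8 => h5 (h8 i j h3 ?_)) _
        simp [Pi.single_eq_of_ne h1, Pi.single_eq_of_ne h2, Pi.single_eq_of_ne h5,
          Pi.single_eq_of_ne h6, Pi.single_eq_of_ne h7, h4]
      · rfl

end rows

end H40.Sn
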