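import Cfsg.Agent.H40.SnRank
import Cfsg.Agent.H40.SnDeg
import Cfsg.Agent.H35.Contrib
import Cfsg.Agent.H35.GalB
import Cfsg.Agent.H36.Main1
import Cfsg.Agent.H36.Count
import Cfsg.Agent.H37.Height
import Cfsg.Agent.S0911
import Cfsg.Agent.S0912
import Cfsg.Agent.S0917
import Cfsg.Agent.S0924
import Cfsg.Agent.S0958

/-!
# The blocks of the symmetric groups (Nakayama's conjecture), defect groups and heights.
-/

set_option autoImplicit false
set_option linter.unusedSectionVars false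

namespace H40.Sn

open Finset MvPolynomial Equiv Cfsg H28

variable {ι : Type*} [Fintype ι] [DecidableEq ι]
variable {Ω : Type*} [Fintype Ω] [DecidableEq Ω]

/-- `χ` is labelled by the beta numbers `β`. -/
def Lab (δ β : ι → ℕ) (χ : Perm Ω → ℂ) : Prop := χ = chi Ω δ β ∨ χ = -chi Ω δ β

theorem Lab.exists_sign {δ β : ι → ℕ} {χ : Perm Ω → ℂ} (h : Lab δ β χ) :
    ∃ ε : ℤ, ε * ε = 1 ∧ ∀ g, χ g = ((ε * Xv δ β g.partition.parts : ℤ) : ℂ) := by
  rcases h with rfl | rfl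
  · exact ⟨1, rfl, fun g => by simp [chi_apply]⟩
  · exact ⟨-1, rfl, fun g => by simp [chi_apply]⟩

theorem Lab.comp {δ β : ι → ℕ} {χ : Perm Ω → ℂ} (h : Lab δ β χ) (σ : Perm ι) :
    Lab δ (β ∘ σ) χ := by
  rcases Int.units_eq_one_or (Perm.sign σ) with e | e <;> rcases h with rfl | rfl <;>
    simp [Lab, chi_comp, e]

theorem Lab.ne_zero_iff {δ β : ι → ℕ} {χ : Perm Ω → ℂ} (h : Lab δ β χ) (g : Perm Ω) :
    χ g ≠ 0 ↔ Xv δ β g.partition.parts ≠ 0 := by
  rcases h with rfl | rfl <;> simp [chi_apply]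

section perm

variable {p : ℕ}

theorem orderOf_factor {c f : Perm Ω} {w : ℕ} (hc : c.cycleType = Multiset.replicate w p)
    (hf : f ∈ c.cycleFactorsFinset) : orderOf f = p := by
  rw [(Perm.mem_cycleFactorsFinset_iff.1 hf).1.orderOf]
  refine Multiset.eq_of_mem_replicate (n := w) ?_
  rw [← hc, Perm.cycleType_def]
  exact Multiset.mem_map_of_mem _ hf

theorem disjoint_of_commute (hp : p.Prime) {c x : Perm Ω} {w : ℕ}
    (hc : c.cycleType = Multiset.replicate w p) (hx : ¬ p ∣ orderOf x)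
    (h : ∀ f ∈ c.cycleFactorsFinset, Commute x f) : Perm.Disjoint c x := by
  intro a
  by_cases ha : c a = a
  · exact Or.inl ha
  right
  have hf := Perm.cycleOf_mem_cycleFactorsFinset_iff.2 (Perm.mem_support.2 ha)
  set f := c.cycleOf a
  have h1 := (Perm.mem_cycleFactorsFinset_iff.1 hf).1
  have h2 : f a ≠ a := by rwa [Perm.cycleOf_apply_self]
  have h3 : f (x a) ≠ x a := fun e => h2 (x.injective (by
    rw [← Perm.mul_apply, (h f hf).eq, Perm.mul_apply, e]))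
  obtain ⟨k, hk⟩ := h1.exists_pow_eq h2 h3
  have h4 : ∀ j : ℕ, (x ^ j) a = (f ^ (k * j)) a := fun j => by
    induction j with
    | zero => simp
    | succ j ih =>
      rw [pow_succ', Perm.mul_apply, ih, ← Perm.mul_apply, ((h f hf).pow_right _).eq,
        Perm.mul_apply, ← hk, ← Perm.mul_apply, ← pow_add, mul_add, mul_one]
  have h5 := (h1.pow_eq_one_iff' h2).2 ((h4 _).symm.trans (by rw [pow_orderOf_eq_one]; rfl))
  rw [← orderOf_dvd_iff_pow_eq_one, orderOf_factor hc hf] at h5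
  have h6 := (hp.dvd_mul.1 h5).resolve_right hx
  rw [← orderOf_factor hc hf, orderOf_dvd_iff_pow_eq_one] at h6
  rw [← hk, h6]; rfl

theorem card_support_eq {c : Perm Ω} {w : ℕ} (hc : c.cycleType = Multiset.replicate w p) :
    #c.support = p * w := by
  rw [← Perm.sum_cycleType, hc, Multiset.sum_replicate, smul_eq_mul, mul_comm]

theorem parts_mul {c x : Perm Ω} {w : ℕ} (hc : c.cycleType = Multiset.replicate w p)
    (h : Perm.Disjoint c x) : ∃ σ : Multiset ℕ,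
      (c * x).partition.parts = σ + (Multiset.replicate w 1).map (p * ·) ∧
      x.partition.parts = σ + Multiset.replicate (p * w) 1 := by
  have h1 := card_le_univ (c * x).support
  rw [h.card_support_mul, card_support_eq hc] at h1
  refine ⟨x.cycleType + Multiset.replicate (Fintype.card Ω - (p * w + #x.support)) 1, ?_, ?_⟩
  · rw [Perm.parts_partition, h.cycleType_mul, h.card_support_mul, card_support_eq hc, hc,
      Multiset.map_replicate, mul_one]
    abel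
  · rw [Perm.parts_partition, add_assoc, ← Multiset.replicate_add]
    congr 2
    omega

theorem sign_viaEmbedding {α : Type*} [Fintype α] [DecidableEq α] (e : α ↪ Ω) (σ : Perm α) :
    Perm.sign (Perm.viaEmbeddingHom e σ) = Perm.sign σ := by
  exact @Perm.sign_extendDomain _ _ _ _ _ _ σ _ (fun _ => Classical.propDecidable _)
    (Equiv.ofInjective e.1 e.2)

theorem conj_viaEmbedding {α : Type*} (e : α ↪ Ω) (σ : Perm α) (h : Perm Ω) :
    h * Perm.viaEmbeddingHom e σ * h⁻¹ = Perm.viaEmbeddingHom (e.trans h.toEmbedding) σ := by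
  ext y
  obtain ⟨x, rfl⟩ := h.surjective y
  simp only [Perm.viaEmbeddingHom_apply, Perm.mul_apply, Perm.coe_inv, symm_apply_apply]
  by_cases hx : x ∈ Set.range e
  · obtain ⟨a, rfl⟩ := hx
    rw [Perm.viaEmbedding_apply]
    exact (Perm.viaEmbedding_apply σ (e.trans h.toEmbedding) a).symm
  · rw [Perm.viaEmbedding_apply_of_notMem _ _ _ hx, Perm.viaEmbedding_apply_of_notMem]
    rintro ⟨a, ha⟩
    exact hx ⟨a, h.injective ha⟩

theorem exists_hom_pi (A : Type*) [Group A] [Fintype A] [DecidableEq A] (k : ℕ)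
    (h : k * Fintype.card A ≤ Fintype.card Ω) : ∃ f : (Fin k → A) →* Perm Ω,
      Function.Injective f ∧ ∀ a, Perm.sign (f a) = ∏ i, Perm.sign (MulAction.toPerm (a i) : Perm A) := by
  obtain ⟨e⟩ := Function.Embedding.nonempty_of_card_le (α := Fin k × A) (β := Ω) (by simpa using h)
  let f : (Fin k → A) →* Perm (Fin k × A) :=
    { toFun := fun a => Equiv.prodCongrRight fun i => MulAction.toPerm (a i)
      map_one' := by ext x <;> simp
      map_mul' := fun a b => by ext x <;> simp [mul_assoc] }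
  refine ⟨(Perm.viaEmbeddingHom e).comp f, (Perm.viaEmbeddingHom_injective e).comp
    fun a b hab => funext fun i => ?_, fun a => ?_⟩
  · simpa [f] using congrArg (fun g : Perm (Fin k × A) => (g (i, 1)).2) hab
  · rw [MonoidHom.comp_apply, sign_viaEmbedding]
    exact Perm.sign_prodCongrRight fun i => (MulAction.toPerm (a i) : Perm A)

end perm

variable {p : ℕ}

/-- The data of a core and a weight. -/
structure Core (Ω : Type*) [Fintype Ω] (δ₀ : ι → ℕ) (r : ι → Fin p) (δ : ι → ℕ) (m w : ℕ) :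
    Prop where
  st0 : Stair1 δ₀
  le : Fintype.card Ω ≤ Fintype.card ι
  st : IsStair r δ
  sm : ∑ j, ab r δ j = m + ∑ j, δ₀ j
  card : Fintype.card Ω = m + p * w

/-- `χ` has the given core and the quotient `γ`. -/
structure InT (δ₀ : ι → ℕ) (r : ι → Fin p) (δ : ι → ℕ) (w : ℕ) (χ : Perm Ω → ℂ) (γ : ι → ℕ) :
    Prop where
  fi : FInj r γ
  sm : ∑ j, γ j = w + ∑ j, δ j
  lab : Lab δ₀ (ab r γ) χ

variable {δ₀ : ι → ℕ} {r : ι → Fin p} {δ : ι → ℕ} {m w : ℕ}

theorem Core.sum_ab (h : Core Ω δ₀ r δ m w) {γ : ι → ℕ} (hγ : ∑ j, γ j = w + ∑ j, δ j) :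
    ∑ j, ab r γ j = Fintype.card Ω + ∑ j, δ₀ j := by
  have := h.sm
  rw [Sn.sum_ab] at this ⊢
  rw [hγ, h.card, mul_add]; omega

theorem exists_core [NeZero p] (hδ₀ : Stair1 δ₀) (hι : Fintype.card Ω ≤ Fintype.card ι)
    (χ : IrrCharacter (Perm Ω)) : ∃ (r : ι → Fin p) (δ : ι → ℕ) (m w : ℕ) (γ : ι → ℕ),
      Core Ω δ₀ r δ m w ∧ InT δ₀ r δ w χ.1 γ := by
  obtain ⟨β, h1, h2, h3⟩ := exists_chi hδ₀ hι χ.2
  obtain ⟨δ, hδ⟩ := exists_isStair (run p β)
  rw [← ab_run (p := p) β] at h1 h2 h3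
  have h4 := ab_injective_iff.1 h1
  obtain ⟨w, hw⟩ := Nat.exists_eq_add_of_le' (hδ.sum_le h4)
  obtain ⟨m, hm⟩ := Nat.exists_eq_add_of_le' (hδ₀.sum_le (ab_injective_iff.2 hδ.finj))
  refine ⟨_, δ, m, w, _, ⟨hδ₀, hι, hδ, hm, ?_⟩, h4, hw, h3⟩
  rw [Sn.sum_ab] at h2 hm
  rw [hw, mul_add] at h2
  omega

theorem Core.exists_irr (h : Core Ω δ₀ r δ m w) {γ : ι → ℕ} (h1 : FInj r γ)
    (h2 : ∑ j, γ j = w + ∑ j, δ j) : ∃ χ : IrrCharacter (Perm Ω), InT δ₀ r δ w χ.1 γ := by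
  obtain ⟨χ, hχ⟩ := Sn.exists_irr (Ω := Ω) h.st0 (h.sum_ab h2) (ab_injective_iff.2 h1)
  exact ⟨χ, h1, h2, hχ⟩

theorem Core.Xv_eq (h : Core Ω δ₀ r δ m w) {γ : ι → ℕ} (hγ : ∑ j, γ j = w + ∑ j, δ j)
    (σ : Multiset ℕ) {ρ : Multiset ℕ} (hρ : w ≤ ρ.sum) :
    Xv δ₀ (ab r γ) (σ + ρ.map (p * ·)) = Xv δ₀ (ab r δ) σ * phi r δ γ ρ :=
  Xv_ab h.st δ₀ σ ρ γ (by omega)

theorem Core.Xv_core_ne_zero (h : Core Ω δ₀ r δ m w) :
    Xv δ₀ (ab r δ) (Multiset.replicate m 1) ≠ 0 :=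
  Xv_one_ne_zero h.st0 h.sm (ab_injective_iff.2 h.st.finj)

theorem Core.nu_deg (h : Core Ω δ₀ r δ m w) (hp : p.Prime) {χ : IrrCharacter (Perm Ω)} {γ : ι → ℕ}
    (hχ : InT δ₀ r δ w χ.1 γ) : (charDegree χ.1).factorization p + (p * w).factorial.factorization p =
      (Nat.card (Perm Ω)).factorization p +
        (phi r δ γ (Multiset.replicate w 1)).natAbs.factorization p := by
  rw [charDegree_of_chi χ.2.isCharacter hχ.lab, Nat.card_perm, Nat.card_eq_fintype_card]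
  exact nu_Xv_ab hp h.st0 h.st hχ.fi (h.sum_ab hχ.sm) hχ.sm

variable [hp : Fact p.Prime] {M : Ideal AlgInt} {B : Set (IrrCharacter (Perm Ω))}

theorem cont_run_eq (hM : IsPModular p M) (hB : IsPBlock M B) (hδ₀ : Stair1 δ₀)
    (hι : Fintype.card Ω ≤ Fintype.card ι) {χ ψ : IrrCharacter (Perm Ω)} (hχ : χ ∈ B) (hψ : ψ ∈ B)
    {β β' : ι → ℕ} (h1 : Lab δ₀ β χ.1) (h2 : Lab δ₀ β' ψ.1) :
    cont (run p β) = cont (run p β') := by
  have := hM.2.1
  have hs : ∀ {χ : IrrCharacter (Perm Ω)} {β : ι → ℕ}, Lab δ₀ β χ.1 →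
      ∑ j, β j = Fintype.card Ω + ∑ j, δ₀ j := fun {χ β} h => by
    by_contra h0
    exact χ.2.ne_zero (by rcases h with h | h <;> simp [h, chi_eq_zero_of_ne h0])
  obtain ⟨χ₀, h3, h4⟩ := H35.exists_height_zero p ⟨χ, hχ⟩
  obtain ⟨β₀, -, h5, h6⟩ := exists_chi hδ₀ hι χ₀.2
  have key : ∀ {χ : IrrCharacter (Perm Ω)} {β : ι → ℕ}, χ ∈ B → Lab δ₀ β χ.1 →
      cont (run p β₀) = cont (run p β) := fun {χ β} hχ h => by
    by_contra h0
    refine H35.classInner_pReg_ne_zero_of_height_zero hM hB h3 h4 hχ ?_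
    obtain ⟨ε, -, h7⟩ := Lab.exists_sign h6
    obtain ⟨ε', -, h8⟩ := h.exists_sign
    have h9 := sum_reg_eq_zero hδ₀ hι h5 (hs h) h0
    rw [classInner_def, mul_eq_zero]
    right
    have : ∀ g, pRegularPart p χ₀.1 g * (starRingEnd ℂ) (χ.1 g) = ((ε * ε' *
        (if ∀ k ∈ g.partition.parts, ¬ p ∣ k then
          Xv δ₀ β₀ g.partition.parts * Xv δ₀ β g.partition.parts else 0) : ℤ) : ℂ) := fun g => by
      simp only [pRegularPart, IsPRegular, isPRegular_iff hp.out, h7, h8, map_intCast]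
      split_ifs
      · push_cast; ring
      · simp
    simp only [this]
    rw [← Int.cast_sum, ← mul_sum, ← sum_filter, h9]; simp
  exact (key hχ h1).symm.trans (key hψ h2)

/-- **Characters in one block have the same core.** -/
theorem Core.inT_of_mem (h : Core Ω δ₀ r δ m w) (hM : IsPModular p M) (hB : IsPBlock M B)
    {χ ψ : IrrCharacter (Perm Ω)} (hχ : χ ∈ B) {γ : ι → ℕ} (hγ : InT δ₀ r δ w χ.1 γ) (hψ : ψ ∈ B) :
    ∃ γ', InT δ₀ r δ w ψ.1 γ' := by
  obtain ⟨β, h1, h2, h3⟩ := exists_chi h.st0 h.le ψ.2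
  have h4 := cont_run_eq hM hB h.st0 h.le hχ hψ hγ.lab h3
  rw [run_ab] at h4
  obtain ⟨τ, hτ⟩ := exists_comp_eq h4
  have h5 : β ∘ τ = ab r ((fun j => β j / p) ∘ τ) := by
    conv_lhs => rw [← ab_run (p := p) β, ab_comp, hτ]
  refine ⟨(fun j => β j / p) ∘ τ, ab_injective_iff.1 (h5 ▸ h1.comp τ.injective), ?_,
    h5 ▸ Lab.comp h3 τ⟩
  have h6 := (Equiv.sum_comp τ β).trans (h2.trans (h.sum_ab hγ.sm).symm)
  change ∑ j, (β ∘ τ) j = _ at h6
  rw [h5, Sn.sum_ab, Sn.sum_ab] at h6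
  rw [← hγ.sm]
  exact Nat.eq_of_mul_eq_mul_left hp.out.pos (by omega)

theorem Core.exists_cyc (h : Core Ω δ₀ r δ m w) (hM : IsPModular p M) (hB : IsPBlock M B)
    {χ : IrrCharacter (Perm Ω)} (hχ : χ ∈ B) {γ : ι → ℕ} (hγ : InT δ₀ r δ w χ.1 γ)
    {D : Subgroup (Perm Ω)} (hD : IsDefectGroup p M B D) :
    ∃ c : Perm Ω, c.cycleType = Multiset.replicate w p ∧ ∀ f ∈ c.cycleFactorsFinset, f ∈ D := by
  have := hM.2.1
  obtain ⟨c, hc⟩ := (Perm.exists_with_cycleType_iff Ω (m := Multiset.replicate w p)).2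
    ⟨by rw [Multiset.sum_replicate, smul_eq_mul, h.card, mul_comm]; omega,
      fun k hk => Multiset.eq_of_mem_replicate hk ▸ hp.out.two_le⟩
  have hcp : c ^ p = 1 := Perm.pow_prime_eq_one_iff.2 fun k hk =>
    Multiset.eq_of_mem_replicate (hc ▸ hk)
  obtain ⟨k, -, hk⟩ := (Nat.dvd_prime_pow hp.out (m := 1) (i := orderOf c)).1
    (by rw [pow_one]; exact orderOf_dvd_of_pow_eq_one hcp)
  have h1 : χ.1 c ≠ 0 := by
    have : c.partition.parts = Multiset.replicate m 1 + (Multiset.replicate w 1).map (p * ·) := by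
      rw [Perm.parts_partition, card_support_eq hc, hc, h.card, Multiset.map_replicate, mul_one,
        add_comm, Nat.add_sub_cancel]
    rw [hγ.lab.ne_zero_iff, this, h.Xv_eq hγ.sm _ (by simp)]
    exact mul_ne_zero h.Xv_core_ne_zero (phi_one_ne_zero h.st hγ.fi hγ.sm)
  obtain ⟨D₀, h2, h3⟩ : ∃ D₀, IsDefectGroup p M B D₀ ∧ c ∈ D₀ := by
    by_contra h0
    refine h1 (Cfsg.Agent.S0924.result p M hM χ c c ⟨1, mul_one _, Commute.one_right _, ⟨k, hk⟩,
      by simpa using hp.out.ne_one⟩ fun D hD hc => h0 ⟨D, ?_, hc⟩)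
    rwa [H34.eq_blockOf_of_mem hB hχ]
  set H := Subgroup.centralizer (Subgroup.zpowers c : Set (Perm Ω)) with hH
  have hmem : ∀ g, g ∈ H ↔ Commute g c := fun g => by
    rw [hH, Subgroup.zpowers_eq_closure, Subgroup.centralizer_closure,
      Subgroup.mem_centralizer_singleton_iff]; rfl
  obtain ⟨b, hb⟩ := (Cfsg.Agent.S0958.result p M hM (Subgroup.zpowers c) H
    (IsPGroup.of_card (by rw [Nat.card_zpowers, hk])) (sup_le (Subgroup.zpowers_le.2
      ((hmem c).2 (Commute.refl c))) le_rfl) (Subgroup.centralizer_le_normalizer _) B hB).2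
    ⟨D₀, h2, 1, by simpa using h3⟩
  obtain ⟨Db, hDb⟩ := H34.exists_isDefectGroup p hb.1
  obtain ⟨D', h4, h5⟩ := Cfsg.Agent.S0917.result p M hM H b hb.1 B hB hb Db hDb
  have h6 := Cfsg.Agent.S0912.result p M hM b hb.1 Db hDb
  set E := Subgroup.closure (c.cycleFactorsFinset : Set (Perm Ω)) with hE
  have hcomm : IsMulCommutative E := Subgroup.isMulCommutative_closure fun x hx y hy =>
    Perm.cycleFactorsFinset_mem_commute' c hx hy
  have h7 : ∀ x ∈ E, x ^ p = 1 := fun x hx => by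
    induction hx using Subgroup.closure_induction with
    | mem f hf => rw [← orderOf_factor hc hf, pow_orderOf_eq_one]
    | one => simp
    | mul x y hx hy h1 h2 => rw [Commute.mul_pow (setLike_mul_comm hx hy), h1, h2, mul_one]
    | inv x _ h1 => rw [inv_pow, h1, inv_one]
  have h8 : E.subgroupOf H ≤ pCore p H := le_sSup ⟨⟨fun x hx g => by
      rw [Subgroup.mem_subgroupOf] at hx ⊢
      have : E.map (MulAut.conj (g : Perm Ω)).toMonoidHom ≤ E := by
        rw [hE, MonoidHom.map_closure]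
        refine Subgroup.closure_mono ?_
        rintro _ ⟨f, hf, rfl⟩
        have := (Perm.mem_cycleFactorsFinset_conj c g f).2 hf
        rwa [((hmem g).1 g.2).eq, mul_inv_cancel_right] at this
      exact this ⟨x, hx, rfl⟩⟩,
    fun x => ⟨1, Subtype.ext (Subtype.ext (by simpa using h7 _ x.2))⟩⟩
  obtain ⟨x, rfl⟩ := H36.isDefectGroup_exists_conj hM hB h4 hD
  refine ⟨x * c * x⁻¹, by rw [Perm.cycleType_conj, hc], fun f hf => ?_⟩
  have h9 : x⁻¹ * f * x ∈ c.cycleFactorsFinset := by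
    rw [← Perm.mem_cycleFactorsFinset_conj c x]; simpa [mul_assoc] using hf
  refine ⟨x⁻¹ * f * x, h5 ⟨⟨_, (hmem _).2 (Perm.self_mem_cycle_factors_commute h9)⟩,
    h6 (h8 (Subgroup.subset_closure h9)), rfl⟩, by simp [mul_assoc]⟩

theorem exists_emb {c x : Perm Ω} (hc : c.cycleType = Multiset.replicate w p)
    (h : Perm.Disjoint c x) : ∃ e : Fin (p * w) ↪ Ω,
      (Perm.viaEmbeddingHom e).range ≤ Subgroup.centralizer {x} := by
  let e : Fin (p * w) ↪ Ω := (Finset.equivFinOfCardEq (card_support_eq hc)).symm.toEmbedding.trans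
    (Function.Embedding.subtype _)
  refine ⟨e, ?_⟩
  rintro _ ⟨σ, rfl⟩
  refine Subgroup.mem_centralizer_singleton_iff.2 (Perm.Disjoint.commute fun a => ?_).eq
  by_cases ha : a ∈ Set.range e
  · obtain ⟨i, rfl⟩ := ha
    exact Or.inr ((h _).resolve_left (Perm.mem_support.1 (Subtype.property _)))
  · exact Or.inl (Perm.viaEmbedding_apply_of_notMem _ _ _ ha)

theorem Core.blockDefect_eq (h : Core Ω δ₀ r δ m w) (hM : IsPModular p M) (hB : IsPBlock M B)
    {χ : IrrCharacter (Perm Ω)} (hχ : χ ∈ B) {γ : ι → ℕ} (hγ : InT δ₀ r δ w χ.1 γ) :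
    blockDefect p B = (p * w).factorial.factorization p := by
  have := hM.2.1
  apply le_antisymm
  · obtain ⟨ψ, h1, h2⟩ := Nat.sInf_mem (s := (fun χ : IrrCharacter (Perm Ω) =>
      (charDegree χ.1).factorization p) '' B) ⟨_, χ, hχ, rfl⟩
    obtain ⟨γ', h3⟩ := h.inT_of_mem hM hB hχ hγ h1
    have h4 := h.nu_deg hp.out h3
    rw [blockDefect, ← h2]
    simp only
    omega
  · obtain ⟨D, hD⟩ := H34.exists_isDefectGroup p hB
    obtain ⟨c, h1, h2⟩ := h.exists_cyc hM hB hχ hγ hD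
    obtain ⟨g, h3, h4⟩ := H36.isDefectGroup_iff_isSylowIn.1 hD
    obtain ⟨e, he⟩ := exists_emb h1 (disjoint_of_commute hp.out h1
      (H36.not_dvd_orderOf_of_isDefectClass hM hB h3) fun f hf =>
        (Subgroup.mem_centralizer_singleton_iff.1 (h4.le (h2 f hf))).symm)
    rw [← H36.cdef_eq_of_isDefectClass hM hB h3]
    have h5 := Subgroup.card_dvd_of_le he
    rw [← Nat.card_congr (MonoidHom.ofInjective (Perm.viaEmbeddingHom_injective e)).toEquiv,
      Nat.card_perm, Nat.card_eq_fintype_card, Fintype.card_fin] at h5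
    exact (Nat.factorization_le_iff_dvd (Nat.factorial_ne_zero _) Nat.card_pos.ne').2 h5 p

/-- **The defect groups.** -/
theorem Core.defect_struct (h : Core Ω δ₀ r δ m w) (hM : IsPModular p M) (hB : IsPBlock M B)
    {χ : IrrCharacter (Perm Ω)} (hχ : χ ∈ B) {γ : ι → ℕ} (hγ : InT δ₀ r δ w χ.1 γ)
    {D : Subgroup (Perm Ω)} (hD : IsDefectGroup p M B D) :
    ∃ (e : Fin (p * w) ↪ Ω) (P : Sylow p (Perm (Fin (p * w)))),
      D = (P : Subgroup _).map (Perm.viaEmbeddingHom e) := by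
  have := hM.2.1
  obtain ⟨c, h1, h2⟩ := h.exists_cyc hM hB hχ hγ hD
  obtain ⟨g, h3, h4⟩ := H36.isDefectGroup_iff_isSylowIn.1 hD
  obtain ⟨e, he⟩ := exists_emb h1 (disjoint_of_commute hp.out h1
    (H36.not_dvd_orderOf_of_isDefectClass hM hB h3) fun f hf =>
      (Subgroup.mem_centralizer_singleton_iff.1 (h4.le (h2 f hf))).symm)
  let P : Sylow p (Perm (Fin (p * w))) := default
  have h5 : H37.IsSylowIn p ((P : Subgroup _).map (Perm.viaEmbeddingHom e))
      (Subgroup.centralizer {g}) := by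
    refine H37.isSylowIn_of_card ((Subgroup.map_le_range _ _).trans he) ?_
    rw [Subgroup.card_map_of_injective (Perm.viaEmbeddingHom_injective e), P.card_eq_multiplicity,
      Nat.card_perm, Nat.card_eq_fintype_card, Fintype.card_fin, ← h.blockDefect_eq hM hB hχ hγ,
      ← H36.cdef_eq_of_isDefectClass hM hB h3]
  obtain ⟨x, -, rfl⟩ := h5.exists_conj h4
  refine ⟨e.trans x.toEmbedding, P, ?_⟩
  rw [Subgroup.map_map]
  congr 1
  ext1 σ
  exact conj_viaEmbedding e σ x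

theorem Core.height_eq (h : Core Ω δ₀ r δ m w) (hM : IsPModular p M) (hB : IsPBlock M B)
    {χ : IrrCharacter (Perm Ω)} (hχ : χ ∈ B) {γ : ι → ℕ} (hγ : InT δ₀ r δ w χ.1 γ) :
    blockHeight p B χ.1 = (phi r δ γ (Multiset.replicate w 1)).natAbs.factorization p := by
  obtain ⟨ψ, h1, h2⟩ := Nat.sInf_mem (s := (fun χ : IrrCharacter (Perm Ω) =>
    (charDegree χ.1).factorization p) '' B) ⟨_, χ, hχ, rfl⟩
  have h3 := h.blockDefect_eq hM hB hχ hγ
  have h4 := h.nu_deg hp.out hγ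
  have h5 := (Nat.factorization_le_iff_dvd (ψ.2.isCharacter.charDegree_eq_zero_iff.not.2
    ψ.2.ne_zero) Nat.card_pos.ne').2 ψ.2.charDegree_dvd_card p
  rw [blockDefect, ← h2] at h3
  rw [blockHeight, ← h2]
  simp only at h3 ⊢
  omega

theorem Core.blockRank_le (h : Core Ω δ₀ r δ m w) (hM : IsPModular p M) (hB : IsPBlock M B)
    {χ : IrrCharacter (Perm Ω)} (hχ : χ ∈ B) {γ : ι → ℕ} (hγ : InT δ₀ r δ w χ.1 γ) (c₀ : Fin p) :
    blockRank p B ≤ (CP (univ.erase c₀) w).ncard := by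
  obtain ⟨U, h1, h2⟩ := exists_rank_le hp.out h.st0 h.le h.st w c₀
  refine (Submodule.finrank_mono (Submodule.span_le.2 ?_)).trans h1
  rintro _ ⟨ψ, hψ, rfl⟩
  obtain ⟨γ', h3⟩ := h.inT_of_mem hM hB hχ hγ hψ
  rcases h3.lab with e | e
  · simp only [e]; exact h2 γ' h3.sm
  · have : pRegularPart p ψ.1 = -pRegularPart p (chi Ω δ₀ (ab r γ')) := by
      funext g; simp only [e, pRegularPart, Pi.neg_apply]; split_ifs <;> simp
    simp only [this]; exact neg_mem (h2 γ' h3.sm)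

theorem Core.fix_of_centralChar (h : Core Ω δ₀ r δ m w) (hM : IsPModular p M) (hB : IsPBlock M B)
    {χ : IrrCharacter (Perm Ω)} (hχ : χ ∈ B) {γ : ι → ℕ} (hγ : InT δ₀ r δ w χ.1 γ) {x : Perm Ω}
    (hx : ¬ p ∣ orderOf x) (h0 : ¬ MemLocalIdeal M (centralChar χ.1 x)) :
    ∃ c : Perm Ω, c.cycleType = Multiset.replicate w p ∧ Perm.Disjoint c x := by
  have := hM.2.1
  obtain ⟨D, g, h1, P, rfl⟩ := H34.exists_isDefectGroup p hB
  obtain ⟨y, Q, h2⟩ := (Cfsg.Agent.S0911.result p M hM B hB g h1 P x).2 ⟨χ, hχ, h0⟩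
  obtain ⟨c, h3, h4⟩ := h.exists_cyc hM hB hχ hγ (H36.isDefectGroup_conj hM hB ⟨g, h1, P, rfl⟩ y)
  exact ⟨c, h3, disjoint_of_commute hp.out h3 hx fun f hf =>
    (Subgroup.mem_centralizer_singleton_iff.1 (Subgroup.map_subtype_le _ (h2 (h4 f hf)))).symm⟩

theorem Core.red_centralChar [M.IsMaximal] (h : Core Ω δ₀ r δ m w) (hM : IsPModular p M)
    {χ : IrrCharacter (Perm Ω)} {γ : ι → ℕ} (hγ : InT δ₀ r δ w χ.1 γ) {c x : Perm Ω}
    (hc : c.cycleType = Multiset.replicate w p) (hcx : Perm.Disjoint c x) {e k : ℕ} {a : ℤ}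
    (ha : Xv δ₀ (ab r γ) (Multiset.replicate (Fintype.card Ω) 1) = p ^ e * a)
    (hk : (Subgroup.centralizer {x}).index = p ^ e * k) {σ : Multiset ℕ}
    (hσ : (c * x).partition.parts = σ + (Multiset.replicate w 1).map (p * ·)) :
    H35.red M (centralChar χ.1 x) * a =
      k * (Xv δ₀ (ab r δ) σ * phi r δ γ (Multiset.replicate w 1) : ℤ) := by
  obtain ⟨ε, h1, h2⟩ := hγ.lab.exists_sign
  have hcp : c ^ p ^ 1 = 1 := by
    rw [pow_one]
    exact Perm.pow_prime_eq_one_iff.2 fun k hk => Multiset.eq_of_mem_replicate (hc ▸ hk)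
  have h3 := H35.red_eq_of_P_sub (by rw [h2]; exact intCast_mem _ _)
    (H35.P_char_mul_sub hM χ.2.isCharacter hcp hcx.commute)
  rw [h2, h2, H35.red_intCast, H35.red_intCast, hσ, h.Xv_eq hγ.sm _ (by simp)] at h3
  have h4 : centralChar χ.1 x * a = ((k * Xv δ₀ (ab r γ) x.partition.parts : ℤ) : ℂ) := by
    have h5 := χ.2.apply_one_ne_zero
    rw [centralChar, div_mul_eq_mul_div, div_eq_iff h5, h2, h2, parts_one, ha, hk]
    push_cast; ring
  rw [← H35.red_intCast, ← H35.red_mul (H34.centralChar_mem_S χ.2 x) (intCast_mem _ _), h4,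
    H35.red_intCast, Int.cast_mul, Int.cast_natCast]
  congr 1
  have h6 := congrArg ((ε : H35.F M) * ·) h3
  simp only [← Int.cast_mul, ← mul_assoc, h1, one_mul] at h6
  exact h6.symm

/-- **Nakayama's conjecture**: characters with the same core lie in the same block. -/
theorem Core.mem_of_inT (h : Core Ω δ₀ r δ m w) (hM : IsPModular p M) (hB : IsPBlock M B)
    {χ ψ : IrrCharacter (Perm Ω)} (hχ : χ ∈ B) {γ γ' : ι → ℕ} (hγ : InT δ₀ r δ w χ.1 γ)
    (hγ' : InT δ₀ r δ w ψ.1 γ') : ψ ∈ B := by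
  have := hM.2.1
  have hB' := H34.isPBlock_blockOf (M := M) ψ
  have hψ := H34.self_mem_blockOf (M := M) ψ
  obtain ⟨χ₁, hχ₁, h1⟩ := H35.exists_height_zero p ⟨χ, hχ⟩
  obtain ⟨ψ₁, hψ₁, h2⟩ := H35.exists_height_zero p ⟨ψ, hψ⟩
  obtain ⟨γ₁, h3⟩ := h.inT_of_mem hM hB hχ hγ hχ₁
  obtain ⟨γ₂, h4⟩ := h.inT_of_mem hM hB' hψ hγ' hψ₁
  suffices ψ₁ ∈ B by
    rw [H34.eq_blockOf_of_mem hB this, ← H34.eq_blockOf_of_mem hB' hψ₁]; exact hψ
  rw [h.height_eq hM hB hχ₁ h3] at h1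
  rw [h.height_eq hM hB' hψ₁ h4] at h2
  have hd := h.blockDefect_eq hM hB hχ hγ
  have hd' := h.blockDefect_eq hM hB' hψ hγ'
  set e := (Nat.card (Perm Ω)).factorization p - (p * w).factorial.factorization p with he
  have hcast : ∀ a : ℤ, ¬ (p : ℤ) ∣ a → (a : H35.F M) ≠ 0 := fun a ha h0 => ha (by
    rw [← H35.red_intCast, H35.red_eq_zero_iff (intCast_mem _ _)] at h0
    exact (H35.P_intCast_iff hM).1 h0)
  have key : ∀ {χ : IrrCharacter (Perm Ω)} {γ : ι → ℕ}, InT δ₀ r δ w χ.1 γ →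
      (phi r δ γ (Multiset.replicate w 1)).natAbs.factorization p = 0 → ∃ a : ℤ,
      Xv δ₀ (ab r γ) (Multiset.replicate (Fintype.card Ω) 1) = p ^ e * a ∧ (a : H35.F M) ≠ 0 ∧
      ((phi r δ γ (Multiset.replicate w 1) : ℤ) : H35.F M) ≠ 0 := fun {χ γ} hγ h0 => by
    have h5 := h.nu_deg hp.out hγ
    rw [charDegree_of_chi χ.2.isCharacter hγ.lab] at h5
    have h6 := Int.natAbs_ne_zero.2 (Xv_one_ne_zero h.st0 (h.sum_ab hγ.sm) (ab_injective_iff.2 hγ.fi))
    have h7 := Int.natAbs_ne_zero.2 (phi_one_ne_zero h.st hγ.fi hγ.sm)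
    obtain ⟨a, ha⟩ : ((p ^ e : ℕ) : ℤ) ∣ Xv δ₀ (ab r γ) (Multiset.replicate (Fintype.card Ω) 1) :=
      Int.natCast_dvd.2 ((hp.out.pow_dvd_iff_le_factorization h6).2 (by omega))
    refine ⟨a, by rw [ha]; push_cast; rfl, hcast _ fun h8 => ?_, hcast _ fun h8 => ?_⟩
    · have h9 : ((p ^ (e + 1) : ℕ) : ℤ) ∣ Xv δ₀ (ab r γ) (Multiset.replicate (Fintype.card Ω) 1) := by
        rw [ha, pow_succ, Nat.cast_mul]; exact mul_dvd_mul_left _ h8
      have := (hp.out.pow_dvd_iff_le_factorization h6).1 (Int.natCast_dvd.1 h9)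
      omega
    · have := (hp.out.dvd_iff_one_le_factorization h7).1 (Int.natCast_dvd.1 h8)
      omega
  obtain ⟨a₁, ha₁, hb₁, hc₁⟩ := key h3 h1
  obtain ⟨a₂, ha₂, hb₂, hc₂⟩ := key h4 h2
  have h5 : ((a₁ * phi r δ γ₂ (Multiset.replicate w 1) : H35.F M) • H34.lam M χ₁.1) (H34.eB M B) =
      ((a₂ * phi r δ γ₁ (Multiset.replicate w 1) : H35.F M) • H34.lam M ψ₁.1) (H34.eB M B) := by
    refine H36.linear_eq_of_cl (H36.inv_eB _ ⊤) fun x hx => ?_
    have h6 := H36.cdef_le_blockDefect' hM hB hx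
    have h7 := H36.not_dvd_orderOf_of_coeff_eB hM hB hx
    simp only [LinearMap.smul_apply, smul_eq_mul]
    by_cases h8 : H34.lam M χ₁.1 (H36.cl (H35.F M) ⊤ x) = 0 ∧
      H34.lam M ψ₁.1 (H36.cl (H35.F M) ⊤ x) = 0
    · rw [h8.1, h8.2, mul_zero, mul_zero]
    have h9 : H36.cdef p x = (p * w).factorial.factorization p ∧
        ∃ c : Perm Ω, c.cycleType = Multiset.replicate w p ∧ Perm.Disjoint c x := by
      rcases not_and_or.1 h8 with h8 | h8
      · have := H36.blockDefect_le_cdef' hM hB hχ₁ h8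
        rw [H36.lam_cl χ₁.2.isClassFunction] at h8
        exact ⟨by omega, h.fix_of_centralChar hM hB hχ₁ h3 h7 (H35.red_ne_zero_iff.1 h8).2⟩
      · have := H36.blockDefect_le_cdef' hM hB' hψ₁ h8
        rw [H36.lam_cl ψ₁.2.isClassFunction] at h8
        exact ⟨by omega, h.fix_of_centralChar hM hB' hψ₁ h4 h7 (H35.red_ne_zero_iff.1 h8).2⟩
    obtain ⟨h9, c, hc, hcx⟩ := h9
    obtain ⟨σ, hσ, -⟩ := parts_mul hc hcx
    have h10 := H36.index_factorization_add_cdef p x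
    obtain ⟨k, hk⟩ := (hp.out.pow_dvd_iff_le_factorization (k := e)
      (Subgroup.index_ne_zero_of_finite (H := Subgroup.centralizer {x}))).2 (by omega)
    have e1 := h.red_centralChar hM h3 hc hcx ha₁ hk hσ
    have e2 := h.red_centralChar hM h4 hc hcx ha₂ hk hσ
    rw [H36.lam_cl χ₁.2.isClassFunction, H36.lam_cl ψ₁.2.isClassFunction]
    push_cast at e1 e2
    linear_combination (phi r δ γ₂ (Multiset.replicate w 1) : H35.F M) * e1 -
      (phi r δ γ₁ (Multiset.replicate w 1) : H35.F M) * e2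
  by_contra h0
  simp only [LinearMap.smul_apply, smul_eq_mul, H34.lam_eB_of_mem hB hχ₁,
    H34.lam_eB_of_not_mem hB h0, mul_one, mul_zero] at h5
  exact mul_ne_zero hb₁ hc₂ h5

end H40.Sn
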