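/- Blocks of alternating groups. -/
import Cfsg.Agent.H40.AnTwo
import Cfsg.Agent.H40.SnBlock
import Cfsg.Agent.H40.SnSyl
import Cfsg.Agent.H3.SecRank
import Cfsg.Agent.S4438

set_option autoImplicit false
set_option linter.unusedSectionVars false

namespace H40.An

open Cfsg H28 H38 H40.Sn Finset Equiv

variable {p : ℕ} [hp : Fact p.Prime] {M : Ideal AlgInt}

theorem setup {n : ℕ} (hM : IsPModular p M) {b : Set (IrrCharacter (alternatingGroup (Fin n)))}
    (hb : IsPBlock M b) {D : Subgroup (alternatingGroup (Fin n))} (hD : IsDefectGroup p M b D)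
    {k : ℕ} (hk : n ≤ k) : ∃ (B : Set (IrrCharacter (Perm (Fin n)))) (χ : IrrCharacter (Perm (Fin n)))
      (r : Fin k → Fin p) (δ : Fin k → ℕ) (m w : ℕ) (γ : Fin k → ℕ) (P : Sylow p (Perm (Fin (p * w)))),
      IsPBlock M B ∧ Covers (alternatingGroup (Fin n)).subtype B b ∧ χ ∈ B ∧
      Core (Fin n) (fun j : Fin k => j.val) r δ m w ∧ InT (fun j : Fin k => j.val) r δ w χ.1 γ ∧
      Nonempty (D ≃* ((P : Subgroup _) ⊓ alternatingGroup (Fin (p * w)) : Subgroup _)) := by
  classical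
  have := hM.2.1
  obtain ⟨θ, hθ⟩ := id hb
  obtain ⟨B, hB, hc⟩ := (NEmb.ofNormal (alternatingGroup (Fin n))).exists_covers (M := M) (b := b)
    ⟨θ, hθ ▸ H34.self_mem_blockOf θ⟩
  obtain ⟨χ, hχ, -⟩ := id hc
  obtain ⟨r, δ, m, w, γ, h, hγ⟩ := exists_core (p := p) (stair1_val k) (by simpa using hk) χ
  obtain ⟨Q, hQ, h1⟩ := Cfsg.Agent.S4438.result p M hM _ b hb (D.map (Subgroup.subtype _))
    (Subgroup.map_subtype_le _) (by
      rwa [Subgroup.subgroupOf, Subgroup.comap_map_eq_self_of_injective (Subgroup.subtype_injective _)])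
    B hB hc
  obtain ⟨e, P, rfl⟩ := h.defect_struct hM hB hχ hγ hQ
  refine ⟨B, χ, r, δ, m, w, γ, P, hB, hc, hχ, h, hγ, ⟨(D.equivMapOfInjective _
    (Subgroup.subtype_injective _)).trans ((MulEquiv.subgroupCongr ?_).trans
      (Subgroup.equivMapOfInjective _ _ (Perm.viaEmbeddingHom_injective e)).symm)⟩⟩
  rw [← h1]
  ext x
  constructor
  · rintro ⟨⟨y, hy, rfl⟩, h2⟩
    exact ⟨y, ⟨hy, Perm.mem_alternatingGroup.2 ((sign_viaEmbedding e y).symm.trans h2)⟩, rfl⟩
  · rintro ⟨y, hy, rfl⟩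
    exact ⟨⟨y, hy.1, rfl⟩, Perm.mem_alternatingGroup.2 ((sign_viaEmbedding e y).trans hy.2)⟩

variable {Ω : Type*} [Fintype Ω] [DecidableEq Ω]

/-- An even `p`-group of permutations embeds in the even part of every Sylow subgroup. -/
theorem exists_emb_inf (P : Sylow p (Perm Ω)) {A : Type*} [Group A] (hA : IsPGroup p A)
    (f : A →* Perm Ω) (hf : Function.Injective f) (h : ∀ a, Perm.sign (f a) = 1) :
    ∃ g : A →* ((P : Subgroup _) ⊓ alternatingGroup Ω : Subgroup _), Function.Injective g := by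
  obtain ⟨Q, hQ⟩ := IsPGroup.exists_le_sylow (p := p) (P := f.range)
    (hA.of_surjective _ f.rangeRestrict_surjective)
  obtain ⟨x, rfl⟩ := MulAction.exists_smul_eq (Perm Ω) Q P
  exact ⟨((MulAut.conj x).toMonoidHom.comp f).codRestrict _ fun a =>
    ⟨⟨f a, hQ ⟨a, rfl⟩, rfl⟩, by simp [Perm.mem_alternatingGroup, h]⟩,
    fun a b hab => hf ((MulAut.conj x).injective (congrArg Subtype.val hab))⟩

theorem sign_eq_one_of_odd (hp2 : p ≠ 2) {g : Perm Ω} {k : ℕ} (h : g ^ p ^ k = 1) :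
    Perm.sign g = 1 := by
  have h1 := congrArg Perm.sign h
  rwa [map_pow, map_one, Int.units_pow_eq_pow_mod_two,
    Nat.odd_iff.1 (hp.out.odd_of_ne_two hp2).pow, pow_one] at h1

theorem inf_eq_of_odd (hp2 : p ≠ 2) (P : Sylow p (Perm Ω)) :
    (P : Subgroup _) ⊓ alternatingGroup Ω = P := inf_eq_left.2 fun g hg => by
  obtain ⟨k, hk⟩ := P.isPGroup' ⟨g, hg⟩
  exact sign_eq_one_of_odd hp2 (congrArg Subtype.val hk)

theorem exists_emb_odd (hp2 : p ≠ 2) {w : ℕ} (P : Sylow p (Perm (Fin (p * w)))) :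
    ∃ g : (Fin w → Multiplicative (ZMod p)) →*
      ((P : Subgroup _) ⊓ alternatingGroup (Fin (p * w)) : Subgroup _), Function.Injective g := by
  obtain ⟨f, hf, -⟩ := exists_hom_pi (Ω := Fin (p * w)) (Multiplicative (ZMod p)) w
    (by simp [mul_comm])
  have h1 : ∀ a : Fin w → Multiplicative (ZMod p), a ^ p ^ 1 = 1 := fun a => funext fun i => by
    rw [pow_one, Pi.pow_apply, ← ofAdd_toAdd (a i), ← ofAdd_nsmul]; simp
  exact exists_emb_inf P (fun a => ⟨1, h1 a⟩) f hf fun a =>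
    sign_eq_one_of_odd hp2 (by rw [← map_pow, h1, map_one])

theorem exists_emb_two {w : ℕ} (P : Sylow 2 (Perm (Fin (2 * w)))) :
    ∃ g : (Fin (w / 2) → Multiplicative (ZMod 2 × ZMod 2)) →*
      ((P : Subgroup _) ⊓ alternatingGroup (Fin (2 * w)) : Subgroup _), Function.Injective g := by
  obtain ⟨f, hf, h⟩ := exists_hom_pi (Ω := Fin (2 * w)) (Multiplicative (ZMod 2 × ZMod 2)) (w / 2)
    (by simp; omega)
  refine exists_emb_inf P (fun a => ⟨1, funext fun i => ?_⟩) f hf fun a => ?_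
  · exact (by decide : ∀ x : Multiplicative (ZMod 2 × ZMod 2), x ^ 2 ^ 1 = 1) (a i)
  · rw [h]
    exact prod_eq_one fun i _ => (by decide : ∀ x : Multiplicative (ZMod 2 × ZMod 2),
      Perm.sign (MulAction.toPerm x : Perm (Multiplicative (ZMod 2 × ZMod 2))) = 1) (a i)

/-- A dihedral group of order eight of even permutations. -/
def dih : DihedralGroup 4 →* Perm (Fin 6) := MonoidHom.mk' (fun x => match x with
  | .r i => (swap 0 1 * swap 1 2 * swap 2 3 * swap 4 5) ^ i.val
  | .sr i => swap 0 2 * swap 4 5 * (swap 0 1 * swap 1 2 * swap 2 3 * swap 4 5) ^ i.val)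
  (by decide +kernel)

theorem card_inf_dvd (P : Sylow p (Perm Ω)) [Nontrivial Ω] :
    2 * Nat.card ((P : Subgroup _) ⊓ alternatingGroup Ω : Subgroup _) ∣ (Fintype.card Ω).factorial := by
  rw [← Fintype.card_perm, ← two_mul_card_alternatingGroup, ← Nat.card_eq_fintype_card]
  exact Nat.mul_dvd_mul_left 2 (Subgroup.card_dvd_of_le inf_le_right)

theorem equiv_dih (P : Sylow 2 (Perm (Fin 6))) :
    Nonempty (((P : Subgroup _) ⊓ alternatingGroup (Fin 6) : Subgroup _) ≃* DihedralGroup 4) := by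
  obtain ⟨g, hg⟩ := exists_emb_inf P (IsPGroup.of_card (n := 3) DihedralGroup.nat_card) dih
    (by decide +kernel) (by decide +kernel)
  obtain ⟨k, hk⟩ := (P.isPGroup'.to_le (inf_le_left (b := alternatingGroup (Fin 6)))).exists_card_eq
  have h1 := card_inf_dvd P
  refine ⟨(MulEquiv.ofBijective g ((Nat.bijective_iff_injective_and_card g).2 ⟨hg, le_antisymm
    (Nat.card_le_card_of_injective g hg) ?_⟩)).symm⟩
  rw [hk] at h1 ⊢
  rw [DihedralGroup.nat_card]
  by_contra h
  have h2 : 4 ≤ k := by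
    by_contra h3
    interval_cases k <;> omega
  exact absurd ((Nat.mul_dvd_mul_left 2 (pow_dvd_pow 2 h2)).trans h1) (by decide)

theorem ncard_CB_mid {K : Type*} [DecidableEq K] (c : K) {w : ℕ} (h4 : 4 ≤ w) (hw : w ≤ 5) :
    (CB {c} w).ncard ≤ 2 := by
  refine (Set.ncard_le_ncard (t := {{(c, w)}, {(c, 2), (c, w - 2)}}) (fun s hs => ?_)
    (Set.toFinite _)).trans ((Set.ncard_insert_le _ _).trans (by simp))
  obtain ⟨⟨a, k⟩, hx⟩ := Multiset.exists_mem_of_ne_zero (s := s) fun h => by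
    have := hs.1.2; simp [h] at this; omega
  obtain ⟨t, rfl⟩ := Multiset.exists_cons_of_mem hx
  obtain ⟨h1, -, h2, h3⟩ := CP_cons hs.1
  have h5 := hs.2 _ hx
  obtain rfl : a = c := mem_singleton.1 h1
  simp only at h2 h3 h5
  rcases h2.eq_or_lt with rfl | h6
  · rw [Nat.sub_self] at h3
    obtain rfl : t = 0 := CP_zero _ h3
    exact .inl rfl
  obtain ⟨d, ⟨h7, h8⟩, rfl⟩ := CB_small {a} (w := w - k) (by omega) (by omega)
    ⟨h3, fun y hy => hs.2 y (Multiset.mem_cons_of_mem hy)⟩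
  obtain rfl : d = a := mem_singleton.1 h7
  have h9 : 2 ≤ w - k := h8
  right
  by_cases e : k = 2
  · rw [e]; rfl
  · obtain rfl : k = 3 := by omega
    obtain rfl : w = 5 := by omega
    exact Multiset.pair_comm _ _

theorem ncard_CP_five {K : Type*} [DecidableEq K] {C : Finset K} (hC : #C = 1) :
    (CP C 5).ncard ≤ 7 := by
  obtain ⟨c, rfl⟩ := card_eq_one.1 hC
  have h1 := two_mul_ncard_CP_lt {c} (le_refl 3)
  have h2 := ncard_CP_succ {c} 3
  have h3 := ncard_CP_succ {c} 4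
  have h4 := ncard_CB_mid c (w := 3 + 1) le_rfl (by omega)
  have h5 := ncard_CB_mid c (w := 4 + 1) (by omega) le_rfl
  simp only [card_singleton, Nat.reduceAdd] at *
  omega

theorem four_mul_ncard_CP_lt {K : Type*} [DecidableEq K] {C : Finset K} (hC : #C = 1) {w : ℕ}
    (hw : 5 ≤ w) : 4 * (CP C w).ncard < 2 ^ w := by
  induction w, hw using Nat.le_induction with
  | base => have := ncard_CP_five hC; omega
  | succ w _ ih =>
    have := ncard_CP_succ_le C w
    rw [hC] at this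
    rw [pow_succ]; omega

theorem nu_factorial_mul (w : ℕ) :
    (p * w).factorial.factorization p = w.factorial.factorization p + w :=
  nu_factorial_ab hp.out w hp.out.pos

theorem nu_factorial_of_lt {w : ℕ} (hw : w < p) : w.factorial.factorization p = 0 :=
  Nat.factorization_eq_zero_of_not_dvd (by rw [hp.out.dvd_factorial]; omega)

theorem card_sylow {w : ℕ} (P : Sylow p (Perm (Fin (p * w)))) :
    Nat.card P = p ^ (w.factorial.factorization p + w) := by
  rw [P.card_eq_multiplicity, Nat.card_perm, Nat.card_eq_fintype_card, Fintype.card_fin,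
    nu_factorial_mul]

end H40.An
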