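/- Characters of height one in blocks of symmetric groups. -/
import Cfsg.Agent.H40.AnBlock

set_option autoImplicit false
set_option linter.unusedSectionVars false

namespace H40.An

open Cfsg H28 H38 H40.Sn Finset Equiv

variable {p : ℕ} [hp : Fact p.Prime] {M : Ideal AlgInt}

section beads

variable {ι : Type*} [Fintype ι] [DecidableEq ι]

theorem exists_val_eq {δ β : ι → ℕ} (hδ : Stair1 δ) (hβ : Function.Injective β) {m x : ℕ}
    (h : ∑ j, β j = m + ∑ j, δ j) (hx : x + m < Fintype.card ι) : ∃ j, β j = x := by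
  by_contra! h0
  have h1 := hδ.sum_le (β := fun j => if x < β j then β j - 1 else β j) fun i j e => hβ (by
    have := h0 i; have := h0 j
    simp only at e
    split_ifs at e <;> omega)
  have h2 : ∑ j, (if x < β j then β j - 1 else β j) + #{j | x < β j} = ∑ j, β j := by
    rw [card_filter, ← sum_add_distrib]
    exact sum_congr rfl fun j _ => by split_ifs <;> omega
  have h3 : #{j | ¬ x < β j} ≤ x := (card_le_card_of_injOn (t := range x) β (fun j hj => by
      have := h0 j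
      simp only [coe_filter, mem_univ, true_and, Set.mem_ofPred_eq, coe_range, Set.mem_Iio] at hj ⊢
      omega) hβ.injOn).trans_eq (card_range x)
  have h4 := card_filter_add_card_filter_not (s := univ) fun j => x < β j
  rw [card_univ] at h4
  omega

variable {Ω : Type*} [Fintype Ω] [DecidableEq Ω] {δ₀ : ι → ℕ} {r : ι → Fin p} {δ : ι → ℕ} {m w : ℕ}

theorem exists_top (h : Core Ω δ₀ r δ m w) (hι : Fintype.card Ω + 2 * p ≤ Fintype.card ι) :
    ∃ t : Fin p → ι, ∀ c, r (t c) = c ∧ 1 ≤ δ (t c) ∧ ∀ j, r j = c → δ j ≤ δ (t c) := by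
  refine Classical.skolem (p := fun c t => r t = c ∧ 1 ≤ δ t ∧ ∀ j, r j = c → δ j ≤ δ t) |>.1
    fun c => ?_
  obtain ⟨j, hj⟩ := exists_val_eq h.st0 (ab_injective_iff.2 h.st.finj) h.sm (x := p * 1 + c) (by
    have := h.card; have := c.2; omega)
  have h1 : δ j = 1 := by
    rw [← ab_div r δ j, hj, Nat.mul_add_div hp.out.pos, Nat.div_eq_of_lt c.2]
  have h2 : r j = c := Fin.ext (by simpa [ab, h1] using hj)
  obtain ⟨t, h3, h4⟩ := exists_max_image (univ.filter fun i => r i = c) δ ⟨j, by simpa using h2⟩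
  exact ⟨t, by simpa using h3, h1 ▸ h4 j (by simpa using h2), fun i hi => h4 i (by simpa using hi)⟩

theorem exists_row (h : Core Ω δ₀ r δ m w) (hι : Fintype.card Ω + 2 * p ≤ Fintype.card ι)
    (u : Fin p → ℕ) (hu : ∑ c, u c = w) : ∃ γ, FInj r γ ∧ ∑ j, γ j = w + ∑ j, δ j ∧
      (∏ c, (u c).factorial) * (phi r δ γ (Multiset.replicate w 1)).natAbs = w.factorial ∧
      ((∃ c, 2 ≤ u c) → phi r δ γ (2 ::ₘ Multiset.replicate (w - 2) 1) ≠ 0) := by
  obtain ⟨t, ht⟩ := exists_top h hι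
  have hi : Function.Injective t := fun a b e => by rw [← (ht a).1, e, (ht b).1]
  set v : ι → ℕ := Function.extend t u 0
  have h1 : ∀ c, v (t c) = u c := fun c => hi.extend_apply _ _ c
  have h2 : ∀ j, j ∉ Set.range t → v j = 0 := fun j hj => Function.extend_apply' _ _ _ hj
  have hv : ∀ i j, r i = r j → δ i < δ j → v i = 0 := fun i j a b => h2 i fun ⟨c, e⟩ => by
    have := (ht c).2.2 j (by rw [← a, ← e, (ht c).1])
    rw [e] at this; omega
  have h3 : ∑ j, v j = w := hu ▸ (Fintype.sum_of_injective t hi u v h2 fun c => (h1 c).symm).symm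
  refine ⟨δ + v, finj_add h.st fun i j a b => by rw [hv i j a b]; exact Nat.zero_le _,
    by simp [sum_add_distrib, h3, add_comm], ?_, fun ⟨c, hc⟩ => ?_⟩
  · rw [phi_add_one h.st hv h3, Int.natAbs_natCast, ← h3, ← Nat.multinomial_spec,
      Fintype.prod_of_injective t hi _ (fun j => (v j).factorial) (fun j hj => by simp [h2 j hj])
        fun c => by rw [h1]]
  · have h4 : ∀ j i i', r i = r i' → δ i < δ i' → (v - Pi.single j 2 : ι → ℕ) i = 0 :=
      fun j i i' a b => by simp [hv i i' a b]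
    rw [phi_add_cons h.st hv]
    refine (sum_pos' (fun j _ => ?_) ⟨t c, mem_univ _, ?_⟩).ne'
    · split_ifs
      · exact phi_add_nonneg h.st _ (h4 j)
      · rfl
    · have h5 := sum_sub_single (β := v) (j := t c) (k := 2) (by rwa [h1])
      rw [if_pos (by rwa [h1]), phi_add_one h.st (h4 _) (by omega)]
      exact_mod_cast Nat.multinomial_pos _ _

theorem exists_hook (h : Core Ω δ₀ r δ m w) (hι : Fintype.card Ω + 2 * p ≤ Fintype.card ι)
    (hw : 2 ≤ w) : ∃ γ, FInj r γ ∧ ∑ j, γ j = w + ∑ j, δ j ∧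
      (phi r δ γ (Multiset.replicate w 1)).natAbs = w - 1 := by
  obtain ⟨t, ht⟩ := exists_top h hι
  obtain ⟨h1, h2, h3⟩ := ht ⟨0, hp.out.pos⟩
  obtain ⟨s, h4, h5⟩ := h.st.exists_val (t ⟨0, hp.out.pos⟩) (Nat.sub_le _ 1)
  have h6 := phi_hook h.st h4 (by omega) (fun j hj => h3 j (hj.trans h1)) (w - 1)
  rw [Nat.sub_add_cancel (by omega)] at h6
  refine ⟨_, ?_, ?_, by rw [h6, Int.natAbs_natCast]⟩
  · by_contra h7
    rw [phi_eq_zero_of_not_finj h7] at h6
    omega
  · simp [sum_add_distrib]; omega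

end beads

theorem exists_three {w : ℕ} (hw : p ≤ w) : ∃ a b c : ℕ, a + b + c = w ∧
    w.factorial.factorization p = a.factorial.factorization p + b.factorial.factorization p +
      c.factorial.factorization p + 1 := by
  induction w using Nat.strong_induction_on with
  | _ w ih =>
  have h2 := hp.out.two_le
  have h0 := Nat.div_add_mod w p
  have h1 := Nat.mod_lt w hp.out.pos
  have h3 : 1 ≤ w / p := (Nat.one_le_div_iff hp.out.pos).2 hw
  have h4 := nu_factorial_ab hp.out (w / p) h1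
  rw [h0] at h4
  by_cases h : w / p < p
  · obtain ⟨q, hq⟩ : ∃ q, w / p = q + 1 := ⟨w / p - 1, by omega⟩
    rw [hq, Nat.mul_succ] at h0
    refine ⟨1, p - 1, p * q + w % p, by omega, ?_⟩
    rw [h4, nu_factorial_ab hp.out q h1, nu_factorial_of_lt h, nu_factorial_of_lt (w := q) (by omega),
      nu_factorial_of_lt (w := 1) (by omega), nu_factorial_of_lt (w := p - 1) (by omega)]
    omega
  · obtain ⟨a, b, c, h5, h6⟩ := ih (w / p) (Nat.div_lt_self (by omega) h2) (by omega)
    refine ⟨p * a, p * b, p * c + w % p, by rw [← add_assoc, ← mul_add, ← mul_add, h5, h0], ?_⟩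
    rw [h4, nu_factorial_ab hp.out c h1, nu_factorial_mul, nu_factorial_mul]
    omega

theorem nu_two {w : ℕ} (h : w % 4 = 2) : w.factorization 2 = 1 := by
  obtain ⟨q, rfl⟩ : ∃ q, w = 2 * (2 * q + 1) := ⟨w / 4, by omega⟩
  rw [Nat.factorization_mul two_ne_zero (by omega), Finsupp.add_apply,
    Nat.factorization_eq_zero_of_not_dvd (n := 2 * q + 1) (by omega), Nat.prime_two.factorization_self]

theorem exists_two {w : ℕ} (hw : 2 ≤ w) (h : w % 4 ≠ 3) : ∃ a b : ℕ, a + b = w ∧
    w.factorial.factorization 2 = a.factorial.factorization 2 + b.factorial.factorization 2 + 1 := by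
  induction w using Nat.strong_induction_on with
  | _ w ih =>
  by_cases h1 : w % 4 = 2
  · obtain ⟨q, rfl⟩ : ∃ q, w = q + 1 := ⟨w - 1, by omega⟩
    refine ⟨1, q, add_comm _ _, ?_⟩
    rw [Nat.factorial_succ, Nat.factorization_mul (by omega) (Nat.factorial_ne_zero _),
      Finsupp.add_apply, nu_two h1]
    simp [add_comm]
  · obtain ⟨a, b, h5, h6⟩ := ih (w / 2) (by omega) (by omega) (by omega)
    have h2 := Nat.mod_lt w two_pos
    have h4 := nu_factorial_ab Nat.prime_two (w / 2) h2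
    rw [Nat.div_add_mod] at h4
    refine ⟨2 * a, 2 * b + w % 2, by omega, ?_⟩
    rw [h4, nu_factorial_ab Nat.prime_two b h2, nu_factorial_mul]
    omega

variable {Ω : Type*} [Fintype Ω] [DecidableEq Ω]

/-- Three commuting transpositions. -/
def tw : (Fin 3 → Multiplicative (ZMod 2)) →* Perm (Fin 6) := MonoidHom.mk' (fun a =>
  swap 0 1 ^ (a 0).toAdd.val * swap 2 3 ^ (a 1).toAdd.val * swap 4 5 ^ (a 2).toAdd.val)
  (by decide +kernel)

theorem exists_odd_fix (P : Sylow 2 (Perm Ω)) (h : 6 ≤ Fintype.card Ω) (a b : Ω) :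
    ∃ τ ∈ (P : Subgroup (Perm Ω)), Perm.sign τ = -1 ∧ τ a = a ∧ τ b = b := by
  obtain ⟨e⟩ : Nonempty (Fin 6 ↪ Ω) := Function.Embedding.nonempty_of_card_le (by simpa using h)
  obtain ⟨Q, hQ⟩ := IsPGroup.exists_le_sylow (p := 2)
    (P := ((Perm.viaEmbeddingHom e).comp tw).range) ((IsPGroup.of_card (n := 3)
      (by rw [Nat.card_eq_fintype_card]; rfl)).of_surjective _ (MonoidHom.rangeRestrict_surjective _))
  obtain ⟨x, rfl⟩ := MulAction.exists_smul_eq (Perm Ω) Q P
  have key : ∀ a : Ω, ∃ a' : Fin 6, ∀ σ : Perm (Fin 6), σ a' = a' →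
      Perm.viaEmbeddingHom (e.trans x.toEmbedding) σ a = a := fun a => by
    by_cases ha : a ∈ Set.range (e.trans x.toEmbedding)
    · obtain ⟨a', rfl⟩ := ha
      exact ⟨a', fun σ hσ => by rw [Perm.viaEmbeddingHom_apply, Perm.viaEmbedding_apply, hσ]⟩
    · exact ⟨0, fun σ _ => Perm.viaEmbedding_apply_of_notMem _ _ _ ha⟩
  obtain ⟨a', ha⟩ := key a
  obtain ⟨b', hb⟩ := key b
  obtain ⟨c, h1, h2, h3⟩ := (by decide +kernel : ∀ a b : Fin 6, ∃ c, Perm.sign (tw c) = -1 ∧
    tw c a = a ∧ tw c b = b) a' b'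
  exact ⟨_, ⟨_, hQ ⟨c, rfl⟩, conj_viaEmbedding e _ x⟩, by rw [sign_viaEmbedding, h1], ha _ h2, hb _ h3⟩

theorem two_mul_card_inf {P : Subgroup (Perm Ω)} {τ : Perm Ω} (h : τ ∈ P) (h1 : Perm.sign τ = -1) :
    2 * Nat.card (P ⊓ alternatingGroup Ω : Subgroup _) = Nat.card P := by
  have h2 : (alternatingGroup Ω).relIndex P = 2 := by
    refine Subgroup.index_eq_two_iff.2 ⟨⟨τ, h⟩, fun g => ?_⟩
    simp only [Subgroup.mem_subgroupOf, Perm.mem_alternatingGroup, Subgroup.coe_mul, map_mul, h1]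
    rcases Int.units_eq_one_or (Perm.sign g.1) with e | e <;> simp [e]
  have h3 := Nat.card_congr (Subgroup.subgroupOfEquivOfLe
    (inf_le_left : P ⊓ alternatingGroup Ω ≤ P)).toEquiv
  rw [Subgroup.inf_subgroupOf_left] at h3
  rw [← ((alternatingGroup Ω).subgroupOf P).index_mul_card, ← h2, h3]
  rfl

end H40.An
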