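import Cfsg.Agent.S5265
import Cfsg.Agent.S5093
import Cfsg.Agent.S5076
import Cfsg.Agent.S3807
import Cfsg.Agent.H24.Irr2
import Cfsg.Agent.H86.Misc
import Cfsg.Agent.H86.QDWr
import Cfsg.Agent.H40.GwC1
import Cfsg.Agent.H21.MultTransfer
import Cfsg.Agent.H24.Walter
import Cfsg.Agent.H0.GWFinal
import Cfsg.Agent.H49.CenCore
import Cfsg.Agent.H88.SE

/-! Quasisimple groups whose Sylow 2-subgroup has centre of index 4 (S4594, conditional on S1169). -/

set_option autoImplicit false

namespace H40.Cl2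

open Subgroup Cfsg
open scoped commutatorElement

universe u

section pgroup
variable {S : Type*} [Group S] [Finite S] {p : ℕ} [hp : Fact p.Prime]

omit [Finite S] in
theorem comm_of_index (h : (center S).index ∣ p) : IsMulCommutative S := by
  have : IsCyclic (S ⧸ center S) := by
    rcases (Nat.dvd_prime hp.out).1 h with h | h
    · have : Subsingleton (S ⧸ center S) := (Nat.card_eq_one_iff_unique.1 h).1
      infer_instance
    · exact isCyclic_of_prime_card h
  exact (QuotientGroup.mk' (center S)).isMulCommutative_of_isCyclic_of_ker_le_center (by simp)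

theorem card_comm (hS : IsPGroup p S) (hna : ¬ IsMulCommutative S) (h : (center S).index ∣ p ^ 2) :
    Nat.card (_root_.commutator S) = p ∧ ∀ x : S, x ^ p ∈ center S := by
  have h2 : (center S).index = p ^ 2 := by
    obtain ⟨k, hk, e⟩ := (Nat.dvd_prime_pow hp.out).1 h
    by_contra hne
    refine hna (comm_of_index (p := p) ?_)
    rw [e]
    have : k ≤ 1 := by
      by_contra h'
      exact hne (by rw [e, show k = 2 by omega])
    simpa using pow_dvd_pow p this
  obtain ⟨a, ha⟩ := exists_prime_orderOf_dvd_card' (G := S ⧸ center S) p (by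
    rw [← index_eq_card, h2]; exact dvd_pow_self p two_ne_zero)
  let A := (zpowers a).comap (QuotientGroup.mk' (center S))
  have hAi : A.index = p := by
    rw [index_comap_of_surjective _ (QuotientGroup.mk'_surjective _)]
    have := (zpowers a).card_mul_index
    rw [Nat.card_zpowers, ha, ← index_eq_card, h2, sq] at this
    exact Nat.eq_of_mul_eq_mul_left hp.out.pos this
  have hA : IsMulCommutative A := by
    let f : A →* zpowers a := ((QuotientGroup.mk' (center S)).comp A.subtype).codRestrict _ fun x => x.2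
    refine f.isMulCommutative_of_isCyclic_of_ker_le_center fun x hx => ?_
    have : (x : S) ∈ center S := (QuotientGroup.eq_one_iff _).1 (congrArg Subtype.val hx)
    exact mem_center_iff.2 fun y => Subtype.ext (mem_center_iff.1 this y)
  obtain ⟨h3, h4⟩ := Cfsg.Agent.S3807.result p hS hna A hA hAi
  rw [h2, sq] at h3
  have h5 := (Nat.eq_of_mul_eq_mul_left hp.out.pos h3).symm
  refine ⟨h5, fun x => ?_⟩
  by_contra hx
  have h6 : orderOf (x : S ⧸ center S) = p ^ 2 := by
    have hd : orderOf (x : S ⧸ center S) ∣ p ^ 2 := by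
      rw [← h2, index_eq_card]; exact orderOf_dvd_natCard _
    obtain ⟨k, hk, e⟩ := (Nat.dvd_prime_pow hp.out).1 hd
    by_contra hne
    apply hx
    rw [← QuotientGroup.eq_one_iff, QuotientGroup.mk_pow, ← orderOf_dvd_iff_pow_eq_one, e]
    have : k ≤ 1 := by
      by_contra h'
      exact hne (by rw [e, show k = 2 by omega])
    simpa using pow_dvd_pow p this
  have : IsCyclic (S ⧸ center S) :=
    isCyclic_of_orderOf_eq_card _ (by rw [h6, ← index_eq_card, h2])
  exact hna ((QuotientGroup.mk' (center S)).isMulCommutative_of_isCyclic_of_ker_le_center (by simp))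

end pgroup

variable {G : Type u} [Group G] [Finite G]

omit [Finite G] in
theorem conj_comm (P : Subgroup G) {g : G} (hg : ∀ x ∈ P, g * x * g⁻¹ ∈ P) {c : G} (hc : c ∈ ⁅P, P⁆) :
    g * c * g⁻¹ ∈ ⁅P, P⁆ := by
  have h1 : P.map (MulAut.conj g).toMonoidHom ≤ P := by
    rintro _ ⟨x, hx, rfl⟩
    exact hg x hx
  have h2 := commutator_mono h1 h1
  rw [← map_commutator] at h2
  exact h2 ⟨c, hc, rfl⟩

omit [Finite G] in
theorem comm_le (P : Subgroup G) : ⁅P, P⁆ ≤ P :=
  commutator_le.2 fun _ ha _ hb => mul_mem (mul_mem (mul_mem ha hb) (inv_mem ha)) (inv_mem hb)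

/-- the local structure in ambient form -/
theorem str (P : Subgroup G) (hP : IsPGroup 2 P) (hna : ¬ IsMulCommutative P)
    (h : (center P).index = 4) :
    ∃ c ∈ P, c ≠ 1 ∧ c * c = 1 ∧ (∀ x ∈ ⁅P, P⁆, x = 1 ∨ x = c) ∧ c ∈ ⁅P, P⁆ ∧
      ∀ x ∈ P, ∀ y ∈ P, y * (x * x) = x * x * y := by
  obtain ⟨h1, h2⟩ := card_comm (p := 2) hP hna (by rw [h]; norm_num)
  have e : ⁅P, P⁆ = (_root_.commutator P).map P.subtype := (map_subtype_commutator P).symm
  have h3 : Nat.card ↥⁅P, P⁆ = 2 := by rw [e, card_map_of_injective P.subtype_injective, h1]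
  obtain ⟨c, hc1, hc⟩ := (Nat.card_eq_two_iff' (1 : ↥⁅P, P⁆)).1 h3
  have hc' : ∀ x ∈ ⁅P, P⁆, x = 1 ∨ x = c := fun x hx => by
    by_cases h1 : x = 1
    · exact Or.inl h1
    · exact Or.inr (congrArg Subtype.val (hc ⟨x, hx⟩ fun e => h1 (congrArg Subtype.val e)))
  have hc0 : (c : G) ≠ 1 := fun e => hc1 (Subtype.ext e)
  refine ⟨c, comm_le P c.2, hc0, ?_, hc', c.2, fun x hx y hy => ?_⟩
  · rcases hc' _ (mul_mem c.2 c.2) with h | h
    · exact h
    · exact absurd (mul_eq_left.1 h) hc0
  · have := mem_center_iff.1 (h2 ⟨x, hx⟩) ⟨y, hy⟩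
    simpa [sq] using congrArg Subtype.val this

theorem exists_sc (S : Sylow 2 G) (h : (groupFusionSystem (S : Subgroup G)).core ≠ ⊥) :
    ∃ A : Subgroup G, A ≠ ⊥ ∧ IsMulCommutative A ∧ IsStronglyClosed A S := by
  obtain ⟨Q, hQ, hQ0⟩ : ∃ Q, (groupFusionSystem (S : Subgroup G)).IsNormal Q ∧ Q ≠ ⊥ := by
    by_contra hn
    push Not at hn
    exact h (sSup_eq_bot.2 hn)
  refine ⟨Q ⊓ centralizer (Q : Set G), ?_, ⟨⟨fun a b => Subtype.ext (b.2.2 a a.2.1)⟩⟩,
    inf_le_left.trans hQ.1, fun x hx g hg => ?_⟩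
  · have : Nontrivial Q := (nontrivial_iff_ne_bot Q).2 hQ0
    have := (S.isPGroup'.to_le hQ.1).center_nontrivial
    obtain ⟨z, hz⟩ := exists_ne (1 : center Q)
    refine ne_bot_iff_exists_ne_one.2 ⟨⟨z.1.1, z.1.2, fun y hy => ?_⟩, fun e => hz ?_⟩
    · exact congrArg Subtype.val (mem_center_iff.1 z.2 ⟨y, hy⟩)
    · exact Subtype.ext (Subtype.ext (Subtype.ext_iff.1 e :))
  · have hxS : zpowers x ≤ S := zpowers_le.2 (hQ.1 hx.1)
    obtain ⟨ψ, ⟨-, -, k, hk⟩, h1, h2⟩ := hQ.2 (zpowers x)
      ((MulAut.conj g).toMonoidHom.comp (zpowers x).subtype) ⟨hxS, by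
        rintro ⟨_, n, rfl⟩
        show g * x ^ n * g⁻¹ ∈ S
        rw [← conj_zpow]
        exact zpow_mem hg n, g, fun _ => rfl⟩
    have e1 : k * x * k⁻¹ = g * x * g⁻¹ := (hk _).symm.trans (h1 ⟨x, mem_zpowers x⟩)
    have e2 : ∀ y ∈ Q, k * y * k⁻¹ ∈ Q := fun y hy => by
      rw [← h2]
      exact ⟨⟨y, mem_sup_right hy⟩, hy, hk _⟩
    have e3 : ∀ y ∈ Q, ∃ w ∈ Q, k * w * k⁻¹ = y := fun y hy => by
      rw [← h2] at hy
      obtain ⟨w, hw, e⟩ := hy
      exact ⟨w, hw, (hk w).symm.trans e⟩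
    rw [← e1]
    refine ⟨e2 x hx.1, fun y hy => ?_⟩
    obtain ⟨w, hw, rfl⟩ := e3 y hy
    have := hx.2 w hw
    calc _ = k * (w * x) * k⁻¹ := by group
      _ = _ := by rw [this]; group

theorem simple_dih (hGo : H24.GoldS.{u}) [IsSimpleGroup G] (S : Sylow 2 G)
    (hna : ¬ IsMulCommutative (S : Subgroup G)) (h : (center (S : Subgroup G)).index = 4) :
    Nonempty ((S : Subgroup G) ≃* DihedralGroup 4) := by
  have hG : ¬ IsMulCommutative G := fun hc =>
    hna ⟨⟨fun a b => Subtype.ext (hc.is_comm.comm _ _)⟩⟩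
  obtain ⟨c, hcS, hc1, hcc, hcm, hc', hsq⟩ := str (S : Subgroup G) S.isPGroup' hna h
  by_cases hcore : (groupFusionSystem (S : Subgroup G)).core = ⊥
  · refine (Cfsg.Agent.S5265.result 2 S.isPGroup' _ (Cfsg.Agent.S5076.result 2 S)
      (fun e => hc1 (by rw [e] at hcS; exact hcS)) hcore ?_ (by rw [h]; norm_num)).2.2.2 rfl
    rw [Cfsg.Agent.S5093.result, H86.pResidual_eq_top_of_simple hG, inf_top_eq]
  exfalso
  obtain ⟨A, hA0, hAc, hsc⟩ := exists_sc S hcore
  obtain ⟨H, hH⟩ := (hGo S A hA0 hAc hsc).resolve_left hna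
  have ord : ∀ x : G, x ≠ 1 → x * x = 1 → orderOf x = 2 := fun x h1 h2 =>
    orderOf_eq_prime (by rw [sq, h2]) h1
  have hco := ord c hc1 hcc
  have hcz : ∀ s ∈ (S : Subgroup G), s * c = c * s := fun s hs => by
    rcases hcm (s * c * s⁻¹) (conj_comm _ (fun x hx => mul_mem (mul_mem hs hx) (inv_mem hs)) hc')
      with e | e
    · exact absurd (by simpa using e) hc1
    · exact mul_inv_eq_iff_eq_mul.1 e
  -- `c` is the only central involution
  have huniq : ∀ t ∈ (S : Subgroup G), t ≠ 1 → t * t = 1 → (∀ s ∈ (S : Subgroup G), s * t = t * s) →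
      t = c := fun t _ h1 h2 hz => by
    obtain ⟨g, hg, e⟩ := H86.exists_normalizer_conj_central S (H88.se_isConj hH hco (ord t h1 h2)) hcz hz
    have : g * c * g⁻¹ ∈ ⁅(S : Subgroup G), (S : Subgroup G)⁆ :=
      conj_comm _ (fun x hx => (mem_normalizer_iff.1 hg x).1 hx) hc'
    rw [e] at this
    exact (hcm t this).resolve_left h1
  -- involutions of `S` lie in `A`
  have hinv : ∀ t ∈ (S : Subgroup G), t ≠ 1 → t * t = 1 → t ∈ A := fun t ht h1 h2 => by
    have : Nontrivial A := (nontrivial_iff_ne_bot A).2 hA0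
    obtain ⟨k, hk, e⟩ := (S.isPGroup'.to_le hsc.1).nontrivial_iff_card.1 this
    obtain ⟨a, ha⟩ := exists_prime_orderOf_dvd_card' (G := A) 2 (by
      rw [e]; exact dvd_pow_self 2 hk.ne')
    obtain ⟨g, hg⟩ := isConj_iff.1 (H88.se_isConj hH (a := (a : G)) (by rw [orderOf_coe]; exact ha)
      (ord t h1 h2))
    rw [← hg] at ht ⊢
    exact hsc.2 a a.2 g ht
  have hcomm : ∀ t ∈ (S : Subgroup G), t * t = 1 → ∀ x ∈ (S : Subgroup G), x * x = 1 → x * t = t * x :=
    fun t ht h2 x hx hx2 => by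
      by_cases h1 : t = 1
      · simp [h1]
      by_cases hx1 : x = 1
      · simp [hx1]
      exact congrArg Subtype.val (hAc.is_comm.comm ⟨x, hinv x hx hx1 hx2⟩ ⟨t, hinv t ht h1 h2⟩)
  -- a second involution
  obtain ⟨t, htS, ht1, htt, htc⟩ : ∃ t ∈ (S : Subgroup G), t ≠ 1 ∧ t * t = 1 ∧ t ≠ c := by
    obtain ⟨g, h1, h2⟩ := H49.exists_conj_comm_of_simple hco fun e => hG (by
      have := isCyclic_of_prime_card (α := G) (p := 2) e
      exact ⟨⟨fun a b => mul_comm' a b⟩⟩)
    obtain ⟨k, hk, hk2⟩ := H86.exists_conj_central S (IsConj.refl c) hcz (P := zpowers (g * c * g⁻¹))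
      (IsPGroup.of_card (n := 1) (by
        rw [Nat.card_zpowers, ← MulAut.conj_apply, MulEquiv.orderOf_eq, hco]; rfl))
      (by rintro _ ⟨n, rfl⟩; exact (h1.symm.zpow_left n).eq)
    refine ⟨_, hk2 _ (mem_zpowers _), by simpa using hc1, ?_, fun e => h2 ?_⟩
    · calc _ = k * g * (c * c) * (k * g)⁻¹ := by group
        _ = 1 := by rw [hcc]; group
    · rw [← hk] at e
      have := mul_left_cancel (mul_right_cancel e)
      rw [hk] at this
      exact this
  obtain ⟨x, hxS, hxt⟩ : ∃ x ∈ (S : Subgroup G), x * t ≠ t * x := by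
    by_contra hn
    push Not at hn
    exact htc (huniq t htS ht1 htt hn)
  have hx2 : x * x ≠ 1 := fun e => hxt (hcomm t htS htt x hxS e)
  have hx3 : x * x ≠ c := fun e => by
    have h1 := hcm _ (commutator_mem_commutator (inv_mem hxS) htS)
    rw [commutatorElement_def, inv_inv] at h1
    rcases h1 with h1 | h1
    · apply hxt
      rw [mul_inv_eq_one, mul_assoc, inv_mul_eq_iff_eq_mul] at h1
      exact h1.symm
    · have h2 : x * t * (x * t) = 1 := by
        calc _ = x * x * (x⁻¹ * t * x * t⁻¹) * (t * t) := by group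
          _ = 1 := by rw [e, h1, hcc, htt, one_mul]
      have h3 := hcomm t htS htt _ (mul_mem hxS htS) h2
      rw [mul_assoc, ← mul_assoc t] at h3
      exact hxt (mul_right_cancel (by rw [mul_assoc]; exact h3))
  obtain ⟨m, hm⟩ := IsPGroup.iff_orderOf.1 S.isPGroup' ⟨x * x, mul_mem hxS hxS⟩
  rw [← orderOf_coe] at hm
  simp only at hm
  have hz : ∀ n : ℕ, ∀ s ∈ (S : Subgroup G), s * (x * x) ^ n = (x * x) ^ n * s := fun n s hs =>
    (Commute.pow_right (hsq x hxS s hs) n).eq
  have hpow : ∀ j, m = j + 1 → (x * x) ^ 2 ^ j = c := fun j hj => by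
    refine huniq _ (pow_mem (mul_mem hxS hxS) _) (fun e => ?_) ?_ (hz _)
    · have := orderOf_dvd_of_pow_eq_one e
      rw [hm, hj, Nat.pow_dvd_pow_iff_le_right one_lt_two] at this
      omega
    · rw [← pow_add, ← two_mul, ← pow_succ', ← hj, ← hm, pow_orderOf_eq_one]
  match m, hm, hpow with
  | 0, hm, _ => exact hx2 (orderOf_eq_one_iff.1 hm)
  | 1, _, hpow => exact hx3 (by simpa using hpow 0 rfl)
  | j + 2, _, hpow =>
    set w := (x * x) ^ 2 ^ j with hw
    have hww : w * w = c := by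
      rw [hw, ← pow_add, ← two_mul, ← pow_succ', hpow (j + 1) rfl]
    have hwS : w ∈ (S : Subgroup G) := pow_mem (mul_mem hxS hxS) _
    obtain ⟨g, hg, hg2⟩ := H86.exists_conj_central S (H88.se_isConj hH (ord t ht1 htt) hco) hcz
      (P := zpowers w) (S.isPGroup'.to_le (zpowers_le.2 hwS))
      (by rintro _ ⟨n, rfl⟩; exact (Commute.zpow_left (hz _ t htS).symm n).eq)
    have h1 := hg2 w (mem_zpowers w)
    have e : g * w * g⁻¹ * (g * w * g⁻¹) = g * c * g⁻¹ := by rw [← hww]; group
    have h2 := huniq _ (mul_mem h1 h1) (by rw [e]; simpa using hc1) (by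
      rw [e]
      calc _ = g * (c * c) * g⁻¹ := by group
        _ = 1 := by rw [hcc]; group) (hsq _ h1)
    rw [e] at h2
    exact htc (mul_left_cancel (mul_right_cancel (hg.trans h2.symm)))

theorem cen_le {p : ℕ} [hp : Fact p.Prime] (hG : Group.IsPerfect G) (R : Sylow p G) {z : G}
    (hz : z ∈ center G) {k : ℕ} (hk : z ^ p ^ k = 1) : z ∈ ⁅(R : Subgroup G), (R : Subgroup G)⁆ := by
  have h1 := H21.pow_index_mem_commutator (R : Subgroup G) hz (by rw [hG.commutator_eq_top]; trivial)
  have h2 : (R : Subgroup G).index.Coprime (orderOf z) :=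
    Nat.Coprime.coprime_dvd_right (orderOf_dvd_of_pow_eq_one hk)
      (((Nat.Prime.coprime_iff_not_dvd hp.out).2 R.not_dvd_index).symm.pow_right k)
  obtain ⟨m, hm⟩ := exists_pow_eq_self_of_coprime h2
  rw [← hm]
  exact pow_mem h1 m

omit [Finite G] in
theorem index_dvd {Q : Type*} [Group Q] [Finite Q] (π : G →* Q) (hπ : π.ker ≤ center G) {p : ℕ}
    [hp : Fact p.Prime] (R : Sylow p G) {k : ℕ} (hk : ¬ p ^ (k + 1) ∣ Nat.card Q) :
    (center (R : Subgroup G)).index ∣ p ^ k := by
  let f := π.comp (R : Subgroup G).subtype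
  have h1 : f.ker ≤ center (R : Subgroup G) := fun x hx =>
    mem_center_iff.2 fun y => Subtype.ext (mem_center_iff.1 (hπ hx) y)
  refine (index_dvd_of_le h1).trans ?_
  rw [index_ker]
  obtain ⟨j, hj⟩ := IsPGroup.iff_card.1 (R.isPGroup'.of_surjective _ f.rangeRestrict_surjective)
  have h2 := f.range.card_subgroup_dvd_card
  rw [hj] at h2 ⊢
  refine pow_dvd_pow p ?_
  by_contra h
  exact hk ((pow_dvd_pow p (by omega)).trans h2)

theorem card_A7 : Nat.card (alternatingGroup (Fin 7)) = 2520 := by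
  have := two_mul_nat_card_alternatingGroup (α := Fin 7)
  rw [Nat.card_perm, Nat.card_eq_fintype_card (α := Fin 7), Fintype.card_fin,
    show Nat.factorial 7 = 5040 by decide] at this
  omega

theorem a7_center (hG : Group.IsPerfect G) (hodd : ¬ 2 ∣ Nat.card (center G))
    (e : G ⧸ center G ≃* alternatingGroup (Fin 7)) : Nat.card (center G) ∣ 3 := by
  have hQ : Nat.card (G ⧸ center G) = 2520 := by rw [Nat.card_congr e.toEquiv, card_A7]
  have h3 : ∀ p : ℕ, p.Prime → p ∣ Nat.card (center G) → p = 3 := fun p hp hd => by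
    by_contra hne
    have : Fact p.Prime := ⟨hp⟩
    obtain ⟨z, hz⟩ := exists_prime_orderOf_dvd_card' (G := center G) p hd
    obtain ⟨R⟩ : Nonempty (Sylow p G) := inferInstance
    have h1 := cen_le hG R z.2 (k := 1) (by
      rw [pow_one, ← coe_pow, ← hz, pow_orderOf_eq_one]; rfl)
    have h2 := index_dvd (QuotientGroup.mk' (center G)) (by simp) R (k := 1) (by
      rw [hQ]
      intro h
      have hle : p ≤ 50 := by
        have := Nat.le_of_dvd (by norm_num) h
        rw [pow_succ, pow_one] at this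
        nlinarith
      have h2 : p ≠ 2 := fun e => hodd (e ▸ hd)
      interval_cases p <;> first | omega | exact absurd hp (by norm_num))
    rw [pow_one] at h2
    have h4 := comm_of_index h2
    rw [(commutator_eq_bot_iff_le_centralizer).2 (fun a ha b hb =>
      congrArg Subtype.val (h4.is_comm.comm ⟨b, hb⟩ ⟨a, ha⟩)), mem_bot] at h1
    have : z = 1 := Subtype.ext h1
    rw [this, orderOf_one] at hz
    exact hp.one_lt.ne hz
  have : Fact (Nat.Prime 3) := ⟨Nat.prime_three⟩
  obtain ⟨R⟩ : Nonempty (Sylow 3 G) := inferInstance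
  have hZ : center G ≤ ⁅(R : Subgroup G), (R : Subgroup G)⁆ := fun z hz => by
    have h1 := Nat.eq_prime_pow_of_unique_prime_dvd (Nat.card_pos (α := center G)).ne'
      (fun {d} hd h => h3 d hd h)
    refine cen_le hG R hz (k := (Nat.card (center G)).primeFactorsList.length) ?_
    rw [← h1]
    exact congrArg Subtype.val (pow_card_eq_one' (x := (⟨z, hz⟩ : center G)))
  refine (card_dvd_of_le hZ).trans ?_
  rw [← map_subtype_commutator, card_map_of_injective (R : Subgroup G).subtype_injective]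
  by_cases hc : IsMulCommutative (R : Subgroup G)
  · rw [(commutator_eq_bot_iff (G := (R : Subgroup G))).2 hc]
    simp
  · rw [(card_comm R.isPGroup' hc (index_dvd (QuotientGroup.mk' (center G)) (by simp) R (k := 2)
      (by rw [hQ]; norm_num))).1]

theorem main (hGo : H24.GoldS.{u}) (hq : IsQuasisimple G) (P : Sylow 2 G)
    (hna : ¬ IsMulCommutative (P : Subgroup G)) (hZ : (center (P : Subgroup G)).index = 4) :
    Nat.card (P : Subgroup G) = 8 ∧
      (Nonempty (G ≃* alternatingGroup (Fin 7)) ∨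
       (Nat.card (center G) = 3 ∧ Nonempty (G ⧸ center G ≃* alternatingGroup (Fin 7))) ∨
       ∃ (F : Type) (_ : Field F) (_ : Fintype F), Odd (Fintype.card F) ∧
        Nonempty (G ⧸ center G ≃* Matrix.ProjectiveSpecialLinearGroup (Fin 2) F)) := by
  obtain ⟨hperf, hs⟩ := hq
  obtain ⟨c, hcS, hc1, hcc, hcm, hc', hsq⟩ := str (P : Subgroup G) P.isPGroup' hna hZ
  have hQ : ¬ IsMulCommutative (G ⧸ center G) := fun h => by
    have h1 : _root_.commutator G ≤ center G := by
      rw [← QuotientGroup.ker_mk' (center G)]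
      exact Abelianization.commutator_subset_ker _
    rw [hperf.commutator_eq_top, top_le_iff] at h1
    have := hs.toNontrivial
    rw [h1] at this
    exact not_subsingleton _ (QuotientGroup.subsingleton_quotient_top (G := G))
  have hZP : ∀ z ∈ center G, z ∈ (P : Subgroup G) → z = 1 ∨ z = c := fun z hz hzP => by
    obtain ⟨k, hk⟩ := P.isPGroup' ⟨z, hzP⟩
    exact hcm z (cen_le hperf P hz (congrArg Subtype.val hk))
  by_cases hcZ : c ∈ center G
  · let π := QuotientGroup.mk' (center G)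
    let T : Sylow 2 (G ⧸ center G) := P.mapSurjective (QuotientGroup.mk'_surjective (center G))
    have hT : (T : Subgroup (G ⧸ center G)) = (P : Subgroup G).map π := rfl
    have hTc : IsMulCommutative (T : Subgroup (G ⧸ center G)) := by
      refine ⟨⟨?_⟩⟩
      rintro ⟨_, a, ha, rfl⟩ ⟨_, b, hb, rfl⟩
      refine Subtype.ext (commutatorElement_eq_one_iff_mul_comm.1 ?_)
      show ⁅π a, π b⁆ = 1
      rw [← map_commutatorElement]
      refine (QuotientGroup.eq_one_iff _).2 ?_
      rcases hcm _ (commutator_mem_commutator ha hb) with e | e <;> rw [e]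
      · exact one_mem _
      · exact hcZ
    have hab : H10.W.Ab2 (G ⧸ center G) := fun T' =>
      ⟨⟨fun a b => (Sylow.equiv T' T).injective (by rw [map_mul, map_mul, hTc.is_comm.comm])⟩⟩
    obtain ⟨hel, -, d, hd, htr⟩ :=
      ((H24.walterA _ hQ hab).facts H24.jobL2 H24.jobJR').singer T
    have hcen : ∀ a : (P : Subgroup G), a ∈ center (P : Subgroup G) → (a : G) ∈ center G := by
      intro a ha
      by_contra haZ
      obtain ⟨b, hb⟩ : ∃ b : (P : Subgroup G), b ∉ center (P : Subgroup G) := by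
        by_contra hn
        push Not at hn
        exact hna ⟨⟨fun x y => mem_center_iff.1 (hn y) x⟩⟩
      obtain ⟨k, hk⟩ := htr (π a) ⟨a, a.2, rfl⟩ (π b) ⟨b, b.2, rfl⟩
        (fun e => haZ ((QuotientGroup.eq_one_iff _).1 e))
        (fun e => hb (mem_center_iff.2 fun y =>
          Subtype.ext (mem_center_iff.1 ((QuotientGroup.eq_one_iff _).1 e) y)))
      obtain ⟨g, hg⟩ := QuotientGroup.mk'_surjective (center G) (d ^ k)
      have hgn := pow_mem hd k
      rw [← hg] at hk hgn
      refine hb (mem_center_iff.2 fun y => Subtype.ext ?_)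
      obtain ⟨y', hy', e⟩ := (mem_normalizer_iff''.1 hgn (π y)).1 ⟨y, y.2, rfl⟩
      have e1 : (g * a * g⁻¹)⁻¹ * b ∈ center G := QuotientGroup.eq.1 (by simpa [π] using hk)
      have e2 : y'⁻¹ * (g⁻¹ * y * g) ∈ center G := QuotientGroup.eq.1 (by simpa [π] using e)
      have e3 : y' * a = a * y' := congrArg Subtype.val (mem_center_iff.1 ha ⟨y', hy'⟩)
      have e4 : Commute (g⁻¹ * y * g) a := by
        have := Commute.mul_left (show Commute y' a from e3) (mem_center_iff.1 e2 a).symm
        rwa [mul_inv_cancel_left] at this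
      have e5 : Commute (y : G) (g * a * g⁻¹) := by
        have := e4.map (MulAut.conj g)
        simpa [mul_assoc] using this
      have := e5.mul_right (mem_center_iff.1 e1 y)
      rw [mul_inv_cancel_left] at this
      exact this.eq
    have hcP : Nat.card (center (P : Subgroup G)) = 2 := by
      refine (Nat.card_eq_two_iff' 1).2 ⟨⟨⟨c, hcS⟩, mem_center_iff.2 fun y =>
        Subtype.ext (mem_center_iff.1 hcZ y)⟩, fun e => hc1 (congrArg (fun x => x.1.1) e), ?_⟩
      intro y hy
      exact Subtype.ext (Subtype.ext ((hZP _ (hcen _ y.2) y.1.2).resolve_left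
        fun e => hy (Subtype.ext (Subtype.ext e))))
    have h8 : Nat.card (P : Subgroup G) = 8 := by
      rw [← (center (P : Subgroup G)).card_mul_index, hcP, hZ]
    have h4 : Nat.card (T : Subgroup (G ⧸ center G)) = 4 := by
      rw [← hZ, hT, ← range_subtype (P : Subgroup G), MonoidHom.map_range, range_subtype, ← index_ker]
      congr 1
      ext x
      exact ⟨fun hx => mem_center_iff.2 fun y =>
        Subtype.ext (mem_center_iff.1 ((QuotientGroup.eq_one_iff _).1 hx) y),
        fun hx => (QuotientGroup.eq_one_iff _).2 (hcen x hx)⟩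
    have hK : IsKleinFour (T : Subgroup (G ⧸ center G)) := by
      refine ⟨h4, ?_⟩
      have : Nontrivial (T : Subgroup (G ⧸ center G)) := Finite.one_lt_card_iff_nontrivial.1 (by omega)
      exact Monoid.exponent_eq_prime_iff Nat.prime_two |>.2 fun g hg =>
        orderOf_eq_prime (Subtype.ext (hel g g.2)) hg
    obtain ⟨e⟩ : Nonempty ((T : Subgroup (G ⧸ center G)) ≃* DihedralGroup 2) :=
      IsKleinFour.nonempty_mulEquiv
    refine ⟨h8, ?_⟩
    rcases H40.GwC.target_of_dih H0.gwSimple hQ T e with ⟨F, i1, i2, h1, -, h2⟩ | ⟨⟨e7⟩⟩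
    · exact Or.inr (Or.inr ⟨F, i1, i2, h1, h2⟩)
    · exfalso
      have h1 := (T : Subgroup (G ⧸ center G)).card_mul_index
      rw [Nat.card_congr e7.toEquiv, card_A7, h4] at h1
      exact T.not_dvd_index (by omega)
  · have hodd : ¬ 2 ∣ Nat.card (center G) := fun hd => by
      obtain ⟨z, hz⟩ := exists_prime_orderOf_dvd_card' (G := center G) 2 hd
      rcases hcm _ (cen_le hperf P z.2 (k := 1) (by
        rw [pow_one, ← coe_pow, ← hz, pow_orderOf_eq_one]; rfl)) with e | e
      · have : z = 1 := Subtype.ext e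
        rw [this, orderOf_one] at hz
        omega
      · exact hcZ (e ▸ z.2)
    obtain ⟨T, -, ⟨e⟩⟩ := H86.exists_sylow_quotient_equiv P (center G)
      ((Nat.Prime.coprime_iff_not_dvd Nat.prime_two).2 hodd).symm
    obtain ⟨e2⟩ := simple_dih hGo T
      (fun h => hna ⟨⟨fun a b => e.injective (by rw [map_mul, map_mul, h.is_comm.comm])⟩⟩) (by
        rw [← hZ, ← index_comap_of_surjective _ (f := e.toMonoidHom) e.surjective]
        congr 1
        ext x
        exact MulEquivClass.apply_mem_center_iff e)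
    refine ⟨by rw [Nat.card_congr (e.trans e2).toEquiv, DihedralGroup.nat_card], ?_⟩
    rcases H40.GwC.target_of_dih H0.gwSimple hQ T e2 with ⟨F, i1, i2, h1, -, h2⟩ | ⟨⟨e7⟩⟩
    · exact Or.inr (Or.inr ⟨F, i1, i2, h1, h2⟩)
    · rcases (Nat.dvd_prime Nat.prime_three).1 (a7_center hperf hodd e7) with h | h
      · exact Or.inl ⟨(QuotientGroup.quotientBot.symm.trans
          (QuotientGroup.quotientMulEquivOfEq (card_eq_one.1 h).symm)).trans e7⟩
      · exact Or.inr (Or.inl ⟨h, ⟨e7⟩⟩)

end H40.Cl2
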