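import Cfsg.Agent.H40.CoreU3
import Cfsg.Agent.S5776

/-! `L₃(q)`, `q` odd, has no proper `2`-generated core. -/

set_option autoImplicit false

namespace H40.CU

open Matrix hiding mul_inv_rev J
open Cfsg Cfsg.Geo H25 H59 H60.L3 H14.GC MulAction

universe u

variable {F : Type*} [Field F]

theorem exists_psiL : ∃ ψ : S3 F →* ProjectiveSpecialLinearGroup (Fin 3) F,
    Function.Surjective ψ ∧ ∀ g, ψ g = 1 ↔ g.1 ∈ scalars (Fin 3) F := by
  let e : S3 F →* SpecialLinearGroup (Fin 3) F :=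
    MonoidHom.mk' (fun g => ⟨g.1.val, mem_specialLinear.1 g.2⟩) fun _ _ => rfl
  refine ⟨(QuotientGroup.mk' _).comp e, (QuotientGroup.mk'_surjective _).comp fun g =>
    ⟨⟨SpecialLinearGroup.toGL g, mem_specialLinear.2 g.2⟩, rfl⟩, fun g => ?_⟩
  refine (QuotientGroup.eq_one_iff _).trans (Matrix.SpecialLinearGroup.mem_center_iff.trans ?_)
  rw [mem_scalars_iff]
  refine ⟨fun ⟨a, h1, ha⟩ => ⟨Units.mk0 a (by rintro rfl; simp at h1), ?_⟩, fun ⟨a, ha⟩ => ⟨a, ?_, ?_⟩⟩
  · exact ha.symm.trans (by simp [scalar_apply, smul_one_eq_diagonal])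
  · have := mem_specialLinear.1 g.2
    rw [ha, det_smul] at this
    simpa using this
  · exact Eq.trans (by simp [scalar_apply, smul_one_eq_diagonal]) ha.symm

theorem irr_EC {H : Subgroup (G3 F)} (h2 : (2 : F) ≠ 0) (h1 : E 1 ∈ H) (hC : C ∈ H) : Irr H := by
  intro W hW
  refine (eq_or_ne W ⊥).imp_right fun h0 => ?_
  obtain ⟨v, hv, hv1⟩ : ∃ v ∈ W, v 1 ≠ 0 := by
    obtain ⟨v, hv, hv0⟩ := Submodule.exists_mem_ne_zero_of_ne_bot h0
    by_contra! hc
    have a1 := hc _ (hW _ hC _ hv)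
    have a2 := hc _ (hW _ hC _ (hW _ hC _ hv))
    simp [C_mulVec] at a1 a2
    exact hv0 (by ext i; fin_cases i <;> simp [a1, a2, hc v hv])
  have b1 : ![0, 1, 0] ∈ W := mem_of_smul (c := 2 * v 1) (mul_ne_zero h2 hv1)
    (add_mem (hW (D (-1) 1 (-1)) h1 _ hv) hv) (by
      ext i; fin_cases i <;> simp [D_mulVec, two_mul])
  have b2 := hW _ hC _ b1
  have b0 := hW _ hC _ b2
  simp only [C_mulVec, cons_val] at b2 b0
  exact top_of_single b0 b1 b2

/-- an element of order four in characteristic three -/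
def Q (h3 : (3 : F) = 0) : G3 F :=
  ⟨!![1, 0, 1; 0, 1, 0; 1, 0, -1], !![-1, 0, -1; 0, 1, 0; -1, 0, 1],
    by rw [mul_fin_three, one_fin_three]; apply mat3 <;> first | ring1 | linear_combination -h3,
    by rw [mul_fin_three, one_fin_three]; apply mat3 <;> first | ring1 | linear_combination -h3⟩

theorem Q_val (h3 : (3 : F) = 0) : (Q h3).val = !![1, 0, 1; 0, 1, 0; 1, 0, -1] := rfl

theorem Q_inv_val (h3 : (3 : F) = 0) : (Q h3)⁻¹.val = !![-1, 0, -1; 0, 1, 0; -1, 0, 1] := rfl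

theorem jobL3 : JobL3.{u} := by
  intro G Ω _ _ _ F _ _ ho ⟨e⟩ hc
  have h2 := two_ne_zero_of_odd ho
  have hL : LinList F := linList (fun H => Cfsg.Agent.S5776.result H) resNorm F
  obtain ⟨ψ, ψ1, ψ2⟩ := exists_psiL (F := F)
  let φ : S3 F →* G := e.symm.toMonoidHom.comp ψ
  have hφ : Function.Surjective φ := e.symm.surjective.comp ψ1
  have hk : ∀ g, φ g = 1 ↔ g.1 ∈ scalars (Fin 3) F := fun g =>
    (map_eq_one_iff _ e.symm.injective).trans (ψ2 g)
  have hE : ∀ i, E i ∈ S3 F := fun i => by fin_cases i <;> exact D_mem (by simp)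
  obtain ⟨a, -, hfr, hN⟩ := exists_point hc hk h2 hE J_mem
  by_cases h5 : 5 ≤ Fintype.card F
  · obtain ⟨c, -, c2⟩ := exists_sq_ne_one (⊤ : Subgroup Fˣ) (by rw [card_units_top]; omega)
    rcases (max2 hL h5).2 _ hfr St_le with h | h
    · exact N_not_mem h2 c2 (h.le (hN c (N_mem_S3 h2 c))).1
    · exact St_ne hc hφ h
  have hF : Fintype.card F = 3 := by
    have := Fintype.one_lt_card (α := F)
    obtain ⟨k, hk⟩ := ho
    omega
  have h3 : (3 : F) = 0 := by simpa [hF] using Nat.cast_card_eq_zero F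
  have m : ∀ i, E i ∈ St φ a := fun i => hfr ⟨by fin_cases i <;> exact D_mem_fr .., hE i⟩
  have mJ : J ∈ St φ a := hfr ⟨J_mem_fr, J_mem⟩
  have mC : C ∈ St φ a := hfr ⟨C_mem_fr, C_mem⟩
  have mQ : Q h3 ∈ St φ a := by
    refine mem_St_of_conj hc hk (m 0) (m 1) (E_mul_self 0) (E_mul_self 1) (E01.trans E10.symm)
      (E_not_mem h2 0) (E_not_mem h2 1) (E01 (F := F) ▸ E_not_mem h2 2) ?_ ?_ ?_
    · rw [mem_specialLinear, Q_val, det_fin_three]
      simp
      linear_combination -h3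
    · convert mul_mem mJ (m 1) using 1
      refine (Units.ext ?_).symm
      change ((J : G3 F) * D (-1) 1 (-1)).val = ((Q h3)⁻¹ * D 1 (-1) (-1) * Q h3).val
      simp only [Units.val_mul, Q_inv_val, Q_val, D_val, J_val, mul_fin_three, Units.val_neg,
        Units.val_one]
      apply mat3 <;> first | ring1 | linear_combination h3
    · convert m 1 using 1
      refine (Units.ext ?_).symm
      change (D (-1) 1 (-1) : G3 F).val = ((Q h3)⁻¹ * D (-1) 1 (-1) * Q h3).val
      simp only [Units.val_mul, Q_inv_val, Q_val, D_val, mul_fin_three, Units.val_neg, Units.val_one]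
      apply mat3 <;> first | ring1 | linear_combination -h3
  obtain ⟨H, hH, hle⟩ := exists_max (lt_of_le_of_ne (St_le (φ := φ) (a := a)) (St_ne hc hφ))
  rcases hL H hH with ⟨-, L, hL, rfl⟩ | h
  · exact not_p3 (hle mC) (hle mJ) J_C_ne ((p3_field hL).mono inf_le_left)
  cases h with
  | red h => exact h (irr_EC h2 (hle (m 1)) (hle mC))
  | c2 h => omega
  | c5 F₀ r hr h => exact not_prime_pow hr (h ▸ hF ▸ Nat.prime_three)
  | c6 _ h => omega
  | c8 _ h =>
    obtain ⟨μ, h, -⟩ := h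
    obtain ⟨a1, a2⟩ := h _ (hle (mul_mem mQ (m 0)))
    have a3 : μ (Q h3 * E 0) = 1 := by
      have : (μ (Q h3 * E 0) - 1) ^ 3 = 0 := by
        linear_combination a1 + (μ (Q h3 * E 0) - μ (Q h3 * E 0) ^ 2) * h3
      exact sub_eq_zero.1 (pow_eq_zero_iff three_ne_zero |>.1 this)
    rw [a3, one_mul, mul_inv_rev, inv_eq_of_mul_eq_one_right (E_mul_self 0)] at a2
    change (Q h3 * D 1 (-1) (-1)).val.trace = (D 1 (-1) (-1) * (Q h3)⁻¹).val.trace at a2
    simp only [Units.val_mul, Q_inv_val, Q_val, D_val, mul_fin_three, Units.val_neg, Units.val_one,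
      trace_fin_three_of] at a2
    exact one_ne_zero (α := F) (by linear_combination a2 - h3)
  | c8u m h =>
    have := two_le_of_sq h
    nlinarith
  | s7 p _ h _ h7 => omega
  | s6 p hp h =>
    rcases h with ⟨h, _⟩ | ⟨h, _⟩
    · omega
    · nlinarith [hp.two_le]

end H40.CU
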