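import Cfsg.Agent.H40.L13
import Cfsg.Agent.H40.SPMaz
import Cfsg.Agent.H90.Free
import Cfsg.Agent.H2.MinNormal
import Cfsg.Agent.H26.NilpComm
/-! Solvable groups with the element orders of `L₃(3)` have a nontrivial normal `13`-subgroup. -/
set_option autoImplicit false
set_option linter.unusedSectionVars false
namespace H40.Crit
open Subgroup

/-- All element orders are element orders of `L₃(3)`. -/
def W (G : Type*) [Group G] : Prop := ∀ g : G, orderOf g ∈ [1, 2, 3, 4, 6, 8, 13]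

instance fact13 : Fact (Nat.Prime 13) := ⟨by norm_num⟩

variable {G : Type*} [Group G] [Finite G]

theorem W.mul (h : W G) {x y : G} (hc : Commute x y) (hxy : (orderOf x).Coprime (orderOf y)) :
    orderOf x * orderOf y ∈ [1, 2, 3, 4, 6, 8, 13] :=
  hc.orderOf_mul_eq_mul_orderOf_of_coprime hxy ▸ h (x * y)

theorem W.sc (h : W G) {x y : G} (hx : orderOf x = 13) (hc : Commute x y) : orderOf y ∣ 13 := by
  by_contra e
  obtain ⟨h1, h2⟩ := (by decide : ∀ n ∈ [1, 2, 3, 4, 6, 8, 13], ¬ n ∣ 13 →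
    Nat.Coprime 13 n ∧ 13 * n ∉ [1, 2, 3, 4, 6, 8, 13]) _ (h y) e
  exact h2 (hx ▸ h.mul hc (hx ▸ h1))

theorem W.eq_one (h : W G) {x y : G} (hx : orderOf x = 13) (hc : Commute x y)
    (hy : ¬ 13 ∣ orderOf y) : y = 1 := by
  rcases (Nat.dvd_prime fact13.out).1 (h.sc hx hc) with e | e
  · exact orderOf_eq_one_iff.1 e
  · exact absurd (e ▸ dvd_rfl) hy

theorem W.ord13 (h : W G) {P : Subgroup G} (hP : IsPGroup 13 P) {x : G} (hx : x ∈ P) (h1 : x ≠ 1) :
    orderOf x = 13 := by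
  obtain ⟨k, hk⟩ := IsPGroup.iff_orderOf.1 hP ⟨x, hx⟩
  rw [orderOf_mk] at hk
  rcases k with _ | k
  · exact absurd (orderOf_eq_one_iff.1 hk) h1
  · exact (by decide : ∀ n ∈ [1, 2, 3, 4, 6, 8, 13], 13 ∣ n → n = 13) _ (h x)
      (hk ▸ dvd_pow_self 13 k.succ_ne_zero)

theorem W.prime (h : W G) {p : ℕ} (hp : p.Prime) (hd : p ∣ Nat.card G) : p = 2 ∨ p = 3 ∨ p = 13 := by
  have := Fact.mk hp
  obtain ⟨x, rfl⟩ := exists_prime_orderOf_dvd_card' (G := G) p hd
  exact (by decide : ∀ n ∈ [1, 2, 3, 4, 6, 8, 13], n.Prime → n = 2 ∨ n = 3 ∨ n = 13) _ (h x) hp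

theorem exo {H : Subgroup G} {p : ℕ} (hp : p.Prime) (h : p ∣ Nat.card H) :
    ∃ x ∈ H, orderOf x = p := by
  have := Fact.mk hp
  obtain ⟨x, hx⟩ := exists_prime_orderOf_dvd_card' (G := H) p h
  exact ⟨x, x.2, (orderOf_coe x).trans hx⟩

omit [Finite G] in
theorem cjp {e f : G} {a : ℕ} (h : e * f * e⁻¹ = f ^ a) (k : ℕ) :
    e ^ k * f * (e ^ k)⁻¹ = f ^ a ^ k := by
  induction k with
  | zero => simp
  | succ k ih =>
    rw [pow_succ' e, mul_inv_rev, show e * e ^ k * f * ((e ^ k)⁻¹ * e⁻¹) =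
      e * (e ^ k * f * (e ^ k)⁻¹) * e⁻¹ by group, ih, ← conj_pow, h, ← pow_mul, pow_succ']

theorem cje {e f : G} (hf : orderOf f = 13) (he : e ∈ normalizer (zpowers f : Set G)) :
    ∃ a < 13, e * f * e⁻¹ = f ^ a := by
  obtain ⟨a, ha⟩ := mem_powers_iff_mem_zpowers.2 ((mem_normalizer_iff.1 he f).1 (mem_zpowers f))
  exact ⟨a % 13, Nat.mod_lt _ (by norm_num), by rw [← hf, pow_mod_orderOf]; exact ha.symm⟩

theorem cjm {e f : G} (hf : orderOf f = 13) {a k : ℕ} (h : e * f * e⁻¹ = f ^ a) (hk : e ^ k = 1) :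
    a ^ k % 13 = 1 := by
  have := cjp h k
  rw [hk, one_mul, inv_one, mul_one] at this
  have h2 := pow_eq_pow_iff_modEq.1 ((pow_one f).trans this)
  rw [hf] at h2
  exact h2.symm

theorem W.maz (h : W G) {N : Subgroup G} [N.Normal] (hN : ¬ 13 ∣ Nat.card N) {f z : G}
    (hf : orderOf f = 13) (hz : z ∈ normalizer (zpowers f : Set G)) (h13 : ¬ 13 ∣ orderOf z)
    {r : ℕ} (hr : r.Prime) (hd : r ∣ Nat.card N) (nil : Group.IsNilpotent N) :
    orderOf z * r ∈ [1, 2, 3, 4, 6, 8, 13] := by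
  have := Fact.mk hr
  obtain ⟨Q⟩ : Nonempty (Sylow r N) := inferInstance
  have : (Q : Subgroup N).Characteristic := Q.characteristic_of_normal inferInstance
  have hp : IsPGroup r ((Q : Subgroup N).map N.subtype) := Q.isPGroup'.map _
  have := hp.isNilpotent
  obtain ⟨p, V, hpp, _, hV, h1, he, hpV, -⟩ := H2.exists_elementaryAbelian_normal_le
    ((Q : Subgroup N).map N.subtype) fun e => Q.ne_bot_of_dvd_card hd
      ((map_eq_bot_iff_of_injective _ N.subtype_injective).1 e)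
  have := Fact.mk hpp
  obtain rfl : p = r := by
    by_contra e
    exact h1 (disjoint_self.1 (IsPGroup.disjoint_of_ne p r e V V hpV (hp.to_le hV)))
  have hVN : V ≤ N := hV.trans (map_subtype_le _)
  have hv : ∀ x, orderOf x = 13 → ∀ v ∈ V, x * v = v * x → v = 1 := fun x hx v hv e =>
    h.eq_one hx e fun e' => hN (e'.trans (N.orderOf_dvd_natCard (hVN hv)))
  have hP : IsPGroup 13 (zpowers f) := IsPGroup.of_card (n := 1) (by rw [Nat.card_zpowers, hf]; rfl)
  obtain ⟨g, hg⟩ := SP.jobMaz G V (zpowers f) z p hr h1 he.2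
    (fun v hv w hw => have := he.1; setLike_mul_comm hv hw)
    (by
      rw [Nat.card_zpowers, hf]
      exact fun e => hN ((Nat.prime_dvd_prime_iff_eq hr fact13.out).1 e ▸ hd))
    (by rw [normalizer_eq_top]; exact le_top) (by rw [normalizer_eq_top]; trivial) hz
    (fun v hv' e => hv f hf v hv' (e f (mem_zpowers f))) fun i h0 hi x hx e => by
      by_cases hx1 : x = 1
      · simp [hx1]
      exfalso
      have hm := mul_mem (inv_mem hx) ((mem_normalizer_iff.1 (pow_mem hz i) x).1 hx)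
      by_cases e1 : x⁻¹ * (z ^ i * x * (z ^ i)⁻¹) = 1
      · have := h.eq_one (h.ord13 hP hx hx1) (y := z ^ i)
          (by rw [inv_mul_eq_one, eq_mul_inv_iff_mul_eq] at e1; exact e1)
          fun e' => h13 (e'.trans (orderOf_pow_dvd i))
        exact absurd (Nat.le_of_dvd h0 (orderOf_dvd_of_pow_eq_one this)) (by omega)
      · exact h1 (eq_bot_iff.2 fun v hv' => hv _ (h.ord13 hP hm e1) v hv' (e v hv'))
  exact hg ▸ h g

theorem W.two_frob (h : W G) {N : Subgroup G} [N.Normal] (hN : ¬ 13 ∣ Nat.card N) (h1 : N ≠ ⊥)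
    {f g y : G} (hf : orderOf f = 13) (hg : orderOf g = 8) (hy : orderOf y = 3)
    (dec : ∀ x : G, ∃ e ∈ normalizer (zpowers f : Set G), e⁻¹ * x ∈ N) : False := by
  have hn : ∀ v ∈ N, Commute f v → v = 1 := fun v hv e =>
    h.eq_one hf e fun e' => hN (e'.trans (N.orderOf_dvd_natCard hv))
  have nil : Group.IsNilpotent N := H5.isNilpotent_of_fpf_elem (x := f) (hf ▸ fact13.out)
    (by rw [normalizer_eq_top]; trivial)
    (eq_bot_iff.2 fun v hv => hn v hv.1 (mem_centralizer_singleton_iff.1 hv.2).symm)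
  have hEN : ∀ e ∈ normalizer (zpowers f : Set G), e ∈ N → e = 1 := fun e he heN => by
    have h2 : e * f * e⁻¹ * f⁻¹ ∈ zpowers f ⊓ N :=
      mem_inf.2 ⟨(zpowers f).mul_mem ((mem_normalizer_iff.1 he f).1 (mem_zpowers f))
        ((zpowers f).inv_mem (mem_zpowers f)), by
        rw [mul_assoc, mul_assoc]
        exact mul_mem heN (by simpa [mul_assoc] using ‹N.Normal›.conj_mem _ (inv_mem heN) f)⟩
    rw [disjoint_iff.1 (disjoint_of_coprime_natCard (by
      rw [Nat.card_zpowers, hf]; exact (Nat.Prime.coprime_iff_not_dvd fact13.out).2 hN)), mem_bot,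
      mul_inv_eq_one, mul_inv_eq_iff_eq_mul] at h2
    exact hn e heN h2.symm
  have lift : ∀ x e : G, e⁻¹ * x ∈ N → ∀ k, (e ^ k ∈ N ↔ x ^ k ∈ N) := fun x e he k => by
    rw [← QuotientGroup.eq_one_iff, ← QuotientGroup.eq_one_iff, QuotientGroup.mk_pow,
      QuotientGroup.mk_pow, QuotientGroup.eq.2 he]
  obtain ⟨e, he, heg⟩ := dec g
  have e8 : orderOf e ∣ 8 := orderOf_dvd_of_pow_eq_one (hEN _ (pow_mem he 8)
    ((lift g e heg 8).2 (by rw [← hg, pow_orderOf_eq_one]; exact one_mem N)))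
  have e13 : ¬ 13 ∣ orderOf e := fun e' => absurd (e'.trans e8) (by norm_num)
  by_cases h3 : 3 ∣ Nat.card N
  · have e2 : orderOf e ∣ 2 := (by decide : ∀ n ∈ Nat.divisors 8, n * 3 ∈ [1, 2, 3, 4, 6, 8, 13] →
      n ∣ 2) _ (Nat.mem_divisors.2 ⟨e8, by norm_num⟩) (h.maz hN hf he e13 Nat.prime_three h3 nil)
    have hg2 : g ^ 2 ∈ N := (lift g e heg 2).1 (by
      rw [orderOf_dvd_iff_pow_eq_one.1 e2]; exact one_mem N)
    obtain ⟨w, hw, ho⟩ := exo Nat.prime_three h3
    have o4 : orderOf (g ^ 2) = 4 := by rw [orderOf_pow' g two_ne_zero, hg]; rfl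
    have hc : (orderOf (g ^ 2)).Coprime (orderOf w) := by rw [o4, ho]; norm_num
    have := h.mul (H26.commute_of_coprime_orderOf_of_mem nil hg2 hw hc) hc
    rw [o4, ho] at this
    exact absurd this (by decide)
  have hp2 : ∀ p : ℕ, p.Prime → p ∣ Nat.card N → p = 2 := fun p hp hd => by
    rcases h.prime hp (hd.trans (card_subgroup_dvd_card N)) with e | rfl | rfl
    exacts [e, absurd hd h3, absurd hd hN]
  have h2 : 2 ∣ Nat.card N := by
    obtain ⟨p, hp, hd⟩ := Nat.exists_prime_and_dvd (n := Nat.card N) fun e => h1 (card_eq_one.1 e)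
    exact hp2 p hp hd ▸ hd
  obtain ⟨z, hz, hzy⟩ := dec y
  have z3 : z ^ 3 = 1 := hEN _ (pow_mem hz 3)
    ((lift y z hzy 3).2 (by rw [← hy, pow_orderOf_eq_one]; exact one_mem N))
  have z1 : z ≠ 1 := fun e => h3 (hy ▸ N.orderOf_dvd_natCard (by simpa [e] using hzy))
  have : Fact (Nat.Prime 3) := ⟨Nat.prime_three⟩
  have : Fact (Nat.Prime 2) := ⟨Nat.prime_two⟩
  have oz : orderOf z = 3 := orderOf_eq_prime z3 z1
  have nc : ∀ u : G, ¬ 13 ∣ orderOf u → u ≠ 1 → u * f * u⁻¹ ≠ f ^ 1 := fun u hu hu1 e =>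
    hu1 (h.eq_one hf (by rw [pow_one, mul_inv_eq_iff_eq_mul] at e; exact e.symm) hu)
  obtain ⟨b, hb, hzb⟩ := cje hf hz
  have hb' : b = 3 ∨ b = 9 := (by decide : ∀ b < 13, b ^ 3 % 13 = 1 → b ≠ 1 → b = 3 ∨ b = 9) b hb
    (cjm hf hzb z3) fun e => nc z (by rw [oz]; norm_num) z1 (e ▸ hzb)
  by_cases e1 : e = 1
  · obtain ⟨z, z3, z1, hz⟩ : ∃ z : G, z ^ 3 = 1 ∧ z ≠ 1 ∧ z * f * z⁻¹ = f ^ 3 := by
      rcases hb' with rfl | rfl
      · exact ⟨z, z3, z1, hzb⟩
      · refine ⟨z ^ 2, by rw [← pow_mul, mul_comm, pow_mul, z3, one_pow], fun e => ?_, ?_⟩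
        · exact absurd (oz ▸ orderOf_dvd_of_pow_eq_one e) (by norm_num)
        · rw [cjp hzb 2]
          exact pow_eq_pow_iff_modEq.2 (by rw [hf]; decide)
    have fm : ∀ n, f ^ (n % 13) = f ^ n := fun n => hf ▸ pow_mod_orderOf f n
    have S : L13.St (fun s => MulAut.conjNormal (H := N) (f ^ s.val)) (MulAut.conjNormal z) :=
      { p2 := IsPGroup.iff_card.2 ⟨_, Nat.eq_prime_pow_of_unique_prime_dvd Nat.card_pos.ne'
          fun {d} hd hd' => hp2 d hd hd'⟩
        add := fun r s x => by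
          rw [← MulAut.mul_apply, ← map_mul, ← pow_add, ZMod.val_add, fm]
        hF := fun s x => by
          rw [← MulAut.mul_apply, ← map_mul, ← MulAut.mul_apply, ← map_mul, ZMod.val_mul, fm,
            pow_mul, show (3 : L13.Z).val = 3 from rfl, ← hz, conj_pow,
            inv_mul_cancel_right]
        h3 := fun x => by
          rw [← MulAut.mul_apply, ← MulAut.mul_apply, ← map_mul, ← map_mul, ← pow_three', z3,
            map_one, MulAut.one_apply]
        fpf := fun x hx => Subtype.ext (hn x x.2 (by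
          have := congrArg Subtype.val hx
          rw [MulAut.conjNormal_apply, show (1 : L13.Z).val = 1 from rfl, pow_one] at this
          exact mul_inv_eq_iff_eq_mul.1 this))
        c2 := fun x hx => by
          have := congrArg Subtype.val hx
          rw [MulAut.conjNormal_apply] at this
          have hc : (orderOf z).Coprime (orderOf (x : G)) := by
            rw [orderOf_eq_prime z3 z1]
            exact (Nat.Prime.coprime_iff_not_dvd Nat.prime_three).2 fun e =>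
              h3 (e.trans (N.orderOf_dvd_natCard x.2))
          have h5 := h.mul (mul_inv_eq_iff_eq_mul.1 this) hc
          rw [orderOf_eq_prime z3 z1] at h5
          exact Subtype.ext ((sq _).symm.trans (orderOf_dvd_iff_pow_eq_one.1
            ((by decide : ∀ n ∈ [1, 2, 3, 4, 6, 8, 13], 3 * n ∈ [1, 2, 3, 4, 6, 8, 13] → n ∣ 2) _
              (h x) h5))) }
    have := congrArg Subtype.val (S.exp4 ⟨g, by simpa [e1] using heg⟩)
    exact absurd (hg ▸ orderOf_dvd_of_pow_eq_one this) (by norm_num)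
  obtain ⟨t, ht, ot⟩ := exo (H := zpowers e) Nat.prime_two (by
    rw [Nat.card_zpowers]
    exact (by decide : ∀ n ∈ Nat.divisors 8, n ≠ 1 → 2 ∣ n) _ (Nat.mem_divisors.2 ⟨e8, by norm_num⟩)
      fun e' => e1 (orderOf_eq_one_iff.1 e'))
  have htE := zpowers_le.2 he ht
  obtain ⟨a, ha, hta⟩ := cje hf htE
  obtain rfl : a = 12 := (by decide : ∀ a < 13, a ^ 2 % 13 = 1 → a ≠ 1 → a = 12) a ha
    (cjm hf hta (ot ▸ pow_orderOf_eq_one t)) fun e => nc t (by rw [ot]; norm_num)
      (fun e' => by rw [e', orderOf_one] at ot; omega) (e ▸ hta)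
  have hu : t * z * f * (t * z)⁻¹ = f ^ (12 * b) := by
    rw [pow_mul, ← hta, conj_pow, ← hzb]; group
  have o6 : orderOf (t * z) = 6 := (by decide : ∀ n ∈ [1, 2, 3, 4, 6, 8, 13], ∀ b ∈ [3, 9],
    (12 * b) ^ n % 13 = 1 → n = 6) _ (h _) b (by simpa using hb') (cjm hf hu (pow_orderOf_eq_one _))
  have := h.maz hN hf (mul_mem htE hz) (by rw [o6]; norm_num) Nat.prime_two h2 nil
  rw [o6] at this
  exact absurd this (by decide)

theorem free {K T : Subgroup G} [K.Normal] (h1 : K ≠ ⊥)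
    (hc : ∀ x ∈ K, x ≠ 1 → ∀ y ∈ T, y ≠ 1 → ¬ Commute x y) : H90.Free T :=
  H90.Free.of_subgroup_fpf h1 (by rw [normalizer_eq_top]; exact le_top) fun y hy y1 =>
    eq_bot_iff.2 fun x hx => by
      by_contra e
      exact hc x hx.1 e y hy y1 (mem_centralizer_singleton_iff.1 hx.2)

theorem W.normal13 (h : W G) [Group.IsSolvable G] {x g y : G} (hx : orderOf x = 13)
    (hg : orderOf g = 8) (hy : orderOf y = 3) :
    ∃ K : Subgroup G, K.Normal ∧ K ≠ ⊥ ∧ IsPGroup 13 K := by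
  by_contra hne
  obtain ⟨N, ⟨hNn, hN⟩, hmax⟩ := (Finite.exists_le_maximal
    (p := fun L : Subgroup G => L.Normal ∧ ¬ 13 ∣ Nat.card L) (a := ⊥)
    ⟨inferInstance, by simp⟩).imp fun _ h => h.2
  have : Nontrivial (G ⧸ N) := QuotientGroup.nontrivial_iff.2 fun e =>
    hN (hx ▸ N.orderOf_dvd_natCard (e ▸ mem_top x))
  obtain ⟨p, V, hp, hVn, -, hV1, -, hpV, -⟩ :=
    H2.exists_elementaryAbelian_normal_le (⊤ : Subgroup (G ⧸ N)) top_ne_bot
  have := Fact.mk hp
  set M := V.comap (QuotientGroup.mk' N)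
  have hM : Nat.card M = Nat.card V * Nat.card N := by
    rw [mul_comm]
    exact QuotientGroup.card_preimage_mk N V
  obtain ⟨k, hk⟩ := hpV.exists_card_eq
  obtain rfl : p = 13 := by
    by_contra e
    have := hmax (y := M) ⟨inferInstance, fun e' => by
      rw [hM, hk] at e'
      exact (fact13.out.dvd_mul.1 e').elim (fun e2 => e ((Nat.prime_dvd_prime_iff_eq fact13.out hp).1
        (fact13.out.dvd_of_dvd_pow e2)).symm) hN⟩ (QuotientGroup.le_comap_mk' N V)
    exact hV1 (by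
      rw [← map_comap_eq_self_of_surjective (QuotientGroup.mk'_surjective N) V,
        Subgroup.map_eq_bot_iff, QuotientGroup.ker_mk']
      exact this)
  have hk0 : k ≠ 0 := fun e => hV1 (card_eq_one.1 (by rw [hk, e, pow_zero]))
  have hN1 : N ≠ ⊥ := fun e => hne ⟨M, inferInstance,
    fun e' => hk0 (by
      rw [e', card_bot, hk] at hM
      exact (Nat.pow_eq_one.1 (Nat.eq_one_of_mul_eq_one_right hM.symm)).resolve_left (by norm_num)),
    IsPGroup.of_card (n := k) (by rw [hM, hk, e, card_bot, mul_one])⟩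
  obtain ⟨f, hfM, hf⟩ := exo (H := M) fact13.out (by
    rw [hM, hk]; exact (dvd_pow_self 13 hk0).mul_right _)
  have hP : IsPGroup 13 (zpowers f) := IsPGroup.of_card (n := 1) (by rw [Nat.card_zpowers, hf]; rfl)
  obtain ⟨P, hfP⟩ := hP.exists_le_sylow
  have hPc : Nat.card (P : Subgroup G) = 13 := by
    have := (free (T := P) hN1 fun a ha a1 b hb b1 e => a1 (h.eq_one (h.ord13 P.isPGroup' hb b1)
      e.symm fun e' => hN (e'.trans (N.orderOf_dvd_natCard ha)))).isCyclic_of_isPGroup (p := 13)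
      (by norm_num) (P := ⊤) (P.isPGroup'.to_subgroup ⊤)
    have : IsCyclic (P : Subgroup G) := isCyclic_of_surjective _ topEquiv.surjective
    obtain ⟨u, hu⟩ := IsCyclic.exists_ofOrder_eq_natCard (α := (P : Subgroup G))
    rw [← hu, ← orderOf_coe]
    refine h.ord13 P.isPGroup' u.2 fun e => ?_
    have := card_le_of_le hfP
    rw [← hu, ← orderOf_coe, e, orderOf_one, Nat.card_zpowers, hf] at this
    omega
  have hPf : (P : Subgroup G) = zpowers f :=
    (eq_of_le_of_card_ge hfP (by rw [hPc, Nat.card_zpowers, hf])).symm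
  have hF := Sylow.normalizer_sup_eq_top' P (N := M) (by rw [hPf]; exact zpowers_le.2 hfM)
  rw [← Sylow.coe_coe, hPf] at hF
  have hV : V = zpowers (f : G ⧸ N) := by
    refine (eq_of_le_of_card_ge (zpowers_le.2 (show (f : G ⧸ N) ∈ V from hfM)) ?_).symm
    have e1 := P.pow_dvd_card_of_pow_dvd_card
      ((by rw [hM, hk]; exact dvd_mul_right _ _ : 13 ^ k ∣ Nat.card M).trans (card_subgroup_dvd_card M))
    rw [hPc] at e1
    rw [hk, Nat.card_zpowers, orderOf_eq_prime (p := 13) (by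
      rw [← QuotientGroup.mk_pow, ← hf, pow_orderOf_eq_one, QuotientGroup.mk_one]) fun e =>
        hN (hf ▸ N.orderOf_dvd_natCard ((QuotientGroup.eq_one_iff f).1 e))]
    exact Nat.le_of_dvd (by norm_num) e1
  refine h.two_frob hN hN1 hf hg hy fun a => ?_
  obtain ⟨e, he, m, hm, rfl⟩ := mem_sup_of_normal_right.1 (hF ▸ mem_top a)
  obtain ⟨j, hj⟩ := mem_zpowers_iff.1 (hV ▸ hm : (m : G ⧸ N) ∈ zpowers (f : G ⧸ N))
  refine ⟨e * f ^ j, mul_mem he (le_normalizer (zpow_mem (mem_zpowers f) j)), ?_⟩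
  rw [mul_inv_rev, mul_assoc, inv_mul_cancel_left]
  exact QuotientGroup.eq.1 hj

end H40.Crit
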