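/- Tower DG (S3579): job NA2. -/
import Cfsg.Agent.H20.DGSpec

set_option autoImplicit false

namespace H40.DGNA2

open Subgroup MulAction Cfsg H98 H20.DG

universe u v

variable {G : Type u} {Ω : Type v} [Group G] [Finite G] [Finite Ω] [MulAction G Ω]

omit [Finite G] in
theorem dvd_ncard {p : ℕ} (hp : p.Prime) {P : Subgroup G} (hP : IsPGroup p P) {D : Set Ω}
    (h1 : ∀ g ∈ P, ∀ b ∈ D, g • b ∈ D) (h2 : ∀ b ∈ D, ∃ g ∈ P, g • b ≠ b) : p ∣ D.ncard := by
  have := Fact.mk hp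
  let S : SubMulAction P Ω := ⟨D, fun g b hb => h1 g g.2 b hb⟩
  have h := hP.card_modEq_card_fixedPoints S
  have : IsEmpty (fixedPoints P S) := ⟨fun ⟨b, hb⟩ => by
    obtain ⟨g, hg, e⟩ := h2 b b.2
    exact e (congrArg Subtype.val (hb ⟨g, hg⟩))⟩
  rw [Nat.card_of_isEmpty (α := fixedPoints P S)] at h
  exact (Nat.modEq_zero_iff_dvd.1 h :)

omit [Finite Ω] in
theorem comm_mem {r s k : ℕ} (hr : r.Prime) (hs : s.Prime) (hn : ¬ s ∣ r - 1) {A B : Subgroup G}
    (hA : El r A) (hi : B.relIndex A = r) {w : G} (hk : w ^ s ^ k = 1)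
    (hw : w ∈ normalizer (A : Set G)) (hU : cj w (A ⊓ B) = A ⊓ B) {x : G} (hx : x ∈ A) :
    x⁻¹ * (w * x * w⁻¹) ∈ B := by
  have := Fact.mk hr
  have : (B.subgroupOf A).Normal := ⟨fun n hn g => by
    have e : g * n = n * g := Subtype.ext (hA.1 _ g.2 _ n.2)
    rwa [e, mul_inv_cancel_right]⟩
  let α : MulAut A := normalizerMonoidHom A ⟨w, hw⟩
  have he : (B.subgroupOf A).map (α : A →* A) = B.subgroupOf A := by
    refine eq_of_le_of_card_ge ?_ (card_map_of_injective α.injective).ge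
    rintro _ ⟨y, hy, rfl⟩
    exact (hU.le (conj_mem_cj (mem_inf.2 ⟨y.2, hy⟩))).2
  let β : MulAut (A ⧸ B.subgroupOf A) := QuotientGroup.congr _ _ α he
  have hb : ∀ (n : ℕ) (y : A), (β ^ n) (y : A ⧸ B.subgroupOf A) = ((α ^ n) y : A) := by
    intro n y
    induction n with
    | zero => rfl
    | succ n ih => rw [pow_succ', MulAut.mul_apply, ih, pow_succ', MulAut.mul_apply]; rfl
  have a1 : α ^ s ^ k = 1 := by
    rw [← map_pow, show (⟨w, hw⟩ : normalizer (A : Set G)) ^ s ^ k = 1 from Subtype.ext hk, map_one]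
  have b1 : β ^ s ^ k = 1 := MulEquiv.ext fun q => by
    obtain ⟨y, rfl⟩ := QuotientGroup.mk_surjective q
    rw [hb, a1]
    rfl
  have hc : Nat.card (A ⧸ B.subgroupOf A) = r := hi
  have := isCyclic_of_prime_card hc
  have b2 : orderOf β ∣ r - 1 := by
    rw [← Nat.totient_prime hr, ← hc, ← IsCyclic.card_mulAut]
    exact orderOf_dvd_natCard β
  have b3 : β = 1 := orderOf_eq_one_iff.1 (Nat.eq_one_of_dvd_coprimes
    (Nat.Coprime.pow_left k ((Nat.Prime.coprime_iff_not_dvd hs).2 hn))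
    (orderOf_dvd_of_pow_eq_one b1) b2)
  have := hb 1 ⟨x, hx⟩
  rw [b3, one_pow, pow_one] at this
  have h2 : (⟨x, hx⟩ : A)⁻¹ * α ⟨x, hx⟩ ∈ B.subgroupOf A := QuotientGroup.eq.1 this
  exact h2

theorem jobNA2 : JobNA2.{u, v} := by
  intro G Ω _ _ _ _ r s A h hA hO hs hc w k hk hw hU
  refine h.faith w fun a => by_contra fun ha => ?_
  let D : Set Ω := {b | A ⊓ stabilizer G b = A ⊓ stabilizer G a ∧ w • b ≠ b}
  have cw : ∀ b : Ω, A ⊓ stabilizer G (w • b) = A ⊓ stabilizer G b := fun b => by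
    have := hU (A ⊓ stabilizer G b) ⟨b, rfl⟩
    rwa [cj_inf, cj_stab, cj_eq_self hw] at this
  have cA : ∀ x ∈ A, ∀ b : Ω, A ⊓ stabilizer G (x • b) = A ⊓ stabilizer G b := fun x hx b => by
    ext g
    simp only [mem_inf, mem_stabilizer_iff]
    refine and_congr_right fun hg => ?_
    rw [← mul_smul, hA.1 g hg x hx, mul_smul, smul_left_cancel_iff]
  have d1 : r ∣ D.ncard := dvd_ncard h.pp hA.isPGroup (fun x hx b hb => ⟨(cA x hx b).trans hb.1,
    fun e => hb.2 (by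
      have h1 : (x⁻¹ * (w * x * w⁻¹)) • w • b = w • b :=
        comm_mem h.pp h.qq hs hA (hO (w • b)) hk hw (hU (A ⊓ stabilizer G (w • b)) ⟨w • b, rfl⟩) hx
      simp only [mul_smul, inv_smul_smul] at h1
      rw [← h1, e, inv_smul_smul])⟩) fun b _ => by
    by_contra k
    push Not at k
    exact h.pp.ne_one ((hO b).symm.trans (relIndex_eq_one.2 k))
  have d2 : s ∣ D.ncard := dvd_ncard h.qq (isPGroup_zpowers hk) (fun g hg b hb => by
    obtain ⟨n, rfl⟩ := mem_powers_iff_mem_zpowers.2 hg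
    induction n with
    | zero => simpa using hb
    | succ n ih =>
      have := ih (npow_mem_zpowers w n)
      beta_reduce at this ⊢
      rw [pow_succ', mul_smul]
      exact ⟨(cw _).trans this.1, fun e => this.2 (smul_left_cancel w e)⟩)
    fun b hb => ⟨w, mem_zpowers w, hb.2⟩
  have d3 := Nat.le_of_dvd ((Set.ncard_pos (Set.toFinite D)).2 ⟨a, rfl, ha⟩)
    (((Nat.coprime_primes h.pp h.qq).2 h.ne).mul_dvd_of_dvd_of_dvd d1 d2)
  have d4 : D.ncard ≤ 2 * r := (Set.ncard_le_ncard (fun b hb => hb.1) (Set.toFinite _)).trans (hc a)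
  have := h.symm.three
  have := h.three
  nlinarith

end H40.DGNA2
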