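/- S3275, chapter U0, section C: job KB1. -/
import Cfsg.Agent.H98.DP0CSpec

set_option autoImplicit false

namespace H40.DP0KB1

open Subgroup Cfsg H98 H48.DP H57.DPC H48.DP2 H98.DP0C

universe u

variable {X : Type u} [Group X] [Finite X]

theorem step {D : Subgroup X} {x : X} (hD : IsElementaryAbelian 3 D) (hx : x ^ 3 = 1)
    (hxD : x ∈ Ce D) (hn : x ∉ D) :
    IsElementaryAbelian 3 (D ⊔ zpowers x) ∧ 3 * Nat.card D ≤ Nat.card ↥(D ⊔ zpowers x) := by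
  have : Fact (Nat.Prime 3) := ⟨Nat.prime_three⟩
  have h1 := H46.elem_sup hD (H87.KM.elem_zpowers hx) (zpowers_le.2 hxD)
  exact ⟨h1, H3.mul_card_le_of_lt' (p := 3) (H87.KM.pgrp Nat.prime_three h1)
    (lt_of_le_of_ne le_sup_left fun e => hn (e ▸ mem_sup_right (mem_zpowers _)))⟩

omit [Finite X] in
theorem ord3 {x : X} (hx : x ^ 3 = 1) (h1 : x ≠ 1) : orderOf x = 3 :=
  haveI : Fact (Nat.Prime 3) := ⟨Nat.prime_three⟩
  orderOf_eq_prime hx h1

theorem back {x w : X} (x3 : x ^ 3 = 1) (hw : w ∈ zpowers x) (w1 : w ≠ 1) : x ∈ zpowers w := by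
  have h3 : w ^ 3 = 1 := (H87.KM.elem_zpowers x3).2 w hw
  have x1 : x ≠ 1 := fun e => w1 (by simpa [e] using hw)
  have e : zpowers w = zpowers x := eq_of_le_of_card_ge (zpowers_le.2 hw) (by
    rw [Nat.card_zpowers, Nat.card_zpowers, ord3 h3 w1, ord3 x3 x1])
  exact e ▸ mem_zpowers x

omit [Finite X] in
theorem cen_zp {x w : X} (h : Commute w x) : x ∈ Ce (zpowers w) := by
  rintro _ ⟨n, rfl⟩
  exact (h.zpow_left n).eq

theorem jobKB1 : JobKB1.{u} := by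
  intro jP jL nc nz X _ _ K S y z h hK hS yS zS hn
  obtain ⟨cm, -⟩ := h.cm K hK
  have y3 : y ^ 3 = 1 := h.y3 ▸ pow_orderOf_eq_one y
  have z3 : z ^ 3 = 1 := h.z3 ▸ pow_orderOf_eq_one z
  have cyz : Commute y z := h.yz
  have zK := (nc X K z h.toSec hK h.z3).1
  have yK := (nc X K y h.toSec hK h.y3).1
  have zC := nz X K y z h hK
  obtain ⟨hE, cE⟩ := step (H87.KM.elem_zpowers z3) y3 (cen_zp cyz.symm) h.ny
  rw [Nat.card_zpowers, h.z3, sup_comm] at cE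
  rw [sup_comm] at hE
  have EK : zpowers y ⊔ zpowers z ≤ No K := sup_le (zpowers_le.2 yK) (zpowers_le.2 zK)
  have SK : S ≤ No K := fun g hg => cm.two g trivial (hS.to_le (zpowers_le.2 hg))
  obtain ⟨-, hp⟩ := jP X K cm.sm.cen cm.inn
  obtain ⟨e1, -, e2, -, e3⟩ := hp _ EK
  obtain ⟨-, s1, -, s2, -⟩ := hp S SK
  have c3 := (cm.sm.f4 (pr K (zpowers y ⊔ zpowers z)) (pr K S) inf_le_left inf_le_left (e2 3 hE) (s1 2 hS)
    (e3 S SK (sup_le (zpowers_le.2 yS) (zpowers_le.2 zS)))).resolve_left fun e => hn (s2 e)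
  have hne : (zpowers y ⊔ zpowers z) ⊓ Ce K ≠ ⊥ := fun e => by
    rw [e, card_bot] at e1
    omega
  obtain ⟨⟨e, eE, eC⟩, e0⟩ := ne_bot_iff_exists_ne_one.1 hne
  have e0' : e ≠ 1 := fun k => e0 (Subtype.ext k)
  have h27 := (nc X K e h.toSec hK (ord3 (hE.2 e eE) e0')).2 eC
  obtain ⟨i, hi, -⟩ := (nf3 h.y3 h.z3 h.yz eE).resolve_left fun k =>
    zC (zpowers_le.2 eC (back z3 k e0'))
  have wC : y * z ^ i ∈ Ce K := zpowers_le.2 eC hi
  refine ⟨h27, ?_, i, wC⟩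
  have wE : y * z ^ i ∈ zpowers y ⊔ zpowers z :=
    mul_mem (mem_sup_left (mem_zpowers y)) (mem_sup_right (npow_mem_zpowers z i))
  have wz : y * z ^ i ∉ zpowers z := fun k =>
    h.ny ((mul_mem_cancel_right (npow_mem_zpowers z i)).1 k)
  have cwz : Commute (y * z ^ i) z := cyz.mul_left ((Commute.refl z).pow_left i)
  have w3 := hE.2 _ wE
  generalize y * z ^ i = w at wC wE wz cwz w3
  have w1 : w ≠ 1 := fun k => wz (k ▸ one_mem _)
  obtain ⟨l, lK, cC⟩ := cm.inn z zK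
  obtain ⟨c, rfl⟩ : ∃ c, z = l * c := ⟨l⁻¹ * z, by group⟩
  rw [inv_mul_cancel_left] at cC
  have clc : Commute l c := cC l lK
  have clw : Commute l w := wC l lK
  have l1 : l ≠ 1 := fun k => zC (by simpa [k] using cC)
  have lC : l ∉ Ce K := fun k => l1 (mem_bot.1 (cm.sm.cen ▸ (⟨lK, k⟩ : l ∈ K ⊓ Ce K)))
  have e3' : l ^ 3 = (c ^ 3)⁻¹ := eq_inv_of_mul_eq_one_left (by rw [← clc.mul_pow, z3])
  have l3 : l ^ 3 = 1 := mem_bot.1 (cm.sm.cen ▸ (⟨pow_mem lK 3,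
    e3' ▸ (Ce K).inv_mem ((Ce K).pow_mem cC 3)⟩ : l ^ 3 ∈ K ⊓ Ce K))
  have c3' : c ^ 3 = 1 := inv_eq_one.1 (e3' ▸ l3)
  have cwc : Commute w c := by
    have := clw.symm.inv_right.mul_right cwz
    rwa [inv_mul_cancel_left] at this
  have cw : c ∈ zpowers w := by
    by_contra k
    obtain ⟨a1, a2⟩ := step (H87.KM.elem_zpowers w3) c3' (cen_zp cwc) k
    have aC : zpowers w ⊔ zpowers c ≤ Ce K := sup_le (zpowers_le.2 wC) (zpowers_le.2 cC)
    obtain ⟨b1, b2⟩ := step a1 l3 (fun g hg => (aC hg l lK).symm) fun k' => lC (aC k')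
    rw [Nat.card_zpowers, ord3 w3 w1] at a2
    exact h.rk _ ⟨b1, by omega⟩
  obtain ⟨t, tK, ht⟩ := (jL X K h27).cj3 l lK l⁻¹ (inv_mem lK) (ord3 l3 l1)
    (by rw [orderOf_inv]; exact ord3 l3 l1)
  have et : t * (l * c) * t⁻¹ = (l * c)⁻¹ * c ^ 2 := by
    have ctc : Commute t c := cC t tK
    calc t * (l * c) * t⁻¹ = (t * l * t⁻¹) * (t * c * t⁻¹) := by group
      _ = l⁻¹ * c := by rw [ht, ctc.eq, mul_inv_cancel_right]
      _ = _ := by rw [clc.eq, mul_inv_rev, pow_two]; group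
  have c2 : c ^ 2 ∈ zpowers (l * c) := by
    have := h.nf t (et ▸ mul_mem (mem_sup_right (inv_mem (mem_zpowers _)))
      (pow_mem (zpowers_le.2 wE cw) 2))
    rw [et] at this
    exact (mul_mem_cancel_left (inv_mem (mem_zpowers _))).1 this
  have cz : c ∈ zpowers (l * c) := by
    have := pow_mem c2 2
    rwa [← pow_mul, show 2 * 2 = 3 + 1 from rfl, pow_succ, c3', one_mul] at this
  by_cases c1 : c = 1
  · simpa [c1] using lK
  · exact absurd (zpowers_le.2 cz (back w3 cw c1)) wz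

end H40.DP0KB1
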