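/- The tower E7T: the final step for large socles, and the nine cases. -/
import Cfsg.Agent.H40.E7TSpec
import Cfsg.Agent.H40.E7Asm
import Cfsg.Agent.H61.PSLMin
import Cfsg.Agent.S2602
import Cfsg.Agent.S2930

set_option autoImplicit false

namespace H40.E7T

open Module Cfsg MulAction H40.E7S

universe u

theorem card_le2 {W : Type*} [AddCommGroup W] [Finite W] {G : Type*} [Group G] [Finite G]
    [DistribMulAction G W] {n : ℕ} (hW : Nat.card W = 2 ^ n)
    (h0 : ∀ w : W, (∀ g : G, g • w = w) → w = 0) {H : Subgroup G} (hH : IsCoatom H)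
    (S : Subgroup H) [S.Normal] (hS : S.index ∣ 4) {v : W} (hv : v ≠ 0)
    (h : ∀ s ∈ S, s • v = v) : Nat.card G ≤ 2 ^ n * Nat.card H := by
  obtain ⟨T⟩ : Nonempty (Sylow 2 H) := inferInstance
  have h1 : 2 ∣ Nat.card (fixedPoints S W) := by
    obtain ⟨k, -, hk⟩ := (Nat.dvd_prime_pow Nat.prime_two).1
      (hW ▸ (FixedPoints.addSubgroup S W).card_addSubgroup_dvd_card)
    refine (dvd_pow_self 2 ?_).trans hk.symm.dvd
    rintro rfl
    exact hv ((AddSubgroup.card_eq_one.1 hk).le (show v ∈ FixedPoints.addSubgroup S W from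
      fun s => h s s.2))
  obtain ⟨w, h2, h3⟩ := T.isPGroup'.exists_fixed_point_of_prime_dvd_card_of_fixed_point _ h1
    (a := ⟨0, fun s => smul_zero s⟩) fun t => Subtype.ext (smul_zero t.1)
  have h4 : (stabilizer H w.1).index ∣ 2 ^ 2 :=
    (Subgroup.index_dvd_of_le fun s hs => w.2 ⟨s, hs⟩).trans hS
  have h5 : stabilizer H w.1 = ⊤ := Subgroup.index_eq_one.1 <|
    Nat.Coprime.eq_one_of_dvd (Nat.Coprime.pow_right 2 (Nat.prime_two.coprime_iff_not_dvd.2
      fun h5 => T.not_dvd_index (h5.trans (Subgroup.index_dvd_of_le fun t ht =>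
        congrArg Subtype.val (h2 ⟨t, ht⟩)))).symm) h4
  rcases (hH.le_iff (x := stabilizer G w.1)).1 fun g hg => h5.ge (Subgroup.mem_top ⟨g, hg⟩) with
    h7 | h7
  · exact absurd (Subtype.ext (h0 _ fun g => h7.ge (Subgroup.mem_top g)).symm) h3
  · rw [← (stabilizer G w.1).index_mul_card, index_stabilizer, ← hW, h7]
    exact Nat.mul_le_mul_right _ (Set.ncard_le_card _)

/-- A group with `|Out|` dividing four that always fixes a vector is not the socle of a maximal
subgroup. -/
theorem isEmpty_of_fix2 (hR : JobRep) {L : Type*} [Group L] [IsSimpleGroup L]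
    (hO : Nat.card (Out L) ∣ 4) (hc : Nat.card L ≤ 2 ^ 70) (hp : ¬ (Nat.card L).Prime)
    (hf : ∀ ρ : Representation (ZMod 2) L V56, Good ρ → HasFix ρ)
    {H : Subgroup (Lie.chevE7.group (ZMod 2))} (hH : IsCoatom H) :
    IsEmpty (generalizedFittingSubgroup H ≃* L) := by
  obtain ⟨ρ, h1, h2⟩ := hR
  have h0 := Agent.S1064.result (ZMod.card 2)
  norm_num at h0
  have : Finite (Lie.chevE7.group (ZMod 2)) := Nat.finite_of_card_ne_zero (by omega)
  have hL : ¬ IsMulCommutative L := fun h => hp (by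
    let : CommGroup L := { mul_comm := h.is_comm.comm }
    exact IsSimpleGroup.prime_card)
  refine ⟨fun e => ?_⟩
  have h3 := (index_dvd_out Agent.S1265.result e (H87.center_eq_bot hL)).trans hO
  have h4 : ¬ Nat.card (Lie.chevE7.group (ZMod 2)) ≤ 2 ^ 56 * Nat.card H := by
    have := Nat.mul_le_mul (Nat.le_of_dvd (by decide) h3) ((Nat.card_congr e.toEquiv).trans_le hc)
    rw [Subgroup.index_mul_card] at this
    omega
  rcases hf _ (h1.comp ((H.subtype.comp (Subgroup.subtype _)).comp e.symm.toMonoidHom)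
    ((H.subtype_injective.comp (Subgroup.subtype_injective _)).comp e.symm.injective)) with
    ⟨v, hv, h⟩ | ⟨f, hv, h⟩
  · let := DistribMulAction.compHom V56 ρ
    refine h4 (card_le2 (n := 56) (by simp) (fun w hw => by_contra fun h0 =>
      h2 (.inl ⟨w, h0, hw⟩)) hH _ h3 hv fun s hs => ?_)
    change ρ s v = v
    simpa using h (e ⟨s, hs⟩)
  · let := DistribMulAction.compHom (Dual (ZMod 2) V56) ρ.dual
    have : Finite (Dual (ZMod 2) V56) := Module.finite_of_finite (ZMod 2)
    refine h4 (card_le2 (n := 56) ?_ (fun w hw => by_contra fun h0 => h2 (.inr ⟨w, h0, fun g v =>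
      ?_⟩)) hH _ h3 hv fun s hs => LinearMap.ext fun v => ?_)
    · rw [Module.natCard_eq_pow_finrank (K := ZMod 2), Subspace.dual_finrank_eq]; simp
    · exact inv_inv g ▸ LinearMap.congr_fun (hw g⁻¹) v
    · change f (ρ (s : Lie.chevE7.group (ZMod 2))⁻¹ v) = f v
      simpa using h (e ⟨s, hs⟩)⁻¹ v

variable {F : Type u} [Field F] [Fintype F] {H : Subgroup (Lie.chevE7.group (ZMod 2))}

theorem case19 (hR : JobRep) (hM : JobModU.{u}) (hC : JobC19.{u}) (hF : Fintype.card F = 19)
    (hH : IsCoatom H) :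
    IsEmpty (generalizedFittingSubgroup H ≃* Matrix.ProjectiveSpecialLinearGroup (Fin 2) F) := by
  have := H61.isSimpleGroup_psl (F := F) (by rw [Nat.card_eq_fintype_card, hF]; decide)
  have h1 := Agent.S0243.result hF 2 le_rfl
  have h2 : Nat.card (Matrix.ProjectiveSpecialLinearGroup (Fin 2) F) = 3420 := by
    simp [Fin.prod_univ_two] at h1; omega
  have : Fact (Nat.Prime 19) := ⟨by norm_num⟩
  obtain ⟨φ, h3, -, h4⟩ := Agent.S2602.result (p := 19) (f := 1) le_rfl hF (by decide)
  exact isEmpty_of_fix hR (by rw [card_of_hom h3, h4]; simp) (by omega) (by rw [h2]; norm_num)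
    (fun ρ h => (hM _ ρ h).1 (hC F hF)) hH

theorem case27 (hR : JobRep) (hM : JobM27.{u}) (hC : JobC27.{u}) (hF : Fintype.card F = 27)
    (hH : IsCoatom H) :
    IsEmpty (generalizedFittingSubgroup H ≃* Matrix.ProjectiveSpecialLinearGroup (Fin 2) F) := by
  have := H61.isSimpleGroup_psl (F := F) (by rw [Nat.card_eq_fintype_card, hF]; decide)
  have h1 := Agent.S0243.result hF 2 le_rfl
  have h2 : Nat.card (Matrix.ProjectiveSpecialLinearGroup (Fin 2) F) = 9828 := by
    simp [Fin.prod_univ_two] at h1; omega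
  obtain ⟨φ, h3, -, h4⟩ := Agent.S2602.result (p := 3) (f := 3) (by decide) hF (by decide)
  exact isEmpty_of_fix hR (by rw [card_of_hom h3, h4]; simp) (by omega) (by rw [h2]; norm_num)
    (fun ρ h => hM _ ρ h (hC F hF)) hH

theorem caseL4 (hR : JobRep) (hM : JobModU.{0}) (hC : JobCL4) (hH : IsCoatom H) :
    IsEmpty (generalizedFittingSubgroup H ≃*
      Matrix.ProjectiveSpecialLinearGroup (Fin 4) (ZMod 3)) := by
  have := Agent.S0249.result (F := ZMod 3) 4 (by decide)
  have h1 := Agent.S0243.result (ZMod.card 3) 4 (by decide)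
  have h2 : Nat.card (Matrix.ProjectiveSpecialLinearGroup (Fin 4) (ZMod 3)) = 6065280 := by
    simp only [Fin.prod_univ_four] at h1
    generalize Nat.card (Matrix.ProjectiveSpecialLinearGroup (Fin 4) (ZMod 3)) = m at h1
    simp at h1; omega
  obtain ⟨φ, h3, -, h4⟩ := Agent.S2601.result (p := 3) (f := 1) (n := 4) le_rfl (ZMod.card 3)
    (by decide)
  exact isEmpty_of_fix2 hR (by rw [card_of_hom h3, h4]; simp) (by omega) (by rw [h2]; norm_num)
    (fun ρ h => (hM _ ρ h).1 hC) hH

theorem caseA (hR : JobRep) (hM : JobMA.{0}) (hC : JobCA) (hH : IsCoatom H) :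
    IsEmpty (generalizedFittingSubgroup H ≃* alternatingGroup (Fin 13)) := by
  have := alternatingGroup.isSimpleGroup (α := Fin 13) (by simp)
  have h1 := two_mul_nat_card_alternatingGroup (α := Fin 13)
  have h2 : Nat.card (alternatingGroup (Fin 13)) = 3113510400 := by
    rw [Nat.card_perm, Nat.card_fin, show Nat.factorial 13 = 6227020800 from rfl] at h1
    omega
  exact isEmpty_of_fix2 hR (Agent.S2930.card_out (by decide)) (by omega) (by rw [h2]; norm_num)
    (fun ρ h => hM _ ρ h hC) hH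

theorem caseG8 (hR : JobRep9) (hM : JobMG8.{u}) (hC : JobCG8.{u}) (hF : Fintype.card F = 8) :
    IsEmpty (generalizedFittingSubgroup H ≃* Lie.chevG2.group F) := by
  obtain ⟨ρ, h1, h2⟩ := hR
  refine ⟨fun e => ?_⟩
  have hi := (H.subtype_injective.comp (Subgroup.subtype_injective _)).comp e.symm.injective
  let f := (H.subtype.comp (Subgroup.subtype _)).comp e.symm.toMonoidHom
  refine hM _ _ (h1.comp f hi) (fun h hh hk => h2 (f h) ?_ ?_) (hC F hF)
  · exact (orderOf_injective f hi h).trans hh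
  · rw [← map_pow]; exact hk

theorem main (hR : JobRep) (hU : JobModU.{0}) (hA : JobMA.{0}) (hO : JobMO.{0})
    (hG : JobMG3.{0}) (hJ : JobMJ.{0}) (cL : JobCL4) (cO : JobCO) (cG : JobCG3) (cA : JobCA)
    (cJ : JobCJ) (hH : IsCoatom H) :
    IsEmpty (generalizedFittingSubgroup H ≃* Matrix.ProjectiveSpecialLinearGroup (Fin 4) (ZMod 3)) ∧
    IsEmpty (generalizedFittingSubgroup H ≃* Omega (ZMod 3) (quadFormOdd 3 (ZMod 3))) ∧
    IsEmpty (generalizedFittingSubgroup H ≃* Lie.chevG2.group (ZMod 3)) ∧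
    IsEmpty (generalizedFittingSubgroup H ≃* alternatingGroup (Fin 13)) ∧
    ¬ Spor.IsoJ2 (generalizedFittingSubgroup H) :=
  ⟨caseL4 hR hU cL hH, isEmpty_of_not_good hR (fun ρ h => hO _ ρ h cO) H,
    isEmpty_of_not_good hR (fun ρ h => hG _ ρ h cG) H, caseA hR hA cA hH,
    not_nonempty_iff.2 (isEmpty_of_not_good hR (fun ρ h => hJ _ ρ h cJ) H)⟩

theorem caseU4 (hR : JobRep) (hM : JobMU.{u}) (hC : JobCU4.{u}) (hF : Fintype.card F = 9) :
    IsEmpty (generalizedFittingSubgroup H ≃* PSU 4 F 3) :=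
  isEmpty_of_not_good hR (fun ρ h => hM _ ρ h (hC F hF)) H

end H40.E7T
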