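/- Tower E8G: the group theory and the assembly. -/
import Cfsg.Agent.H40.E8GSpec
import Cfsg.Agent.H40.E8FGrp
import Cfsg.Agent.H95.FiS0
import Cfsg.Agent.H65.S62M
import Cfsg.Agent.S0814
import Cfsg.Agent.S2126
import Cfsg.Agent.S1162
import Cfsg.Agent.S1163
import Cfsg.Agent.S0296

set_option autoImplicit false

namespace H40.E8G

open Cfsg Cfsg.Lie H63 H64 H65 H46 H14.E8 Matrix Module H40.E8F
open scoped MatrixGroups

universe u

theorem card_aut {S : Type*} [Group S] (h : Subgroup.center S = ⊥) :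
    Nat.card (MulAut S) = Nat.card (Out S) * Nat.card S := by
  rw [Subgroup.card_eq_card_quotient_mul_card_subgroup (Inn S),
    ← Nat.card_congr (MonoidHom.ofInjective ((injective_iff_map_eq_one _).2 fun g hg => h.le
      (Subgroup.mem_center_iff.2 fun x =>
        (mul_inv_eq_iff_eq_mul.1 (DFunLike.congr_fun hg x)).symm))).toEquiv]

theorem jobGrp2 : JobGrp2.{u} := by
  intro G _ _ H S _ _ ⟨a, b, hab⟩ hA ⟨e⟩
  have : Finite S := Finite.of_equiv _ e.toEquiv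
  have h1 : Subgroup.center S = ⊥ := H87.center_eq_bot fun h => hab (h.1.1 a b)
  rw [card_aut h1] at hA
  have h8 := (E7S.index_dvd_out Agent.S1265.result e h1).trans
    (Nat.dvd_of_mul_dvd_mul_right Nat.card_pos hA)
  let ι : S →* G := (H.subtype.comp (Subgroup.subtype _)).comp e.symm.toMonoidHom
  have hι : Function.Injective ι :=
    (H.subtype_injective.comp (Subgroup.subtype_injective _)).comp e.symm.injective
  have h9 : ∀ x : H, (x : G) ∈ ι.range ↔ x ∈ generalizedFittingSubgroup H := fun x =>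
    ⟨fun ⟨g, hg⟩ => by
      rw [show x = (e.symm g).1 from Subtype.ext hg.symm]
      exact (e.symm g).2, fun hx => ⟨e ⟨x, hx⟩, by simp [ι]⟩⟩
  have h2 : ι.range ≤ H := by
    rintro _ ⟨g, rfl⟩
    exact (e.symm g).1.2
  have h3 : ∀ h ∈ H, ∀ a ∈ ι.range, h * a * h⁻¹ ∈ ι.range := fun h hh a ha =>
    (h9 (⟨h, hh⟩ * ⟨a, h2 ha⟩ * (⟨h, hh⟩ : H)⁻¹)).2
      (Subgroup.Normal.conj_mem inferInstance _ ((h9 ⟨a, h2 ha⟩).1 ha) _)
  refine ⟨ι, hι, h2, h3, ?_, fun Z hZ hc hn => ?_⟩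
  · rw [← (generalizedFittingSubgroup H).index_mul_card, Nat.card_congr e.toEquiv]
    exact Nat.mul_dvd_mul_right h8 _
  · have h4 : (Z.comap ι).Normal := ⟨fun x hx g => by
      change ι _ ∈ Z
      rw [map_mul, map_mul, map_inv]
      exact hn _ (h2 ⟨g, rfl⟩) _ hx⟩
    have h5 : Z.comap ι = ⊥ := h4.eq_bot_or_eq_top.resolve_right fun h => hab (hι (by
      rw [map_mul, map_mul]
      exact hc _ (h.ge (Subgroup.mem_top a)) _ (h.ge (Subgroup.mem_top b))))
    have h6 : ∀ z ∈ Z, z ∈ ι.range → z = 1 := by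
      rintro _ hz ⟨g, rfl⟩
      rw [show g = 1 from h5.le hz, map_one]
    refine eq_bot_iff.2 fun z hz => h6 z hz ((h9 ⟨z, hZ hz⟩).2 (Agent.S1265.result fun x hx => ?_))
    have h7 := (h9 x).2 hx
    have := h6 (x * z * (x : G)⁻¹ * z⁻¹) (mul_mem (hn _ x.2 _ hz) (inv_mem hz)) (by
      rw [mul_assoc, mul_assoc, ← mul_assoc z]
      exact mul_mem h7 (h3 _ (hZ hz) _ (inv_mem h7)))
    exact Subtype.ext (mul_inv_eq_iff_eq_mul.1 (mul_inv_eq_one.1 this))

theorem exists_fix {k V G : Type*} [Field k] [CharP k 3] [AddCommGroup V] [Module k V] [Group G]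
    (ρ : G →* End k V) {S : Subgroup G} {t : G} (hn : ∀ a ∈ S, t⁻¹ * a * t ∈ S) (ht : t ^ 3 ∈ S)
    {v : V} (hv : v ≠ 0) (h : ∀ g ∈ S, ρ g v = v) :
    ∃ w : V, w ≠ 0 ∧ ρ t w = w ∧ ∀ g ∈ S, ρ g w = w := by
  have h1 : ∀ {v : V}, (∀ g ∈ S, ρ g v = v) → ∀ g ∈ S, ρ g (ρ t v - v) = ρ t v - v :=
    fun {v} h g hg => by
      rw [map_sub, h g hg, ← End.mul_apply, ← map_mul, ← mul_inv_cancel_left t (g * t), map_mul,
        End.mul_apply, ← mul_assoc, h _ (hn g hg)]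
  by_cases h2 : ρ t v - v = 0
  · exact ⟨v, hv, sub_eq_zero.1 h2, h⟩
  by_cases h3 : ρ t (ρ t v - v) - (ρ t v - v) = 0
  · exact ⟨_, h2, sub_eq_zero.1 h3, h1 h⟩
  refine ⟨_, h3, ?_, h1 (h1 h)⟩
  have h4 := h _ ht
  have h5 : ∀ z : V, z + z + z = 0 := fun z => by
    rw [← one_smul k z, ← add_smul, ← add_smul, show (1 + 1 + 1 : k) = (3 : ℕ) by norm_num,
      CharP.cast_eq_zero, zero_smul]
  rw [pow_three, map_mul, map_mul, End.mul_apply, End.mul_apply] at h4
  simp only [map_sub, h4]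
  rw [← sub_eq_zero, ← h5 (ρ t v - ρ t (ρ t v))]
  abel

theorem exists_T {k V G : Type*} [Field k] [CharP k 3] [AddCommGroup V] [Module k V] [Group G]
    [Finite G] (ρ : G →* End k V) {H S : Subgroup G} (hS : S ≤ H)
    (hn : ∀ h ∈ H, ∀ a ∈ S, h * a * h⁻¹ ∈ S) (hc : Nat.card H ∣ 6 * Nat.card S) {v : V}
    (hv : v ≠ 0) (h : ∀ g ∈ S, ρ g v = v) : ∃ T ≤ H, (T.subgroupOf H).index ∣ 2 ∧
      ∃ w : V, w ≠ 0 ∧ ∀ g ∈ T, ρ g w = w := by
  have : Fact (Nat.Prime 3) := ⟨Nat.prime_three⟩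
  have : (S.subgroupOf H).Normal := ⟨fun a ha g => hn _ g.2 _ ha⟩
  have h1 : Nat.card (H ⧸ S.subgroupOf H) ∣ 6 := by
    rw [Subgroup.card_eq_card_quotient_mul_card_subgroup (S.subgroupOf H),
      Nat.card_congr (Subgroup.subgroupOfEquivOfLe hS).toEquiv] at hc
    exact Nat.dvd_of_mul_dvd_mul_right Nat.card_pos hc
  obtain ⟨P⟩ : Nonempty (Sylow 3 (H ⧸ S.subgroupOf H)) := inferInstance
  have h2 : P.1.index ∣ 2 := (((Nat.Prime.coprime_iff_not_dvd Nat.prime_three).2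
    P.not_dvd_index).symm).dvd_of_dvd_mul_right (P.1.index_dvd_card.trans h1)
  have h3 : Nat.card P.1 ∣ 3 := by
    obtain ⟨n, e⟩ := P.2.exists_card_eq
    have := (Subgroup.card_subgroup_dvd_card P.1).trans h1
    rw [e] at this ⊢
    exact (Nat.Coprime.pow_left n (by decide : Nat.Coprime 3 2)).dvd_of_dvd_mul_left this
  obtain ⟨g, hg⟩ := (isCyclic_of_card_dvd_prime h3).exists_generator
  obtain ⟨t, ht⟩ := QuotientGroup.mk_surjective g.1
  obtain ⟨w, h4, h5, h6⟩ := exists_fix ρ (S := S) (t := t)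
    (fun a ha => by simpa using hn _ (inv_mem t.2) a ha) (by
      have : g ^ 3 = 1 := orderOf_dvd_iff_pow_eq_one.1 ((orderOf_dvd_natCard g).trans h3)
      have h7 : ((t ^ 3 : H) : H ⧸ S.subgroupOf H) = 1 := by
        rw [QuotientGroup.mk_pow, ht]; exact congrArg Subtype.val this
      exact (QuotientGroup.eq_one_iff (t ^ 3 : H)).1 h7) hv h
  let T : Subgroup G :=
    { carrier := {g | ρ g w = w}
      one_mem' := by simp
      mul_mem' := fun {a b} (ha : ρ a w = w) (hb : ρ b w = w) => by simp [ha, hb]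
      inv_mem' := fun {a} (ha : ρ a w = w) => by
        change ρ a⁻¹ w = w
        conv_lhs => rw [← ha, ← End.mul_apply, ← map_mul, inv_mul_cancel, map_one, End.one_apply] }
  refine ⟨T ⊓ H, inf_le_right, ?_, w, h4, fun g hg => hg.1⟩
  refine (Subgroup.index_dvd_of_le (H := P.1.comap (QuotientGroup.mk' _)) fun x hx => ?_).trans
    (by rwa [Subgroup.index_comap_of_surjective _ (QuotientGroup.mk'_surjective _)])
  obtain ⟨n, e⟩ := hg ⟨_, hx⟩
  have h7 : (t ^ n)⁻¹ * x ∈ S.subgroupOf H := QuotientGroup.eq.1 (by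
    rw [QuotientGroup.mk_zpow, ht]; exact congrArg Subtype.val e)
  refine ⟨?_, x.2⟩
  rw [← mul_inv_cancel_left (t ^ n) x]
  exact T.mul_mem (T.zpow_mem (x := t) h5 n) (h6 _ h7)

attribute [local instance] H65.tabE8 H65.commE8

theorem jobRat2 : JobRat2 := by
  intro H S hS hn hc v hv h
  obtain ⟨T, h1, h2, w, h3, h4⟩ := exists_T ad hS hn hc hv h
  exact jobRat H T h1 h2 w h3 h4

theorem core (hH : JobHub2) (H : Subgroup G8) {S : Type u} [Group S] [IsSimpleGroup S]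
    (h1 : ¬ IsMulCommutative S) (h2 : Nat.card (MulAut S) ∣ 6 * Nat.card S)
    (h3 : ¬ 3 ^ 8 ∣ 6 * Nat.card S)
    (h4 : ∀ ψ : S →* G8, Function.Injective ψ → ∃ v : V8, v ≠ 0 ∧ ∀ g, ad (ψ g) v = v)
    (h : Nonempty (↥(generalizedFittingSubgroup ↥H) ≃* S)) : ¬ IsCoatom H := by
  intro hc
  obtain ⟨ψ, h5, h6, h7, h8, h9⟩ := jobGrp2 H (by
    by_contra! h; exact h1 ⟨⟨h⟩⟩) h2 h
  obtain ⟨v, h10, h11⟩ := h4 ψ h5
  obtain ⟨w, h12, h13, h14⟩ := jobRat2 H ψ.range h6 h7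
    (by rwa [← Nat.card_congr (MonoidHom.ofInjective h5).toEquiv]) v h10
    (by rintro _ ⟨g, rfl⟩; exact h11 g)
  rcases hH H hc w h12 h13 h14 with h15 | ⟨Z, h15, h16, h17, h18⟩
  · exact h3 (h15.trans h8)
  · exact h16 (h9 Z h15 h17 h18)

theorem not_comm {S : Type*} [Group S] [IsSimpleGroup S] {n : ℕ} (h : Nat.card S = n)
    (hn : ¬ n.Prime) : ¬ IsMulCommutative S := fun hc => by
  have := Group.is_simple_iff_prime_card (α := S)
  exact hn (h ▸ this.1 inferInstance)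

universe v

theorem main (hH : JobHub2) (hSz : JobSz.{u}) (hO : JobO8) (hL : JobL13.{v}) (hA : JobSpA)
    (hC : JobSpC) {F₈ : Type u} {F₁₃ : Type v} [Field F₈] [Fintype F₈] (h8 : Fintype.card F₈ = 8)
    [Field F₁₃] [Fintype F₁₃] (h13 : Fintype.card F₁₃ = 13) (H : Subgroup G8)
    (h : Nonempty (↥(generalizedFittingSubgroup ↥H) ≃* ↥(Cfsg.Lie.Sz F₈ 4)) ∨
      Nonempty (↥(generalizedFittingSubgroup ↥H) ≃* O8) ∨
      Nonempty (↥(generalizedFittingSubgroup ↥H) ≃* PSL(2, F₁₃)) ∨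
      Nonempty (↥(generalizedFittingSubgroup ↥H) ≃* Sp6)) : ¬ IsCoatom H := by
  rcases h with h | h | h | h
  · have : IsSimpleGroup (Cfsg.Lie.Sz F₈ 4) := Agent.S1162.result (m := 1) le_rfl h8
    have h1 : Nat.card (Cfsg.Lie.Sz F₈ 4) = 29120 := (Agent.S1163.result (m := 1) le_rfl h8).1
    have h2 : Nat.card (Out (Cfsg.Lie.Sz F₈ 4)) = 3 := Agent.S2126.result (m := 1) le_rfl h8
    have h3 := not_comm h1 (by norm_num)
    exact core hH H h3 (by rw [card_aut (H87.center_eq_bot h3), h1, h2]; decide)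
      (by rw [h1]; decide) (hSz h8) h
  · have := Agent.S0296.result (F := ZMod 2) 4 le_rfl
    have : IsSimpleGroup O8 := (H95.FS.quotC H95.FS.center_Om8).symm.isSimpleGroup
    exact core hH H (not_comm H95.FS.card_Om8 (by norm_num))
      (by rw [H95.FS.card_aut_Om8, H95.FS.card_Om8]) (by rw [H95.FS.card_Om8]; decide) hO h
  · have := H61.isSimpleGroup_psl (F := F₁₃) (by rw [Nat.card_eq_fintype_card, h13]; decide)
    have h4 := Agent.S0243.result h13 2 le_rfl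
    have h5 : Nat.card PSL(2, F₁₃) = 1092 := by
      simp [Fin.prod_univ_two] at h4; omega
    have : Fact (Nat.Prime 13) := ⟨by norm_num⟩
    obtain ⟨φ, h6, -, h7⟩ := Agent.S2602.result (p := 13) (f := 1) le_rfl h13 (by decide)
    exact core hH H H61.not_isMulCommutative_psl (by
      rw [card_aut (H87.center_eq_bot H61.not_isMulCommutative_psl), E7S.card_of_hom h6, h7, h5]
      simp) (by rw [h5]; decide) (hL h13) h
  · have := H65.S62M.simple
    have : Fact (Nat.Prime 2) := ⟨Nat.prime_two⟩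
    have h1 := Agent.S0814.result (F := ZMod 2) 2 1 le_rfl (ZMod.card 2) 3 (by decide) (by decide)
    let e := H95.FS.quotC H65.S62M.cen
    rw [Nat.card_congr (MulAut.congr e).toEquiv, Nat.card_congr e.toEquiv, H65.S62M.card] at h1
    exact core hH H (not_comm H65.S62M.card (by norm_num)) (by rw [h1, H65.S62M.card]; decide)
      (by rw [H65.S62M.card]; decide) (fun ψ hψ => hC K3 V8 (ad.comp ψ) (hA ψ hψ)) h

end H40.E8G
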