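/- Tower E8G: the fixed spaces of the Sylow 2-subgroup of `Sp₆(2)` and of three maximal subgroups. -/
import Cfsg.Agent.H40.E8GSpec
import Cfsg.Agent.H40.E8GSpB
import Cfsg.Agent.H65.S62M

set_option autoImplicit false

namespace H40.E8G.SpA

open Module Matrix H14.E8 H40.E8F H65

section pc

variable {k : Type} [Field k]

/-- The relations along a central series. -/
def PC (R : List ℕ → List ℕ → Prop) (W : ℕ → ℕ → List ℕ) : List ℕ → Prop
  | [] => True
  | i :: l => R [i, i] [] ∧
      (∀ j ∈ l, (∀ x ∈ W j i, x ∉ i :: l) ∧ R [j, i] (i :: j :: W j i)) ∧ PC R W l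

instance PC.dec (R : List ℕ → List ℕ → Prop) [DecidableRel R] (W : ℕ → ℕ → List ℕ) :
    ∀ l, Decidable (PC R W l)
  | [] => isTrue trivial
  | i :: l => by
    have := PC.dec R W l
    unfold PC
    infer_instance

theorem sum_exact (h2 : (2 : k) ≠ 0) {R : List ℕ → List ℕ → Prop} {W : ℕ → ℕ → List ℕ}
    (l : List ℕ) : ∀ {V : Type} [AddCommGroup V] [Module k V] [FiniteDimensional k V]
      (ρ : ℕ → End k V), (∀ j ∉ l, ρ j = 1) →
      (∀ u v, R u v → (u.map ρ).prod = (v.map ρ).prod) → PC R W l →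
      ((prods l).map fun w => tau (w.map ρ).prod).sum =
        2 ^ l.length * finrank k (Fx ρ Set.univ) := by
  induction l with
  | nil =>
    intro V _ _ _ ρ h _ _
    rw [show Fx ρ Set.univ = ⊤ from eq_top_iff.2 fun v _ => mem_Fx.2 fun j _ => by
      rw [h j List.not_mem_nil]; rfl]
    simp [prods, tau_one h2]
  | cons i l ih =>
  intro V _ _ _ ρ hd hR ⟨h1', h3, h4⟩
  have hw : ∀ w : List ℕ, (∀ x ∈ w, x ∉ i :: l) → (w.map ρ).prod = 1 := fun w hw =>
    List.prod_eq_one fun x hx => by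
      obtain ⟨y, hy, rfl⟩ := List.mem_map.1 hx
      exact hd y (hw y hy)
  have hz : ρ i * ρ i = 1 := by simpa using hR _ _ h1'
  have hc : ∀ j, Commute (ρ j) (ρ i) := fun j => by
    by_cases h : j ∈ i :: l
    · rcases List.mem_cons.1 h with rfl | h
      · exact Commute.refl _
      · have := hR _ _ (h3 j h).2
        simp only [List.map_cons, List.prod_cons, hw _ (h3 j h).1, List.map_nil, List.prod_nil,
          mul_one] at this
        exact this
    · rw [hd j h]; exact Commute.one_left _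
  have hc' : ∀ w : List ℕ, Commute (w.map ρ).prod (ρ i) := fun w =>
    Commute.list_prod_left _ _ fun x hx => by
      obtain ⟨y, -, rfl⟩ := List.mem_map.1 hx
      exact hc y
  set U := LinearMap.ker (ρ i - 1)
  have hU : ∀ v, v ∈ U ↔ ρ i v = v := fun v => by simp [U, sub_eq_zero]
  have he : ∀ x : End k V, Commute x (ρ i) → U ≤ U.comap x := fun x hx v hv => by
    have := congrArg (fun f : End k V => f v) hx.eq
    simp only [End.mul_apply, (hU v).1 hv] at this
    exact (hU _).2 this.symm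
  let σ : ℕ → End k U := fun j => (ρ j).restrict (he _ (hc j))
  have hσ : ∀ w : List ℕ, (w.map σ).prod = (w.map ρ).prod.restrict (he _ (hc' w)) := fun w => by
    induction w with
    | nil => ext v; simp
    | cons a w ih => ext v; simp [ih, σ]
  have hn := ih σ (fun j hj => by
      by_cases h : j = i
      · subst h; ext v; exact (hU _).1 v.2
      · ext v; simp [σ, hd j (by simp [h, hj])])
    (fun u v h => by ext x; simp [hσ, hR u v h]) h4
  have h5 : (Fx σ Set.univ).map U.subtype = Fx ρ Set.univ := by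
    ext v
    constructor
    · rintro ⟨w, hw, rfl⟩
      exact mem_Fx.2 fun g _ => congrArg Subtype.val (mem_Fx.1 hw g trivial)
    · intro hv
      exact ⟨⟨v, (hU v).2 (mem_Fx.1 hv i trivial)⟩,
        mem_Fx.2 fun g _ => Subtype.ext (mem_Fx.1 hv g trivial), rfl⟩
  rw [← h5, Submodule.finrank_map_subtype_eq, prods, List.map_append, List.sum_append, List.map_map,
    ← List.sum_map_add, List.length_cons, pow_succ', mul_assoc, ← hn, ← List.sum_map_mul_left]
  refine congrArg _ (List.map_congr_left fun w _ => ?_)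
  simp only [Function.comp, List.map_append, List.prod_append, List.map_cons, List.map_nil,
    List.prod_cons, List.prod_nil, mul_one]
  rw [tau_add_mul (hc' w) hz (he _ (hc' w)), hσ]

theorem mem_prods {l w : List ℕ} (h : w ∈ prods l) : ∀ x ∈ w, x ∈ l := by
  induction l generalizing w with
  | nil => simp_all [prods]
  | cons i l ih =>
    intro x hx
    rcases List.mem_append.1 h with h | h
    · exact List.mem_cons_of_mem _ (ih h x hx)
    · obtain ⟨w, h', rfl⟩ := List.mem_map.1 h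
      rcases List.mem_append.1 hx with hx | hx
      · exact List.mem_cons_of_mem _ (ih h' x hx)
      · exact List.mem_singleton.1 hx ▸ List.mem_cons_self

theorem prods_sub {l l' : List ℕ} (h : l.Sublist l') : prods l ⊆ prods l' := by
  induction h with
  | slnil => exact List.Subset.refl _
  | cons a _ ih => exact List.subset_append_of_subset_left _ ih
  | cons_cons a _ ih => exact List.append_subset.2 ⟨List.subset_append_of_subset_left _ ih,
      List.subset_append_of_subset_right _ (List.map_subset _ ih)⟩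

theorem sum_cls {α : Type} (L : List α) (a : α → ℤ) (c : α → ℕ) (t : ℕ → ℤ) {n : ℕ}
    (h : ∀ w ∈ L, c w < n) : (L.map fun w => a w * t (c w)).sum =
      ∑ j ∈ Finset.range n, (L.map fun w => if c w = j then a w else 0).sum * t j := by
  induction L with
  | nil => simp
  | cons w L ih =>
    simp only [List.map_cons, List.sum_cons, add_mul, Finset.sum_add_distrib, ite_mul, zero_mul]
    rw [ih fun x hx => h x (List.mem_cons_of_mem _ hx), Finset.sum_ite_eq,
      if_pos (Finset.mem_range.2 (h w List.mem_cons_self))]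

end pc

/-- The letters. -/
def u (i : ℕ) : Sp6 := if h : i < 9 then sr ⟨i, h⟩ else
  ⟨(sr (if i = 9 then 6 else if i = 10 then 8 else 2)).1ᵀ, SymplecticGroup.transpose_mem (sr _).2⟩

/-- Their codes. -/
def cd (i : ℕ) : ℕ := [34630287497, 34630288513, 34630418561, 34630288017, 34630320289, 34630355073,
  34764505219, 43220222085, 51810156929, 34634481857, 35167166593].getD i 38925254785

theorem hcd (i : ℕ) : MW.spM S62M.e (u i) = S62M.C.dec (cd i) := by
  have h : ∀ i < 12, MW.allEq (MW.spM S62M.e (u i)) (S62M.C.dec (cd i)) = true := by decide +kernel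
  by_cases h1 : i < 12
  · exact MW.allEq_sound (h i h1)
  · have e1 : u i = u 11 := by
      rw [u, u, dif_neg (by omega), dif_neg (by omega)]
      simp only [show i ≠ 9 by omega, show i ≠ 10 by omega, if_false, Nat.reduceEqDiff]
    have e2 : cd i = cd 11 := List.getD_eq_default _ _ (by simp; omega)
    rw [e1, e2]
    exact MW.allEq_sound (h 11 (by decide))

/-- The value of a word. -/
def ev (w : List ℕ) : Sp6 := (w.map u).prod

/-- The code of a word. -/
noncomputable def evc (w : List ℕ) : ℕ :=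
  List.rec 34630287489 (fun i _ a => frc a fun a => S62M.C.mul (cd i) a) w

theorem hev (w : List ℕ) : MW.spM S62M.e (ev w) = S62M.C.dec (evc w) := by
  induction w with
  | nil => exact (map_one _).trans S62M.C.dec_one.symm
  | cons i w ih =>
    change MW.spM S62M.e (u i * ev w) = S62M.C.dec (frc (evc w) _)
    rw [frc_eq, map_mul, hcd, ih, S62M.C.dec_mul]

theorem ev_eq {v w : List ℕ} (h : evc v = evc w) : ev v = ev w :=
  MW.spM_inj S62M.e (by rw [hev, hev, h])

theorem ev_ne {w : List ℕ} (h : ∃ j < 36, S62M.C.ent (evc w) j ≠ S62M.C.ent (evc []) j) :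
    ev w ≠ 1 := fun e => by
  obtain ⟨j, -, h⟩ := h
  exact h (S62M.C.ent_eq _ _ _ (by rw [← hev, ← hev, e]; rfl))

theorem ev_append (v w : List ℕ) : ev (v ++ w) = ev v * ev w := by simp [ev]

/-- The positive roots along a central series. -/
def lU : List ℕ := [0, 3, 4, 1, 7, 5, 6, 8, 2]

/-- The commutators. -/
def wd (j i : ℕ) : List ℕ := ([((2, 7), [4, 0]), ((2, 8), [5, 1]), ((5, 7), [3]), ((6, 1), [3, 0]),
  ((6, 5), [4]), ((8, 4), [3]), ((8, 6), [7])].lookup (j, i)).getD []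

/-- The class of an element of the Sylow subgroup. -/
def cls (w : List ℕ) : ℕ :=
  0xaabb6688aabb6688aabb6688aabb6688bbaa8866bbaa8866bbaa8866bbaa88665887233458872334857866968578669687586966875869667885433278854332aabb6688aabb6688aabb6688aabb6688bbaa8866bbaa8866bbaa8866bbaa886658786696587866968587323485873234785896667858966687853432878534323388886633888866338888663388886696757542695757246957572496757542578869665788696675889666758896668857332488573324887533428875334257698866759688665769886675968866883357248833754288335724883375421443433233344332334334324134343234333342431433424333144234414110 >>> (4 * (w.map (2 ^ ·)).sum) % 16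

/-- Class representatives. -/
def rep (c : ℕ) : List ℕ := [[], [2], [8], [2, 6], [2, 5], [2, 8], [8, 6], [2, 8, 5], [8, 6, 5],
  [8, 7, 1, 4], [2, 8, 6], [2, 8, 6, 5]].getD c []

/-- The word of a number. -/
def wn (c : ℕ) : List ℕ :=
  ((List.range 9).map fun i => c >>> (4 * i) % 16).filterMap fun d => if d = 0 then none else some (d - 1)

/-- Conjugating words. -/
def dat : List ℕ :=
  [0, 0, 0, 0, 39847, 0, 0, 0, 195, 0, 3257, 0, 3187, 41820079666, 0, 0, 167, 167, 7, 7, 2983,
   2983, 7, 7, 48275, 39740, 703635, 35516, 51091, 638053, 149, 103, 185, 9, 15545, 3, 637575,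
   3017, 1586, 131, 185, 9, 3, 3, 201, 637555, 1586, 56, 185, 2876, 2745, 43836, 47751,
   3162160275, 57, 2402, 13286547, 2711, 834707, 151, 197, 152, 1875, 1875, 51827, 167, 3980387,
   128564306, 834163, 6, 6, 6, 3187, 7, 128697906, 8035266, 195, 2613755027, 6, 6, 830329, 167,
   11258195, 11123794, 12364665, 2983, 118, 118, 771987, 39879, 52120, 117, 3219, 39878, 117,
   117, 52025, 12364601, 13286499, 502204, 10201205, 48226, 50, 50, 830265, 772921, 834659,
   8035269, 3170, 600999, 50, 50, 47490, 48210, 0, 151, 764021, 2979, 115, 115, 165, 43381,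
   701336, 43975, 108, 146, 2354, 146, 12363603, 10210194, 5, 5, 163359640, 2146, 5, 5, 3155,
   163359634, 52119, 5, 51027, 39845, 5, 5, 2677, 2677, 117, 117, 12364696, 47733, 117, 117,
   771634, 39874, 11257394, 695234, 50738, 638098, 9, 147, 47767, 12364690, 248727, 83, 637575,
   771666, 25906, 56, 2967, 773010, 83, 83, 3221, 600999, 1939, 131, 2966, 3010, 43926, 43970,
   47751, 3011, 1651, 152, 212583986, 43381, 13354546, 2421, 12, 57, 115, 115, 829267, 10210105,
   63686962, 8891333, 163359609, 130, 101, 101, 51027, 163359545, 8043667, 555708, 3155, 2490,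
   101, 130, 830360, 2677, 11257747, 568261, 47733, 47733, 150, 103, 772435, 638034, 52089, 7,
   51539, 10209618, 7, 7, 52114, 151, 8043619, 8891330, 10201205, 48277, 1330, 121, 830354,
   2711, 13355314, 142261330, 50770, 637555, 1330, 1330, 45976, 3015, 5, 2421, 764021,
   3016408211, 195, 146, 10, 2711, 702850, 703570, 3186, 2438, 1891, 2386, 43928, 2215, 502680,
   502725, 2461838232, 134, 82, 82, 209367960, 180138904, 502674, 502636, 816434, 39843, 82, 82,
   3976057, 2675, 43928, 43973, 45919128, 47731, 1874, 1874, 771939, 638066, 3, 2165, 3171,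
   638050, 146, 2354, 47751, 197634962, 502678, 502722, 637591, 772434, 1619, 151, 13085586,
   2695, 8041368, 502727, 51538, 39847, 1619, 2098, 47494, 48242, 248728, 1875, 47767, 186,
   26418, 2434, 195, 2695, 11257427, 695237, 194, 150, 1842, 150, 43897, 8, 212584787, 133,
   213691257, 8, 1618, 133, 13284248, 2562501522, 167, 8, 50482, 39875, 1618, 8, 2675, 2675,
   3980435, 2165, 47731, 47731, 198, 57, 48227, 39788, 43833, 2748, 51043, 10208850, 114, 114,
   833922, 152, 12, 56, 13346933, 48229, 83, 83, 2968, 12368258, 13354899, 131, 3173, 637557,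
   83, 83, 2873, 188, 703587, 568258, 764277, 3165374002, 147, 9, 63618195, 43125, 115, 115,
   199, 920, 2387, 149, 703111, 163361688, 8042886, 8043634, 600999, 2, 2, 2, 209369474, 135,
   502585, 31420, 50994, 41671113875, 2, 2, 3976088, 42835, 702854, 703602, 11175, 11175, 114,
   114, 771667, 39877, 83, 135, 50771, 638101, 2386, 135, 2968, 121, 31417, 502588, 637591,
   3014, 99, 99, 13085497, 12366744, 8042882, 8043602, 3218, 637557, 99, 99, 2968, 3013, 248697,
   115, 47767, 197835923, 914, 150, 163, 43125, 13354579, 9092178, 3154, 2434, 30002, 2405,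
   43928, 163363202, 63686995, 8, 637555, 98, 98, 8, 13285762, 8, 115, 133, 3122, 41816865939,
   98, 98, 42835, 42835, 63686194, 135, 188525464, 11175, 1890, 135, 772402, 2492, 43922, 43884,
   51506, 39881, 1874, 57, 832408, 146582418, 7, 131, 13346933, 48274, 3, 3, 2937, 152,
   13355347, 56, 198, 39847, 3, 3, 2962, 2924, 11258162, 43452, 764277, 2981, 1842, 149,
   209370259, 2695, 1875, 1875, 60, 9, 147, 9]

theorem hdat : List.Forall₂ (fun w c => cls w < 12 ∧ evc (wn c ++ w) = evc (rep (cls w) ++ wn c))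
    (prods lU) dat := by decide +kernel

/-- The sign of a word. -/
def sg (s w : List ℕ) : ℤ := (w.map fun i => if i ∈ s then -1 else 1).prod

/-- Equality of words in the letters `l`, with signs. -/
def Rl (l s v w : List ℕ) : Prop :=
  (∀ x ∈ v, x ∈ l) ∧ (∀ x ∈ w, x ∈ l) ∧ evc v = evc w ∧ sg s v = sg s w

noncomputable instance (l s : List ℕ) : DecidableRel (Rl l s) := fun _ _ => by
  unfold Rl; infer_instance

/-- The numbers of elements in the classes, with signs. -/
def cnt (l s : List ℕ) (j : ℕ) : ℤ := ((prods l).map fun w => if cls w = j then sg s w else 0).sum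

variable {k V : Type} [Field k] [AddCommGroup V] [Module k V] [FiniteDimensional k V]
  (σ : Sp6 →* End k V)

theorem tau_cls {w : List ℕ} (h : w ∈ prods lU) :
    cls w < 12 ∧ tau (σ (ev w)) = tau (σ (ev (rep (cls w)))) := by
  obtain ⟨i, hi, rfl⟩ := List.getElem_of_mem h
  obtain ⟨h1, h2⟩ := List.forall₂_iff_get.1 hdat
  obtain ⟨h3, h4⟩ := h2 i hi (h1 ▸ hi)
  have h5 := ev_eq h4
  rw [ev_append, ev_append, ← mul_inv_eq_iff_eq_mul] at h5
  refine ⟨h3, ?_⟩
  change _ = tau (σ (ev (rep (cls ((prods lU).get ⟨i, hi⟩)))))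
  rw [← h5, map_mul, map_mul, tau_conj _ _ _ (by rw [← map_mul, mul_inv_cancel, map_one])]
  rfl

/-- The letters of `l` with signs. -/
noncomputable def sl (l s : List ℕ) (j : ℕ) : End k V :=
  if j ∈ l then (if j ∈ s then -1 else 1 : ℤ) • σ (u j) else 1

omit [FiniteDimensional k V] in
theorem prod_sl (s : List ℕ) {l w : List ℕ} (h : ∀ x ∈ w, x ∈ l) :
    (w.map (sl σ l s)).prod = sg s w • σ (ev w) := by
  induction w with
  | nil => simp [sg, ev]
  | cons i w ih =>
    rw [List.map_cons, List.prod_cons, ih fun x hx => h x (List.mem_cons_of_mem _ hx), sl,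
      if_pos (h i List.mem_cons_self), smul_mul_smul_comm, ← map_mul]
    rfl

theorem sg_cases (s w : List ℕ) : sg s w = 1 ∨ sg s w = -1 := by
  induction w with
  | nil => exact .inl rfl
  | cons i w ih =>
    have : sg s (i :: w) = (if i ∈ s then -1 else 1) * sg s w := rfl
    split_ifs at this <;> omega

theorem key (h2 : (2 : k) ≠ 0) (l s : List ℕ) (c : List ℤ)
    (h : l.Sublist lU ∧ PC (Rl l s) wd l ∧ (List.range 12).map (cnt l s) = c) :
    ∑ j ∈ Finset.range 12, c.getD j 0 * tau (σ (ev (rep j))) =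
      2 ^ l.length * finrank k (Fx (sl σ l s) Set.univ) := by
  obtain ⟨h1, h3, rfl⟩ := h
  rw [← sum_exact h2 l (sl σ l s) (fun j hj => if_neg hj) (fun v w h => by
    rw [prod_sl σ s h.1, prod_sl σ s h.2.1, ev_eq h.2.2.1, h.2.2.2]) h3,
    List.map_congr_left (g := fun w => sg s w * (fun j => tau (σ (ev (rep j)))) (cls w))
      fun w hw => ?_, sum_cls _ (sg s) cls (fun j => tau (σ (ev (rep j))))
      fun w hw => (tau_cls σ (prods_sub h1 hw)).1]
  · refine Finset.sum_congr rfl fun j hj => ?_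
    rw [List.getD_eq_getElem _ _ (by simpa using hj), List.getElem_map, List.getElem_range]
    rfl
  · rw [prod_sl σ s (mem_prods hw)]
    rcases sg_cases s w with e | e <;> simp [e, tau_neg, (tau_cls σ (prods_sub h1 hw)).2]

omit [FiniteDimensional k V] in
theorem fx_sl {l : List ℕ} {S : Set (Fin 9)} (h : ∀ j : Fin 9, j ∈ S ↔ (j : ℕ) ∈ l)
    (h9 : ∀ j ∈ l, j < 9) : Fx (sl σ l []) Set.univ = Fx (fun j => σ (sr j)) S := by
  ext v
  rw [mem_Fx, mem_Fx]
  refine ⟨fun hv j hj => ?_, fun hv j _ => ?_⟩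
  · simpa [sl, (h j).1 hj, u] using hv j trivial
  · by_cases hj : j ∈ l
    · simpa [sl, hj, u, h9 j hj] using hv ⟨j, h9 j hj⟩ ((h _).2 hj)
    · simp [sl, hj]

theorem arith2 (t : ℕ → ℤ) (e0 : t 0 = 248) (o2 : ∀ c < 5, 0 < c → t c ∈ [(24 : ℤ), -8])
    (a5 : (t 5, t 4) ∈ L4) (a6 : (t 6, t 2) ∈ L4) (a7 : (t 7, t 4) ∈ L4) (a8 : (t 8, t 4) ∈ L4)
    (a9 : (t 9, t 2) ∈ L4) {y z : ℤ} (a10 : (t 10, t 6, y) ∈ L8) (a11 : (t 11, t 9, z) ∈ L8)
    {d0 d1 d2 d3 d4 d5 d6 : ℕ}
    (k0 : ∑ j ∈ Finset.range 12, [1, 7, 27, 68, 41, 40, 92, 40, 112, 20, 32, 32].getD j 0 * t j =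
      2 ^ 9 * d0)
    (k1 : ∑ j ∈ Finset.range 12, [1, 7, 19, 52, 33, 24, 36, 24, 48, 12, 0, 0].getD j 0 * t j =
      2 ^ 8 * d1)
    (k2 : ∑ j ∈ Finset.range 12, [1, 7, 19, 52, 33, 24, 36, 24, 48, 12, 0, 0].getD j 0 * t j =
      2 ^ 8 * d2)
    (k3 : ∑ j ∈ Finset.range 12, [1, 3, 27, 36, 29, 8, 84, 8, 48, 12, 0, 0].getD j 0 * t j =
      2 ^ 8 * d3)
    (k4 : ∑ j ∈ Finset.range 12, [1, 3, 19, 4, 5, 24, 12, -8, -48, -12, 32, -32].getD j 0 * t j =
      2 ^ 9 * d4)
    (k5 : ∑ j ∈ Finset.range 12, [1, -1, -5, 4, -15, 8, 12, 8, 48, 4, -32, -32].getD j 0 * t j =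
      2 ^ 9 * d5)
    (k6 : ∑ j ∈ Finset.range 12, [1, -1, 9, -8, -1, 0, 2, 0, 0, -2, 0, 0].getD j 0 * t j =
      2 ^ 5 * d6) (m1 : d0 ≤ d1) (m3 : d0 ≤ d3) : d1 + d2 + d3 < 4 * d0 := by
  simp only [Finset.sum_range_succ, Finset.sum_range_zero, List.getD_cons_succ, List.getD_cons_zero,
    e0] at k0 k1 k2 k3 k4 k5 k6
  have e6 : (32 * d6 : ℤ) = 248 - t 1 + 9 * t 2 - 8 * t 3 - t 4 + 2 * t 6 - 2 * t 9 := by linarith
  have e1 : (256 * d1 : ℤ) = 248 + 7 * t 1 + 19 * t 2 + 52 * t 3 + 33 * t 4 + 24 * t 5 + 36 * t 6 +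
      24 * t 7 + 48 * t 8 + 12 * t 9 := by linarith
  have e3 : (256 * d3 : ℤ) = 248 + 3 * t 1 + 27 * t 2 + 36 * t 3 + 29 * t 4 + 8 * t 5 + 84 * t 6 +
      8 * t 7 + 48 * t 8 + 12 * t 9 := by linarith
  have e2 : (512 * d0 : ℤ) = 248 + 7 * t 1 + 27 * t 2 + 68 * t 3 + 41 * t 4 + 40 * t 5 + 92 * t 6 +
      40 * t 7 + 112 * t 8 + 20 * t 9 + 32 * t 10 + 32 * t 11 := by linarith
  have e4 : (512 * d4 : ℤ) = 248 + 3 * t 1 + 19 * t 2 + 4 * t 3 + 5 * t 4 + 24 * t 5 + 12 * t 6 -
      8 * t 7 - 48 * t 8 - 12 * t 9 + 32 * t 10 - 32 * t 11 := by linarith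
  have e5 : (512 * d5 : ℤ) = 248 - t 1 - 5 * t 2 + 4 * t 3 - 15 * t 4 + 8 * t 5 + 12 * t 6 +
      8 * t 7 + 48 * t 8 + 4 * t 9 - 32 * t 10 - 32 * t 11 := by linarith
  have e7 : (d1 : ℤ) = d2 := by linarith
  clear k0 k1 k2 k3 k4 k5 k6
  have := arith _ (o2 1 (by decide) (by decide)) _ (o2 2 (by decide) (by decide)) _
    (o2 3 (by decide) (by decide)) _ (o2 4 (by decide) (by decide)) _ a6 rfl _ a9 rfl _
    (List.mem_singleton.2 e6) (Int.mul_emod_right _ _) (by positivity) _ a5 rfl _ a7 rfl _ a8 rfl _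
    (List.mem_singleton.2 e1) (Int.mul_emod_right _ _) _ (List.mem_singleton.2 e3)
    (Int.mul_emod_right _ _) _ a10 rfl _ a11 rfl _ (List.mem_singleton.2 e2)
    (Int.mul_emod_right _ _) (by positivity) (by clear e1 e2 e3 e4 e5 e6; omega)
    (by clear e1 e2 e3 e4 e5 e6; omega) _ (List.mem_singleton.2 e4) (Int.mul_emod_right _ _)
    (by positivity) _ (List.mem_singleton.2 e5) (Int.mul_emod_right _ _) (by positivity)
  clear e1 e2 e3 e4 e5 e6
  omega

theorem ineq (h2 : (2 : k) ≠ 0) (hV : finrank k V = 248)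
    (t2 : ∀ g : Sp6, orderOf g = 2 → tau (σ g) = 24 ∨ tau (σ g) = -8)
    (t4 : ∀ g : Sp6, orderOf g = 4 → (tau (σ g), tau (σ (g ^ 2))) ∈ L4)
    (t8 : ∀ g : Sp6, orderOf g = 8 → (tau (σ g), tau (σ (g ^ 2)), tau (σ (g ^ 4))) ∈ L8) :
    SpIneq σ := by
  have : Fact (Nat.Prime 2) := ⟨Nat.prime_two⟩
  have sq : ∀ (c : ℕ) (w : List ℕ), evc (rep c ++ rep c) = evc w → ev (rep c) ^ 2 = ev w :=
    fun c w h => by rw [← ev_eq h, ev_append, pow_two]
  have o2 : ∀ c < 5, 0 < c → tau (σ (ev (rep c))) ∈ [(24 : ℤ), -8] := fun c h h' => by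
    have := (by decide +kernel : ∀ c < 5, 0 < c → evc (rep c ++ rep c) = evc [] ∧
      ∃ j < 36, S62M.C.ent (evc (rep c)) j ≠ S62M.C.ent (evc []) j) c h h'
    simpa using t2 _ (orderOf_eq_prime (sq c [] this.1) (ev_ne this.2))
  have o4 : ∀ (c : ℕ) (w : List ℕ), (evc (rep c ++ rep c) = evc w ∧ evc (w ++ w) = evc [] ∧
      w ∈ prods lU ∧ ∃ j < 36, S62M.C.ent (evc w) j ≠ S62M.C.ent (evc []) j) →
      (tau (σ (ev (rep c))), tau (σ (ev (rep (cls w))))) ∈ L4 := fun c w h => by
    rw [← (tau_cls σ h.2.2.1).2, ← sq c w h.1]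
    refine t4 _ (orderOf_eq_prime_pow (p := 2) (n := 1) (sq c w h.1 ▸ ev_ne h.2.2.2) ?_)
    rw [show 2 ^ (1 + 1) = 2 * 2 from rfl, pow_mul, sq c w h.1, pow_two, ← ev_append, ev_eq h.2.1]
    rfl
  have o8 : ∀ (c : ℕ) (w w' : List ℕ), (evc (rep c ++ rep c) = evc w ∧ evc (w ++ w) = evc w' ∧
      evc (w' ++ w') = evc [] ∧ w ∈ prods lU ∧
      ∃ j < 36, S62M.C.ent (evc w') j ≠ S62M.C.ent (evc []) j) →
      ∃ z, (tau (σ (ev (rep c))), tau (σ (ev (rep (cls w)))), z) ∈ L8 := fun c w w' h => by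
    have e : ev (rep c) ^ 2 ^ 2 = ev w' := by
      rw [show 2 ^ 2 = 2 * 2 from rfl, pow_mul, sq c w h.1, pow_two, ← ev_append, ev_eq h.2.1]
    rw [← (tau_cls σ h.2.2.2.1).2, ← sq c w h.1]
    refine ⟨_, t8 _ (orderOf_eq_prime_pow (p := 2) (n := 2) (e ▸ ev_ne h.2.2.2.2) ?_)⟩
    rw [pow_succ, pow_mul, e, pow_two, ← ev_append, ev_eq h.2.2.1]
    rfl
  have a5 := o4 5 [5, 1] (by decide +kernel)
  have a6 := o4 6 [7] (by decide +kernel)
  have a7 := o4 7 [5, 1] (by decide +kernel)
  have a8 := o4 8 [7, 4] (by decide +kernel)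
  have a9 := o4 9 [3] (by decide +kernel)
  obtain ⟨_, a10⟩ := o8 10 [5, 7, 1] [3] (by decide +kernel)
  obtain ⟨_, a11⟩ := o8 11 [5, 7, 1, 4] [3] (by decide +kernel)
  rw [show cls [5, 1] = 4 by decide +kernel] at a5 a7
  rw [show cls [7] = 2 by decide +kernel] at a6
  rw [show cls [7, 4] = 4 by decide +kernel] at a8
  rw [show cls [3] = 2 by decide +kernel] at a9
  rw [show cls [5, 7, 1] = 6 by decide +kernel] at a10
  rw [show cls [5, 7, 1, 4] = 9 by decide +kernel] at a11
  have k0 := key σ h2 lU [] [1, 7, 27, 68, 41, 40, 92, 40, 112, 20, 32, 32] (by decide +kernel)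
  have k1 := key σ h2 [0, 3, 4, 1, 7, 5, 8, 2] [] [1, 7, 19, 52, 33, 24, 36, 24, 48, 12, 0, 0]
    (by decide +kernel)
  have k2 := key σ h2 [0, 3, 4, 1, 7, 5, 6, 2] [] [1, 7, 19, 52, 33, 24, 36, 24, 48, 12, 0, 0]
    (by decide +kernel)
  have k3 := key σ h2 [0, 3, 4, 1, 7, 5, 6, 8] [] [1, 3, 27, 36, 29, 8, 84, 8, 48, 12, 0, 0]
    (by decide +kernel)
  have k4 := key σ h2 lU [1, 5] [1, 3, 19, 4, 5, 24, 12, -8, -48, -12, 32, -32] (by decide +kernel)
  have k5 := key σ h2 lU [2, 6, 8] [1, -1, -5, 4, -15, 8, 12, 8, 48, 4, -32, -32]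
    (by decide +kernel)
  have k6 := key σ h2 [3, 4, 5, 6, 2] [2] [1, -1, 9, -8, -1, 0, 2, 0, 0, -2, 0, 0]
    (by decide +kernel)
  rw [fx_sl σ (S := Set.univ) (by simp only [Set.mem_univ]; decide) (by decide)] at k0
  rw [fx_sl σ (S := {j | j ≠ 6}) (by simp only [Set.mem_ofPred_eq]; decide) (by decide)] at k1
  rw [fx_sl σ (S := {j | j ≠ 8}) (by simp only [Set.mem_ofPred_eq]; decide) (by decide)] at k2
  rw [fx_sl σ (S := {j | j ≠ 2}) (by simp only [Set.mem_ofPred_eq]; decide) (by decide)] at k3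
  have m : ∀ S : Set (Fin 9), finrank k (Fx (fun j => σ (sr j)) Set.univ) ≤
      finrank k (Fx (fun j => σ (sr j)) S) := fun S =>
    Submodule.finrank_mono fun v hv => mem_Fx.2 fun g _ => mem_Fx.1 hv g trivial
  have m1 := m {j | j ≠ 6}
  have m3 := m {j | j ≠ 2}
  have e0 : tau (σ (ev (rep 0))) = 248 := by
    rw [show ev (rep 0) = 1 from rfl, map_one, tau_one h2, hV]; rfl
  exact arith2 (fun j => tau (σ (ev (rep j)))) e0 o2 a5 a6 a7 a8 a9 a10 a11 k0 k1 k2 k3 k4 k5 k6
    m1 m3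

attribute [local instance] H65.tabE8 H65.commE8

theorem jobSpA : JobSpA := fun ψ hψ =>
  ineq (ad.comp ψ) two_ne finrank_ad (fun g h => tau2 _ ((orderOf_injective ψ hψ g).trans h))
    (fun g h => by
      have := tau4 _ ((orderOf_injective ψ hψ g).trans h)
      rwa [← map_pow] at this)
    fun g h => by
      have := tau8 _ ((orderOf_injective ψ hψ g).trans h)
      rwa [← map_pow, ← map_pow] at this

end H40.E8G.SpA
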