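import Cfsg.Agent.H44.Sv4
import Cfsg.Agent.H29.Burnside
import Cfsg.Agent.H87.PrimeSylow
import Cfsg.Agent.H87.Simple
import Cfsg.Agent.H2.CoreFree
import Cfsg.Agent.H93.S2BC
/-! Groups of order dividing `12096` in which the elements of order seven are self-centralizing. -/
set_option autoImplicit false
set_option linter.unusedSectionVars false
namespace H40.G22
open Subgroup

/-- Elements commuting with an element of order seven have order dividing seven. -/
def SC (G : Type*) [Group G] : Prop := ∀ x y : G, orderOf x = 7 → Commute x y → y ^ 7 = 1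

instance fact7 : Fact (Nat.Prime 7) := ⟨by norm_num⟩

variable {G : Type*} [Group G] [Finite G]

theorem SC.sub (h : SC G) (H : Subgroup G) : SC H := fun x y hx hc =>
  Subtype.ext (h x y ((orderOf_coe x).trans hx) (hc.map H.subtype))

theorem SC.eq_one (h : SC G) {T : Subgroup G} (hT : ¬ 7 ∣ Nat.card T) {x y : G}
    (hx : orderOf x = 7) (hy : y ∈ T) (hc : Commute x y) : y = 1 := by
  rcases (Nat.dvd_prime fact7.out).1 (orderOf_dvd_of_pow_eq_one (h x y hx hc)) with e | e
  · exact orderOf_eq_one_iff.1 e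
  · exact absurd (e ▸ T.orderOf_dvd_natCard hy) hT

theorem pg7 {x : G} (hx : orderOf x = 7) : IsPGroup 7 (zpowers x) :=
  IsPGroup.of_card (n := 1) (by rw [Nat.card_zpowers, hx, pow_one])

theorem SC.mod (h : SC G) {T : Subgroup G} (hT : ¬ 7 ∣ Nat.card T) {x : G}
    (hx : orderOf x = 7) (hn : x ∈ normalizer (T : Set G)) : Nat.card T % 7 = 1 := by
  have := H2.card_modEq_card_inf_centralizer (pg7 hx) (K := T) (zpowers_le.2 hn)
  rw [show T ⊓ centralizer (zpowers x : Set G) = ⊥ from eq_bot_iff.2 fun y hy =>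
    h.eq_one hT hx hy.1 (hy.2 x (mem_zpowers x)), card_bot] at this
  exact this

theorem ex7 {H : Subgroup G} (h : 7 ∣ Nat.card H) : ∃ x ∈ H, orderOf x = 7 := by
  obtain ⟨x, hx⟩ := exists_prime_orderOf_dvd_card' (G := H) 7 h
  exact ⟨x, x.2, (orderOf_coe x).trans hx⟩

theorem SC.card_normal (h : SC G) (hd : Nat.card G ∣ 12096) (h7 : 7 ∣ Nat.card G)
    (L : Subgroup G) [L.Normal] (hL : ¬ 7 ∣ Nat.card L) :
    Nat.card L = 1 ∨ Nat.card L = 8 ∨ Nat.card L = 64 := by
  have : Fact (Nat.Prime 3) := ⟨by norm_num⟩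
  obtain ⟨Q⟩ : Nonempty (Sylow 3 L) := inferInstance
  have hF := Sylow.normalizer_sup_eq_top Q
  set T := (Q : Subgroup L).map L.subtype with hT
  have hc : Nat.card T = Nat.card (Q : Subgroup L) := card_map_of_injective L.subtype_injective
  have hTL : Nat.card T ∣ Nat.card L := hc ▸ card_subgroup_dvd_card _
  have h1 : 7 ∣ Nat.card (normalizer (T : Set G)) := by
    have e1 := L.card_mul_index
    have e2 : L.relIndex (normalizer (T : Set G)) = L.index := by
      rw [← relIndex_sup_right, hF, relIndex_top_right]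
    have e3 := relIndex_dvd_card L (normalizer (T : Set G))
    rw [← e1] at h7
    exact ((fact7.out.dvd_mul.1 h7).resolve_left hL).trans (e2 ▸ e3)
  obtain ⟨x, hx, ho⟩ := ex7 h1
  have h2 := h.mod (fun e => hL (e.trans hTL)) ho hx
  obtain ⟨y, -, hy⟩ := ex7 (H := (⊤ : Subgroup G)) (by rwa [card_top])
  have h3 := h.mod hL hy (by rw [normalizer_eq_top]; trivial)
  have h4 : Nat.card L ∣ 12096 := (card_subgroup_dvd_card L).trans hd
  obtain ⟨k, hk⟩ := Q.isPGroup'.exists_card_eq
  have h5 : ¬ 3 ∣ Nat.card L := fun e => by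
    have e1 : 3 ∣ Nat.card T := by
      rw [hc]
      have := Q.not_dvd_index
      rw [← (Q : Subgroup L).card_mul_index] at e
      exact (Nat.prime_three.dvd_mul.1 e).resolve_right this
    have e2 : Nat.card T ∣ 27 := by
      rw [hc, hk]
      refine Nat.Coprime.dvd_of_dvd_mul_right (n := 448) (Nat.Coprime.pow_left _ (by decide : Nat.Coprime 3 448)) ?_
      rw [← hk, ← hc]; exact hTL.trans h4
    exact (by decide : ∀ n ∈ Nat.divisors 27, 3 ∣ n → n % 7 ≠ 1) _
      (Nat.mem_divisors.2 ⟨e2, by norm_num⟩) e1 h2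
  exact (by decide +kernel : ∀ n ∈ Nat.divisors 12096, ¬ 3 ∣ n → n % 7 = 1 →
    n = 1 ∨ n = 8 ∨ n = 64) _ (Nat.mem_divisors.2 ⟨h4, by norm_num⟩) h5 h3

theorem SC.card_cent (h : SC G) (hd : ¬ 49 ∣ Nat.card G) {x : G} (hx : orderOf x = 7) :
    Nat.card (centralizer (zpowers x : Set G)) ∣ 7 := by
  have hp : IsPGroup 7 (centralizer (zpowers x : Set G)) := fun y =>
    ⟨1, Subtype.ext (by simpa using h x y hx (y.2 x (mem_zpowers x)))⟩
  obtain ⟨k, hk⟩ := hp.exists_card_eq
  rw [hk]
  have := card_subgroup_dvd_card (centralizer (zpowers x : Set G))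
  rcases k with _ | _ | k
  · norm_num
  · norm_num
  · exact absurd ((by rw [hk]; exact ⟨7 ^ k, by ring⟩ : 49 ∣ _).trans this) hd

theorem SC.card_norm (h : SC G) (hd : ¬ 49 ∣ Nat.card G) {x : G} (hx : orderOf x = 7) :
    Nat.card (normalizer (zpowers x : Set G)) ∣ 42 := by
  rw [← H87.relIndex_mul_card_centralizer]
  exact Nat.mul_dvd_mul (H87.relIndex_dvd_prime_sub_one (p := 7)
    (by rw [Nat.card_zpowers, hx])) (h.card_cent hd hx)

theorem not49 (hd : Nat.card G ∣ 12096) : ¬ 49 ∣ Nat.card G := fun e =>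
  absurd (e.trans hd) (by norm_num)

/-- The Sylow subgroup generated by an element of order seven. -/
theorem sylow7 (hd : ¬ 49 ∣ Nat.card G) {x : G} (hx : orderOf x = 7) :
    ∃ P : Sylow 7 G, (P : Subgroup G) = zpowers x := by
  refine ⟨(pg7 hx).toSylow fun e => hd ?_, rfl⟩
  rw [← (zpowers x).card_mul_index, Nat.card_zpowers, hx]
  exact Nat.mul_dvd_mul_left 7 e

theorem conj7 (hd : ¬ 49 ∣ Nat.card G) {x y : G} (hx : orderOf x = 7) (hy : orderOf y = 7) :
    ∃ g : G, g * y * g⁻¹ ∈ zpowers x := by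
  obtain ⟨P, hP⟩ := sylow7 hd hx
  obtain ⟨Q, hQ⟩ := sylow7 hd hy
  obtain ⟨g, hg⟩ := MulAction.exists_smul_eq G Q P
  refine ⟨g, ?_⟩
  rw [← hP, ← hg, Sylow.coe_subgroup_smul, hQ]
  exact smul_mem_pointwise_smul y (MulAut.conj g) _ (mem_zpowers y)

theorem SC.struct (h : SC G) (hd : Nat.card G ∣ 12096) (h7 : 7 ∣ Nat.card G) :
    ∃ (K : Subgroup G) (_ : K.Normal) (L : Subgroup K) (_ : L.Normal), K.index ∣ 6 ∧
      (Nat.card L = 1 ∨ Nat.card L = 8 ∨ Nat.card L = 64) ∧ IsSimpleGroup (K ⧸ L) ∧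
      7 ∣ Nat.card (K ⧸ L) := by
  obtain ⟨x, -, hx⟩ := ex7 (H := (⊤ : Subgroup G)) (by rwa [card_top])
  have h49 := not49 hd
  set K := normalClosure ({x} : Set G)
  have hxK : x ∈ K := subset_normalClosure rfl
  have hK7 : 7 ∣ Nat.card K := hx ▸ K.orderOf_dvd_natCard hxK
  have hKd : Nat.card K ∣ 12096 := (card_subgroup_dvd_card K).trans hd
  have hi : K.index ∣ 6 := by
    obtain ⟨P, hP⟩ := sylow7 h49 hx
    have hF := Sylow.normalizer_sup_eq_top' P (N := K) (by rw [hP]; exact zpowers_le.2 hxK)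
    rw [← Sylow.coe_coe, hP] at hF
    have e2 : K.relIndex (normalizer (zpowers x : Set G)) = K.index := by
      rw [← relIndex_sup_right, hF, relIndex_top_right]
    have e3 := (e2 ▸ relIndex_dvd_card K (normalizer (zpowers x : Set G))).trans (h.card_norm h49 hx)
    refine Nat.Coprime.dvd_of_dvd_mul_right (n := 7) (m := 6) ?_ e3
    refine ((Nat.Prime.coprime_iff_not_dvd fact7.out).2 fun e => h49 ?_).symm
    rw [← K.card_mul_index]
    exact Nat.mul_dvd_mul hK7 e
  have hnt : Nontrivial K := by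
    rw [← Finite.one_lt_card_iff_nontrivial]
    have := Nat.le_of_dvd Nat.card_pos hK7
    omega
  obtain ⟨L, ⟨hLn, hLt⟩, hmax⟩ := Finite.exists_le_maximal
    (p := fun L : Subgroup K => L.Normal ∧ L ≠ ⊤) (a := ⊥) ⟨inferInstance, bot_ne_top⟩ |>.imp
    fun _ h => h.2
  have hL7 : ¬ 7 ∣ Nat.card L := fun e => by
    have hall : ∀ y : K, orderOf y = 7 → y ∈ L := fun y hy => by
      obtain ⟨z, hz, ho⟩ := ex7 e
      obtain ⟨g, hg⟩ := conj7 (not49 hKd) ho hy
      simpa [mul_assoc] using hLn.conj_mem _ (zpowers_le.2 hz hg) g⁻¹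
    have : K ≤ L.map K.subtype := by
      refine closure_le _ |>.2 fun y hy => ?_
      obtain ⟨a, rfl, hc⟩ := Group.mem_conjugatesOfSet_iff.1 hy
      have hyK : y ∈ K := subset_closure hy
      refine ⟨⟨y, hyK⟩, hall _ ?_, rfl⟩
      rw [← orderOf_coe]
      obtain ⟨c, rfl⟩ := isConj_iff.1 hc
      exact (MulAut.conj c).orderOf_eq a |>.trans hx
    exact hLt (eq_top_iff.2 fun y _ => by
      obtain ⟨z, hz, e⟩ := this y.2
      exact (Subtype.ext e : z = y) ▸ hz)
  refine ⟨K, inferInstance, L, hLn, hi, (h.sub K).card_normal hKd hK7 L hL7, ?_, ?_⟩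
  · have : Nontrivial (K ⧸ L) := QuotientGroup.nontrivial_iff.2 hLt
    refine ⟨fun N hN => ?_⟩
    by_cases e : N.comap (QuotientGroup.mk' L) = ⊤
    · exact Or.inr (by
        rw [← map_comap_eq_self_of_surjective (QuotientGroup.mk'_surjective L) N, e,
          map_top_of_surjective _ (QuotientGroup.mk'_surjective L)])
    · have := hmax ⟨hN.comap _, e⟩ (QuotientGroup.le_comap_mk' L N)
      exact Or.inl (by
        rw [← map_comap_eq_self_of_surjective (QuotientGroup.mk'_surjective L) N,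
          Subgroup.map_eq_bot_iff,
          QuotientGroup.ker_mk']
        exact this)
  · rw [card_eq_card_quotient_mul_card_subgroup L] at hK7
    exact (fact7.out.dvd_mul.1 hK7).resolve_right hL7

theorem SC.no4032 (h : SC G) (L : Subgroup G) [L.Normal] (hL : Nat.card L = 8)
    [IsSimpleGroup (G ⧸ L)] (hs : Nat.card (G ⧸ L) = 504) : False := by
  have hG : Nat.card G = 4032 := by rw [card_eq_card_quotient_mul_card_subgroup L, hs, hL]
  obtain ⟨x, -, hx⟩ := ex7 (H := (⊤ : Subgroup G)) (by rw [card_top, hG]; norm_num)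
  have key : ∀ A : Subgroup L, A.Characteristic → A ≠ ⊥ → A = ⊤ := fun A hA h1 => by
    have hc : Nat.card (A.map L.subtype) = Nat.card A := card_map_of_injective L.subtype_injective
    have hd : Nat.card A ∣ 8 := hL ▸ card_subgroup_dvd_card A
    have := h.mod (T := A.map L.subtype) (by rw [hc]; exact fun e => absurd (e.trans hd) (by norm_num))
      hx (by rw [normalizer_eq_top]; trivial)
    rw [hc] at this
    have h2 : Nat.card A ≠ 1 := fun e => h1 (card_eq_one.1 e)
    exact (card_eq_iff_eq_top A).1 (hL ▸ (by decide : ∀ n ∈ Nat.divisors 8, n % 7 = 1 → n ≠ 1 → n = 8) _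
      (Nat.mem_divisors.2 ⟨hd, by norm_num⟩) this h2)
  have : Fact (Nat.Prime 2) := ⟨Nat.prime_two⟩
  have hp : IsPGroup 2 L := IsPGroup.of_card (n := 3) hL
  have : Nontrivial L := by rw [← Finite.one_lt_card_iff_nontrivial, hL]; norm_num
  have hZ := key (center L) inferInstance (nontrivial_iff_ne_bot _ |>.1 hp.center_nontrivial)
  have hsq : ∀ a : L, a ^ 2 = 1 := by
    let A : Subgroup L :=
      { carrier := {a | a ^ 2 = 1}
        mul_mem' := fun {a b} ha hb => by
          have : Commute a b := (mem_center_iff.1 (hZ ▸ mem_top b : b ∈ center L) a)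
          rw [Set.mem_ofPred_eq, this.mul_pow, ha, hb, one_mul]
        one_mem' := one_pow 2
        inv_mem' := fun {a} ha => by rw [Set.mem_ofPred_eq, inv_pow, ha, inv_one] }
    have := key A (characteristic_iff_le_comap.2 fun φ a ha => by
      change φ a ^ 2 = 1
      rw [← map_pow, show a ^ 2 = 1 from ha, map_one]) fun e => by
        obtain ⟨t, ht⟩ := exists_prime_orderOf_dvd_card' (G := L) 2 (by rw [hL]; norm_num)
        have : t ∈ A := show t ^ 2 = 1 from ht ▸ pow_orderOf_eq_one t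
        rw [e, mem_bot] at this
        rw [this, orderOf_one] at ht
        omega
    exact fun a => (this ▸ mem_top a : a ∈ A)
  have hA := H93.S2B.card_aut_elem hsq (by rw [hL]; norm_num)
  set f := (MulAut.conjNormal : G →* MulAut L)
  rcases (inferInstance : (f.ker.map (QuotientGroup.mk' L)).Normal).eq_bot_or_eq_top with e | e
  · rw [Subgroup.map_eq_bot_iff, QuotientGroup.ker_mk'] at e
    have e1 := index_dvd_of_le e
    rw [index_ker, index_eq_card, hs] at e1
    exact absurd (e1.trans ((card_subgroup_dvd_card _).trans hA)) (by norm_num)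
  · have e1 := card_map_dvd f.ker (QuotientGroup.mk' L)
    rw [e, card_top, hs] at e1
    obtain ⟨y, hy, ho⟩ := ex7 ((by norm_num : 7 ∣ 504).trans e1)
    obtain ⟨t, ht⟩ := exists_ne (1 : L)
    refine ht (Subtype.ext (h.eq_one (T := L) (by rw [hL]; norm_num) ho t.2 ?_))
    have := congrArg Subtype.val (DFunLike.congr_fun (MonoidHom.mem_ker.1 hy) t)
    rw [MulAut.conjNormal_apply] at this
    exact mul_inv_eq_iff_eq_mul.1 this

theorem card_seven [IsSimpleGroup G] (h7 : 7 ∣ Nat.card G) (hd : Nat.card G ∣ 12096) :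
    (IsMulCommutative G ∧ Nat.card G = 7) ∨ (¬ IsMulCommutative G ∧ (Nat.card G = 168 ∨
      Nat.card G = 504 ∨ Nat.card G = 6048 ∨ Nat.card G = 12096)) := by
  by_cases hc : IsMulCommutative G
  · refine Or.inl ⟨hc, ?_⟩
    by_contra e
    exact H87.nonabelian_of_card_not_prime (G := G)
      (fun hp => e ((Nat.prime_dvd_prime_iff_eq fact7.out hp).1 h7).symm) hc
  · refine Or.inr ⟨hc, ?_⟩
    by_cases hle : Nat.card G ≤ 6232
    · exact (by decide +kernel : ∀ n ∈ [60, 168, 360, 504, 660, 1092, 2448, 2520, 3420, 4080, 5616,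
        6048, 6072], 7 ∣ n → n ∣ 12096 → n = 168 ∨ n = 504 ∨ n = 6048 ∨ n = 12096) _
        (H44.Sv.card_mem hc hle) h7 hd
    · exact (by decide +kernel : ∀ n ∈ Nat.divisors 12096, ¬ n ≤ 6232 → n = 168 ∨ n = 504 ∨
        n = 6048 ∨ n = 12096) _ (Nat.mem_divisors.2 ⟨hd, by norm_num⟩) hle

theorem solv_of_dvd (h : Nat.card G ∣ 1728) : Group.IsSolvable G :=
  H29.isSolvable_of_card_dvd_pow_mul_pow (a := 6) (b := 3) Nat.prime_two Nat.prime_three h

theorem solv_ext (N : Subgroup G) [N.Normal] (h1 : Group.IsSolvable N)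
    (h2 : Group.IsSolvable (G ⧸ N)) : Group.IsSolvable G :=
  Group.isSolvable_of_ker_le_range N.subtype (QuotientGroup.mk' N)
    (by rw [QuotientGroup.ker_mk', range_subtype])

/-- A group with a nontrivial normal `7'`-subgroup. -/
theorem SC.loc (h : SC G) (hd : Nat.card G ∣ 12096) (T : Subgroup G) [T.Normal] (h1 : T ≠ ⊥)
    (hT : ¬ 7 ∣ Nat.card T) : Group.IsSolvable G ∨ ∃ K : Subgroup G, Nat.card K = 1344 := by
  by_cases h7 : 7 ∣ Nat.card G
  swap
  · exact Or.inl (solv_of_dvd (Nat.Coprime.dvd_of_dvd_mul_left (m := 7)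
      ((Nat.Prime.coprime_iff_not_dvd fact7.out).2 h7).symm hd))
  obtain ⟨K, _, L, _, hi, hL, hs, hq⟩ := h.struct hd h7
  have hK := card_eq_card_quotient_mul_card_subgroup L
  have hKd : Nat.card K ∣ 12096 := (card_subgroup_dvd_card K).trans hd
  rcases card_seven hq ((card_quotient_dvd_card L).trans hKd) with ⟨hc, -⟩ | ⟨hc, hcs⟩
  · refine Or.inl (solv_ext K (solv_ext L (solv_of_dvd ?_) (Group.isSolvable_of_comm hc.1.1))
      (solv_of_dvd (hi.trans (by norm_num))))
    rcases hL with e | e | e <;> rw [e] <;> norm_num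
  have hL1 : Nat.card L ≠ 1 := fun e => by
    obtain rfl := card_eq_one.1 e
    have : IsSimpleGroup K := QuotientGroup.quotientBot.symm.isSimpleGroup
    have h7K : 7 ∣ Nat.card K := hq.trans (card_quotient_dvd_card _)
    rcases (inferInstance : (T.subgroupOf K).Normal).eq_bot_or_eq_top with e | e
    · obtain ⟨x, hx, ho⟩ := ex7 h7K
      refine h1 (eq_bot_iff.2 fun t ht => h.eq_one hT ho ht ?_)
      exact commute_of_normal_of_disjoint K T inferInstance inferInstance
        (subgroupOf_eq_bot.1 e).symm x t hx ht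
    · exact hT (h7K.trans (card_dvd_of_le (subgroupOf_eq_top.1 e)))
  rcases hL with e | e | e
  · exact absurd e hL1
  · rcases hcs with e' | e' | e' | e'
    · exact Or.inr ⟨K, by rw [hK, e, e']⟩
    · exact ((h.sub K).no4032 L e e').elim
    all_goals (rw [hK, e, e'] at hKd; norm_num at hKd)
  · rcases hcs with e' | e' | e' | e' <;> (rw [hK, e, e'] at hKd; norm_num at hKd)

/-- A group of order `12096`. -/
theorem SC.top (h : SC G) (hc : Nat.card G = 12096) : IsSimpleGroup G ∨
    ∃ (K : Subgroup G) (_ : K.Normal), IsSimpleGroup K ∧ Nat.card K = 6048 := by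
  obtain ⟨K, _, L, _, hi, hL, hs, hq⟩ := h.struct hc.dvd (by rw [hc]; norm_num)
  have hK := card_eq_card_quotient_mul_card_subgroup L
  have hG := K.card_mul_index
  have hKd : Nat.card K ∣ 12096 := hc ▸ card_subgroup_dvd_card K
  have hi' : K.index = 1 ∨ K.index = 2 ∨ K.index = 3 ∨ K.index = 6 :=
    (by decide : ∀ n ∈ Nat.divisors 6, n = 1 ∨ n = 2 ∨ n = 3 ∨ n = 6) _
      (Nat.mem_divisors.2 ⟨hi, by norm_num⟩)
  have hb : Nat.card L = 1 → IsSimpleGroup K := fun e => by
    obtain rfl := card_eq_one.1 e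
    exact QuotientGroup.quotientBot.symm.isSimpleGroup
  rw [hK, hc] at hG
  rcases card_seven hq ((card_quotient_dvd_card L).trans hKd) with ⟨-, e⟩ | ⟨-, e | e | e | e⟩
  · rcases hL with e1 | e1 | e1 <;> rw [e, e1] at hG <;> omega
  · rcases hL with e1 | e1 | e1 <;> rw [e, e1] at hG <;> omega
  · rcases hL with e1 | e1 | e1
    · rw [e, e1] at hG; omega
    · exact ((h.sub K).no4032 L e1 e).elim
    · rw [e, e1] at hG; omega
  · rcases hL with e1 | e1 | e1
    · exact Or.inr ⟨K, inferInstance, hb e1, by rw [hK, e, e1]⟩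
    all_goals (rw [e, e1] at hG; omega)
  · rcases hL with e1 | e1 | e1
    · have := hb e1
      obtain rfl : K = ⊤ := index_eq_one.1 (by rw [e, e1] at hG; omega)
      exact Or.inl topEquiv.symm.isSimpleGroup
    all_goals (rw [e, e1] at hG; omega)

end H40.G22
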