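/- S3275, chapter C4, part II: job S2a. -/
import Cfsg.Agent.H73.GSSpec

set_option autoImplicit false

namespace H40.GSS2a

open Subgroup Cfsg H98 H48.DP H57.DPC H48.DP2 H98.DP0C H73.GS

universe u

theorem job : JobS2a.{u} := by
  intro jP nc f27 x3' X _ _ Y K y x s h d hY hK
  have : Fact (Nat.Prime 3) := ⟨Nat.prime_three⟩
  by_contra xC
  obtain ⟨cm, th⟩ := h.cm K hK
  obtain ⟨yY, xY, sY, hT⟩ := d.xx
  have xK := (nc X K x h.toSec hK h.x3).1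
  have yK := (nc X K y h.toSec hK d.y3).1
  have TK : Y ⊔ zpowers s ≤ No K := fun g hg => cm.two g trivial (hT.to_le (zpowers_le.2 hg))
  have sK : s ∈ No K := TK (mem_sup_right (mem_zpowers s))
  obtain ⟨⟨π, p1, p2, p3⟩, -⟩ := jP X K cm.sm.cen cm.inn
  have x3 : x ^ 3 = 1 := h.x3 ▸ pow_orderOf_eq_one x
  have a3 : π ⟨x, xK⟩ ^ 3 = 1 := by
    rw [← map_pow, show (⟨x, xK⟩ : No K) ^ 3 = 1 from Subtype.ext x3, map_one]
  have o3 : orderOf (π ⟨x, xK⟩) = 3 := orderOf_eq_prime a3 fun e => xC ((p3 _).1 e)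
  by_cases h27 : IsL27 K
  swap
  · have cC : (π ⟨x, xK⟩)⁻¹ * x ∈ Ce K := p2 ⟨x, xK⟩
    have cc : Commute (π ⟨x, xK⟩) ((π ⟨x, xK⟩)⁻¹ * x) := cC _ (p1 _)
    have c3 : ((π ⟨x, xK⟩)⁻¹ * x) ^ 3 = 1 := by
      have := cc.mul_pow 3
      rwa [mul_inv_cancel_left, x3, a3, one_mul, eq_comm] at this
    have c1 : (π ⟨x, xK⟩)⁻¹ * x = 1 := by_contra fun e =>
      h27 ((nc X K _ h.toSec hK (orderOf_eq_prime c3 e)).2 cC)
    have xK' : x ∈ K := inv_mul_eq_one.1 c1 ▸ p1 _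
    obtain ⟨D, hD, xD⟩ := exists_isSyl_le (p := 3) (isPGroup_zpowers (k := 1) (x := x)
      (by simpa using x3)) (zpowers_le.2 xK')
    obtain ⟨k1, k2⟩ := x3' X K (th.resolve_left h27)
    have := h.ag D hD.isPGroup (xD (mem_zpowers x)) (fun g hg => by
      obtain ⟨n, hn⟩ := isPGroup_iff_forall.1 hD.isPGroup g hg
      exact k2 g (hD.le hg) n hn) (by
      rw [hD.card_eq]
      exact Nat.pow_le_pow_right (n := 3) (i := 3) (by norm_num)
        ((Nat.prime_three.pow_dvd_iff_le_factorization Nat.card_pos.ne').1 k1))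
    exact xC (mem_bot.1 (this (xD (mem_zpowers x))) ▸ one_mem _)
  obtain ⟨hc, A, AK, A0, hA, xA, sA⟩ := f27 X K h27 _ (p1 ⟨x, xK⟩) _ (p1 ⟨s, sK⟩) o3 (by
    rw [← map_inv, ← map_inv, ← map_mul, ← map_mul]
    exact congrArg π (Subtype.ext d.sx))
  have cz : ∀ g : No K, (g : X) * x = x * g → π g ∈ zpowers (π ⟨x, xK⟩) := fun g hg =>
    hc (mem_inf.2 ⟨p1 g, mem_centralizer_singleton_iff.2 (by
      rw [← map_mul, ← map_mul]
      exact congrArg π (Subtype.ext hg))⟩)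
  have CA : Ce K ≤ No A := (centralizer_le (SetLike.coe_subset_coe.2 AK)).trans
    (centralizer_le_normalizer _)
  have nA : ∀ g : No K, π g ∈ No A → (g : X) ∈ No A := fun g hg => by
    simpa using mul_mem hg (CA (p2 g))
  have YC : Y ≤ Ce K := fun t ht => by
    have tK := TK (mem_sup_left ht)
    refine (p3 ⟨t, tK⟩).1 ?_
    have h1 := (H87.KM.elem_zpowers a3).2 _ (cz ⟨t, tK⟩ (mem_centralizer_singleton_iff.1 (hY ht)))
    obtain ⟨n, hn⟩ := isPGroup_iff_forall.1 hT t (mem_sup_left ht)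
    have h2 : π ⟨t, tK⟩ ^ 2 ^ n = 1 := by
      rw [← map_pow, show (⟨t, tK⟩ : No K) ^ 2 ^ n = 1 from Subtype.ext hn, map_one]
    exact orderOf_eq_one_iff.1 (Nat.eq_one_of_dvd_coprimes
      (Nat.Coprime.pow_right n (show Nat.Coprime 3 2 by norm_num))
      (orderOf_dvd_of_pow_eq_one h1) (orderOf_dvd_of_pow_eq_one h2))
  have n2 : ∀ g : X, g ∈ No A → g ∈ No Y → g ∈ No (A ⊔ Y) := fun g a b =>
    normalizer_inf_normalizer_le_normalizer_sup A Y (mem_inf.2 ⟨a, b⟩)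
  have sA' := nA ⟨s, sK⟩ sA
  have e := d.mx (A ⊔ Y) ⟨n2 y (nA ⟨y, yK⟩ (zpowers_le.2 xA (cz _ d.yx.eq))) yY,
    n2 x (nA ⟨x, xK⟩ xA) xY, n2 s sA' sY, by
      rw [sup_assoc]
      exact hA.to_sup_of_normal_left' hT (sup_le (YC.trans CA) (zpowers_le.2 sA'))⟩ le_sup_right
  exact A0 (eq_bot_iff.2 (cm.sm.cen ▸ le_inf AK ((le_sup_left.trans e.le).trans YC)))

end H40.GSS2a
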