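import Cfsg.Agent.H7.GWCons
import Cfsg.Agent.H24.GWL2b
import Cfsg.Agent.H24.Socle
import Cfsg.Agent.H17.AbCent
import Cfsg.Agent.H31.CITMain
import Cfsg.Agent.H14.Term
import Cfsg.Agent.H86.ZStarElt
import Cfsg.Agent.H86.QDSub
import Cfsg.Agent.H8.TransferEval
import Cfsg.Agent.H34.BS
import Cfsg.Agent.H3.NonCyclic
import Cfsg.Agent.H40.GwC3
import Cfsg.Agent.S3224

/-! Involutions whose centralizer is generalized dihedral (row S3322). -/

set_option autoImplicit false

namespace H40.GwC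

open _root_.Cfsg Subgroup H46 H7.GW H60.GW H61 H24.GW
open scoped MatrixGroups

universe u

variable {G : Type u} [Group G]

/-- `H = A ⟨x⟩` is generalized dihedral and is the centralizer of every involution of `A`. -/
structure DH (H A : Subgroup G) (x : G) : Prop where
  le : A ≤ H
  mem : x ∈ H
  nmem : x ∉ A
  sq : ∀ y ∈ H, y ∉ A → y * y = 1
  idx : ∀ y ∈ H, y ∉ A → ∀ z ∈ H, z ∉ A → y * z ∈ A
  cen : ∀ j ∈ A, orderOf j = 2 → ∀ g, g * j = j * g ↔ g ∈ H

theorem inv_of_sq {H A : Subgroup G} (hle : A ≤ H) (sq : ∀ y ∈ H, y ∉ A → y * y = 1) {y a : G}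
    (hy : y ∈ H) (hy' : y ∉ A) (ha : a ∈ A) : y * a * y⁻¹ = a⁻¹ := by
  have h1 := sq y hy hy'
  have h2 := sq (y * a) (mul_mem hy (hle ha)) fun h => hy' ((mul_mem_cancel_right ha).1 h)
  rw [inv_eq_of_mul_eq_one_right h1, eq_comm, inv_eq_iff_mul_eq_one]
  calc a * (y * a * y) = y * y * (a * (y * a * y)) := by rw [h1, one_mul]
    _ = y * (y * a * (y * a)) * y := by simp only [mul_assoc]
    _ = 1 := by rw [h2, mul_one, h1]

theorem lift_inv [Finite G] {K : Type*} [Group K] (f : G →* K) (ho : Odd (Nat.card f.ker)) {a : G}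
    (h2 : orderOf (f a) = 2) : ∃ j ∈ zpowers a, orderOf j = 2 ∧ f j = f a := by
  have h3 := sq_of_ord h2
  have h1 : a * a ∈ f.ker := by rw [MonoidHom.mem_ker, map_mul, h3]
  obtain ⟨m, hm⟩ := ho
  have h4 : f (a ^ (2 * m + 1)) = f a := by
    rw [map_pow, pow_succ, pow_mul, sq, h3, one_pow, one_mul]
  refine ⟨a ^ (2 * m + 1), pow_mem (mem_zpowers a) _, ord_of_sq ?_ fun e => ?_, h4⟩
  · rw [← (Commute.refl a).mul_pow, ← hm]
    exact congrArg Subtype.val (pow_card_eq_one' (x := (⟨a * a, h1⟩ : f.ker)))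
  · rw [e, map_one] at h4
    exact ne_one_of_ord h2 h4.symm

namespace DH

variable {H A : Subgroup G} {x : G} (h : DH H A x)
include h

theorem inv {y a : G} (hy : y ∈ H) (hy' : y ∉ A) (ha : a ∈ A) : y * a * y⁻¹ = a⁻¹ :=
  inv_of_sq h.le h.sq hy hy' ha

theorem comm {a b : G} (ha : a ∈ A) (hb : b ∈ A) : a * b = b * a := by
  have h1 := h.inv h.mem h.nmem (mul_mem ha hb)
  rw [← conj_mul, h.inv h.mem h.nmem ha, h.inv h.mem h.nmem hb, ← mul_inv_rev, inv_inj] at h1
  exact h1.symm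

theorem ord {y : G} (hy : y ∈ H) (hy' : y ∉ A) : orderOf y = 2 :=
  ord_of_sq (h.sq y hy hy') fun e => hy' (e ▸ A.one_mem)

theorem mem_of_sq {y : G} (hy : y ∈ H) (h2 : y * y ≠ 1) : y ∈ A := by
  by_contra e
  exact h2 (h.sq y hy e)

theorem mem_of_odd {y : G} (hy : y ∈ H) (h2 : Odd (orderOf y)) : y ∈ A := by
  by_contra e
  rw [h.ord hy e] at h2
  exact absurd h2 (by decide)

theorem sq_of_comm {y a : G} (hy : y ∈ H) (hy' : y ∉ A) (ha : a ∈ A) (hc : y * a = a * y) :
    a * a = 1 := by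
  have := h.inv hy hy' ha
  rw [hc, mul_inv_cancel_right] at this
  exact mul_eq_one_iff_eq_inv.2 this

theorem relIndex : A.relIndex H = 2 := by
  rw [Subgroup.relIndex, index_eq_two_iff]
  refine ⟨⟨x, h.mem⟩, fun b => ?_⟩
  simp only [mem_subgroupOf, coe_mul]
  by_cases hb : (b : G) ∈ A
  · exact Or.inr ⟨hb, fun e => h.nmem ((mul_mem_cancel_left hb).1 e)⟩
  · exact Or.inl ⟨h.idx _ b.2 hb _ h.mem h.nmem, hb⟩

theorem map [Finite G] {K : Type*} [Group K] (f : G →* K) (hf : Function.Surjective f)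
    (ho : Odd (Nat.card f.ker)) : DH (H.map f) (A.map f) (f x) := by
  have key : ∀ y ∈ H, f y ∈ A.map f → y ∈ A := by
    rintro y hy ⟨a, ha, e⟩
    have h1 : a⁻¹ * y ∈ f.ker := by rw [MonoidHom.mem_ker, map_mul, map_inv, e, inv_mul_cancel]
    exact (mul_mem_cancel_left (inv_mem ha)).1
      (h.mem_of_odd (mul_mem (inv_mem (h.le ha)) hy) (odd_orderOf_of_mem ho h1))
  refine ⟨map_mono h.le, mem_map_of_mem f h.mem, fun e => h.nmem (key x h.mem e), ?_, ?_, ?_⟩
  · rintro _ ⟨y, hy, rfl⟩ e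
    rw [← map_mul, h.sq y hy fun e' => e (mem_map_of_mem f e'), map_one]
  · rintro _ ⟨y, hy, rfl⟩ e _ ⟨z, hz, rfl⟩ e'
    rw [← map_mul]
    exact mem_map_of_mem f (h.idx y hy (fun e1 => e (mem_map_of_mem f e1)) z hz
      fun e1 => e' (mem_map_of_mem f e1))
  · rintro _ ⟨a, ha, rfl⟩ h2 g
    obtain ⟨j, hj, hj2, e⟩ := lift_inv f ho h2
    have h3 := H24.map_cent_inv hf ho hj2
    have h4 : centralizer {j} = H := by
      ext g
      rw [mem_centralizer_singleton_iff]
      exact h.cen j (zpowers_le.2 ha hj) hj2 g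
    rw [← e, ← mem_centralizer_singleton_iff, ← h3, h4]

/-- two involutions in `A`: no reflection is conjugate into `A`. -/
theorem nofuse {a j k : G} (ha : a ∈ A) (ha2 : a * a ≠ 1) (hj : j ∈ A) (hk : k ∈ A)
    (hj2 : orderOf j = 2) (hk2 : orderOf k = 2) (hne : j ≠ k) {y : G} (hy : y ∈ H) (hy' : y ∉ A)
    (g : G) : g * y * g⁻¹ ∉ A := by
  intro hw
  have hw2 : orderOf (g * y * g⁻¹) = 2 := by
    rw [← MulAut.conj_apply, MulEquiv.orderOf_eq, h.ord hy hy']
  have cj : ∀ u v : G, g * u * g⁻¹ * (g * v * g⁻¹) = g * v * g⁻¹ * (g * u * g⁻¹) ↔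
      u * v = v * u := fun u v => by
    rw [conj_mul, conj_mul, mul_left_inj, mul_right_inj]
  have h1 : ∀ v ∈ A, orderOf v = 2 → g * v * g⁻¹ ∈ H := fun v hv hv2 =>
    (h.cen _ hw hw2 _).1 ((cj v y).2 ((h.cen v hv hv2 y).2 hy).symm)
  have h2 : ∀ v ∈ A, orderOf v = 2 → g * v * g⁻¹ ∉ A := fun v hv hv2 hv' => by
    have h3 : orderOf (g * v * g⁻¹) = 2 := by rw [← MulAut.conj_apply, MulEquiv.orderOf_eq, hv2]
    have h4 := (h.cen _ hv' h3 _).1 ((cj a v).2 (h.comm ha hv))
    exact ha2 (h.sq_of_comm hy hy' ha ((cj a y).1 ((h.cen _ hw hw2 _).2 h4)).symm)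
  refine h2 (j * k) (mul_mem hj hk) (ord2_mul hj2 hk2 (h.comm hj hk) hne) ?_
  rw [← conj_mul]
  exact h.idx _ (h1 j hj hj2) (h2 j hj hj2) _ (h1 k hk hk2) (h2 k hk hk2)

/-- the elements of `A` of order at most two -/
def om : Subgroup G where
  carrier := {a | a ∈ A ∧ a * a = 1}
  one_mem' := ⟨A.one_mem, one_mul 1⟩
  mul_mem' := fun {a b} ha hb => ⟨mul_mem ha.1 hb.1, by
    rw [mul_assoc, ← mul_assoc b, ← h.comm ha.1 hb.1, mul_assoc, hb.2, mul_one, ha.2]⟩
  inv_mem' := fun {a} ha => ⟨inv_mem ha.1, by rw [← mul_inv_rev, ha.2, inv_one]⟩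

theorem exists_sylow_le [Finite G] {j : G} (hj : j ∈ A) (hj2 : orderOf j = 2)
    (hf : ∀ y ∈ H, y ∉ A → ∀ g : G, g * y * g⁻¹ ∉ A) : ∃ S : Sylow 2 G, (S : Subgroup G) ≤ H := by
  have hp : IsPGroup 2 h.om := fun a => ⟨1, Subtype.ext (by simpa [pow_two] using a.2.2)⟩
  obtain ⟨S, hS⟩ := hp.exists_le_sylow
  refine ⟨S, ?_⟩
  have h1 : (S : Subgroup G) ⊓ normalizer (((S : Subgroup G) ⊓ H : Subgroup G) : Set G) ≤
      normalizer (h.om : Set G) := by
    rintro g ⟨-, hg⟩
    refine mem_normalizer_fintype fun a ha => ?_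
    have h2 := ((mem_normalizer_iff.1 hg a).1 ⟨hS ha, h.le ha.1⟩).2
    refine ⟨by_contra fun e => hf _ h2 e g⁻¹ (by simpa [mul_assoc] using ha.1), ?_⟩
    rw [conj_mul, ha.2, mul_one, mul_inv_cancel]
  obtain ⟨z, hz, hz2, -, hzc⟩ := H14.exists_central_orderOf_eq hp (S.2.to_inf_left) h1
    (ne_bot_of_mem (x := j) ⟨hj, sq_of_ord hj2⟩ (ne_one_of_ord hj2))
  have := S.2.isNilpotent
  have h3 := normalizerCondition_iff_only_full_group_self_normalizing.1
    (Group.normalizerCondition_of_isNilpotent (G := (S : Subgroup G))) (H.subgroupOf S) (by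
      refine le_antisymm (fun g hg => ?_) le_normalizer
      refine (h.cen z hz.1 hz2 g).1 (hzc g ⟨g.2, mem_normalizer_fintype fun a ha => ?_⟩)
      exact ⟨mul_mem (mul_mem g.2 ha.1) ((S : Subgroup G).inv_mem g.2),
        (mem_normalizer_iff.1 hg ⟨a, ha.1⟩).1 ha.2⟩)
  exact subgroupOf_eq_top.1 h3

theorem exists_sign [Finite G] (ho : Odd H.index)
    (hf : ∀ y ∈ H, y ∉ A → ∀ g : G, g * y * g⁻¹ ∉ A) :
    ∃ V : G →* ℤˣ, ∀ y ∈ H, (V y = 1 ↔ y ∈ A) := by
  obtain ⟨ϕ, hϕ⟩ := H8.exists_sign_hom (A.subgroupOf H) h.relIndex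
  have h1 : ∀ a ∈ A, MonoidHom.transfer ϕ a = 1 := fun a ha => by
    rw [← one_pow H.index]
    refine H8.transfer_eq_pow_of_forall ϕ a 1 fun k b hb => ?_
    rw [one_pow]
    exact (hϕ _).1.2 (by_contra fun e => hf _ hb e b (by simpa [mul_assoc] using pow_mem ha k))
  refine ⟨MonoidHom.transfer ϕ, fun y hy => ⟨fun e => by_contra fun hy' => ?_, h1 y⟩⟩
  have h2 : MonoidHom.transfer ϕ y = (-1) ^ H.index := by
    refine H8.transfer_eq_pow_of_forall ϕ y (-1) fun k b hb => ?_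
    obtain ⟨m, rfl | rfl⟩ := Nat.even_or_odd' k
    · rw [pow_mul (-1), neg_one_sq, one_pow]
      exact (hϕ _).1.2 (by simp [mem_subgroupOf, pow_mul, pow_two, h.sq y hy hy'])
    · rw [pow_succ (-1), pow_mul (-1), neg_one_sq, one_pow, one_mul]
      exact (hϕ _).2.2 (by
        simpa [mem_subgroupOf, pow_succ, pow_mul, h.sq y hy hy'] using hf y hy hy' b⁻¹)
  rw [ho.neg_one_pow, e] at h2
  exact absurd h2 (by decide)

end DH

theorem sl_two_sq {F : Type*} [Field F] [CharP F 2] {g : SL(2, F)} {k : ℕ} (h : g ^ 2 ^ k = 1) :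
    g * g = 1 := by
  have h2 : (2 : F) = 0 := CharTwo.two_eq_zero
  have ch : ∀ a : SL(2, F), a * a = 1 ↔ a.1 0 0 + a.1 1 1 = 0 := fun a => by
    have hd := a.2
    rw [Matrix.det_fin_two] at hd
    constructor
    · intro e
      have e1 := congrArg (fun b : SL(2, F) => b.1 0 0 + b.1 1 1) e
      simp only [Matrix.SpecialLinearGroup.coe_mul, Matrix.mul_apply, Fin.sum_univ_two,
        Matrix.SpecialLinearGroup.coe_one, Matrix.one_apply_eq] at e1
      refine pow_eq_zero_iff (two_ne_zero) |>.1 ?_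
      linear_combination e1 + (1 + a.1 0 0 * a.1 1 1 - a.1 0 1 * a.1 1 0) * h2
    · intro e
      ext i j
      fin_cases i <;> fin_cases j <;>
        simp [Matrix.mul_apply, Fin.sum_univ_two]
      · linear_combination a.1 0 0 * e - hd - h2
      · linear_combination a.1 0 1 * e
      · linear_combination a.1 1 0 * e
      · linear_combination a.1 1 1 * e - hd - h2
  have tr : ∀ a : SL(2, F), (a * a).1 0 0 + (a * a).1 1 1 = (a.1 0 0 + a.1 1 1) ^ 2 := fun a => by
    simp only [Matrix.SpecialLinearGroup.coe_mul, Matrix.mul_apply, Fin.sum_univ_two]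
    linear_combination (a.1 0 1 * a.1 1 0 - a.1 0 0 * a.1 1 1) * h2
  induction k generalizing g with
  | zero => rw [pow_zero, pow_one] at h; rw [h, one_mul]
  | succ k ih =>
    rw [pow_succ', pow_mul, sq] at h
    have := (ch _).1 (ih h)
    rw [tr] at this
    exact (ch _).2 (pow_eq_zero_iff two_ne_zero |>.1 this)

/-- nonsolvable groups with abelian centralizers of involutions -/
theorem abc_struct [Finite G] (h : H17.AbC G) (hns : ¬ Group.IsSolvable G) :
    ∃ (F : Type) (_ : Field F) (_ : Fintype F), 3 < Fintype.card F ∧ ∃ f : G →* PSL(2, F),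
      Function.Surjective f ∧ f.ker = oddCore G ∧ ∀ (g : G) (k : ℕ), g ^ 2 ^ k = 1 → g * g = 1 := by
  obtain ⟨S⟩ := (inferInstance : Nonempty (Sylow 2 G))
  rcases h.cases with h1 | h1 | h1
  · exact absurd (H24.solvable_of_cyclic S (h1 S)) hns
  · have := h1 S
    have := S.2.isNilpotent
    have : Group.IsSolvable (G ⧸ (S : Subgroup G)) :=
      H42.odd_order (Nat.odd_iff.2 (Nat.two_dvd_ne_zero.1 S.not_dvd_index))
    exact absurd (Group.isSolvable_of_ker_le_range (S : Subgroup G).subtype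
      (QuotientGroup.mk' (S : Subgroup G)) (by simp)) hns
  obtain ⟨F, i1, i2, B, i3, i4, h2, hB, ⟨e⟩⟩ := h1.prod H31.tiCases
  let e2 := slEquivPslOfTwo (F := F) CharTwo.two_eq_zero
  let f : G →* PSL(2, F) := e2.toMonoidHom.comp ((MonoidHom.fst _ _).comp e.toMonoidHom)
  have hf : Function.Surjective f := e2.surjective.comp (Prod.fst_surjective.comp e.surjective)
  have hk : Odd (Nat.card f.ker) := by
    refine hB.of_dvd_nat (card_dvd_of_injective
      (((MonoidHom.snd _ _).comp e.toMonoidHom).comp f.ker.subtype) ?_)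
    rw [injective_iff_map_eq_one]
    rintro ⟨a, ha⟩ e1
    refine Subtype.ext (e.injective (Prod.ext (e2.injective ?_) ?_))
    · exact (MonoidHom.mem_ker.1 ha).trans (map_one f).symm
    · simpa using e1
  have h3 : 3 < Fintype.card F := by
    by_contra h3
    obtain ⟨n, -, hn⟩ := FiniteField.card F 2
    have h4 : Fintype.card F = 2 := by
      obtain ⟨n, hn0⟩ := n
      rcases n with _ | _ | n
      · omega
      · simpa using hn
      · simp only [PNat.mk_coe, pow_succ] at hn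
        have := Nat.two_pow_pos n
        omega
    have h5 := H61.gcd_mul_card_psl_two (k := F)
    rw [Nat.card_eq_fintype_card (α := F), h4] at h5
    have := isSolvable_of_card_dvd_24 (G := PSL(2, F)) (by
      rw [show Nat.card PSL(2, F) = 6 by simpa using h5]; decide)
    have := H42.odd_order hk
    exact hns (Group.isSolvable_of_ker_le_range f.ker.subtype f (by simp))
  have hs := isSimpleGroup_psl (F := F) (by rw [Nat.card_eq_fintype_card]; omega)
  refine ⟨F, i1, i2, h3, f, hf, le_antisymm (H2.le_oddCore hk) ?_, fun g k hg => ?_⟩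
  · rcases ((inferInstance : (oddCore G).Normal).map f hf).eq_bot_or_eq_top with h4 | h4
    · exact (Subgroup.map_eq_bot_iff _).1 h4
    · have h5 : Odd (Nat.card PSL(2, F)) := by
        rw [← card_top, ← h4]
        exact (H2.odd_card_oddCore G).of_dvd_nat (card_map_dvd _ _)
      have := H42.odd_order h5
      have := H42.odd_order hk
      exact absurd (Group.isSolvable_of_ker_le_range f.ker.subtype f (by simp)) hns
  · have h4 := congrArg e hg
    rw [map_pow, map_one, Prod.ext_iff] at h4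
    refine e.injective (Prod.ext ?_ ?_)
    · simpa using sl_two_sq h4.1
    · have h5 : (e g).2 = 1 := orderOf_eq_one_iff.1 (Nat.eq_one_of_dvd_coprimes
        ((Nat.coprime_two_left.2 hB).pow_left k) (orderOf_dvd_of_pow_eq_one h4.2)
        (orderOf_dvd_natCard _))
      simp [h5]

/-- an element of an abelian Sylow subgroup, central in the normalizer, outside a subgroup of
index two. -/
theorem exists_fixed [Finite G] (S : Sylow 2 G)
    (hab : ∀ a ∈ (S : Subgroup G), ∀ b ∈ (S : Subgroup G), a * b = b * a) (V : G →* ℤˣ) {y : G}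
    (hy : y ∈ (S : Subgroup G)) (hV : V y = -1) : ∃ c ∈ (S : Subgroup G), V c = -1 ∧
      ∀ n ∈ normalizer ((S : Subgroup G) : Set G), n * c * n⁻¹ = c := by
  classical
  let _ : CommGroup (S : Subgroup G) :=
    { (inferInstance : Group (S : Subgroup G)) with
      mul_comm := fun a b => Subtype.ext (hab a a.2 b b.2) }
  have := Fintype.ofFinite (S : Subgroup G)
  set N := normalizer ((S : Subgroup G) : Set G)
  let O : Finset (S : Subgroup G) := Finset.univ.filter fun o => ∃ n ∈ N, n * y * n⁻¹ = o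
  have hO : ∀ o, o ∈ O ↔ ∃ n ∈ N, n * y * n⁻¹ = o := fun o => by simp [O]
  have hc : Odd O.card := by
    have h1 : O.card = (Cent1 y).relIndex N := by
      rw [← card_class, ← Nat.card_eq_finsetCard]
      refine Nat.card_congr ⟨fun o => ⟨o.1.1, (hO _).1 o.2⟩, fun o => ⟨⟨o.1, ?_⟩, (hO _).2 o.2⟩,
        fun _ => rfl, fun _ => rfl⟩
      obtain ⟨n, hn, e⟩ := o.2
      exact e ▸ (mem_normalizer_iff.1 hn y).1 hy
    rw [h1]
    refine (Nat.odd_iff.2 (Nat.two_dvd_ne_zero.1 S.not_dvd_index)).of_dvd_nat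
      ((relIndex_dvd_of_le_left N fun a ha => mem_centralizer_singleton_iff.2 (hab a ha y hy)).trans
        (relIndex_dvd_index_of_le le_normalizer))
  refine ⟨(∏ o ∈ O, o : (S : Subgroup G)), Subtype.prop _, ?_, fun n hn => ?_⟩
  · have := map_prod (V.comp (S : Subgroup G).subtype) (fun o => o) O
    refine this.trans ?_
    rw [Finset.prod_congr rfl (g := fun _ => -1), Finset.prod_const, hc.neg_one_pow]
    intro o ho
    obtain ⟨n, -, e⟩ := (hO o).1 ho
    change V o = -1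
    rw [← e, map_mul, map_mul, map_inv, hV, mul_right_comm, mul_inv_cancel, one_mul]
  · let α := (S : Subgroup G).normalizerMonoidHom ⟨n, hn⟩
    have hα : ∀ o, ((α o : (S : Subgroup G)) : G) = n * o * n⁻¹ := fun _ => rfl
    rw [← hα, map_prod]
    congr 1
    refine Finset.prod_nbij α (fun o ho => ?_) α.injective.injOn (fun o ho => ?_) fun _ _ => rfl
    · obtain ⟨m, hm, e⟩ := (hO o).1 ho
      exact (hO _).2 ⟨n * m, mul_mem hn hm, by rw [hα, ← e]; group⟩
    · obtain ⟨m, hm, e⟩ := (hO o).1 ho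
      refine ⟨α.symm o, (hO _).2 ⟨n⁻¹ * m, mul_mem (inv_mem hn) hm, ?_⟩, α.apply_symm_apply o⟩
      have := hα (α.symm o)
      rw [α.apply_symm_apply, ← e] at this
      calc n⁻¹ * m * y * (n⁻¹ * m)⁻¹ = n⁻¹ * (m * y * m⁻¹) * n := by group
        _ = _ := by rw [this]; group

/-- the conclusion of S3322 -/
def Concl (G : Type u) [Group G] : Prop :=
  ∃ (N : Subgroup G) (_ : N.Normal), (Odd (Nat.card N) ∨ ∃ m : ℕ, Odd m ∧ Nat.card N = 2 * m) ∧
    ∃ (F : Type) (_ : Field F) (_ : Fintype F), 3 < Fintype.card F ∧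
      (Nonempty (G ⧸ N ≃* PSL(2, F)) ∨ Nonempty (G ⧸ N ≃* PGL(2, F)))

theorem concl_of_abc [Finite G] (h : H17.AbC G) (hns : ¬ Group.IsSolvable G) : Concl G := by
  obtain ⟨F, i1, i2, h3, f, hf, hk, -⟩ := abc_struct h hns
  exact ⟨f.ker, inferInstance, Or.inl (hk ▸ H2.odd_card_oddCore G), F, i1, i2, h3,
    Or.inl ⟨QuotientGroup.quotientKerEquivOfSurjective f hf⟩⟩

theorem sign_eq_one_of_odd (V : G →* ℤˣ) {g : G} (h : Odd (orderOf g)) : V g = 1 := by
  have h1 := congrArg V (pow_orderOf_eq_one g)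
  rcases Int.units_eq_one_or (V g) with e | e
  · exact e
  · rw [map_pow, e, h.neg_one_pow, map_one] at h1
    exact absurd h1 (by decide)

theorem DH.concl_two [Finite G] {H A : Subgroup G} {x : G} (h : DH H A x) {a j k : G} (ha : a ∈ A)
    (ha2 : a * a ≠ 1) (hj : j ∈ A) (hk : k ∈ A) (hj2 : orderOf j = 2) (hk2 : orderOf k = 2)
    (hne : j ≠ k) (hns : ¬ Group.IsSolvable G) : Concl G := by
  have hf := fun y hy hy' g => h.nofuse ha ha2 hj hk hj2 hk2 hne (y := y) hy hy' g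
  obtain ⟨S, hS⟩ := h.exists_sylow_le hj hj2 hf
  have hSo := Nat.odd_iff.2 (Nat.two_dvd_ne_zero.1 S.not_dvd_index)
  obtain ⟨V, hV⟩ := h.exists_sign (hSo.of_dvd_nat (index_dvd_of_le hS)) hf
  have hconj : ∀ g a : G, V (g * a * g⁻¹) = V a := fun g a => by
    rw [map_mul, map_mul, map_inv, mul_right_comm, mul_inv_cancel, one_mul]
  have into : ∀ s : G, orderOf s = 2 → ∃ g : G, g * s * g⁻¹ ∈ (S : Subgroup G) := fun s hs => by
    obtain ⟨P, hP⟩ := (isPGroup_zpowers_ord2 hs).exists_le_sylow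
    obtain ⟨g, rfl⟩ := MulAction.exists_smul_eq G P S
    exact ⟨g, smul_mem_pointwise_smul _ (MulAut.conj g) _ (hP (mem_zpowers s))⟩
  have habc : H17.AbC V.ker := by
    intro s hs a b h1 h2
    have hs' : orderOf (s : G) = 2 := by rw [orderOf_coe, hs]
    obtain ⟨g, hg⟩ := into s hs'
    have h3 : g * s * g⁻¹ ∈ A := (hV _ (hS hg)).1 ((hconj _ _).trans s.2)
    have h4 : ∀ c : V.ker, Commute c s → g * c * g⁻¹ ∈ A := fun c hc => by
      refine (hV _ ((h.cen _ h3 (by rw [← MulAut.conj_apply, MulEquiv.orderOf_eq, hs']) _).1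
        ?_)).1 ((hconj _ _).trans c.2)
      rw [conj_mul, conj_mul, show (c : G) * s = s * c from congrArg Subtype.val hc]
    have h5 := h.comm (h4 a h1) (h4 b h2)
    rw [conj_mul, conj_mul, mul_left_inj, mul_right_inj] at h5
    exact Subtype.ext h5
  obtain ⟨F, i1, i2, h3, f, hfs, hk, h2⟩ := abc_struct habc fun h1 => hns
    (Group.isSolvable_of_ker_le_range V.ker.subtype V (by simp))
  have hsq : ∀ s ∈ (S : Subgroup G), s * s = 1 := fun s hs => by
    by_cases e : s ∈ A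
    · obtain ⟨n, hn⟩ := S.2 ⟨s, hs⟩
      exact congrArg Subtype.val (h2 ⟨s, (hV s (hS hs)).2 e⟩ n
        (Subtype.ext (by simpa using congrArg Subtype.val hn)))
    · exact h.sq s (hS hs) e
  have hab : ∀ a ∈ (S : Subgroup G), ∀ b ∈ (S : Subgroup G), a * b = b * a := fun a ha b hb => by
    rw [← inv_eq_of_mul_eq_one_right (hsq _ (mul_mem ha hb)), mul_inv_rev,
      inv_eq_of_mul_eq_one_right (hsq a ha), inv_eq_of_mul_eq_one_right (hsq b hb)]
  have neg : ∀ g : G, V g ≠ 1 → V g = -1 := fun g => (Int.units_eq_one_or _).resolve_left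
  obtain ⟨g, hg⟩ := into x (h.ord h.mem h.nmem)
  obtain ⟨c, hc, hVc, hcN⟩ := exists_fixed S hab V hg
    ((hconj _ _).trans (neg x fun e => h.nmem ((hV x h.mem).1 e)))
  have hc2 : orderOf c = 2 := ord_of_sq (hsq c hc) fun e => by
    rw [e, map_one] at hVc
    exact absurd hVc (by decide)
  have hiso : IsIsolatedInvolution c := by
    refine ⟨hc2, fun g hg => ?_⟩
    have h4 : orderOf (g * c * g⁻¹) = 2 := by rw [← MulAut.conj_apply, MulEquiv.orderOf_eq, hc2]
    obtain ⟨u, hu, hu'⟩ := H86.exists_conj_central S (IsConj.refl c) (fun s hs => hab s hs c hc)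
      (isPGroup_zpowers_ord2 h4) fun a ⟨i, hi⟩ => hi ▸ (hg.symm.zpow_left i).eq
    have h5 := hu' _ (mem_zpowers _)
    obtain ⟨n, hn, e⟩ := H86.exists_normalizer_conj_central S
      (isConj_iff.2 ⟨u * g, (by group : u * g * c * (u * g)⁻¹ = u * (g * c * g⁻¹) * u⁻¹)⟩)
      (fun s hs => hab s hs c hc) fun s hs => hab s hs _ h5
    rw [hcN n hn] at e
    exact (MulAut.conj u).injective (e.symm.trans hu.symm)
  let π := QuotientGroup.mk' (oddCore G)
  have hπ : ∀ g, π g = 1 ↔ g ∈ oddCore G := fun g => QuotientGroup.eq_one_iff g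
  have hO : ∀ g ∈ oddCore G, V g = 1 := fun g hg =>
    sign_eq_one_of_odd V (odd_orderOf_of_mem (H2.odd_card_oddCore G) hg)
  have hcz : zpowers (π c) ≤ center _ := zpowers_le.2 (mem_center_iff.2 fun q => by
    obtain ⟨g, rfl⟩ := QuotientGroup.mk'_surjective _ q
    have := (hπ _).2 (H34.zstar hiso g)
    rw [map_mul, map_mul, map_mul, map_inv, map_inv, mul_inv_eq_one, mul_inv_eq_iff_eq_mul] at this
    exact this.symm)
  have hc3 : orderOf (π c) = 2 := ord_of_sq (by rw [← map_mul, hsq c hc, map_one]) fun e => by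
    rw [hO c ((hπ c).1 e)] at hVc
    exact absurd hVc (by decide)
  have hn : (zpowers (π c)).Normal := H17.normal_of_le_zc hcz
  let N := (zpowers (π c)).comap π
  have hcN : c ∈ N := mem_zpowers (π c)
  refine ⟨N, inferInstance, Or.inr ⟨_, H2.odd_card_oddCore G, ?_⟩, F, i1, i2, h3, Or.inl ?_⟩
  · have h4 := index_comap_of_surjective (zpowers (π c)) (QuotientGroup.mk'_surjective (oddCore G))
    have h5 := N.card_mul_index
    have h6 := (zpowers (π c)).card_mul_index
    have h7 := (oddCore G).card_mul_index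
    rw [Nat.card_zpowers, hc3, ← index_eq_card] at h6
    rw [← h6, ← h4, ← h5, ← mul_assoc, mul_left_inj' index_ne_zero_of_finite] at h7
    rw [← h7, mul_comm]
  · refine equiv_of_ker_eq ((QuotientGroup.mk' N).comp V.ker.subtype) f (fun q => ?_) hfs ?_
    · obtain ⟨g, rfl⟩ := QuotientGroup.mk'_surjective _ q
      by_cases e : V g = 1
      · exact ⟨⟨g, e⟩, rfl⟩
      · refine ⟨⟨g * c, by rw [MonoidHom.mem_ker, map_mul, neg g e, hVc]; decide⟩, ?_⟩
        simp [(QuotientGroup.eq_one_iff c).2 hcN]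
    · rw [hk]
      have h4 : (oddCore V.ker).map V.ker.subtype ≤ oddCore G := H2.le_oddCore (by
        rw [card_map_of_injective V.ker.subtype_injective]; exact H2.odd_card_oddCore _)
      have h5 : (oddCore G).subgroupOf V.ker ≤ oddCore V.ker := H2.le_oddCore
        ((H2.odd_card_oddCore G).of_dvd_nat (card_comap_dvd_of_injective _ _ V.ker.subtype_injective))
      ext g
      rw [MonoidHom.mem_ker, MonoidHom.comp_apply, QuotientGroup.mk'_apply,
        QuotientGroup.eq_one_iff]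
      refine ⟨fun hg => h5 ?_, fun hg => ?_⟩
      · rcases (H48.mem_zp2 (sq_of_ord hc3)).1 hg with e | e
        · exact (hπ _).1 e
        · have h6 := hO _ ((hπ (c⁻¹ * g)).1 (by
            rw [map_mul, map_inv, ← e]; exact inv_mul_cancel _))
          rw [map_mul, map_inv, hVc, show V g = 1 from g.2] at h6
          exact absurd h6 (by decide)
      · change π (V.ker.subtype g) ∈ zpowers (π c)
        rw [(hπ _).2 (h4 (mem_map_of_mem _ hg))]
        exact one_mem _

/-- dihedral Sylow subgroups: the classes of involutions are classes of any normal subgroup that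
contains all the involutions. -/
theorem frattini_inv [Finite G] (h : TwoIn (⊤ : Subgroup G)) (hd : DihSyl G) {E X : Subgroup G}
    [hE : E.Normal] [hX : X.Normal] (hp : ⁅E, E⁆ = E) (h0 : E ≠ ⊥) (hEX : E ≤ X)
    (hi : ∀ s, orderOf s = 2 → s ∈ X) {a : G} (ha : orderOf a = 2) (g : G) :
    ∃ y ∈ X, y * a * y⁻¹ = g * a * g⁻¹ := by
  have hb : orderOf (g * a * g⁻¹) = 2 := by rw [← MulAut.conj_apply, MulEquiv.orderOf_eq, ha]
  obtain ⟨hf, u, hu, v, hv, hu2, hv2, huv, hc⟩ := (h.mono le_top).fuses_four hp h0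
  by_cases haE : a ∈ E
  · obtain ⟨y, hy, e⟩ := hf a haE _ (hE.conj_mem a haE g) ha hb
    exact ⟨y, hEX hy, e⟩
  have hV := H86.isKleinFour_closure (sq_of_ord hu2) (sq_of_ord hv2) hc (ne_one_of_ord hu2)
    (ne_one_of_ord hv2) huv
  obtain ⟨S, hS⟩ := (IsPGroup.of_card (p := 2) (n := 2) hV.card_four).exists_le_sylow
  have huS : u ∈ (S : Subgroup G) := hS (subset_closure (by simp))
  have hvS : v ∈ (S : Subgroup G) := hS (subset_closure (by simp))
  obtain ⟨σ, t, s, hs⟩ := hd S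
  obtain ⟨w, hw, htE, hs⟩ : ∃ w ∈ E, t ∈ E ∧ Setup S σ t w := by
    by_cases e : u = t
    · exact ⟨v, hv, e ▸ hu, hs.of_inv hvS hv2 fun e' => huv (e.trans e'.symm)⟩
    have h1 := hs.of_inv huS hu2 e
    refine ⟨u, hu, ?_, h1⟩
    rcases h1.mem_four hvS hc.symm with e' | e' | e' | e'
    · exact absurd e' (ne_one_of_ord hv2)
    · exact e' ▸ hv
    · exact absurd e'.symm huv
    · exact (mul_mem_cancel_right hu).1 (e' ▸ hv)
  have hσ : σ ∈ X := (mul_mem_cancel_right (hEX hw)).1 (hi _ hs.swap.ord_s)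
  have hSX : (S : Subgroup G) ≤ X := fun x hx => by
    by_cases e : x ∈ zpowers σ
    · exact zpowers_le.2 hσ e
    · exact hi x (hs.of_refl hx e).ord_s
  have key : ∀ b : G, orderOf b = 2 → b ∉ E → ∃ y ∈ X, y * b * y⁻¹ = σ * w := fun b hb hbE => by
    obtain ⟨P, hP⟩ := (isPGroup_zpowers_ord2 hb).exists_le_sylow
    obtain ⟨k, hk⟩ := MulAction.exists_smul_eq G P S
    have h1 : k * b * k⁻¹ ∈ (S : Subgroup G) :=
      hk ▸ smul_mem_pointwise_smul _ (MulAut.conj k) _ (hP (mem_zpowers b))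
    obtain ⟨n, hn, y, hy, rfl⟩ := mem_sup_of_normal_right.1
      ((S.normalizer_sup_eq_top' hSX).ge (mem_top k))
    have h2 : y * b * y⁻¹ ∈ (S : Subgroup G) :=
      (mem_normalizer_iff.1 hn _).2 (by simpa [mul_assoc] using h1)
    have h3 : y * b * y⁻¹ ∉ E := fun e => hbE (by simpa [mul_assoc] using hE.conj_mem _ e y⁻¹)
    obtain ⟨r, hr, e | e⟩ := hs.exists_conj_refl h2 (hs.refl_of_ne
      (by rw [← MulAut.conj_apply, MulEquiv.orderOf_eq, hb]) fun e => h3 (e ▸ htE))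
    · exact absurd (e ▸ hE.conj_mem w hw r) h3
    · refine ⟨r⁻¹ * y, mul_mem (inv_mem (zpowers_le.2 hσ hr)) hy, ?_⟩
      calc r⁻¹ * y * b * (r⁻¹ * y)⁻¹ = r⁻¹ * (y * b * y⁻¹) * r := by group
        _ = _ := by rw [← e]; group
  obtain ⟨y, hy, e⟩ := key a ha haE
  obtain ⟨y', hy', e'⟩ := key _ hb fun e => haE (by simpa [mul_assoc] using hE.conj_mem _ e g⁻¹)
  refine ⟨y'⁻¹ * y, mul_mem (inv_mem hy') hy, ?_⟩
  calc y'⁻¹ * y * a * (y'⁻¹ * y)⁻¹ = y'⁻¹ * (y * a * y⁻¹) * y' := by group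
    _ = _ := by rw [e, ← e']; group

open Equiv Equiv.Perm in
theorem a7_three {X : Type*} [Group X] (e : X ≃* alternatingGroup (Fin 7)) {t : X}
    (ht : orderOf t = 2) : ∃ y : X, orderOf y = 3 ∧ y * t = t * y := by
  have h2 : (e t).1 * (e t).1 = 1 := by
    rw [← Subgroup.coe_mul, ← map_mul, sq_of_ord ht, map_one, Subgroup.coe_one]
  have h1 : (e t).1 ≠ 1 := fun h => ne_one_of_ord ht (e.injective (Subtype.ext (by simpa using h)))
  have h3 : (e t).1.support.card = 4 := by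
    rw [← sum_cycleType, H83.a7_cycleType h2 h1 (e t).2]; rfl
  obtain ⟨c, hc⟩ := isConj_iff.1 (isConj_of_sq (g := swap 0 1 * swap 2 3) (by decide) h2
    (by rw [h3]; decide))
  refine ⟨e.symm ⟨c * (swap 4 5 * swap 5 6) * c⁻¹, ?_⟩, ?_, e.injective (Subtype.ext ?_)⟩
  · rw [mem_alternatingGroup, Perm.sign_mul, Perm.sign_mul, sign_inv, mul_right_comm, Int.units_mul_self,
      one_mul]
    decide
  · rw [MulEquiv.orderOf_eq, ← orderOf_coe, coe_mk, ← MulAut.conj_apply, MulEquiv.orderOf_eq]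
    have := Fact.mk Nat.prime_three
    exact orderOf_eq_prime (by decide) (by decide)
  · simp only [map_mul, MulEquiv.apply_symm_apply, Subgroup.coe_mul, ← hc, conj_mul]
    congr 2
    decide

theorem DH.dih_case (hG : GWSimple.{u}) [Finite G] {H A : Subgroup G} {x j : G} (h : DH H A x)
    (hj : j ∈ A) (hj2 : orderOf j = 2) (hu : ∀ a ∈ A, orderOf a = 2 → a = j)
    (h2 : TwoIn (⊤ : Subgroup G)) (hO : oddCore G = ⊥) (hns : ¬ Group.IsSolvable G) :
    ∃ (F : Type) (_ : Field F) (_ : Fintype F), 3 < Fintype.card F ∧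
      (Nonempty (G ≃* PSL(2, F)) ∨ Nonempty (G ≃* PGL(2, F))) := by
  obtain ⟨E, hE⟩ := exists_ds hG h2 hO fun h3 => hns (have := h3.isNilpotent; inferInstance)
  obtain ⟨hp, hR, h3⟩ := hE.cases.resolve_right fun h3 => hns h3.2.2
  have := hE.normal
  obtain ⟨a, ha, -, -, ha2, -⟩ := hE.four
  rcases h3 with ⟨F, i1, i2, hF, h3, ⟨e⟩⟩ | ⟨rfl, ⟨e⟩⟩
  · obtain ⟨φ, hφ⟩ := exists_rep hE.cent e
    rw [← Nat.card_eq_fintype_card] at hF
    have hi : ∀ s : G, orderOf s = 2 → s ∈ Rep.star φ := fun s hs =>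
      hφ.inv_mem hF hR.rank (sq_of_ord hs)
    have hn : (Rep.star φ).Normal := Normal.of_commutator_le _ (hE.der.trans hφ.le_star)
    have hH : H ≤ Rep.star φ := fun y hy => by
      by_cases e : y ∈ A
      · refine (mul_mem_cancel_right (hi x (h.ord h.mem h.nmem))).1 (hi _ (h.ord
          (mul_mem hy h.mem) fun e' => h.nmem ((mul_mem_cancel_left e).1 e')))
      · exact hi y (h.ord hy e)
    have ht : Rep.star φ = ⊤ := top_le_iff.1 fun g _ => by
      obtain ⟨y, hy, e⟩ := frattini_inv h2 hR.dih hp (ne_bot_of_mem ha (ne_one_of_ord ha2))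
        hφ.le_star hi hj2 g
      refine (mul_mem_cancel_left (inv_mem hy)).1 (hH ((h.cen j hj hj2 _).1 ?_))
      calc y⁻¹ * g * j = y⁻¹ * (g * j * g⁻¹) * g := by group
        _ = _ := by rw [← e]; group
    refine ⟨F, i1, i2, h3, ?_⟩
    by_cases hE' : E = ⊤
    · exact Or.inl ⟨(topEquiv.symm.trans (MulEquiv.subgroupCongr hE'.symm)).trans e⟩
    · obtain ⟨t, ht'⟩ : ∃ t, t ∉ E := by
        by_contra! e'
        exact hE' (eq_top_iff.2 fun t _ => e' t)
      obtain ⟨ψ, -⟩ := hφ.nonempty_star_equiv hF (ht.ge (mem_top t)) ht'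
      exact Or.inr ⟨(topEquiv.symm.trans (MulEquiv.subgroupCongr ht.symm)).trans ψ⟩
  · obtain ⟨s, hs, hsj, hc, h4⟩ := H83.a7_key' (topEquiv.symm.trans e) hj2
    obtain ⟨y, hy, hc'⟩ := a7_three (topEquiv.symm.trans e) hj2
    have ho : Odd (orderOf y) := by rw [hy]; decide
    have h5 := h.sq_of_comm ((h.cen j hj hj2 s).1 hc) (fun e => hsj (hu s e hs))
      (h.mem_of_odd ((h.cen j hj hj2 y).1 hc') ho) (h4 y ho (Or.inl hc')).2.symm
    rw [eq_one_of_sq_of_odd ho h5, orderOf_one] at hy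
    exact absurd hy (by decide)

theorem not_elem_cent (hG : GWSimple.{u}) [Finite G] (h2 : TwoIn (⊤ : Subgroup G))
    (hO : oddCore G = ⊥) (hns : ¬ Group.IsSolvable G) {j w r : G} (hj : orderOf j = 2)
    (hc : ∀ g, g * j = j * g → g * g = 1) (hw : orderOf w = 2) (hw' : w ∈ ⁅(⊤ : Subgroup G), (⊤ : Subgroup G)⁆)
    (hjw : j * w = w * j) (hr : r * w = w * r) (hr2 : r * r ≠ 1) : False := by
  obtain ⟨E, hE⟩ := exists_ds hG h2 hO fun h3 => hns (have := h3.isNilpotent; inferInstance)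
  obtain ⟨hp, hR, h3⟩ := hE.cases.resolve_right fun h3 => hns h3.2.2
  have hwE := hE.der hw'
  have hjE : j ∉ E := fun e => by
    obtain ⟨g, -, e'⟩ := ((h2.mono le_top).fuses_four hp
      (ne_bot_of_mem hwE (ne_one_of_ord hw))).1 w hwE j e hw hj
    have := hc (g * r * g⁻¹) (by rw [← e', conj_mul, conj_mul, hr])
    rw [conj_mul, mul_inv_eq_one, mul_eq_left] at this
    exact hr2 this
  rcases h3 with h3 | ⟨rfl, -⟩
  · obtain ⟨T, κ, κ', h4⟩ := jobL2b _ _ hR h3 w hwE hw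
    obtain ⟨-, C, hC, hcyc, hcard, -⟩ := h4.outer j (mem_top j) hj hjE hjw
    obtain ⟨c, hc'⟩ := IsCyclic.exists_ofOrder_eq_natCard (α := C)
    have h5 : c ^ 2 = 1 := Subtype.ext (by
      simpa [pow_two] using hc c (mem_centralizer_singleton_iff.1 (hC c.2).2))
    have := Nat.le_of_dvd two_pos (orderOf_dvd_of_pow_eq_one h5)
    have := h4.three
    omega
  · exact hjE (mem_top j)

theorem DH.not_qd (hG : GWSimple.{u}) [Finite G] {H A : Subgroup G} {x j : G} (h : DH H A x)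
    (hj : j ∈ A) (hj2 : orderOf j = 2) (hu : ∀ a ∈ A, orderOf a = 2 → a = j)
    (hO : oddCore G = ⊥) (hns : ¬ Group.IsSolvable G) {S : Sylow 2 G} (hjS : j ∈ (S : Subgroup G))
    {k : ℕ} {r y : G} (hS : H86.QD (S : Subgroup G) k r y) : False := by
  have hk := hS.kpos
  set z := r ^ (4 * (k : ℤ)) with hz
  have h1 : ∀ g : G, g * z * g⁻¹ ≠ j := fun g e => by
    have h2 : ∀ s ∈ (S : Subgroup G), s * s ≠ 1 → g * s * g⁻¹ ∈ A := fun s hs hs2 =>
      h.mem_of_sq ((h.cen j hj hj2 _).1 (by rw [← e, conj_mul, conj_mul, hS.z_comm hs]))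
        (by rwa [conj_mul, Ne, mul_inv_eq_one, mul_eq_left])
    have h3 := h.comm (h2 _ (hS.x_mem 1) (by
      rw [← zpow_add, Ne, hS.zpow_eq_one_iff]
      exact fun e => by have := Int.le_of_dvd (by decide) e; omega))
      (h2 _ (hS.yx_mem (2 * 0 + 1)) (by rw [hS.yx_odd_sq]; exact hS.z_ne_one))
    rw [conj_mul, conj_mul, mul_left_inj, mul_right_inj, hS.x_comm_yx_iff] at h3
    have := Int.le_of_dvd (by decide) h3
    omega
  obtain ⟨i, hi⟩ := (hS.eq_of_orderOf_two hjS hj2).resolve_left fun e => h1 1 (by simp [e, hz])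
  have hzc : z ∈ center G := H86.zstar_elt_center hO S (hS.x_mem _) fun a ha g hg => by
    rcases (H48.mem_zp2 hS.z_mul_z).1 ha with rfl | rfl
    · simp
    rcases hS.eq_of_orderOf_two hg
      (by rw [← MulAut.conj_apply, MulEquiv.orderOf_eq, hS.orderOf_z]) with e | ⟨i', e⟩
    · exact e
    · obtain ⟨b, hb⟩ := hS.exists_conj_yx (2 * i') (i - i')
      rw [← e, show 2 * i' + 2 * (i - i') = 2 * i by ring, ← hi] at hb
      exact absurd (by rw [← hb, hz]; group) (h1 (r ^ b * g))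
  have hzH : z ∈ H := (h.cen j hj hj2 z).1 (mem_center_iff.1 hzc j).symm
  have hzA : z ∉ A := fun e => h1 1 (by simpa using hu z e hS.orderOf_z)
  have hA : ∀ a ∈ A, a = 1 ∨ a = j := fun a ha => or_iff_not_imp_left.2 fun e =>
    hu a ha (ord_of_sq (h.sq_of_comm hzH hzA ha (mem_center_iff.1 hzc a).symm) e)
  have hZ : zpowers z ≤ center G := zpowers_le.2 hzc
  have hn : (zpowers z).Normal := H17.normal_of_le_zc hZ
  let π := QuotientGroup.mk' (zpowers z)
  have hπ : ∀ g, π g = 1 ↔ g = 1 ∨ g = z := fun g =>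
    (QuotientGroup.eq_one_iff g).trans (H48.mem_zp2 hS.z_mul_z)
  have hπz : π z = 1 := (hπ z).2 (Or.inr rfl)
  have hrel : π y * π r * (π y)⁻¹ = (π r)⁻¹ := by
    rw [← map_inv, ← map_mul, ← map_mul, hS.rel, zpow_sub_one, map_mul, hπz, one_mul, map_inv]
  have hyy : π y * π y = 1 := by rw [← map_mul, hS.yy, map_one]
  refine not_elem_cent hG (G := G ⧸ zpowers z) (j := π j) (w := π (r ^ (2 * (k : ℤ)))) (r := π r)
    (twoIn_of_map S π (QuotientGroup.mk'_surjective _) hS.x_mem' hS.y_mem hyy hrel fun s hs => ?_)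
    (H34.pPrimeCore_quot_central_eq_bot _ (isPGroup_zpowers_ord2 hS.orderOf_z) hZ hO)
    (fun e => hns ?_) (ord_of_sq (by rw [← map_mul, sq_of_ord hj2, map_one]) fun e => ?_)
    (fun q hq => ?_) (ord_of_sq (by rw [← map_mul, hS.w_sq, hπz]) fun e => ?_) ?_ ?_ ?_ fun e => ?_
  · obtain ⟨i, rfl | rfl⟩ := (hS.mem s).1 hs
    · exact Or.inl ⟨i, (map_zpow π r i).symm⟩
    · exact Or.inr ⟨i, by rw [map_mul, ← mul_assoc, hyy, one_mul, map_zpow]⟩
  · have := (isPGroup_zpowers_ord2 hS.orderOf_z).isNilpotent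
    exact Group.isSolvable_of_ker_le_range (zpowers z).subtype π (by simp [π])
  · rcases (hπ j).1 e with e | e
    · exact ne_one_of_ord hj2 e
    · exact hzA (e ▸ hj)
  · obtain ⟨g, rfl⟩ := QuotientGroup.mk'_surjective _ q
    have hz' := mem_center_iff.1 hzc
    have h3 := (hπ (g * j * g⁻¹ * j⁻¹)).1 (by
      rw [map_mul, map_mul, map_mul, map_inv, map_inv, mul_inv_eq_one, mul_inv_eq_iff_eq_mul]
      exact hq)
    rw [← map_mul]
    have hH : ∀ g ∈ H, g * g = 1 := fun g hg => by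
      by_cases e : g ∈ A
      · rcases hA g e with rfl | rfl
        · exact one_mul 1
        · exact sq_of_ord hj2
      · exact h.sq g hg e
    by_cases hg : g ∈ H
    · rw [hH g hg, map_one]
    rcases h3 with e | e
    · rw [mul_inv_eq_one, mul_inv_eq_iff_eq_mul] at e
      exact absurd ((h.cen j hj hj2 g).1 e) hg
    rw [mul_inv_eq_iff_eq_mul, mul_inv_eq_iff_eq_mul] at e
    have h4 : g * g ∈ H := (h.cen j hj hj2 _).1 (by
      rw [mul_assoc, e, ← mul_assoc, ← mul_assoc, hz' g, mul_assoc z g j, e, ← mul_assoc,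
        ← mul_assoc, ← mul_assoc, hS.z_mul_z, one_mul, mul_assoc])
    refine (hπ _).2 ?_
    by_cases e1 : g * g ∈ A
    · refine Or.inl ((hA _ e1).resolve_right fun e2 => hg ((h.cen j hj hj2 g).1 ?_))
      rw [← e2, mul_assoc]
    · rcases hA _ (h.idx z hzH hzA _ h4 e1) with e2 | e2
      · exact Or.inr (mul_left_cancel (e2.trans hS.z_mul_z.symm))
      · refine absurd ((h.cen j hj hj2 g).1 ?_) hg
        rw [← e2, ← mul_assoc, hz' g]
        simp only [mul_assoc]
  · have h3 := hS.orderOf_w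
    rcases (hπ _).1 e with e | e
    · rw [e, orderOf_one] at h3
      exact absurd h3 (by decide)
    · rw [e, hS.orderOf_z] at h3
      exact absurd h3 (by decide)
  · have h3 : (π r)⁻¹ * (π r)⁻¹ ∈ commutator (G ⧸ zpowers z) := by
      have := commutator_mem_commutator (mem_top (π y)) (mem_top (π r))
      rwa [commutatorElement_def, hrel] at this
    rw [← mul_inv_rev, inv_mem_iff, ← zpow_two] at h3
    rw [map_zpow, zpow_mul]
    exact zpow_mem h3 _
  · have h3 := hS.yx_conj_even (2 * i) k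
    rw [← hi, mul_inv_eq_iff_eq_mul] at h3
    rw [← map_mul, h3, map_mul, zpow_neg, map_inv, mul_left_inj, inv_eq_iff_mul_eq_one, ← map_mul,
      hS.w_sq, hπz]
  · rw [← map_mul, ← map_mul, (Commute.self_zpow r _).eq]
  · rw [← map_mul, ← zpow_one r, ← zpow_add, hπ, hS.zpow_eq_one_iff, hz, hS.zpow_eq_iff] at e
    rcases e with e | e
    · have := Int.le_of_dvd (by decide) e
      omega
    · have := (Dvd.intro (2 * k) (by ring) : (4 : ℤ) ∣ 8 * k).trans e
      omega

theorem DH.concl_one (hG : GWSimple.{u}) [Finite G] {H A : Subgroup G} {x j : G} (h : DH H A x)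
    (hj : j ∈ A) (hj2 : orderOf j = 2) (hu : ∀ a ∈ A, orderOf a = 2 → a = j)
    (hO : oddCore G = ⊥) (hns : ¬ Group.IsSolvable G) :
    ∃ (F : Type) (_ : Field F) (_ : Fintype F), 3 < Fintype.card F ∧
      (Nonempty (G ≃* PSL(2, F)) ∨ Nonempty (G ≃* PGL(2, F))) := by
  refine h.dih_case hG hj hj2 hu ?_ hO hns
  have hx2 := h.ord h.mem h.nmem
  have hV := H86.isKleinFour_closure (sq_of_ord hj2) (sq_of_ord hx2)
    ((h.cen j hj hj2 x).2 h.mem).symm (ne_one_of_ord hj2) (ne_one_of_ord hx2)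
    fun e => h.nmem (e ▸ hj)
  obtain ⟨S, hS⟩ := (IsPGroup.of_card (p := 2) (n := 2) hV.card_four).exists_le_sylow
  have hjS : j ∈ (S : Subgroup G) := hS (subset_closure (by simp))
  have hxS : x ∈ (S : Subgroup G) := hS (subset_closure (by simp))
  have hcyc : IsCyclic ((S : Subgroup G) ⊓ A : Subgroup G) :=
    (H84.isCyclic_or_quaternion_of_unique_involution S.2.to_inf_left fun a ha b hb h1 h2 =>
      (hu a ha.2 h1).trans (hu b hb.2 h2).symm).resolve_right fun ⟨n, ⟨e⟩⟩ =>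
      H3.not_isMulCommutative_quaternion n (comm_of_equiv e
        ⟨⟨fun a b => Subtype.ext (h.comm a.2.2 b.2.2)⟩⟩)
  obtain ⟨σ, hσ⟩ := (Subgroup.isCyclic_iff_exists_zpowers_eq_top _).1 hcyc
  have hσ' := hσ.le (mem_zpowers σ)
  by_cases hSH : (S : Subgroup G) ≤ H
  · refine twoIn_of_sylow S (cyc_or_dihF S.2 hσ'.1 hxS (sq_of_ord hx2)
      (h.inv h.mem h.nmem hσ'.2) fun s hs => ?_)
    by_cases e : s ∈ A
    · exact Or.inl (hσ.ge ⟨hs, e⟩)
    · exact Or.inr (hσ.ge ⟨mul_mem hxS hs, h.idx x h.mem h.nmem s (hSH hs) e⟩)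
  have hσ2 : σ * σ = 1 := by
    by_contra e
    have := S.2.isNilpotent
    refine hSH (subgroupOf_eq_top.1 (normalizerCondition_iff_only_full_group_self_normalizing.1
      (Group.normalizerCondition_of_isNilpotent (G := (S : Subgroup G))) (H.subgroupOf S)
      (le_antisymm ?_ le_normalizer)))
    intro g hg
    refine (h.cen j hj hj2 g).1 ?_
    have h1 : (g : G) * σ * g⁻¹ ∈ A := h.mem_of_sq
      ((mem_normalizer_iff.1 hg ⟨σ, hσ'.1⟩).1 (h.le hσ'.2))
      (by rwa [coe_inv, conj_mul, Ne, mul_inv_eq_one, mul_eq_left])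
    obtain ⟨i, hi⟩ := hσ.ge ⟨hjS, hj⟩
    have h2 := zpow_mem h1 i
    rw [coe_inv, conj_zpow, show σ ^ i = j from hi] at h2
    exact mul_inv_eq_iff_eq_mul.1
      (hu _ h2 (by rw [← MulAut.conj_apply, MulEquiv.orderOf_eq, hj2]))
  have h4 : Nat.card (centralizer ({⟨j, hjS⟩} : Set (S : Subgroup G))) = 4 := by
    rw [← hV.card_four, ← card_map_of_injective (S : Subgroup G).subtype_injective]
    congr 2
    refine le_antisymm ?_ ((closure_le _).2 ?_)
    · rintro _ ⟨g, hg, rfl⟩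
      have h1 : (g : G) ∈ H :=
        (h.cen j hj hj2 g).1 (congrArg Subtype.val (mem_centralizer_singleton_iff.1 hg))
      have h2 : ∀ a ∈ (S : Subgroup G), a ∈ A → a ∈ closure ({j, x} : Set G) := fun a ha ha' => by
        rcases (H48.mem_zp2 hσ2).1 (hσ.ge ⟨ha, ha'⟩) with e | e
        · exact e ▸ one_mem _
        · rcases (H48.mem_zp2 hσ2).1 (hσ.ge ⟨hjS, hj⟩) with e' | e'
          · exact absurd e' (ne_one_of_ord hj2)
          · exact e ▸ e' ▸ subset_closure (by simp)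
      by_cases e : (g : G) ∈ A
      · exact h2 g g.2 e
      · exact (mul_mem_cancel_left (subset_closure (by simp))).1
          (h2 _ (mul_mem hxS g.2) (h.idx x h.mem h.nmem g h1 e))
    · rintro a (rfl | rfl)
      · exact ⟨⟨a, hjS⟩, mem_centralizer_singleton_iff.2 rfl, rfl⟩
      · exact ⟨⟨a, hxS⟩, mem_centralizer_singleton_iff.2
          (Subtype.ext ((h.cen j hj hj2 a).2 h.mem)), rfl⟩
  rcases Cfsg.Agent.S3224.result S.2 ⟨j, hjS⟩ (by rw [← orderOf_coe, hj2]) h4 with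
    ⟨n, ⟨e⟩⟩ | e | e
  · exact twoIn_of_equiv S e
  · obtain ⟨k, r, y, hq⟩ := H86.exists_QD e
    exact (h.not_qd hG hj hj2 hu hO hns hjS hq).elim
  · refine absurd (fun g hg => (h.cen j hj hj2 g).1 ?_) hSH
    have := eq_top_of_card_eq _ (h4.trans e.symm)
    exact congrArg Subtype.val (mem_centralizer_singleton_iff.1 (this.ge (mem_top ⟨g, hg⟩)))

theorem s3322 (hG : GWSimple.{u}) [Finite G] (H A : Subgroup G) (hAH : A < H)
    (hD : ∀ x ∈ H, x ∉ A → x ^ 2 = 1) (h4 : 4 ∣ Nat.card H)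
    (hC : ∀ j ∈ H, orderOf j = 2 → (∀ h ∈ H, h * j = j * h) → centralizer ({j} : Set G) = H)
    (hns : ¬ Group.IsSolvable G) : Concl G := by
  have hsq : ∀ y ∈ H, y ∉ A → y * y = 1 := fun y h1 h2 => (pow_two y).symm.trans (hD y h1 h2)
  obtain ⟨x, hx, hx'⟩ := SetLike.exists_of_lt hAH
  by_cases he : ∀ a ∈ A, a * a = 1
  · have h1 : ∀ y ∈ H, y * y = 1 := fun y hy => by
      by_cases e : y ∈ A
      exacts [he y e, hsq y hy e]
    have hab : ∀ a ∈ H, ∀ b ∈ H, a * b = b * a := fun a ha b hb => by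
      rw [← inv_eq_of_mul_eq_one_right (h1 _ (mul_mem ha hb)), mul_inv_rev,
        inv_eq_of_mul_eq_one_right (h1 a ha), inv_eq_of_mul_eq_one_right (h1 b hb)]
    have h2 : ∀ j ∈ H, orderOf j = 2 → ∀ g, g * j = j * g ↔ g ∈ H := fun j hj hj2 g => by
      rw [← hC j hj hj2 fun a ha => hab a ha j hj, mem_centralizer_singleton_iff]
    have hp : IsPGroup 2 H := fun a => ⟨1, Subtype.ext (by simpa [pow_two] using h1 a a.2)⟩
    obtain ⟨S, hS⟩ := hp.exists_le_sylow
    have hx2 : orderOf x = 2 := ord_of_sq (h1 x hx) fun e => hx' (e ▸ A.one_mem)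
    obtain ⟨z, hz, hz2, h3⟩ := H17.exists_zc_invol S (H17.even_of_invol hx2)
    have hSH : (S : Subgroup G) ≤ H := fun s hs =>
      (h2 z ((h2 x hx hx2 z).1 (h3 x (hS hx)).symm) hz2 s).1 (h3 s hs)
    refine concl_of_abc (fun s hs a b ha hb => ?_) hns
    obtain ⟨P, hP⟩ := (isPGroup_zpowers_ord2 hs).exists_le_sylow
    obtain ⟨g, hg⟩ := MulAction.exists_smul_eq G P S
    have h5 : g * s * g⁻¹ ∈ H :=
      hSH (hg ▸ smul_mem_pointwise_smul _ (MulAut.conj g) _ (hP (mem_zpowers s)))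
    have h6 : ∀ c, Commute c s → g * c * g⁻¹ ∈ H := fun c hc =>
      (h2 _ h5 (by rw [← MulAut.conj_apply, MulEquiv.orderOf_eq, hs]) _).1
        (by rw [conj_mul, conj_mul, hc.eq])
    have h7 := hab _ (h6 a ha) _ (h6 b hb)
    rwa [conj_mul, conj_mul, mul_left_inj, mul_right_inj] at h7
  push Not at he
  obtain ⟨a, ha, ha2⟩ := he
  have hinv := fun y b => inv_of_sq (y := y) (a := b) hAH.le hsq
  have hcomm : ∀ b ∈ A, ∀ c ∈ A, b * c = c * b := fun b hb c hc => by
    have h1 := hinv _ _ hx hx' (mul_mem hb hc)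
    rw [← conj_mul, hinv _ _ hx hx' hb, hinv _ _ hx hx' hc, ← mul_inv_rev, inv_inj] at h1
    exact h1.symm
  have h : DH H A x := by
    refine ⟨hAH.le, hx, hx', hsq, fun y hy hy' z hz hz' => by_contra fun e => ha2 ?_,
      fun j hj hj2 g => ?_⟩
    · have h1 := hinv _ _ (mul_mem hy hz) e ha
      rw [mul_inv_rev, ← mul_assoc, mul_assoc y, mul_assoc y, hinv _ _ hz hz' ha,
        hinv _ _ hy hy' (inv_mem ha), inv_inv] at h1
      exact mul_eq_one_iff_eq_inv.2 h1
    · rw [← hC j (hAH.le hj) hj2 fun b hb => ?_, mem_centralizer_singleton_iff]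
      by_cases e : b ∈ A
      · exact hcomm b e j hj
      · have := hinv _ _ hb e hj
        rwa [inv_eq_of_mul_eq_one_right (sq_of_ord hj2), mul_inv_eq_iff_eq_mul] at this
  obtain ⟨j, hj2⟩ := exists_prime_orderOf_dvd_card' (G := A) 2 (by
    have h1 := (A.subgroupOf H).card_mul_index
    rw [Nat.card_congr (subgroupOfEquivOfLe hAH.le).toEquiv, ← Subgroup.relIndex, h.relIndex] at h1
    omega)
  rw [← orderOf_coe] at hj2
  by_cases hu : ∀ b ∈ A, orderOf b = 2 → b = j
  swap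
  · push Not at hu
    obtain ⟨b, hb, hb2, hne⟩ := hu
    exact h.concl_two ha ha2 hb j.2 hb2 hj2 hne hns
  let π := QuotientGroup.mk' (oddCore G)
  have ho : Odd (Nat.card π.ker) := by rw [QuotientGroup.ker_mk']; exact H2.odd_card_oddCore G
  refine ⟨oddCore G, inferInstance, Or.inl (H2.odd_card_oddCore G),
    (h.map π (QuotientGroup.mk'_surjective _) ho).concl_one hG (mem_map_of_mem π j.2)
      (ord_of_sq (by rw [← map_mul, sq_of_ord hj2, map_one]) fun e => ?_) ?_
      (H2.pPrimeCore_quotient_pPrimeCore 2 G) fun e => hns ?_⟩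
  · have := odd_orderOf_of_mem ho e
    rw [hj2] at this
    exact absurd this (by decide)
  · rintro _ ⟨b, hb, rfl⟩ hb2
    obtain ⟨c, hc, hc2, e⟩ := lift_inv π ho hb2
    rw [← e, hu c (zpowers_le.2 hb hc) hc2]
  · have := H42.odd_order ho
    exact Group.isSolvable_of_ker_le_range π.ker.subtype π (by simp)

end H40.GwC
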