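/- Tower RC (S3860): dihedral Sylow 2-subgroups modulo the centre. -/
import Cfsg.Agent.H52.RCSpec
import Cfsg.Agent.S0483
import Cfsg.Agent.H3.DihQuat

set_option autoImplicit false

namespace H40.RCGW

open H52.RC Subgroup

universe u

theorem jobGW : JobGW.{u} := by
  intro _ _ G _ _ L Q qs syl dih
  obtain ⟨t, ht, b, hb, t1, b2, bt, bti, gen⟩ := dih
  obtain ⟨⟨hperf, hsimp⟩, -⟩ := qs
  obtain ⟨QL, Q2, Qo⟩ := syl
  let π : L →* L ⧸ center L := QuotientGroup.mk' _
  have hπ : ∀ z : L, π z = 1 ↔ (z : G) ∈ Zc L := fun z => mk_eq_one_iff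
  have hs : Function.Surjective π := QuotientGroup.mk'_surjective _
  have : Group.IsPerfect (L ⧸ center L) := Group.IsPerfect.ofSurjective hs
  have : Fact (Nat.Prime 2) := ⟨Nat.prime_two⟩
  let P : Subgroup (L ⧸ center L) := (Q.subgroupOf L).map π
  have hP : IsPGroup 2 P := (Q2.comap_subtype).map π
  have hi : ¬ 2 ∣ P.index := fun h =>
    (Nat.not_even_iff_odd.2 Qo) (even_iff_two_dvd.2 (h.trans (index_map_dvd _ hs)))
  let t' : L := ⟨t, QL ht⟩
  let b' : L := ⟨b, QL hb⟩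
  have h1 : π t' ≠ 1 := fun e => t1 ((hπ t').1 e)
  have h2 : π b' ^ 2 = 1 := by rw [← map_pow]; exact (hπ _).2 b2
  have h3 : π b' * π t' * (π b')⁻¹ = (π t')⁻¹ := by
    rw [eq_inv_iff_mul_eq_one, ← map_inv, ← map_mul, ← map_mul, ← map_mul]
    exact (hπ _).2 bt
  have h4 : π b' ∉ zpowers (π t') := by
    rintro ⟨i, hi⟩
    refine bti (-i) ((hπ (b' * t' ^ (-i))).1 ?_)
    rw [map_mul, map_zpow, ← hi, ← zpow_add, add_neg_cancel, zpow_zero]
  have h5 : P = closure {π t', π b'} := by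
    have ht' : π t' ∈ closure ({π t', π b'} : Set (L ⧸ center L)) := subset_closure (by simp)
    have hb' : π b' ∈ closure ({π t', π b'} : Set (L ⧸ center L)) := subset_closure (by simp)
    refine le_antisymm ?_ ((closure_le _).2 ?_)
    · rintro _ ⟨q, hq, rfl⟩
      obtain ⟨i, h | h⟩ := gen q hq
      · have := (hπ (q * t' ^ i)).2 h
        rw [map_mul, map_zpow, mul_eq_one_iff_eq_inv] at this
        rw [this]
        exact inv_mem (zpow_mem ht' i)
      · have := (hπ (q * t' ^ i * b')).2 h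
        rw [map_mul, map_mul, map_zpow, mul_assoc, mul_eq_one_iff_eq_inv] at this
        rw [this]
        exact inv_mem (mul_mem (zpow_mem ht' i) hb')
    · rintro _ (rfl | rfl)
      · exact ⟨t', ht, rfl⟩
      · exact ⟨b', hb, rfl⟩
  have h6 : 2 ≤ orderOf (π t') := by
    have := orderOf_pos (π t')
    have := mt orderOf_eq_one_iff.1 h1
    omega
  have h7 : orderOf (π b') = 2 := orderOf_eq_prime h2 fun e => h4 (e ▸ one_mem _)
  have hO : Cfsg.oddCore (L ⧸ center L) = ⊥ := by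
    refine (IsSimpleGroup.eq_bot_or_eq_top_of_normal (Cfsg.oddCore (L ⧸ center L))
      inferInstance).resolve_right fun h => ?_
    have := H2.odd_card_oddCore (L ⧸ center L)
    rw [h, Subgroup.card_top] at this
    exact (Nat.not_even_iff_odd.mpr this) (even_iff_two_dvd.mpr (h7 ▸ orderOf_dvd_natCard _))
  have e0 : (L ⧸ center L) ≃* (L ⧸ center L) ⧸ Cfsg.oddCore (L ⧸ center L) :=
    ((QuotientGroup.quotientMulEquivOfEq hO).trans QuotientGroup.quotientBot).symm
  obtain ⟨e⟩ := H3.nonempty_closure_mulEquiv_dihedral rfl h2 h3 h4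
  rcases Cfsg.Agent.S0483.result (hP.toSylow hi) _ h6
    ⟨(MulEquiv.subgroupCongr h5).trans e⟩ with ⟨F, _, _, h8, h9, ⟨f⟩⟩ | ⟨⟨f⟩⟩
  · exact .inl ⟨F, _, _, h8, h9, ⟨e0.trans f⟩⟩
  · exact .inr ⟨e0.trans f⟩

end H40.RCGW
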