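import Cfsg.Agent.H40.Reg2N

/-! Data for the exceptional sharply 2-transitive groups of degrees 25, 121, 3481. -/

set_option autoImplicit false
set_option maxRecDepth 100000

namespace H40.Reg2

def Ga : List (T4 ℕ) := [(2,0,0,3),(0,4,1,0),(1,2,1,3)]

def La : List (T4 ℕ) := [(1,0,0,1),(2,0,0,3),(0,4,1,0),(1,2,1,3),(4,0,0,4),(0,2,2,0),(2,1,2,4),(0,3,3,0),(2,4,3,4),(4,2,1,2),(3,3,4,1),(3,0,0,2),(0,1,4,0),(4,3,4,2),(3,1,2,1),(1,4,3,3),(1,3,4,3),(3,2,1,1),(3,4,3,1),(1,1,2,3),(2,2,1,4),(2,3,4,4),(4,4,3,2),(4,1,2,2)]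

def Wa : List (List ℕ) := [[],[0],[1],[2],[0,0],[1,0],[2,0],[0,1],[2,1],[1,2],[2,2],[0,0,0],[1,0,0],[2,0,0],[1,2,0],[2,2,0],[2,0,1],[2,2,1],[0,1,2],[2,1,2],[2,2,0,0],[2,1,2,0],[2,2,0,1],[2,0,1,2]]

theorem oa : memB (1, 0, 0, 1) La = true := by decide +kernel

theorem wa : zipB 5 Ga Wa La = true := by decide +kernel

theorem na : nodupB La = true := by decide +kernel

theorem la : La.all (ltB 5) = true := by decide +kernel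

theorem ca : Ga.all (fun g => La.all fun x => memB (mulN 5 g x) La) = true := by
  decide +kernel

theorem fa : La.all (freeB 5) = true := by decide +kernel

def Gb : List (T4 ℕ) := [(0,10,1,0),(2,4,1,8)]

def Lb : List (T4 ℕ) := [(1,0,0,1),(0,10,1,0),(2,4,1,8),(10,0,0,10),(4,9,8,10),(10,3,2,4),(8,7,10,2),(0,1,10,0),(9,7,10,3),(3,1,4,9),(7,3,2,1),(6,0,4,2),(1,9,8,7),(7,2,3,1),(1,8,9,7),(3,4,1,9),(0,5,2,7),(9,10,7,3),(7,9,6,0),(6,8,5,5),(1,2,10,10),(8,10,7,2),(4,8,9,10),(5,0,7,9),(10,2,3,4),(9,4,0,5),(8,5,5,6),(2,10,10,1),(5,7,0,9),(6,6,6,8),(1,1,1,2),(9,0,4,5),(0,6,9,4),(2,1,4,8),(4,2,5,0),(5,3,6,6),(10,9,1,1),(7,6,9,0),(6,5,8,5),(1,10,2,10),(0,2,5,7),(10,6,5,2),(3,0,10,4),(6,10,9,6),(2,7,0,6),(3,6,6,5),(9,1,1,10),(6,4,0,2),(5,5,5,3),(10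,10,10,9),(2,0,7,6),(6,1,2,6),(0,8,4,1),(10,5,6,2),(6,9,10,6),(1,7,3,0),(2,5,6,10),(4,0,1,3),(4,5,2,0),(5,6,3,6),(10,1,9,1),(0,9,6,4),(1,5,6,9),(8,0,1,7),(5,1,2,5),(9,5,6,1),(7,10,0,8),(5,9,10,5),(0,7,3,10),(8,9,9,2),(3,3,3,7),(10,8,4,0),(5,10,9,5),(0,3,7,10),(1,6,5,9),(5,2,1,5),(10,4,8,0),(9,6,5,1),(7,0,10,8),(9,3,2,2),(3,8,7,8),(8,1,0,7),(2,9,8,9),(8,4,3,3),(7,1,5,4),(3,5,9,8),(2,6,5,10),(4,1,0,3),(6,2,1,6),(0,4,8,1),(3,2,2,9),(8,8,8,4),(1,3,7,0),(9,9,9,3),(4,3,3,8),(1,4,4,6),(5,8,8,2),(3,10,0,4),(6,7,7,1),(2,3,3,5),(2,8,9,9),(8,3,4,3),(9,2,3,2),(3,7,8,8),(4,10,6,7),(8,6,2,3),(7,5,1,4),(3,9,5,8),(6,3,3,9),(7,7,7,4),(5,4,4,10),(2,2,2,8),(7,8,8,3),(10,7,7,5),(9,8,8,6),(7,4,4,4),(4,6,10,7),(8,2,6,3),(4,7,7,7),(4,4,4,7)]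

def Wb : List (List ℕ) := [[],[0],[1],[0,0],[1,0],[0,1],[1,1],[0,0,0],[1,0,0],[0,1,0],[1,1,0],[1,0,1],[0,1,1],[1,0,0,0],[0,1,0,0],[1,1,0,0],[1,0,1,0],[0,1,1,0],[0,1,0,1],[1,1,0,1],[1,0,1,1],[0,1,0,0,0],[1,1,0,0,0],[1,0,1,0,0],[0,1,1,0,0],[0,1,0,1,0],[1,1,0,1,0],[1,0,1,1,0],[1,0,1,0,1],[0,1,1,0,1],[0,1,0,1,1],[1,1,0,1,1],[1,0,1,0,0,0],[0,1,1,0,0,0],[0,1,0,1,0,0],[1,1,0,1,0,0],[1,0,1,1,0,0],[1,0,1,0,1,0],[0,1,1,0,1,0],[0,1,0,1,1,0],[1,1,0,1,1,0],[1,1,0,1,0,1],[1,0,1,1,0,1],[1,0,1,0,1,1],[0,1,0,1,0,0,0],[1,1,0,1,0,0,0],[1,0,1,1,0,0,0],[1,0,1,0,1,0,0],[0,1,1,0,1,0,0],[0,1,0,1,1,0,0],[1,1,0,1,1,0,0],[1,1,0,1,0,1,0],[1,0,1,1,0,1,0],[1,0,1,0,1,1,0],[0,1,1,0,1,0,1],[0,1,0,1,1,0,1],[1,1,0,1,1,0,1],[1,1,0,1,0,1,1],[1,0,1,0,1,0,0,0],[0,1,1,0,1,0,0,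0],[0,1,0,1,1,0,0,0],[1,1,0,1,1,0,0,0],[1,1,0,1,0,1,0,0],[1,0,1,1,0,1,0,0],[1,0,1,0,1,1,0,0],[0,1,1,0,1,0,1,0],[0,1,0,1,1,0,1,0],[1,1,0,1,1,0,1,0],[1,1,0,1,0,1,1,0],[1,0,1,1,0,1,0,1],[1,0,1,0,1,1,0,1],[0,1,1,0,1,0,1,1],[1,1,0,1,0,1,0,0,0],[1,0,1,1,0,1,0,0,0],[1,0,1,0,1,1,0,0,0],[0,1,1,0,1,0,1,0,0],[0,1,0,1,1,0,1,0,0],[1,1,0,1,1,0,1,0,0],[1,1,0,1,0,1,1,0,0],[1,0,1,1,0,1,0,1,0],[1,0,1,0,1,1,0,1,0],[0,1,1,0,1,0,1,1,0],[0,1,0,1,1,0,1,0,1],[1,1,0,1,1,0,1,0,1],[1,1,0,1,0,1,1,0,1],[1,0,1,1,0,1,0,1,1],[0,1,1,0,1,0,1,0,0,0],[0,1,0,1,1,0,1,0,0,0],[1,1,0,1,1,0,1,0,0,0],[1,1,0,1,0,1,1,0,0,0],[1,0,1,1,0,1,0,1,0,0],[1,0,1,0,1,1,0,1,0,0],[0,1,1,0,1,0,1,1,0,0],[0,1,0,1,1,0,1,0,1,0],[1,1,0,1,1,0,1,0,1,0],[1,1,0,1,0,1,1,0,1,0],[1,0,1,1,0,1,0,1,1,0],[1,0,1,0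,1,1,0,1,0,1],[0,1,1,0,1,0,1,1,0,1],[0,1,0,1,1,0,1,0,1,1],[1,0,1,1,0,1,0,1,0,0,0],[1,0,1,0,1,1,0,1,0,0,0],[0,1,0,1,1,0,1,0,1,0,0],[1,1,0,1,1,0,1,0,1,0,0],[1,1,0,1,0,1,1,0,1,0,0],[1,0,1,1,0,1,0,1,1,0,0],[0,1,1,0,1,0,1,1,0,1,0],[0,1,0,1,1,0,1,0,1,1,0],[1,1,0,1,0,1,1,0,1,0,1],[1,0,1,1,0,1,0,1,1,0,1],[1,0,1,0,1,1,0,1,0,1,1],[0,1,0,1,1,0,1,0,1,0,0,0],[1,1,0,1,1,0,1,0,1,0,0,0],[1,1,0,1,0,1,1,0,1,0,0,0],[0,1,0,1,1,0,1,0,1,1,0,0],[1,0,1,1,0,1,0,1,1,0,1,0],[1,0,1,0,1,1,0,1,0,1,1,0],[0,1,1,0,1,0,1,1,0,1,0,1],[0,1,0,1,1,0,1,0,1,1,0,1],[1,1,0,1,0,1,1,0,1,0,1,1]]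

theorem ob : memB (1, 0, 0, 1) Lb = true := by decide +kernel

theorem wb : zipB 11 Gb Wb Lb = true := by decide +kernel

theorem nb : nodupB Lb = true := by decide +kernel

theorem lb : Lb.all (ltB 11) = true := by decide +kernel

theorem cb : Gb.all (fun g => Lb.all fun x => memB (mulN 11 g x) Lb) = true := by
  decide +kernel

theorem fb : Lb.all (freeB 11) = true := by decide +kernel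

def Gc : List (T4 ℕ) := [(0,58,1,0),(9,15,49,49)]

def Lc : List (T4 ℕ) := [(1,0,0,1),(0,58,1,0),(9,15,49,49),(58,0,0,58),(15,50,49,10),(10,10,9,15),(49,44,10,9),(0,1,58,0),(50,44,10,10),(10,49,15,50),(44,10,9,49),(48,20,46,45),(49,50,49,44),(44,9,10,49),(49,49,50,44),(10,15,49,50),(20,11,45,13),(50,10,44,10),(13,14,48,20),(1,29,4,58),(55,48,23,4),(49,10,44,9),(15,49,50,10),(11,39,13,14),(10,9,10,15),(14,46,20,11),(29,58,58,55),(48,4,4,36),(11,13,39,14),(55,1,1,29),(36,55,55,48),(14,20,46,11),(39,48,14,46),(9,49,15,49),(46,45,11,39),(58,30,55,1),(4,11,36,55),(13,48,14,20),(1,4,29,58),(55,23,48,4),(20,45,11,13),(35,32,31,25),(38,31,30,54),(28,35,34,32),(45,13,39,48),(30,1,1,4),(11,55,55,23),(48,46,20,45),(4,58,58,30),(23,4,4,11),(45,39,13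,48),(32,24,25,28),(31,21,54,29),(35,31,32,25),(28,34,35,32),(29,5,38,31),(25,27,28,35),(54,28,29,38),(46,11,45,39),(58,55,30,1),(4,36,11,55),(39,14,48,46),(24,27,28,34),(21,28,29,5),(31,24,25,27),(34,31,32,24),(5,30,31,21),(27,34,35,31),(28,5,38,30),(10,19,19,48),(5,38,38,53),(30,21,54,28),(27,35,34,31),(28,38,5,30),(24,28,27,34),(31,25,24,27),(30,54,21,28),(34,32,31,24),(5,31,30,21),(19,49,48,40),(38,54,53,21),(21,29,28,5),(40,11,10,19),(21,6,5,38),(25,16,42,34),(18,19,45,41),(25,28,27,35),(54,29,28,38),(32,25,24,28),(31,54,21,29),(49,40,40,11),(54,21,21,6),(29,38,5,31),(11,19,19,49),(6,38,38,54),(16,34,34,17),(19,41,41,14),(38,30,31,54),(17,25,25,16),(14,18,18,19),(40,10,11,19),(21,5,6,38),(19,48,49,40),(38,53,54,21),(34,43,17,25),(41,40,14,18),(25,42,16,34),(18,45,19,41),(40,18,18,45),(56,52,52,3),(42,34,34,43),(48,40,40,10),(53,21,21,5),(43,25,25,42),(45,41,41,40),(52,3,3,7),(34,17,43,25),(41,14,40,18),(7,56,56,52),(3,7,7,56)]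

def Wc : List (List ℕ) := [[],[0],[1],[0,0],[1,0],[0,1],[1,1],[0,0,0],[1,0,0],[0,1,0],[1,1,0],[1,0,1],[0,1,1],[1,0,0,0],[0,1,0,0],[1,1,0,0],[1,0,1,0],[0,1,1,0],[0,1,0,1],[1,1,0,1],[1,0,1,1],[0,1,0,0,0],[1,1,0,0,0],[1,0,1,0,0],[0,1,1,0,0],[0,1,0,1,0],[1,1,0,1,0],[1,0,1,1,0],[1,0,1,0,1],[0,1,1,0,1],[0,1,0,1,1],[1,1,0,1,1],[1,0,1,0,0,0],[0,1,1,0,0,0],[0,1,0,1,0,0],[1,1,0,1,0,0],[1,0,1,1,0,0],[1,0,1,0,1,0],[0,1,1,0,1,0],[0,1,0,1,1,0],[1,1,0,1,1,0],[1,1,0,1,0,1],[1,0,1,1,0,1],[1,0,1,0,1,1],[0,1,0,1,0,0,0],[1,1,0,1,0,0,0],[1,0,1,1,0,0,0],[1,0,1,0,1,0,0],[0,1,1,0,1,0,0],[0,1,0,1,1,0,0],[1,1,0,1,1,0,0],[1,1,0,1,0,1,0],[1,0,1,1,0,1,0],[1,0,1,0,1,1,0],[0,1,1,0,1,0,1],[0,1,0,1,1,0,1],[1,1,0,1,1,0,1],[1,1,0,1,0,1,1],[1,0,1,0,1,0,0,0],[0,1,1,0,1,0,0,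0],[0,1,0,1,1,0,0,0],[1,1,0,1,1,0,0,0],[1,1,0,1,0,1,0,0],[1,0,1,1,0,1,0,0],[1,0,1,0,1,1,0,0],[0,1,1,0,1,0,1,0],[0,1,0,1,1,0,1,0],[1,1,0,1,1,0,1,0],[1,1,0,1,0,1,1,0],[1,0,1,1,0,1,0,1],[1,0,1,0,1,1,0,1],[0,1,1,0,1,0,1,1],[1,1,0,1,0,1,0,0,0],[1,0,1,1,0,1,0,0,0],[1,0,1,0,1,1,0,0,0],[0,1,1,0,1,0,1,0,0],[0,1,0,1,1,0,1,0,0],[1,1,0,1,1,0,1,0,0],[1,1,0,1,0,1,1,0,0],[1,0,1,1,0,1,0,1,0],[1,0,1,0,1,1,0,1,0],[0,1,1,0,1,0,1,1,0],[0,1,0,1,1,0,1,0,1],[1,1,0,1,1,0,1,0,1],[1,1,0,1,0,1,1,0,1],[1,0,1,1,0,1,0,1,1],[0,1,1,0,1,0,1,0,0,0],[0,1,0,1,1,0,1,0,0,0],[1,1,0,1,1,0,1,0,0,0],[1,1,0,1,0,1,1,0,0,0],[1,0,1,1,0,1,0,1,0,0],[1,0,1,0,1,1,0,1,0,0],[0,1,1,0,1,0,1,1,0,0],[0,1,0,1,1,0,1,0,1,0],[1,1,0,1,1,0,1,0,1,0],[1,1,0,1,0,1,1,0,1,0],[1,0,1,1,0,1,0,1,1,0],[1,0,1,0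,1,1,0,1,0,1],[0,1,1,0,1,0,1,1,0,1],[0,1,0,1,1,0,1,0,1,1],[1,0,1,1,0,1,0,1,0,0,0],[1,0,1,0,1,1,0,1,0,0,0],[0,1,0,1,1,0,1,0,1,0,0],[1,1,0,1,1,0,1,0,1,0,0],[1,1,0,1,0,1,1,0,1,0,0],[1,0,1,1,0,1,0,1,1,0,0],[0,1,1,0,1,0,1,1,0,1,0],[0,1,0,1,1,0,1,0,1,1,0],[1,1,0,1,0,1,1,0,1,0,1],[1,0,1,1,0,1,0,1,1,0,1],[1,0,1,0,1,1,0,1,0,1,1],[0,1,0,1,1,0,1,0,1,0,0,0],[1,1,0,1,1,0,1,0,1,0,0,0],[1,1,0,1,0,1,1,0,1,0,0,0],[0,1,0,1,1,0,1,0,1,1,0,0],[1,0,1,1,0,1,0,1,1,0,1,0],[1,0,1,0,1,1,0,1,0,1,1,0],[0,1,1,0,1,0,1,1,0,1,0,1],[0,1,0,1,1,0,1,0,1,1,0,1],[1,1,0,1,0,1,1,0,1,0,1,1]]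

theorem oc : memB (1, 0, 0, 1) Lc = true := by decide +kernel

theorem wc : zipB 59 Gc Wc Lc = true := by decide +kernel

theorem nc : nodupB Lc = true := by decide +kernel

theorem lc : Lc.all (ltB 59) = true := by decide +kernel

theorem cc : Gc.all (fun g => Lc.all fun x => memB (mulN 59 g x) Lc) = true := by
  decide +kernel

theorem fc : (List.range 59).all (fun s => !(Nat.beq (s ^ 29 % 59) 1) ||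
    Lc.all fun x => freeB 59 (smulN 59 s x)) = true := by decide +kernel

end H40.Reg2
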