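/- SPECTRA (S3535), `JobHeS` part 1: centralizers of elements of order seven. -/
import Cfsg.Agent.H40.SPMaz
import Cfsg.Agent.H46.Misc
import Cfsg.Agent.H48.Two2
import Cfsg.Agent.H52.Sec6b
import Cfsg.Agent.H51.BEOP
import Cfsg.Agent.H2.CoreFree

set_option autoImplicit false
set_option linter.unusedSectionVars false

namespace H40.SP.He

open Cfsg hiding pRank
open Subgroup H46

universe u
variable {G : Type u} [Group G] [Finite G]

theorem p7 : Nat.Prime 7 := by norm_num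

/-- what is used of the group -/
structure Ctx (G : Type u) [Group G] : Prop where
  card : Nat.card G = 4030387200
  sm : ∀ x g : G, orderOf x = 7 → g ∈ Cent1 x → g ^ 14 = 1 ∨ g ^ 21 = 1
  sol : ∀ x : G, orderOf x = 7 → Group.IsSolvable (Cent1 x)
  exp7 : ∀ g : G, IsPiElt {7} g → g ^ 7 = 1
  syl2 : ∀ T : Subgroup G, Nat.card T = 1024 → ¬ IsMulCommutative T
  syl7 : ∀ P : Subgroup G, Nat.card P = 343 → ¬ IsMulCommutative P

theorem pow_eq_one_of_coprime {g : G} {m n : ℕ} (h : g ^ (m * n) = 1) (hc : (orderOf g).Coprime n) :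
    g ^ m = 1 :=
  orderOf_dvd_iff_pow_eq_one.1 (hc.dvd_of_dvd_mul_right (orderOf_dvd_of_pow_eq_one h))

theorem eq_one_of_pow {g : G} {m n : ℕ} (h : g ^ m = 1) (h' : g ^ n = 1) (hc : m.Coprime n) : g = 1 :=
  orderOf_eq_one_iff.1 (Nat.eq_one_of_dvd_coprimes hc (orderOf_dvd_of_pow_eq_one h)
    (orderOf_dvd_of_pow_eq_one h'))

theorem Ctx.sm23 (h : Ctx G) {x g : G} (hx : orderOf x = 7) (hg : g ∈ Cent1 x)
    (h7 : IsPiElt {7}ᶜ g) : g ^ 2 = 1 ∨ g ^ 3 = 1 :=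
  (h.sm x g hx hg).imp
    (fun e => pow_eq_one_of_coprime (n := 7) e ((pnat_compl_singleton_iff_coprime p7).1 h7))
    (fun e => pow_eq_one_of_coprime (n := 7) e ((pnat_compl_singleton_iff_coprime p7).1 h7))

/-- no element of order six -/
theorem no_six {a b : G} (ha : a ^ 2 = 1) (hb : b ^ 3 = 1) (hc : a * b = b * a)
    (h : (a * b) ^ 14 = 1 ∨ (a * b) ^ 21 = 1) : a = 1 ∨ b = 1 := by
  have hc' : Commute a b := hc
  rcases h with h | h <;> rw [hc'.mul_pow] at h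
  · rw [show 14 = 2 * 7 from rfl, pow_mul, ha, one_pow, one_mul] at h
    exact Or.inr (eq_one_of_pow hb h (by norm_num))
  · rw [show 21 = 3 * 7 from rfl, pow_mul b, hb, one_pow, mul_one] at h
    exact Or.inl (eq_one_of_pow ha h (by norm_num))

theorem no_six' {a b : G} (ha : a ^ 2 = 1) (hb : b ^ 3 = 1) (hc : a * b = b * a)
    (h : (a * b) ^ 2 = 1 ∨ (a * b) ^ 3 = 1) : a = 1 ∨ b = 1 :=
  no_six ha hb hc (h.imp (fun e => by rw [show 14 = 2 * 7 from rfl, pow_mul, e, one_pow])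
    (fun e => by rw [show 21 = 3 * 7 from rfl, pow_mul, e, one_pow]))

theorem comm_of_sq {T : Subgroup G} (h : ∀ t ∈ T, t ^ 2 = 1) : IsMulCommutative T := by
  refine comm_iff_le_cent.2 fun a ha => mem_cent.2 fun b hb => ?_
  have h1 := h _ (T.mul_mem ha hb)
  have h2 := h a ha
  have h3 := h b hb
  rw [sq] at h1 h2 h3
  calc b * a = (a * a) * (b * a) * (b * b) := by rw [h2, h3]; group
    _ = a * (a * b * (a * b)) * b := by group
    _ = a * b := by rw [h1]; group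

theorem cent_of_three {R Q : Subgroup G} (hQ : IsPi {7} Q) (hn : Q ≤ Nrm R) (hR : Nat.card R ∣ 27) :
    Q ≤ Cent R := by
  have := Fact.mk p7
  have h1 := H2.card_modEq_card_inf_centralizer (hQ.isPGroup p7) hn
  have h2 : Nat.card ↥(R ⊓ Cent Q) ∣ Nat.card R := card_dvd_of_le inf_le_left
  refine le_cent_symm (inf_eq_left.1 (eq_of_le_of_card_eq inf_le_left ?_))
  obtain ⟨i, hi, e1⟩ := (Nat.dvd_prime_pow Nat.prime_three).1 (show _ ∣ 3 ^ 3 from hR)
  obtain ⟨j, hj, e2⟩ := (Nat.dvd_prime_pow Nat.prime_three).1 (show _ ∣ 3 ^ 3 from h2.trans hR)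
  rw [e1, e2] at h1 ⊢
  interval_cases i <;> interval_cases j <;> first | rfl | (exfalso; revert h1; decide)

section shape
variable {U : Subgroup G}

theorem sq_of_pi (h : ∀ g ∈ U, g ^ 2 = 1 ∨ g ^ 3 = 1) {T : Subgroup G} (hT : IsPi {2} T) (hle : T ≤ U) :
    ∀ t ∈ T, t ^ 2 = 1 := fun t ht => (h t (hle ht)).elim id fun e => by
  rw [(hT.elt ht).eq_one (PNat.of_dvd ((pnat_prime Nat.prime_three).2 (by simp))
    (orderOf_dvd_of_pow_eq_one e)), one_pow]

theorem cube_of_pi (h : ∀ g ∈ U, g ^ 2 = 1 ∨ g ^ 3 = 1) {T : Subgroup G} (hT : IsPi {3} T) (hle : T ≤ U) :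
    ∀ t ∈ T, t ^ 3 = 1 := fun t ht => (h t (hle ht)).elim (fun e => by
  rw [(hT.elt ht).eq_one (PNat.of_dvd ((pnat_prime Nat.prime_two).2 (by simp))
    (orderOf_dvd_of_pow_eq_one e)), one_pow]) id

theorem prime23 (h : ∀ g ∈ U, g ^ 2 = 1 ∨ g ^ 3 = 1) {r : ℕ} (hr : r.Prime) (hd : r ∣ Nat.card U) :
    r = 2 ∨ r = 3 := by
  obtain ⟨g, hg, rfl⟩ := cauchy hr hd
  exact (h g hg).imp
    (fun e => (Nat.prime_dvd_prime_iff_eq hr Nat.prime_two).1 (orderOf_dvd_of_pow_eq_one e))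
    (fun e => (Nat.prime_dvd_prime_iff_eq hr Nat.prime_three).1 (orderOf_dvd_of_pow_eq_one e))

theorem reg23 (h : ∀ g ∈ U, g ^ 2 = 1 ∨ g ^ 3 = 1) {T R : Subgroup G} (hT : IsPi {2} T) (hle : T ≤ U)
    (hR : IsPi {3} R) (hle' : R ≤ U) : Semiregular R T := by
  intro t ht h1
  refine eq_bot_iff.2 fun r hr => ?_
  exact (no_six' (sq_of_pi h hT hle t ht) (cube_of_pi h hR hle' r hr.1) (mem_cent1.1 hr.2).symm
    (h _ (U.mul_mem (hle ht) (hle' hr.1)))).resolve_left h1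

theorem shape (hU : Group.IsSolvable U) (h : ∀ g ∈ U, g ^ 2 = 1 ∨ g ^ 3 = 1) :
    (fittingOf U ≤ Op 3 U ∧ ¬ 4 ∣ Nat.card U) ∨ IsSylowOf 2 (Op 2 U) U := by
  have hF : ∀ L : Subgroup G, Op 2 U ≤ L → Op 3 U ≤ L → fittingOf U ≤ L := fun L h2 h3 =>
    nil_le_of_forall_Op (fittingOf_nil U) fun r hr hd => by
      rw [Op_fittingOf]
      rcases prime23 h hr (hd.trans (card_dvd_of_le (fittingOf_le U))) with rfl | rfl <;> assumption
  obtain ⟨T, hT⟩ := exists_sylow Nat.prime_two U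
  have hT2 := sq_of_pi h hT.isPi hT.le
  have hO : Op 2 U ≤ T := hT.normal_le (isPi_piCoreOf _ _) (piCoreOf_normalIn _ _)
  by_cases h3 : Op 3 U = ⊥
  · right
    have h4 : fittingOf U ≤ Op 2 U := hF _ le_rfl (h3 ▸ bot_le)
    have h5 : T ≤ Op 2 U := (le_inf hT.le ((comm_iff_le_cent.1 (comm_of_sq hT2)).trans
      (cent_anti (h4.trans hO)))).trans ((cent_fittingOf_le hU).trans h4)
    rwa [le_antisymm hO h5]
  · left
    have hr := reg23 h hT.isPi hT.le (isPi_piCoreOf {3} U) (piCoreOf_le _ _)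
    refine ⟨hF _ ?_ le_rfl, fun h4 => ?_⟩
    · intro t ht
      by_contra h1
      refine h3 (le_bot_iff.1 (le_trans (le_inf le_rfl ?_) (hr t (hO ht) fun e => h1 (e ▸ one_mem _)).le))
      exact le_cent1_iff.2 (cent_of_normalIn_of_coprime (piCoreOf_normalIn _ _) (piCoreOf_normalIn _ _)
        ((isPi_piCoreOf {2} U).coprime ((isPi_piCoreOf {3} U).compl_singleton (by simp))) ht)
    · obtain ⟨g, hg⟩ := cyclic_iff_exists_zpowers.1 (hr.cyclic_of_comm
        (hT.le.trans (le_nrm_piCoreOf _ _)) h3 (comm_of_sq hT2))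
      have h5 := hT.dvd_card (pnat_singleton_pow Nat.prime_two 2) h4
      rw [← hg, card_zpowers'] at h5
      exact absurd (h5.trans (orderOf_dvd_of_pow_eq_one (hT2 g (hg ▸ mem_zpowers g)))) (by norm_num)

theorem shape2 (hU : Group.IsSolvable U) (h : ∀ g ∈ U, g ^ 2 = 1 ∨ g ^ 3 = 1) {a b : ℕ}
    (hc : Nat.card U = 2 ^ a * 3 ^ b) (ha : 2 ≤ a) :
    IsSylowOf 2 (Op 2 U) U ∧ Nat.card (Op 2 U) = 2 ^ a ∧ (b ≠ 0 → 3 ∣ 2 ^ a - 1) := by
  have h1 := (shape hU h).resolve_left fun e =>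
    e.2 (hc ▸ Dvd.dvd.mul_right (pow_dvd_pow 2 ha : 2 ^ 2 ∣ _) _)
  have h2 : Nat.card (Op 2 U) = 2 ^ a := by
    refine Nat.dvd_antisymm ?_ (h1.dvd_card (pnat_singleton_pow Nat.prime_two a) (hc ▸ Dvd.intro _ rfl))
    refine (PNat.coprime h1.isPi (PNat.pow ((pnat_prime Nat.prime_three).2 (by simp)) b)).dvd_of_dvd_mul_right ?_
    exact hc ▸ card_dvd_of_le h1.le
  refine ⟨h1, h2, fun hb => ?_⟩
  obtain ⟨X, hX, h3⟩ := exists_subgroup_card_prime (H := U) Nat.prime_three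
    (hc ▸ Dvd.dvd.mul_left (dvd_pow_self 3 hb) _)
  have := (reg23 h h1.isPi h1.le ((isPi_of_card_prime Nat.prime_three h3).2 rfl) hX).symm.dvd_pred
    (hX.trans (le_nrm_piCoreOf _ _))
  rwa [h2, h3] at this

end shape

/-- the structure of the centralizer of an element of order seven -/
structure Str (x : G) (Q W : Subgroup G) : Prop where
  nrm : W ⊴ Cent1 x
  sup : W ⊔ Cent1 x ⊓ Nrm Q = Cent1 x
  sq : ∀ w ∈ W, w ^ 2 = 1
  fix : W ⊓ Cent Q = ⊥

theorem Ctx.str (h : Ctx G) {x : G} (hx : orderOf x = 7) {Q : Subgroup G}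
    (hQ : IsSylowOf 7 Q (Cent1 x)) (hd : ⁅Q, Q⁆ ≤ zpowers x) : ∃ W, Str x Q W := by
  have := Fact.mk p7
  have hs := h.sol x hx
  set H := Cent1 x with hH
  set K := Op' 7 H
  have hKH : K ⊴ H := piCoreOf_normalIn _ _
  have hK7 : IsPi {7}ᶜ K := isPi_piCoreOf _ _
  have hK : ∀ g ∈ K, g ^ 2 = 1 ∨ g ^ 3 = 1 := fun g hg => h.sm23 hx (hKH.le hg) (hK7.elt hg)
  have hKs : Group.IsSolvable K := sol_of_le hs hKH.le
  have h1 : Q ≤ Q ⊓ Op'p 7 H := H48.le_inf_Op'p_of_commutator p7 (H51.isPConstrained_of_solvable _ 7) hQ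
    (zpowers_le.2 (self_mem_cent1 x)) (cent_zpowers x).ge le_rfl
    ((commutator_mono le_rfl inf_le_left).trans hd)
  have h2 := H51.Op'_sup_inf_Op'p p7 hQ
  rw [le_antisymm inf_le_left h1] at h2
  have h3 := frattini_arg p7 (H52.Op'p_normalIn 7 H)
    (hQ.of_le (h1.trans inf_le_right) (H52.Op'p_normalIn 7 H).le)
  have hn : Q ≤ Nrm K := hQ.le.trans hKH.nrm
  have hc : (Nat.card Q).Coprime (Nat.card K) := hQ.isPi.coprime hK7
  have h4 := coprime_cent_prod hn hc (Or.inr hKs)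
  have h5 : ⁅K, Q⁆ ⊔ H ⊓ Nrm Q = H := by
    refine le_antisymm (sup_le ((commutator_le_left' hn).trans hKH.le) inf_le_left) ?_
    refine h3.ge.trans (sup_le (h2.ge.trans (sup_le (h4.ge.trans (sup_le le_sup_left ?_)) ?_)) le_sup_right)
    · exact le_sup_of_le_right (inf_le_inf hKH.le (cent_le_nrm Q))
    · exact le_sup_of_le_right (le_inf hQ.le le_nrm_self)
  have h6 : ⁅K, Q⁆ ⊴ H := ⟨(commutator_le_left' hn).trans hKH.le, h5.ge.trans (sup_le le_nrm_self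
    (nrm_commutator (inf_le_left.trans hKH.nrm) inf_le_right))⟩
  have h27 : ∀ R : Subgroup G, IsPi {3} R → Nat.card R ∣ 27 := fun R hR =>
    (PNat.coprime hR (show PNat {3}ᶜ 149273600 from (pnat_compl_singleton Nat.prime_three).2
      (by norm_num))).dvd_of_dvd_mul_right (by simpa [h.card] using card_dvd_card_top R)
  suffices h0 : (∀ w ∈ ⁅K, Q⁆, w ^ 2 = 1) ∧ ⁅K, Q⁆ ⊓ Cent Q = ⊥ from ⟨_, h6, h5, h0.1, h0.2⟩
  rcases shape hKs hK with h7 | h7
  · have h8 : Q ≤ Cent K := coprime_cent_fittingOf hn hc hKs ((cent_of_three hQ.isPi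
      (nrm_piCoreOf _ hn) (h27 _ (isPi_piCoreOf _ _))).trans (cent_anti h7.1))
    rw [commutator_eq_bot_iff'.2 h8]
    exact ⟨fun w hw => by rw [mem_bot.1 hw, one_pow], bot_inf_eq _⟩
  · obtain ⟨R, hR, hRn⟩ := coprime_Sylow_exists Nat.prime_three hn hc (Or.inr hKs)
    have h8 : Op 2 K ⊔ R = K := h7.sup_eq (isPiHallOf_congr (fun r hr hd => by
      rcases prime23 hK hr hd with rfl | rfl <;> simp) hR)
    have h9 : ⁅K, Q⁆ = ⁅Op 2 K, Q⁆ := by
      conv_lhs => rw [← h8]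
      exact commutator_sup_cent (hR.le.trans (le_nrm_piCoreOf _ _))
        (le_cent_symm (cent_of_three hQ.isPi hRn (h27 _ hR.isPi)))
    have h10 := sq_of_pi hK h7.isPi h7.le
    rw [h9]
    exact ⟨fun w hw => h10 w (commutator_le_left' (nrm_piCoreOf _ hn) hw),
      coprime_abel_cent_TI (comm_of_sq h10) (nrm_piCoreOf _ hn) (coprime_of_le hc le_rfl h7.le)⟩

namespace Str
variable {x : G} {Q W : Subgroup G}

theorem isPi (h : Str x Q W) : IsPi {2} W := isPi_iff_elt.2 fun w hw =>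
  PNat.of_dvd ((pnat_prime Nat.prime_two).2 rfl) (orderOf_dvd_of_pow_eq_one (h.sq w hw))

theorem inf_nrm (h : Str x Q W) (hQ : IsSylowOf 7 Q (Cent1 x)) : W ⊓ (Cent1 x ⊓ Nrm Q) = ⊥ := by
  rw [eq_bot_iff, ← h.fix]
  refine le_inf inf_le_left (cent_of_nrm_of_disjoint (inf_le_right.trans inf_le_right) ?_ ?_)
  · exact nrm_inf (hQ.le.trans h.nrm.nrm) (nrm_of_le (le_inf hQ.le le_nrm_self))
  · exact IsPi.inf_eq_bot (h.isPi.inf_left) (hQ.isPi.compl_singleton (by simp))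

theorem card (h : Str x Q W) (hQ : IsSylowOf 7 Q (Cent1 x)) :
    Nat.card (Cent1 x) = Nat.card W * Nat.card ↥(Cent1 x ⊓ Nrm Q) := by
  conv_lhs => rw [← h.sup]
  exact card_sup_of_disjoint (inf_le_left.trans h.nrm.nrm) (h.inf_nrm hQ)

theorem le_nrm (h : Str x Q ⊥) : Cent1 x ≤ Nrm Q := by
  have := h.sup
  rw [bot_sup_eq] at this
  exact this.ge.trans inf_le_right

theorem modEq (h : Str x Q W) (hQ : IsSylowOf 7 Q (Cent1 x)) : Nat.card W ≡ 1 [MOD 7] := by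
  have := Fact.mk p7
  have h1 := H2.card_modEq_card_inf_centralizer (hQ.isPGroup p7) (hQ.le.trans h.nrm.nrm)
  rwa [h.fix, card_bot] at h1

end Str

/-- Mazurov's lemma inside the centralizer -/
theorem Ctx.maz (h : Ctx G) {x y : G} (hx : orderOf x = 7) {W F : Subgroup G} (hW : W ⊴ Cent1 x)
    (hsq : ∀ w ∈ W, w ^ 2 = 1) (hF : F ≤ Cent1 x) (h7 : IsPi {7} F) (hfix : W ⊓ Cent F = ⊥)
    (hy : y ∈ Cent1 x) (hyF : y ∈ Nrm F) (ho : orderOf y = 2 ∨ orderOf y = 3)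
    (hfr : ∀ i, 0 < i → i < orderOf y → ∀ f ∈ F, f⁻¹ * (y ^ i * f * (y ^ i)⁻¹) ∈ Cent W → f ∈ Cent W) :
    W = ⊥ := by
  by_contra hne
  set H := Cent1 x
  have hc := comm_iff_le_cent.1 (comm_of_sq hsq)
  obtain ⟨g, hg⟩ := jobMaz H (W.subgroupOf H) (F.subgroupOf H) ⟨y, hy⟩ 2 Nat.prime_two
    (fun e => hne (by rw [← card_eq_one, ← card_subgroupOf hW.le, e, card_bot]))
    (fun v hv => Subtype.ext (hsq v hv)) (fun v hv w hw => Subtype.ext (mem_cent.1 (hc hw) v hv))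
    (by rw [card_subgroupOf hF]; exact (h7.compl_singleton (p := 2) (by simp)).not_dvd Nat.prime_two rfl)
    (by have := hW.normal_subgroupOf; rw [normalizer_eq_top]; exact le_top)
    (by have := hW.normal_subgroupOf; rw [normalizer_eq_top]; trivial)
    (mem_normalizer_iff.2 fun f => mem_normalizer_iff.1 hyF f)
    (fun v hv hv' => Subtype.ext (mem_bot.1 (hfix ▸ ⟨hv, mem_cent.2 fun f hf =>
      congrArg Subtype.val (hv' ⟨f, hF hf⟩ hf)⟩)))
    (fun i h0 hi f hf hh v hv => Subtype.ext (mem_cent.1 (hfr i h0 (by rwa [← orderOf_coe] at hi) f hf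
      (mem_cent.2 fun w hw => (congrArg Subtype.val (hh ⟨w, hW.le hw⟩ hw)).symm)) v hv).symm)
  rw [← orderOf_coe, ← orderOf_coe] at hg
  rcases h.sm x g hx g.2 with e | e <;> have := orderOf_dvd_of_pow_eq_one e <;> rw [hg] at this <;>
    rcases ho with e' | e' <;> simp only [e'] at this <;> norm_num at this

end H40.SP.He
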