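/- SPECTRA (S3535), `JobHeS` part 2: the Sylow 7-subgroups and counting. -/
import Cfsg.Agent.H40.SPHe1
import Cfsg.Agent.H33.XfMod2
import Cfsg.Agent.H87.Count
import Cfsg.Agent.H87.PrimeSylow
import Cfsg.Agent.H95.Five

set_option autoImplicit false
set_option linter.unusedSectionVars false

namespace H40.SP.He

open Cfsg hiding pRank
open Subgroup H46
open scoped commutatorElement

universe u
variable {G : Type u} [Group G] [Finite G]

/-- a Sylow 7-subgroup with a generator of its centre -/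
structure Ex (P : Subgroup G) (z : G) : Prop where
  syl : IsSylowOf 7 P ⊤
  card : Nat.card P = 343
  exp : ∀ g ∈ P, g ^ 7 = 1
  ord : orderOf z = 7
  zc : Zc P = zpowers z
  der : ⁅P, P⁆ = zpowers z

/-- `x` is central in a Sylow subgroup -/
def Sp (x : G) : Prop := 343 ∣ Nat.card (Cent1 x)

theorem Ctx.dvd343 (h : Ctx G) {R : Subgroup G} (hR : IsPi {7} R) : Nat.card R ∣ 343 :=
  (PNat.coprime hR (show PNat {7}ᶜ 11750400 from (pnat_compl_singleton p7).2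
    (by norm_num))).dvd_of_dvd_mul_right (by simpa [h.card] using card_dvd_card_top R)

theorem Ctx.card_syl (h : Ctx G) {P : Subgroup G} (hP : IsSylowOf 7 P ⊤) : Nat.card P = 343 :=
  Nat.dvd_antisymm (h.dvd343 hP.isPi) (hP.dvd_card (pnat_singleton_pow p7 3) (by
    rw [card_top, h.card]; norm_num))

theorem Ctx.ex (h : Ctx G) {P : Subgroup G} (hP : IsSylowOf 7 P ⊤) : ∃ z, Ex P z := by
  have hc := h.card_syl hP
  obtain ⟨h1, h2, -⟩ := H33.QT.cube p7 (P := P) hc (h.syl7 P hc)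
  obtain ⟨z, hz⟩ := cyclic_iff_exists_zpowers.1 (cyclic_of_card_prime (K := Zc P) (h1 ▸ p7))
  exact ⟨z, hP, hc, fun g hg => h.exp7 g (hP.isPi.elt hg), by rw [← card_zpowers', hz, h1], hz.symm,
    h2.trans hz.symm⟩

theorem ord7 {x : G} (h : x ^ 7 = 1) (h1 : x ≠ 1) : orderOf x = 7 :=
  have := Fact.mk p7
  orderOf_eq_prime h h1

theorem elt7 {x : G} (h : x ^ 7 = 1) : IsPiElt {7} x :=
  PNat.of_dvd ((pnat_prime p7).2 rfl) (orderOf_dvd_of_pow_eq_one h)

theorem zp_eq {x z : G} (hz : orderOf z = 7) (hx : x ∈ zpowers z) (h1 : x ≠ 1) : zpowers x = zpowers z :=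
  eq_zpowers_of_card_prime (by rw [card_zpowers', hz]; exact p7) hx h1

theorem cent1_eq {x z : G} (hz : orderOf z = 7) (hx : x ∈ zpowers z) (h1 : x ≠ 1) : Cent1 x = Cent1 z := by
  rw [← cent_zpowers, zp_eq hz hx h1, cent_zpowers]

theorem Sp.conj {x : G} (h : Sp x) (g : G) : Sp (g * x * g⁻¹) := by
  unfold Sp
  rwa [← cj_cent1, card_cj]

namespace Ex
variable {P : Subgroup G} {z x y a b c : G}

theorem of_mem (h : Ex P z) (hx : x ∈ zpowers z) (h1 : x ≠ 1) : Ex P x :=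
  ⟨h.syl, h.card, h.exp, by rw [← card_zpowers', zp_eq h.ord hx h1, card_zpowers', h.ord],
    by rw [zp_eq h.ord hx h1, h.zc], by rw [zp_eq h.ord hx h1, h.der]⟩

theorem cj (h : Ex P z) (g : G) : Ex (cj g P) (g * z * g⁻¹) :=
  ⟨by simpa [cj_top] using h.syl.cj g, by rw [card_cj, h.card], fun a ha => by
    obtain ⟨b, hb, rfl⟩ := ha
    show (g * b * g⁻¹) ^ 7 = 1
    rw [conj_pow, h.exp b hb, mul_one, mul_inv_cancel],
    by rw [orderOf_conj, h.ord], by rw [← cj_zc, h.zc, cj_zpowers],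
    by rw [← cj_commutator, h.der, cj_zpowers]⟩

theorem zle (h : Ex P z) : zpowers z ≤ P := h.zc.ge.trans inf_le_left
theorem mem (h : Ex P z) : z ∈ P := h.zle (mem_zpowers z)
theorem ne (h : Ex P z) : z ≠ 1 := fun e => by simpa [e] using h.ord
theorem cent (h : Ex P z) : P ≤ Cent (zpowers z) := le_cent_symm (h.zc.ge.trans inf_le_right)
theorem cent1 (h : Ex P z) : P ≤ Cent1 z := cent_zpowers z ▸ h.cent
theorem nrm (h : Ex P z) : Nrm P ≤ Nrm (zpowers z) := h.zc ▸ nrm_zc le_rfl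
theorem nrm' (h : Ex P z) : P ≤ Nrm (zpowers z) := le_nrm_self.trans h.nrm
theorem sp (h : Ex P z) : Sp z := h.card.symm.dvd.trans (card_dvd_of_le h.cent1)
theorem zcomm (h : Ex P z) (hc : c ∈ zpowers z) (ha : a ∈ P) : c * a = a * c := mem_cent.1 (h.cent ha) c hc
theorem cm (h : Ex P z) (ha : a ∈ P) (hb : b ∈ P) : ⁅a, b⁆ ∈ zpowers z :=
  h.der ▸ commutator_mem_commutator ha hb

theorem syl1 (h : Ex P z) : IsSylowOf 7 P (Cent1 z) := h.syl.of_le h.cent1 le_top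

theorem card_E (h : Ex P z) (hx : x ∈ P) (hn : x ∉ zpowers z) :
    Nat.card ↥(zpowers z ⊔ zpowers x) = 49 := by
  have h1 : orderOf x = 7 := ord7 (h.exp x hx) fun e => hn (e ▸ one_mem _)
  rw [card_sup_of_disjoint ((zpowers_le.2 hx).trans h.nrm'), card_zpowers', card_zpowers', h.ord, h1]
  rw [inf_comm]
  exact inf_eq_bot_of_prime (by rw [card_zpowers', h1]; exact p7) fun e => hn (zpowers_le.1 e)

theorem E_le (h : Ex P z) (hx : x ∈ P) : zpowers z ⊔ zpowers x ≤ P ⊓ Cent1 x :=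
  sup_le (le_inf h.zle (zpowers_le.2 (mem_cent1_comm.1 (h.cent1 hx))))
    (zpowers_le.2 ⟨hx, self_mem_cent1 x⟩)

theorem inf_cent (h : Ex P z) (hx : x ∈ P) (hn : x ∉ zpowers z) :
    P ⊓ Cent1 x = zpowers z ⊔ zpowers x := by
  refine (eq_of_le_of_card_eq (h.E_le hx) ?_).symm
  have h1 := card_dvd_of_le (h.E_le hx)
  have h2 : Nat.card ↥(P ⊓ Cent1 x) < Nat.card P := card_lt_of_lt (lt_of_le_of_ne inf_le_left fun e =>
    hn (h.zc ▸ ⟨hx, le_cent1_iff.1 (inf_eq_left.1 e)⟩))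
  obtain ⟨i, hi, e⟩ := (Nat.dvd_prime_pow p7).1
    (show Nat.card ↥(P ⊓ Cent1 x) ∣ 7 ^ 3 from (card_dvd_of_le inf_le_left).trans h.card.dvd)
  rw [h.card_E hx hn] at h1 ⊢
  rw [h.card] at h2
  rw [e] at h1 h2 ⊢
  interval_cases i <;> simp_all

theorem exists_cm (h : Ex P z) (hx : x ∈ P) (hn : x ∉ zpowers z) : ∃ y ∈ P, ⁅y, x⁆ ≠ 1 := by
  by_contra! h1
  exact hn (h.zc ▸ ⟨hx, mem_cent.2 fun y hy => commutatorElement_eq_one_iff_mul_comm.1 (h1 y hy)⟩)

theorem cm_mul_left (h : Ex P z) (ha : a ∈ P) (hb : b ∈ P) (hc : c ∈ P) :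
    ⁅a * b, c⁆ = ⁅a, c⁆ * ⁅b, c⁆ := by
  have h1 := h.zcomm (h.cm hb hc) ha
  have h2 := h.zcomm (h.cm hb hc) (h.zle (h.cm ha hc))
  calc ⁅a * b, c⁆ = a * ⁅b, c⁆ * a⁻¹ * ⁅a, c⁆ := by simp only [commutatorElement_def]; group
    _ = _ := by rw [← h1, mul_inv_cancel_right, h2]

theorem cm_pow_left (h : Ex P z) (ha : a ∈ P) (hc : c ∈ P) (n : ℕ) : ⁅a ^ n, c⁆ = ⁅a, c⁆ ^ n := by
  induction n with
  | zero => simp
  | succ n ih => rw [pow_succ, h.cm_mul_left (P.pow_mem ha n) ha hc, ih, pow_succ]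

theorem cm_mul_right (h : Ex P z) (ha : a ∈ P) (hb : b ∈ P) (hc : c ∈ P) :
    ⁅c, a * b⁆ = ⁅c, a⁆ * ⁅c, b⁆ := by
  rw [← commutatorElement_inv, h.cm_mul_left ha hb hc, h.zcomm (h.cm ha hc) (h.zle (h.cm hb hc)),
    mul_inv_rev, commutatorElement_inv, commutatorElement_inv]

theorem cm_pow_right (h : Ex P z) (ha : a ∈ P) (hc : c ∈ P) (n : ℕ) : ⁅c, a ^ n⁆ = ⁅c, a⁆ ^ n := by
  rw [← commutatorElement_inv, h.cm_pow_left ha hc, ← inv_pow, commutatorElement_inv]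

/-- the elements of a coset of the centre are conjugate -/
theorem shift (h : Ex P z) (hx : x ∈ P) (hn : x ∉ zpowers z) (hc : c ∈ zpowers z) :
    ∃ g ∈ P, g * x * g⁻¹ = c * x := by
  obtain ⟨y, hy, h1⟩ := h.exists_cm hx hn
  rw [← zp_eq h.ord (h.cm hy hx) h1, ← mem_powers_iff_mem_zpowers] at hc
  obtain ⟨n, rfl⟩ := hc
  refine ⟨y ^ n, P.pow_mem hy n, ?_⟩
  show _ = ⁅y, x⁆ ^ n * x
  rw [← h.cm_pow_left hy hx, commutatorElement_def]
  group

theorem card_le (h : Ex P z) {A : Subgroup G} (hA : A ≤ P) (hz : z ∉ A) : Nat.card A ∣ 7 := by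
  have h1 : zpowers z ⊓ A = ⊥ :=
    inf_eq_bot_of_prime (by rw [card_zpowers', h.ord]; exact p7) fun e => hz (zpowers_le.1 e)
  by_cases h0 : A = ⊥
  · simp [h0]
  obtain ⟨x, hx, hx1⟩ := exists_ne_one_of_ne_bot h0
  have hn : x ∉ zpowers z := fun e => hx1 (mem_bot.1 (h1 ▸ ⟨e, hx⟩))
  have h2 : zpowers z ⊔ A ≤ P ⊓ Cent1 x := sup_le (le_sup_left.trans (h.E_le (hA hx)))
    (le_inf hA fun a ha => mem_cent1.2 (commutatorElement_eq_one_iff_mul_comm.1 (mem_bot.1 (h1 ▸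
      ⟨h.cm (hA ha) (hA hx), der_le A (commutator_mem_commutator ha hx)⟩))))
  have h3 := card_dvd_of_le h2
  rw [h.inf_cent (hA hx) hn, h.card_E (hA hx) hn, card_sup_of_disjoint (hA.trans h.nrm') h1,
    card_zpowers', h.ord] at h3
  exact Nat.dvd_of_mul_dvd_mul_left (k := 7) (by norm_num) h3

end Ex

theorem Ctx.of_sp (h : Ctx G) {x : G} (hx : orderOf x = 7) (hs : Sp x) {E : Subgroup G}
    (hE : IsPi {7} E) (hle : E ≤ Cent1 x) : ∃ Q, Ex Q x ∧ E ≤ Q := by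
  obtain ⟨Q, hQ, h1⟩ := exists_sylow_ge p7 (hE.isPGroup p7) hle
  obtain ⟨P, hP⟩ := exists_sylow p7 (⊤ : Subgroup G)
  have h2 : IsSylowOf 7 Q ⊤ := hP.of_card_eq le_top (by
    rw [h.card_syl hP]
    exact Nat.dvd_antisymm (h.dvd343 hQ.isPi) (hQ.dvd_card (pnat_singleton_pow p7 3) hs))
  obtain ⟨z, hz⟩ := h.ex h2
  have h3 : zpowers x ≤ Q := hQ.normal_le (isPi_zpowers.2 (elt7 (hx ▸ pow_orderOf_eq_one x)))
    ⟨zpowers_le.2 (self_mem_cent1 x), cent1_le_nrm_zpowers x⟩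
  exact ⟨Q, hz.of_mem (hz.zc ▸ ⟨zpowers_le.1 h3, le_cent1_iff.1 hQ.le⟩)
    (fun e => by simp [e] at hx), h1⟩

theorem Ctx.syl_E (h : Ctx G) {P : Subgroup G} {z x : G} (hP : Ex P z) (hx : x ∈ P)
    (hn : x ∉ zpowers z) (hs : ¬ Sp x) : IsSylowOf 7 (zpowers z ⊔ zpowers x) (Cent1 x) := by
  obtain ⟨Q, hQ, h1⟩ := exists_sylow_ge p7 ((hP.syl.isPi.of_le ((hP.E_le hx).trans inf_le_left)).isPGroup p7)
    ((hP.E_le hx).trans inf_le_right)
  have h2 := card_dvd_of_le h1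
  have h3 := card_dvd_of_le hQ.le
  obtain ⟨i, hi, e⟩ := (Nat.dvd_prime_pow p7).1 (show _ ∣ 7 ^ 3 from h.dvd343 hQ.isPi)
  rwa [eq_of_le_of_card_eq h1]
  rw [hP.card_E hx hn] at h2 ⊢
  rw [e] at h2 h3 ⊢
  interval_cases i
  · simp at h2
  · simp at h2
  · rfl
  · exact (hs h3).elim

/-! ### counting -/

/-- the number of Sylow subgroups fixed by `x` -/
noncomputable def fx (x : G) : ℕ := Nat.card (MulAction.fixedBy (Sylow 7 G) x)

theorem mem_fix {x : G} (hx : x ^ 7 = 1) (Q : Sylow 7 G) :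
    Q ∈ MulAction.fixedBy (Sylow 7 G) x ↔ x ∈ (Q : Subgroup G) := by
  have := Fact.mk p7
  rw [MulAction.mem_fixedBy, Sylow.smul_eq_iff_mem_normalizer]
  exact ⟨fun h => zpowers_le.1 ((isSylowOf_top Q).le_of_le_nrm (isPi_zpowers.2 (elt7 hx))
    le_top (zpowers_le.2 h)),
    fun h => le_normalizer h⟩

theorem fx_conj (g x : G) : fx (g * x * g⁻¹) = fx x := by
  unfold fx
  rw [← MulAction.smul_fixedBy]
  exact Set.natCard_smul_set _ _

theorem fx_one : fx (1 : G) = Nat.card (Sylow 7 G) := by simp [fx]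

theorem fx_eq_one {x : G} {P : Subgroup G} (hP : IsSylowOf 7 P ⊤) (hx : x ^ 7 = 1) (hm : x ∈ P)
    (h : ∀ Q, IsSylowOf 7 Q ⊤ → x ∈ Q → Q = P) : fx x = 1 := by
  have := Fact.mk p7
  obtain ⟨S, rfl⟩ := hP.exists_sylow_top
  refine Nat.card_eq_one_iff_exists.2 ⟨⟨S, (mem_fix hx S).2 hm⟩, fun Q => Subtype.ext (Sylow.ext ?_)⟩
  exact h _ (isSylowOf_top _) ((mem_fix hx _).1 Q.2)

theorem burn (P : Subgroup G) [Fintype P] : Nat.card P ∣ ∑ g : P, fx (g : G) := by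
  classical
  have := Fintype.ofFinite (Quotient (MulAction.orbitRel P (Sylow 7 G)))
  have := fun g : P => Fintype.ofFinite (MulAction.fixedBy (Sylow 7 G) g)
  have h := MulAction.sum_card_fixedBy_eq_card_orbits_mul_card_group P (Sylow 7 G)
  simp only [← Nat.card_eq_fintype_card] at h
  exact Dvd.intro_left _ h.symm

theorem Ex.mod49 {P : Subgroup G} {z : G} (h : Ex P z) :
    ∃ k, Nat.card (Sylow 7 G) = fx z + 49 * k := by
  have := Fact.mk p7
  have h1 := H95.card_dvd_mul_ncard P.subtype 7 _ (MulAction.fixedBy (Sylow 7 G) z)ᶜ (Set.toFinite _) rfl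
    (fun g Q hQ hQ' => hQ ?_) fun Q hQ => ?_
  · rw [h.card] at h1
    obtain ⟨k, hk⟩ := Nat.dvd_of_mul_dvd_mul_left (k := 7) (m := 49) (by norm_num) h1
    exact ⟨k, by rw [← hk, fx, Nat.card_coe_set_eq, Set.ncard_add_ncard_compl]⟩
  · rw [MulAction.mem_fixedBy] at hQ' ⊢
    rw [← mul_smul, show z * P.subtype g = g * z from (mem_cent1.1 (h.cent1 g.2)).symm, mul_smul] at hQ'
    exact (smul_left_cancel_iff (g : G)).1 hQ'
  · rw [comap_subtype, card_subgroupOf_eq_inf]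
    exact h.card_le inf_le_right fun e => hQ e.1

theorem card_syl_mul {P : Subgroup G} (hP : IsSylowOf 7 P ⊤) :
    Nat.card (Sylow 7 G) * Nat.card (Nrm P) = Nat.card G := by
  have := Fact.mk p7
  obtain ⟨S, rfl⟩ := hP.exists_sylow_top
  rw [S.card_eq_index_normalizer]
  exact index_mul_card _

theorem fx_mul {P : Subgroup G} (hP : IsSylowOf 7 P ⊤) {x : G} (hx : x ^ 7 = 1) :
    fx x * Nat.card (Nrm P) = Nat.card {h // IsConj x h ∧ h ∈ P} * Nat.card (Cent1 x) := by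
  have := Fact.mk p7
  obtain ⟨S, rfl⟩ := hP.exists_sylow_top
  have h1 := H87.card_fixedBy_mul_card_stabilizer S x
  rw [Sylow.stabilizer_eq_normalizer] at h1
  refine h1.trans (congrArg (· * _) (Nat.card_congr (Equiv.subtypeEquivRight fun g =>
    and_congr_right fun hg => ?_)))
  rw [← mem_fix (hg.pow 7 |> fun e => by rwa [hx, isConj_one_right] at e), MulAction.mem_fixedBy,
    Sylow.smul_eq_iff_mem_normalizer]

/-- the Burnside count when only the class of `z` has more than one fixed point -/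
theorem Ex.count {P : Subgroup G} {z : G} (h : Ex P z)
    (h1 : ∀ g ∈ P, g ≠ 1 → ¬ IsConj z g → fx g = 1) :
    ∃ b, Nat.card {g // IsConj z g ∧ g ∈ P} + b = 342 ∧
      343 ∣ Nat.card (Sylow 7 G) + Nat.card {g // IsConj z g ∧ g ∈ P} * fx z + b := by
  classical
  have := Fintype.ofFinite P
  have h2 := burn P
  set s := Finset.univ.erase (1 : P)
  have h3 : Nat.card {g // IsConj z g ∧ g ∈ P} = (s.filter fun g : P => IsConj z g).card := by
    rw [← Nat.card_eq_finsetCard]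
    refine Nat.card_congr ⟨fun g => ⟨⟨g.1, g.2.2⟩, ?_⟩, fun g => ⟨g.1, (Finset.mem_filter.1 g.2).2, g.1.2⟩,
      fun _ => rfl, fun _ => rfl⟩
    refine Finset.mem_filter.2 ⟨Finset.mem_erase.2 ⟨fun e => h.ne ?_, Finset.mem_univ _⟩, g.2.1⟩
    exact isConj_one_left.1 ((show g.1 = 1 from congrArg Subtype.val e) ▸ g.2.1)
  refine ⟨(s.filter fun g : P => ¬ IsConj z g).card, ?_, ?_⟩
  · rw [h3, Finset.card_filter_add_card_filter_not, Finset.card_erase_of_mem (Finset.mem_univ _),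
      Finset.card_univ, ← Nat.card_eq_fintype_card, h.card]
  · rw [h.card, ← Finset.add_sum_erase _ _ (Finset.mem_univ (1 : P)),
      ← Finset.sum_filter_add_sum_filter_not _ fun g : P => IsConj z g,
      Finset.sum_const_nat (m := fx z), Finset.sum_const_nat (m := 1)] at h2
    · rw [h3, add_assoc]
      simpa [fx_one] using h2
    · intro g hg
      rw [Finset.mem_filter, Finset.mem_erase] at hg
      exact h1 g g.2 (fun e => hg.1.1 (Subtype.ext e)) hg.2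
    · intro g hg
      obtain ⟨c, hc⟩ := isConj_iff.1 (Finset.mem_filter.1 hg).2
      rw [← hc, fx_conj]

/-- only one Sylow subgroup contains a non-special element -/
theorem Ctx.fx_ns (h : Ctx G) {P : Subgroup G} {z x : G} (hP : Ex P z) (hz : Cent1 z ≤ Nrm P)
    (hx : x ∈ P) (hn : x ∉ zpowers z) (hs : ¬ Sp x) (hE : Cent1 x ≤ Nrm (zpowers z ⊔ zpowers x)) :
    fx x = 1 := by
  refine fx_eq_one hP.syl (hP.exp x hx) hx fun Q hQ hxQ => ?_
  obtain ⟨w, hw⟩ := h.ex hQ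
  have h1 : w ∈ P := (hP.E_le hx ((h.syl_E hP hx hn hs).mem_of_normal hE (hQ.isPi.elt hw.mem)
    (mem_cent1_comm.1 (hw.cent1 hxQ)))).1
  by_cases h2 : w ∈ zpowers z
  · exact hQ.eq_of_le hP.syl.isPi (hP.syl.le_of_le_nrm hQ.isPi le_top
      (hw.cent1.trans ((cent1_eq hP.ord h2 hw.ne).le.trans hz))) le_top |>.symm
  · have h3 : x ∈ zpowers z ⊔ zpowers w := hP.inf_cent h1 h2 ▸ ⟨hx, hw.cent1 hxQ⟩
    obtain ⟨c, hc, v, hv, rfl⟩ := (mem_sup_of_nrm ((zpowers_le.2 h1).trans hP.nrm')).1 h3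
    have h4 : v ∉ zpowers z := fun e => hn (mul_mem hc e)
    obtain ⟨g, -, hg⟩ := hP.shift (zpowers_le.2 h1 hv) h4 hc
    exact (hs (hg ▸ (hw.of_mem hv fun e => h4 (e ▸ one_mem _)).sp.conj g)).elim

theorem conj_pow_pow {y z : G} {k : ℕ} (h : y * z * y⁻¹ = z ^ k) (n : ℕ) :
    y ^ n * z * (y ^ n)⁻¹ = z ^ k ^ n := by
  induction n with
  | zero => simp
  | succ n ih =>
    calc y ^ (n + 1) * z * (y ^ (n + 1))⁻¹ = y ^ n * (y * z * y⁻¹) * (y ^ n)⁻¹ := by group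
      _ = _ := by rw [h, ← conj_pow, ih, ← pow_mul, pow_succ]

/-- an element acting nontrivially on `z` kills the complement -/
theorem Ctx.kill (h : Ctx G) {P : Subgroup G} {z x y : G} (hP : Ex P z)
    (hx : x ∈ P) (hn : x ∉ zpowers z) (hs : ¬ Sp x) (hy : y ∈ Cent1 x) (hyn : y ∈ Nrm (zpowers z))
    (hyz : y ∉ Cent1 z) : Cent1 x ≤ Nrm (zpowers z ⊔ zpowers x) := by
  have hx7 : orderOf x = 7 := ord7 (hP.exp x hx) fun e => hn (e ▸ one_mem _)
  have hE := h.syl_E hP hx hn hs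
  obtain ⟨W, hW⟩ := h.str hx7 hE (by
    rw [commutator_eq_bot_iff.2 (comm_iff_le_cent.1 (comm_sup inferInstance inferInstance
      ((zpowers_le.2 hx).trans hP.cent)))]
    exact bot_le)
  have h1 : y ^ 7 ∉ Cent1 z := fun e => hyz (by
    obtain ⟨k, hk⟩ := mem_powers_iff_mem_zpowers.2 (conj_mem_of_mem_nrm hyn (mem_zpowers z))
    have h2 := conj_pow_pow hk.symm 7
    have := Fact.mk p7
    have h3 : k ^ 7 ≡ k [MOD orderOf z] := by
      rw [hP.ord]
      exact (ZMod.natCast_eq_natCast_iff _ _ _).1 (by rw [Nat.cast_pow, ZMod.pow_card])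
    rw [mem_cent1.1 e, mul_inv_cancel_right, pow_eq_pow_iff_modEq.2 h3] at h2
    exact mem_cent1.2 (mul_inv_eq_iff_eq_mul.1 (hk.symm.trans h2.symm)))
  have h0 : y ^ 7 ≠ 1 := fun e => h1 (e ▸ one_mem _)
  have ho : orderOf (y ^ 7) = 2 ∨ orderOf (y ^ 7) = 3 := (h.sm x y hx7 hy).imp
    (fun e => orderOf_eq_prime (by rwa [← pow_mul]) h0) (fun e => orderOf_eq_prime (by rwa [← pow_mul]) h0)
  have h3 := h.maz hx7 hW.nrm hW.sq (le_sup_left.trans hE.le) (hE.isPi.of_le le_sup_left) (by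
      rw [eq_bot_iff, ← hW.fix, cent_sup, cent_zpowers x]
      exact le_inf inf_le_left (le_inf inf_le_right (inf_le_left.trans hW.nrm.le)))
    (pow_mem hy 7) (pow_mem hyn 7) ho fun i h4 hi f hf hc => by
      by_cases h5 : f = 1
      · exact h5 ▸ one_mem _
      have h6 := mul_mem (inv_mem hf) (conj_mem_of_mem_nrm (pow_mem (pow_mem hyn 7) i) hf)
      refine zpowers_le.2 hc (zp_eq hP.ord h6 (fun e => h1 (mem_cent1.2 ?_)) ▸ hf)
      refine (H5.commute_of_commute_of_prime_order (by rcases ho with e | e <;> rw [e] <;> norm_num)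
        (hP.ord ▸ p7) (pow_mem (mem_zpowers _) i) (pow_ne_one_of_lt_orderOf h4.ne' hi) hf h5 ?_).symm
      exact (mul_inv_eq_iff_eq_mul.1 (inv_mul_eq_one.1 e).symm).symm
  exact (h3 ▸ hW).le_nrm

end H40.SP.He
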