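/- SPECTRA (S3535), `JobHeS` part 3: numerical data, and the case of a weakly closed centre. -/
import Cfsg.Agent.H40.SPHe2

set_option autoImplicit false
set_option linter.unusedSectionVars false

namespace H40.SP.He

open Cfsg hiding pRank
open Subgroup H46

universe u
variable {G : Type u} [Group G] [Finite G] {P : Subgroup G} {z : G}

theorem Ctx.card23 (h : Ctx G) {U : Subgroup G} (hU : ∀ g ∈ U, g ^ 2 = 1 ∨ g ^ 3 = 1) :
    ∃ a ≤ 10, ∃ b ≤ 3, Nat.card U = 2 ^ a * 3 ^ b := by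
  have h1 : Nat.card U ∣ 2 ^ 10 * 3 ^ 3 := by
    refine Nat.Coprime.dvd_of_dvd_mul_right (n := 145775) (Nat.coprime_of_dvd fun r hr hd => ?_)
      (by simpa [h.card] using card_dvd_card_top U)
    rcases prime23 hU hr hd with rfl | rfl <;> norm_num
  obtain ⟨m, n, hm, hn, e⟩ := (Nat.dvd_mul).1 h1
  obtain ⟨a, ha, rfl⟩ := (Nat.dvd_prime_pow Nat.prime_two).1 hm
  obtain ⟨b, hb, rfl⟩ := (Nat.dvd_prime_pow Nat.prime_three).1 hn
  exact ⟨a, ha, b, hb, e.symm⟩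

theorem Ex.idx (h : Ex P z) : (Cent1 z).relIndex (Nrm P) ∣ 6 := by
  have := Fact.mk p7
  have h1 := H87.relIndex_dvd_prime_sub_one (p := 7) (P := zpowers z) (by rw [card_zpowers', h.ord])
  have h2 : Cent (zpowers z) ⊴ Nrm (zpowers z) := ⟨cent_le_nrm _, nrm_le_nrm_cent _⟩
  exact cent_zpowers z ▸ (h2.relIndex_dvd h.nrm).trans h1

theorem Ctx.n7 (h : Ctx G) (hP : Ex P z) {c : ℕ} (hc : Nat.card ↥(Cent1 z ⊓ Nrm P) = 343 * c) :
    Nat.card (Nrm P) = 343 * c * (Cent1 z).relIndex (Nrm P) ∧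
      Nat.card (Sylow 7 G) * (c * (Cent1 z).relIndex (Nrm P)) = 11750400 := by
  have h1 := card_inf_mul_relIndex (Cent1 z) (Nrm P)
  have h2 := card_syl_mul hP.syl
  rw [hc] at h1
  refine ⟨h1.symm, Nat.eq_of_mul_eq_mul_left (n := 343) (by norm_num) ?_⟩
  rw [← h1, h.card] at h2
  linarith

theorem Ex.exists_c (hP : Ex P z) : ∃ c, Nat.card ↥(Cent1 z ⊓ Nrm P) = 343 * c :=
  hP.card ▸ card_dvd_of_le (le_inf hP.cent1 le_nrm_self)

set_option synthInstance.maxSize 1000 in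
theorem enumA : ∀ a : ℕ, a ≤ 10 → ∀ b : ℕ, b ≤ 3 → ∀ j : ℕ, j ≤ a → ∀ e ∈ [1, 2, 3, 6], 2 ^ j % 7 = 1 →
    11750400 % (2 ^ (a - j) * 3 ^ b * e) = 0 → 11750400 / (2 ^ (a - j) * 3 ^ b * e) % 49 = 2 ^ j % 49 →
    (j = 0 ∧ 2 ^ (a - j) * 3 ^ b * e = 4) ∨ a = 10 ∨ (a = 9 ∧ b ≠ 0) := by decide +kernel

theorem Ctx.caseA0 (h : Ctx G) (hP : Ex P z) (hA : ∀ x ∈ P, Sp x → x ∈ zpowers z) :
    fx z = 1 ∧ Cent1 z ≤ Nrm P ∧ Nat.card (Nrm P) = 1372 := by
  have := Fact.mk p7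
  obtain ⟨W, hW⟩ := h.str hP.ord hP.syl1 hP.der.le
  obtain ⟨c, hc⟩ := hP.exists_c
  obtain ⟨h1, h2⟩ := h.n7 hP hc
  have h3 := hW.card hP.syl1
  have h4 := fx_mul hP.syl (hP.exp z hP.mem)
  have h5 : Nat.card {g // IsConj z g ∧ g ∈ P} < 7 := by
    have h5 : {g | IsConj z g ∧ g ∈ P} ⊂ (zpowers z : Set G) := by
      refine ⟨fun g hg => ?_, fun e => hP.ne (isConj_one_left.1 (e (one_mem _)).1)⟩
      obtain ⟨k, hk⟩ := isConj_iff.1 hg.1
      exact hA g hg.2 (hk ▸ hP.sp.conj k)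
    have h6 := Set.ncard_lt_ncard h5
    rwa [← Nat.card_coe_set_eq (zpowers z : Set G), SetLike.coe_sort_coe, card_zpowers', hP.ord] at h6
  obtain ⟨k, hk⟩ := hP.mod49
  have h6 := card_sylow_modEq_one 7 G
  have h7 := hW.modEq hP.syl1
  have he := hP.idx
  set e := (Cent1 z).relIndex (Nrm P)
  set a := Nat.card {g // IsConj z g ∧ g ∈ P}
  have hc0 : 0 < c := Nat.pos_of_mul_pos_left (hc ▸ card_pos' _)
  have h8 : fx z * e = a * Nat.card W := by
    refine Nat.eq_of_mul_eq_mul_left (n := 343 * c) (by omega) ?_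
    rw [h1, h3, hc] at h4
    linarith
  have he' : e ∈ [1, 2, 3, 6] := by
    have := Nat.le_of_dvd (by norm_num) he
    interval_cases e <;> simp_all
  have h9 : fx z = Nat.card W := by
    have h9 : fx z ≡ 1 [MOD 7] := by unfold Nat.ModEq at h6 ⊢; omega
    have h10 := (h9.mul_right e).symm.trans (h8 ▸ h7.mul_left a)
    have h11 : e = a := by
      have := Nat.le_of_dvd (by norm_num) he
      unfold Nat.ModEq at h10
      omega
    rw [← h11, mul_comm] at h8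
    exact Nat.eq_of_mul_eq_mul_left (Nat.pos_of_dvd_of_pos he (by norm_num)) h8
  obtain ⟨U, hU⟩ := hall_exists {7}ᶜ (h.sol z hP.ord)
  have hU23 : ∀ g ∈ U, g ^ 2 = 1 ∨ g ^ 3 = 1 := fun g hg => h.sm23 hP.ord (hU.le hg) (hU.isPi.elt hg)
  obtain ⟨α, hα, β, hβ, h10⟩ := h.card23 hU23
  obtain ⟨j, hj⟩ := hW.isPi.exists_pow Nat.prime_two
  have h11 : 2 ^ j * c = 2 ^ α * 3 ^ β := by
    have := hP.syl1.card_mul hU
    rw [hP.card, h3, hc, hj, h10] at this
    linarith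
  have h12 : j ≤ α := (Nat.pow_dvd_pow_iff_le_right one_lt_two).1
    ((Nat.Coprime.pow j β (by norm_num : Nat.Coprime 2 3)).dvd_of_dvd_mul_right (h11 ▸ Dvd.intro _ rfl))
  have h13 : c = 2 ^ (α - j) * 3 ^ β := by
    refine Nat.eq_of_mul_eq_mul_left (n := 2 ^ j) (by positivity) ?_
    rw [h11, ← mul_assoc, ← pow_add, Nat.add_sub_cancel' h12]
  rcases enumA α hα β hβ j h12 e he' (hj ▸ h7) (by rw [← h13, ← h2]; simp) (by
    rw [← h13, ← h2, Nat.mul_div_cancel _ (by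
      rcases Nat.eq_zero_or_pos (c * e) with h0 | h0
      · simp [h0] at h2
      · exact h0), hk, h9, hj]
    simp) with ⟨rfl, h14⟩ | rfl | ⟨rfl, h14⟩
  · rw [pow_zero, card_eq_one] at hj
    subst hj
    exact ⟨by rw [h9, card_bot], hW.le_nrm, by rw [h1, mul_assoc, h13, h14]; rfl⟩
  · have h14 := shape2 (sol_of_le (h.sol z hP.ord) hU.le) hU23 h10 (by norm_num)
    exact (h.syl2 _ h14.2.1 (comm_of_sq (sq_of_pi hU23 h14.1.isPi h14.1.le))).elim
  · exact absurd ((shape2 (sol_of_le (h.sol z hP.ord) hU.le) hU23 h10 (by norm_num)).2.2 h14) (by norm_num)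

theorem Ex.der_E (hP : Ex P z) {x : G} (hx : x ∈ P) :
    ⁅zpowers z ⊔ zpowers x, zpowers z ⊔ zpowers x⁆ ≤ zpowers x := by
  rw [commutator_eq_bot_iff.2 (comm_iff_le_cent.1 (comm_sup inferInstance inferInstance
    ((zpowers_le.2 hx).trans hP.cent)))]
  exact bot_le

theorem Ctx.caseA (h : Ctx G) (hP : Ex P z) (hA : ∀ x ∈ P, Sp x → x ∈ zpowers z)
    (h0 : 21 ∈ om G ∨ NoV4 G) : False := by
  obtain ⟨h1, h2, h3⟩ := h.caseA0 hP hA
  rcases h0 with ⟨g, hg⟩ | h0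
  · have h4 : orderOf (g ^ 3) = 7 := by rw [orderOf_pow' g (by norm_num), hg]; norm_num
    obtain ⟨k, -, hk⟩ := sylow_cj_le p7 hP.syl (Q := zpowers (g ^ 3))
      (IsPGroup.of_card (n := 1) (by rw [card_zpowers', h4]; rfl)) le_top
    rw [cj_zpowers, zpowers_le] at hk
    have h5 : 3 ∣ Nat.card (Cent1 (k * g ^ 3 * k⁻¹)) := by
      rw [← cj_cent1, card_cj]
      exact (show 3 ∣ orderOf g by rw [hg]; norm_num).trans
        (orderOf_dvd_card (mem_cent1.2 ((Commute.refl g).pow_right 3)))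
    rw [← orderOf_conj k] at h4
    set x := k * g ^ 3 * k⁻¹
    suffices 3 ∣ Nat.card (Nrm P) by rw [h3] at this; norm_num at this
    by_cases hn : x ∈ zpowers z
    · rw [cent1_eq hP.ord hn fun e => by simp [e] at h4] at h5
      exact h5.trans (card_dvd_of_le h2)
    have hE := h.syl_E hP hk hn fun e => hn (hA x hk e)
    obtain ⟨W, hW⟩ := h.str h4 hE (hP.der_E hk)
    rw [hW.card hE] at h5
    refine ((Nat.prime_three.dvd_mul.1 h5).resolve_left
      ((hW.isPi.compl_singleton (p := 3) (by simp)).not_dvd Nat.prime_three rfl)).trans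
      (card_dvd_of_le fun n hn' => mem_nrm_of_cj_le ?_)
    have h6 := hA _ (hP.E_le hk (conj_mem_of_mem_nrm hn'.2 (mem_sup_left (mem_zpowers z)))).1 (hP.sp.conj n)
    exact hP.syl.le_of_le_nrm (hP.syl.isPi.cj n) le_top ((hP.cj n).cent1.trans
      ((cent1_eq hP.ord h6 (hP.cj n).ne).le.trans h2))
  · obtain ⟨b, h4, h5⟩ := hP.count fun x hx hx1 _ => by
      by_cases hn : x ∈ zpowers z
      · exact (h.caseA0 (hP.of_mem hn hx1) (by rwa [zp_eq hP.ord hn hx1])).1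
      obtain ⟨k, hk⟩ := h0 x z (ord7 (hP.exp x hx) hx1) hP.ord (mem_cent1.1 (hP.cent1 hx)) hn
      have hk1 : z ^ k ∈ zpowers z := pow_mem (mem_zpowers z) k
      obtain ⟨g, -, hg⟩ := hP.shift hx hn hk1
      rw [← fx_conj g, hg, hP.zcomm hk1 hx]
      have hy : x * z ^ k ∈ P := mul_mem hx (hP.zle hk1)
      have hn' : x * z ^ k ∉ zpowers z := fun e => hn ((mul_mem_cancel_right hk1).1 e)
      set y := x * z ^ k
      have hs : ¬ Sp y := fun e => hn' (hA y hy e)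
      have hE := h.syl_E hP hy hn' hs
      obtain ⟨W, hW⟩ := h.str (ord7 (hP.exp y hy) fun e => hn' (e ▸ one_mem _)) hE (hP.der_E hy)
      suffices h5 : W = ⊥ from h.fx_ns hP h2 hy hn' hs (Str.le_nrm (h5 ▸ hW))
      by_contra hne
      obtain ⟨a, ha, ha1⟩ := exists_ne_one_of_ne_bot hne
      have h6 : W = zpowers a := le_antisymm (fun b hb => by
        rcases hk a b (sq a ▸ hW.sq a ha) (sq b ▸ hW.sq b hb)
          (mem_cent.1 (comm_iff_le_cent.1 (comm_of_sq hW.sq) hb) a ha) (mem_cent1.1 (hW.nrm.le ha))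
          (mem_cent1.1 (hW.nrm.le hb)) with e | rfl | rfl
        exacts [(ha1 e).elim, one_mem _, mem_zpowers _]) (zpowers_le.2 ha)
      have h7 := hW.modEq hE
      rw [h6, card_zpowers', orderOf_eq_prime (hW.sq a ha) ha1] at h7
      exact absurd h7 (by decide)
    have h6 := card_syl_mul hP.syl
    rw [h3, h.card] at h6
    rw [h1] at h5
    omega

end H40.SP.He
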