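/- SPECTRA (S3535), `JobHeS` part 4: coordinates. -/
import Cfsg.Agent.H40.SPHe2

set_option autoImplicit false
set_option linter.unusedSectionVars false

namespace H40.SP.He

open Cfsg hiding pRank
open Subgroup H46
open scoped commutatorElement

universe u

section kit
variable {K : Type*} [Group K] {x z g h : K} {a b c d a' b' c' d' : ZMod 7}

theorem pv_add (hx : x ^ 7 = 1) (a b : ZMod 7) : x ^ (a + b).val = x ^ a.val * x ^ b.val := by
  rw [ZMod.val_add, ← pow_eq_pow_mod _ hx, pow_add]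

theorem pv_mul (hx : x ^ 7 = 1) (a b : ZMod 7) : x ^ (a * b).val = (x ^ a.val) ^ b.val := by
  rw [ZMod.val_mul, ← pow_eq_pow_mod _ hx, pow_mul]

theorem pv_nat (hx : x ^ 7 = 1) (n : ℕ) : x ^ (n : ZMod 7).val = x ^ n := by
  rw [ZMod.val_natCast, ← pow_eq_pow_mod _ hx]

theorem pv_one : x ^ (1 : ZMod 7).val = x := pow_one x

theorem pv_inj (hx : orderOf x = 7) (e : x ^ a.val = x ^ b.val) : a = b :=
  ZMod.val_injective 7 (pow_injOn_Iio_orderOf ((ZMod.val_lt a).trans_eq hx.symm)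
    ((ZMod.val_lt b).trans_eq hx.symm) e)

theorem exists_pv (hx : x ^ 7 = 1) [Finite K] (hg : g ∈ zpowers x) : ∃ a : ZMod 7, g = x ^ a.val := by
  obtain ⟨n, rfl⟩ := mem_powers_iff_mem_zpowers.2 hg
  exact ⟨n, (pv_nat hx n).symm⟩

/-- `g` acts on `z` as the power `a` -/
def A1 (z g : K) (a : ZMod 7) : Prop := g * z * g⁻¹ = z ^ a.val

theorem A1.mul (hz : z ^ 7 = 1) (h1 : A1 z g a) (h2 : A1 z h b) : A1 z (g * h) (a * b) := by
  unfold A1 at *
  rw [pv_mul hz, ← h1, conj_pow, ← h2]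
  group

theorem A1.one : A1 z 1 1 := by simp [A1, pv_one]

theorem A1.pow (hz : z ^ 7 = 1) (h1 : A1 z g a) (n : ℕ) : A1 z (g ^ n) (a ^ n) := by
  induction n with
  | zero => simpa using A1.one
  | succ n ih => simpa [pow_succ] using ih.mul hz h1

theorem A1.unique (hz : orderOf z = 7) (h1 : A1 z g a) (h2 : A1 z g b) : a = b :=
  pv_inj hz (h1.symm.trans h2)

theorem A1.of_cent (h1 : g ∈ Cent1 z) : A1 z g 1 := by
  rw [A1, mem_cent1.1 h1, pv_one, mul_inv_cancel_right]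

theorem A1.of_mem [Finite K] (hz : z ^ 7 = 1) (h1 : A1 z g a) (hx : x ∈ zpowers z) : A1 x g a := by
  obtain ⟨b, rfl⟩ := exists_pv hz hx
  rw [A1, ← conj_pow, h1, ← pow_mul, ← pow_mul, mul_comm]

/-- a basis of a subgroup `7 × 7` -/
structure Pr (x z : K) : Prop where
  hx : x ^ 7 = 1
  hz : z ^ 7 = 1
  comm : Commute x z
  ind : ∀ a b : ZMod 7, x ^ a.val * z ^ b.val = 1 → a = 0 ∧ b = 0

/-- the element with given coordinates -/
def el (x z : K) (a b : ZMod 7) : K := x ^ a.val * z ^ b.val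

/-- the matrix of `g` -/
def Act (x z g : K) (a b c d : ZMod 7) : Prop := g * x * g⁻¹ = el x z a b ∧ g * z * g⁻¹ = el x z c d

theorem mk10 : el x z 1 0 = x := by simp [el, pv_one]
theorem mk01 : el x z 0 1 = z := by simp [el, pv_one]
theorem mk00 : el x z 0 0 = 1 := by simp [el]
theorem mk0 : el x z 0 b = z ^ b.val := by simp [el]
theorem mk0' : el x z a 0 = x ^ a.val := by simp [el]

theorem Pr.mk_add (p : Pr x z) (a b c d : ZMod 7) : el x z (a + c) (b + d) = el x z a b * el x z c d := by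
  unfold el
  rw [pv_add p.hx, pv_add p.hz]
  exact ((p.comm.pow_pow _ _).mul_mul_mul_comm _ _)

theorem Pr.mk_pow (p : Pr x z) (a b c : ZMod 7) : el x z a b ^ c.val = el x z (a * c) (b * c) := by
  unfold el
  rw [pv_mul p.hx, pv_mul p.hz, (p.comm.pow_pow _ _).mul_pow]

theorem Pr.mk_inj (p : Pr x z) (e : el x z a b = el x z c d) : a = c ∧ b = d := by
  have := p.ind (a - c) (b - d) (mul_right_cancel (b := el x z c d) (by
    rw [one_mul]
    exact (p.mk_add _ _ _ _).symm.trans (by simpa using e)))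
  exact ⟨sub_eq_zero.1 this.1, sub_eq_zero.1 this.2⟩

theorem Act.apply (p : Pr x z) (h1 : Act x z g a b c d) (i j : ZMod 7) :
    g * el x z i j * g⁻¹ = el x z (a * i + c * j) (b * i + d * j) := by
  rw [p.mk_add, ← p.mk_pow, ← p.mk_pow, ← h1.1, ← h1.2, conj_pow, conj_pow, el]
  group

theorem Act.mul (p : Pr x z) (h1 : Act x z g a b c d) (h2 : Act x z h a' b' c' d') :
    Act x z (g * h) (a * a' + c * b') (b * a' + d * b') (a * c' + c * d') (b * c' + d * d') :=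
  ⟨by rw [← h1.apply p, ← h2.1]; group, by rw [← h1.apply p, ← h2.2]; group⟩

theorem Act.one : Act x z 1 1 0 0 1 := ⟨by simp [mk10], by simp [mk01]⟩

theorem Act.unique (p : Pr x z) (h1 : Act x z g a b c d) (h2 : Act x z g a' b' c' d') :
    (a = a' ∧ b = b') ∧ c = c' ∧ d = d' :=
  ⟨p.mk_inj (h1.1.symm.trans h2.1), p.mk_inj (h1.2.symm.trans h2.2)⟩

theorem Act.cast (h1 : Act x z g a b c d) (e1 : a = a') (e2 : b = b') (e3 : c = c') (e4 : d = d') :
    Act x z g a' b' c' d' := e1 ▸ e2 ▸ e3 ▸ e4 ▸ h1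

theorem Act.of_eq (h1 : Act x z g a b c d) (e : g = h) : Act x z h a b c d := e ▸ h1

theorem Act.diag_pow (p : Pr x z) (h1 : Act x z g a 0 0 d) (n : ℕ) :
    Act x z (g ^ n) (a ^ n) 0 0 (d ^ n) := by
  induction n with
  | zero => simpa using Act.one
  | succ n ih => simpa [pow_succ] using ih.mul p h1

theorem Act.inv_one (h1 : Act x z g 1 0 0 1) : Act x z g⁻¹ 1 0 0 1 := by
  obtain ⟨h2, h3⟩ := h1
  rw [mk10] at h2
  rw [mk01] at h3
  constructor
  · rw [mk10]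
    conv_lhs => rw [← h2]
    group
  · rw [mk01]
    conv_lhs => rw [← h3]
    group

/-- a fixed element in the coset, when the action on `z` is nontrivial -/
theorem lift_fix (p : Pr x z) (h1 : Act x z g 1 b 0 d) (hd : d ≠ 1) :
    ∃ k : ZMod 7, g ∈ Cent1 (x * z ^ k.val) := by
  have := Fact.mk p7
  refine ⟨b / (1 - d), mem_cent1.2 (mul_inv_eq_iff_eq_mul.1 ?_)⟩
  have h2 := h1.apply p 1 (b / (1 - d))
  have h3 : b * 1 + d * (b / (1 - d)) = b / (1 - d) := by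
    have : 1 - d ≠ 0 := sub_ne_zero.2 hd.symm
    field_simp
    ring
  rw [h3] at h2
  simpa [el, pv_one] using h2

end kit

variable {G : Type u} [Group G] [Finite G] {P : Subgroup G} {z x y n : G}

namespace Ex

theorem z7 (h : Ex P z) : z ^ 7 = 1 := h.exp z h.mem

theorem a1 (h : Ex P z) (hn : n ∈ Nrm (zpowers z)) : ∃ d, A1 z n d :=
  exists_pv h.z7 (conj_mem_of_mem_nrm hn (mem_zpowers z))

theorem prE (h : Ex P z) (hx : x ∈ P) (hn : x ∉ zpowers z) : Pr x z := by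
  refine ⟨h.exp x hx, h.z7, mem_cent1.1 (h.cent1 hx), fun a b e => ?_⟩
  have h1 : orderOf x = 7 := ord7 (h.exp x hx) fun e => hn (e ▸ one_mem _)
  have h2 : x ^ a.val = 1 := by
    by_contra h2
    refine hn (zpowers_le.1 ((zp_eq h1 (pow_mem (mem_zpowers x) _) h2).ge.trans (zpowers_le.2 ?_)))
    rw [eq_inv_of_mul_eq_one_left e]
    exact inv_mem (pow_mem (mem_zpowers z) _)
  rw [h2, one_mul] at e
  exact ⟨pv_inj h1 (by simpa using h2), pv_inj h.ord (by simpa using e)⟩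

theorem q_mul (h : Ex P z) (hx : x ∈ Nrm P) (hy : y ∈ Nrm P) :
    qel (zpowers z) (x * y) = qel (zpowers z) x * qel (zpowers z) y := mel_mul _ (h.nrm hx) (h.nrm hy)

theorem q_pow (h : Ex P z) (hx : x ∈ Nrm P) (k : ℕ) :
    qel (zpowers z) (x ^ k) = qel (zpowers z) x ^ k := mel_pow _ (h.nrm hx) k

theorem q_inv (h : Ex P z) (hx : x ∈ Nrm P) :
    qel (zpowers z) x⁻¹ = (qel (zpowers z) x)⁻¹ := mel_inv _ (h.nrm hx)

theorem q_conj (h : Ex P z) (hn : n ∈ Nrm P) (hx : x ∈ P) :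
    qel (zpowers z) (n * x * n⁻¹) = qel (zpowers z) n * qel (zpowers z) x * (qel (zpowers z) n)⁻¹ :=
  mel_conj _ (h.nrm hn) (h.nrm' hx)

theorem q_eq (h : Ex P z) (hx : x ∈ P) (hy : y ∈ P) (e : qel (zpowers z) x = qel (zpowers z) y) :
    ∃ k : ZMod 7, y = x * z ^ k.val := by
  obtain ⟨k, hk⟩ := exists_pv h.z7 ((qel_eq_iff (h.nrm' hx) (h.nrm' hy)).1 e)
  exact ⟨k, by rw [← hk]; group⟩

theorem mk_mem (hx : x ∈ P) (hy : y ∈ P) (a b : ZMod 7) : el x y a b ∈ P :=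
  mul_mem (pow_mem hx _) (pow_mem hy _)

theorem q_mk (h : Ex P z) (hx : x ∈ P) (hy : y ∈ P) (a b : ZMod 7) :
    qel (zpowers z) (el x y a b) = el (qel (zpowers z) x) (qel (zpowers z) y) a b := by
  unfold el
  rw [h.q_mul (le_nrm_self (pow_mem hx _)) (le_nrm_self (pow_mem hy _)), h.q_pow (le_nrm_self hx),
    h.q_pow (le_nrm_self hy)]

theorem cm_z (h : Ex P z) (hx : x ∈ P) (k : ℕ) : ⁅x, z ^ k⁆ = 1 :=
  commutatorElement_eq_one_iff_mul_comm.2 (h.zcomm (pow_mem (mem_zpowers z) k) hx).symm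

theorem cm_z' (h : Ex P z) (hx : x ∈ P) (k : ℕ) : ⁅z ^ k, x⁆ = 1 :=
  commutatorElement_eq_one_iff_mul_comm.2 (h.zcomm (pow_mem (mem_zpowers z) k) hx)

theorem cm_mk (h : Ex P z) (hx : x ∈ P) (hy : y ∈ P) (a b c d : ZMod 7) :
    ⁅el x y a b, el x y c d⁆ = ⁅x, y⁆ ^ (a * d - b * c).val := by
  have h7 := h.exp _ (h.zle (h.cm hx hy))
  refine mul_right_cancel (b := ⁅x, y⁆ ^ (b * c).val) ?_
  have h1 := mk_mem hx hy c d
  unfold el at h1 ⊢
  rw [← pv_add h7, sub_add_cancel, h.cm_mul_left (pow_mem hx _) (pow_mem hy _) h1,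
    h.cm_pow_left hx h1, h.cm_pow_left hy h1,
    h.cm_mul_right (pow_mem hx _) (pow_mem hy _) hx, h.cm_mul_right (pow_mem hx _) (pow_mem hy _) hy,
    h.cm_pow_right hx hx, h.cm_pow_right hy hx, h.cm_pow_right hx hy, h.cm_pow_right hy hy,
    ← commutatorElement_inv x y, mul_comm a d, mul_comm b c, pv_mul h7, pv_mul h7, inv_pow]
  simp only [commutatorElement_self, one_pow, one_mul, mul_one, inv_pow, inv_mul_cancel_right]

theorem prQ (h : Ex P z) (hx : x ∈ P) (hy : y ∈ P) (hc : ⁅x, y⁆ ≠ 1) :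
    Pr (qel (zpowers z) x) (qel (zpowers z) y) := by
  refine ⟨by rw [← h.q_pow (le_nrm_self hx), h.exp x hx]; exact mel_one _,
    by rw [← h.q_pow (le_nrm_self hy), h.exp y hy]; exact mel_one _, ?_, fun a b e => ?_⟩
  · refine commutatorElement_eq_one_iff_mul_comm.1 ?_
    rw [commutatorElement_def, ← h.q_conj (le_nrm_self hx) hy, ← h.q_inv (le_nrm_self hy),
      ← h.q_mul (le_nrm_self (conj_mem_of_mem_nrm (le_nrm_self hx) hy)) (le_nrm_self (inv_mem hy))]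
    exact qel_of_mem (h.cm hx hy)
  · have h1 : el x y a b ∈ zpowers z :=
      (qel_eq_one_iff (h.nrm' (mk_mem hx hy a b))).1 ((h.q_mk hx hy a b).trans e)
    have h2 : ∀ c d, a * d - b * c = 0 := fun c d => pv_inj (ord7 (h.exp _ (h.zle (h.cm hx hy))) hc) (by
      rw [← h.cm_mk hx hy]
      simpa using commutatorElement_eq_one_iff_mul_comm.2 (h.zcomm h1 (mk_mem hx hy c d)))
    exact ⟨by simpa using h2 0 1, by simpa using h2 1 0⟩

theorem coord (h : Ex P z) (hx : x ∈ P) (hy : y ∈ P) (hc : ⁅x, y⁆ ≠ 1) {g : G} (hg : g ∈ P) :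
    ∃ a b, qel (zpowers z) g = el (qel (zpowers z) x) (qel (zpowers z) y) a b := by
  let φ : ZMod 7 × ZMod 7 → P ⧸ₙ zpowers z := fun v =>
    ⟨_, h.q_mk hx hy v.1 v.2 ▸ qel_mem_quo _ (mk_mem hx hy v.1 v.2)⟩
  have h1 : Function.Injective φ := fun v w e =>
    Prod.ext ((h.prQ hx hy hc).mk_inj (congrArg Subtype.val e)).1
      ((h.prQ hx hy hc).mk_inj (congrArg Subtype.val e)).2
  have h2 := card_mul_card_quo (N := zpowers z) ⟨h.zle, h.nrm'⟩
  rw [card_zpowers', h.ord, h.card] at h2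
  obtain ⟨v, hv⟩ := ((Nat.bijective_iff_injective_and_card φ).2 ⟨h1, by simp; omega⟩).2
    ⟨_, qel_mem_quo _ hg⟩
  exact ⟨v.1, v.2, (congrArg Subtype.val hv).symm⟩

theorem act (h : Ex P z) (hx : x ∈ P) (hy : y ∈ P) (hc : ⁅x, y⁆ ≠ 1) (hn : n ∈ Nrm P) :
    ∃ a b c d, Act (qel (zpowers z) x) (qel (zpowers z) y) (qel (zpowers z) n) a b c d := by
  obtain ⟨a, b, h1⟩ := h.coord hx hy hc (conj_mem_of_mem_nrm hn hx)
  obtain ⟨c, d, h2⟩ := h.coord hx hy hc (conj_mem_of_mem_nrm hn hy)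
  exact ⟨a, b, c, d, h.q_conj hn hx ▸ h1, h.q_conj hn hy ▸ h2⟩

theorem det (h : Ex P z) (hx : x ∈ P) (hy : y ∈ P) (hc : ⁅x, y⁆ ≠ 1) (hn : n ∈ Nrm P) {a b c d e : ZMod 7}
    (h1 : Act (qel (zpowers z) x) (qel (zpowers z) y) (qel (zpowers z) n) a b c d) (h2 : A1 z n e) :
    a * d - b * c = e := by
  obtain ⟨i, hi⟩ := h.q_eq (mk_mem hx hy a b) (conj_mem_of_mem_nrm hn hx)
    (by rw [h.q_mk hx hy, h.q_conj hn hx, h1.1])
  obtain ⟨j, hj⟩ := h.q_eq (mk_mem hx hy c d) (conj_mem_of_mem_nrm hn hy)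
    (by rw [h.q_mk hx hy, h.q_conj hn hy, h1.2])
  refine pv_inj (ord7 (h.exp _ (h.zle (h.cm hx hy))) hc) ?_
  have h3 := h2.of_mem h.z7 (h.cm hx hy)
  rw [A1, conjugate_commutatorElement, hi, hj, h.cm_mul_left (mk_mem hx hy a b) (pow_mem h.mem _)
    (mul_mem (mk_mem hx hy c d) (pow_mem h.mem _)), h.cm_z' (mul_mem (mk_mem hx hy c d) (pow_mem h.mem _)),
    h.cm_mul_right (mk_mem hx hy c d) (pow_mem h.mem _) (mk_mem hx hy a b), h.cm_z (mk_mem hx hy a b),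
    h.cm_mk hx hy] at h3
  simpa using h3

/-- an element fixing a coset and moving `z` centralizes an element of the coset -/
theorem lift (h : Ex P z) (hx : x ∈ P) (hxz : x ∉ zpowers z) (hn : n ∈ Nrm P) {d : ZMod 7}
    (h1 : A1 z n d) (hd : d ≠ 1)
    (h2 : qel (zpowers z) n * qel (zpowers z) x * (qel (zpowers z) n)⁻¹ = qel (zpowers z) x) :
    ∃ k : ZMod 7, n ∈ Cent1 (x * z ^ k.val) := by
  obtain ⟨b, hb⟩ := h.q_eq hx (conj_mem_of_mem_nrm hn hx) (by rw [h.q_conj hn hx, h2])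
  exact lift_fix (h.prE hx hxz) (b := b) ⟨by rw [hb, el, pv_one], by rw [h1, mk0]⟩ hd

end Ex

end H40.SP.He
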