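/- SPECTRA (S3535), `JobHeS` part 5: the torus element. -/
import Cfsg.Agent.H40.SPHe4

set_option autoImplicit false
set_option linter.unusedSectionVars false

namespace H40.SP.He

open Cfsg hiding pRank
open Subgroup H46
open scoped commutatorElement

universe u
variable {G : Type u} [Group G] [Finite G] {P M : Subgroup G} {z x v τ g n : G}

theorem Ctx.of_sp' (h : Ctx G) (hx : orderOf x = 7) (hM : x ∈ M) (hs : 343 ∣ Nat.card ↥(M ⊓ Cent1 x))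
    (hz : z ^ 7 = 1) (hle : z ∈ M ⊓ Cent1 x) : ∃ Q, Ex Q x ∧ z ∈ Q ∧ Q ≤ M := by
  obtain ⟨Q, hQ, h1⟩ := exists_sylow_ge p7 ((isPi_zpowers.2 (elt7 hz)).isPGroup p7) (zpowers_le.2 hle)
  obtain ⟨P, hP⟩ := exists_sylow p7 (⊤ : Subgroup G)
  have h2 : IsSylowOf 7 Q ⊤ := hP.of_card_eq le_top (by
    rw [h.card_syl hP]
    exact Nat.dvd_antisymm (h.dvd343 hQ.isPi) (hQ.dvd_card (pnat_singleton_pow p7 3) hs))
  obtain ⟨w, hw⟩ := h.ex h2
  have h3 : zpowers x ≤ Q := hQ.normal_le (isPi_zpowers.2 (elt7 (hx ▸ pow_orderOf_eq_one x)))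
    ⟨zpowers_le.2 ⟨hM, self_mem_cent1 x⟩, inf_le_right.trans (cent1_le_nrm_zpowers x)⟩
  exact ⟨Q, hw.of_mem (hw.zc ▸ ⟨zpowers_le.1 h3, le_cent1_iff.1 (hQ.le.trans inf_le_right)⟩)
    (fun e => by simp [e] at hx), zpowers_le.1 h1, hQ.le.trans inf_le_left⟩

/-- the stabilizer of `z` and of the coset of `x` -/
def L0 (z x : G) : Subgroup G where
  carrier := {g | g ∈ Cent1 z ∧ ⁅g, x⁆ ∈ zpowers z}
  one_mem' := ⟨one_mem _, by simp⟩
  mul_mem' := fun {a b} ha hb => ⟨mul_mem ha.1 hb.1, by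
    have := mul_mem (conj_mem_of_mem_nrm (cent1_le_nrm_zpowers z ha.1) hb.2) ha.2
    convert this using 1
    simp only [commutatorElement_def]; group⟩
  inv_mem' := fun {a} ha => ⟨inv_mem ha.1, by
    have := conj_mem_of_mem_nrm' (cent1_le_nrm_zpowers z ha.1) (inv_mem ha.2)
    convert this using 1
    simp only [commutatorElement_def]; group⟩

theorem Ctx.tau (h : Ctx G) (hP : Ex P z) (hx : x ∈ P) (hn : x ∉ zpowers z) (hM : P ≤ M)
    (hs : 343 ∣ Nat.card ↥(M ⊓ Cent1 x)) : ∃ τ ∈ M, τ ∈ Nrm P ∧ ∃ k, Act x z τ 3 k 0 5 := by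
  have hx7 : orderOf x = 7 := ord7 (hP.exp x hx) fun e => hn (e ▸ one_mem _)
  have p := hP.prE hx hn
  obtain ⟨Q, hQ, hzQ, hQM⟩ := h.of_sp' hx7 (hM hx) hs hP.z7 ⟨hM hP.mem, mem_cent1_comm.1 (hP.cent1 hx)⟩
  have hn' : z ∉ zpowers x := fun e => hn (zp_eq hx7 e hP.ne ▸ mem_zpowers x)
  obtain ⟨y, hy, e⟩ := hP.shift hx hn (mem_zpowers z)
  have a1 : Act x z y 1 1 0 1 := ⟨by rw [e, el, pv_one, pv_one, p.comm.eq], by
    rw [mk01, mem_cent1.1 (hP.cent1 hy), mul_inv_cancel_right]⟩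
  have a2 : ∀ b : ZMod 7, ∃ y ∈ M, Act x z y 1 0 b 1 := fun b => by
    obtain ⟨y, hy, e⟩ := hQ.shift hzQ hn' (pow_mem (mem_zpowers x) b.val)
    exact ⟨y, hQM hy, by rw [mk10, mem_cent1.1 (hQ.cent1 hy), mul_inv_cancel_right],
      by rw [e, el, pv_one]⟩
  obtain ⟨y2, m2, b2⟩ := a2 2
  obtain ⟨y4, m4, b4⟩ := a2 4
  have a3 : Act x z (y2 * y * y4) 3 1 0 5 :=
    ((b2.mul p a1).mul p b4).cast (by decide) (by decide) (by decide) (by decide)
  have m3 : y2 * y * y4 ∈ M := mul_mem (mul_mem m2 (hM hy)) m4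
  set k := y2 * y * y4
  have h1 : k * z * k⁻¹ ∈ zpowers z := by rw [a3.2, mk0]; exact pow_mem (mem_zpowers z) _
  have h2 : k ∈ Nrm (zpowers z) := mem_nrm_of_cj_le (by rw [cj_zpowers]; exact zpowers_le.2 h1)
  have h3 : P ≤ M ⊓ L0 z x := le_inf hM fun g hg => ⟨hP.cent1 hg, hP.cm hg hx⟩
  have h4 : cj k P ≤ M ⊓ L0 z x := by
    refine le_inf ((cj_mono k hM).trans (cj_of_mem m3).le) fun g hg =>
      ⟨cent1_eq hP.ord h1 (hP.cj k).ne ▸ (hP.cj k).cent1 hg, ?_⟩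
    have h5 : x ∈ cj k P := by
      have := a3.apply p 5 6
      rw [show (3 * 5 + 0 * 6 : ZMod 7) = 1 by decide, show (1 * 5 + 5 * 6 : ZMod 7) = 0 by decide,
        mk10] at this
      rw [← this]
      exact conj_mem_cj.2 (Ex.mk_mem hx hP.mem _ _)
    exact zp_eq hP.ord h1 (hP.cj k).ne ▸ (hP.cj k).cm hg h5
  obtain ⟨c, hc, e⟩ := sylow_trans p7 ((hP.cj k).syl.of_le h4 le_top) (hP.syl.of_le h3 le_top)
  obtain ⟨j, hj⟩ := exists_pv hP.z7 hc.2.2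
  have a4 : Act x z c 1 j 0 1 := ⟨by
    rw [el, pv_one, (p.comm.pow_right _).eq, ← hj, commutatorElement_def]; group, by
    rw [mk01, mem_cent1.1 hc.2.1, mul_inv_cancel_right]⟩
  exact ⟨c * k, mul_mem hc.1 m3, mem_nrm_iff_cj.2 (by rw [cj_mul, ← e]), _,
    (a4.mul p a3).cast (by decide) rfl (by decide) (by simp)⟩

/-- a basis adapted to the torus element -/
structure Bas (P : Subgroup G) (z x v τ : G) : Prop where
  ex : Ex P z
  hx : x ∈ P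
  hv : v ∈ P
  cm : ⁅x, v⁆ ≠ 1
  nrm : τ ∈ Nrm P
  a1 : A1 z τ 5
  act : Act (qel (zpowers z) x) (qel (zpowers z) v) (qel (zpowers z) τ) 3 0 0 4
  cent : τ ^ 3 ∈ Cent1 v

theorem Ex.q_z (hP : Ex P z) (hx : x ∈ P) (k : ℕ) : qel (zpowers z) (x * z ^ k) = qel (zpowers z) x := by
  rw [hP.q_mul (le_nrm_self hx) (le_nrm_self (pow_mem hP.mem k)), qel_of_mem (pow_mem (mem_zpowers z) k),
    mul_one]

theorem Ex.not_mem (hP : Ex P z) (hx : x ∈ P) (h : ⁅x, v⁆ ≠ 1) : v ∉ zpowers z := fun e =>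
  h (commutatorElement_eq_one_iff_mul_comm.2 (hP.zcomm e hx).symm)

theorem Ctx.bas (h : Ctx G) (hP : Ex P z) (hx : x ∈ P) (hn : x ∉ zpowers z) (hM : P ≤ M)
    (hs : 343 ∣ Nat.card ↥(M ⊓ Cent1 x)) : ∃ v, ∃ τ ∈ M, Bas P z x v τ := by
  obtain ⟨τ, hτ, hN, k, a1⟩ := h.tau hP hx hn hM hs
  have a2 : A1 z τ 5 := a1.2.trans mk0
  obtain ⟨y, hy, h1⟩ := hP.exists_cm hx hn
  replace h1 : ⁅x, y⁆ ≠ 1 := fun e => h1 (by rw [← commutatorElement_inv, e, inv_one])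
  have p := hP.prQ hx hy h1
  have h2 : qel (zpowers z) τ * qel (zpowers z) x * (qel (zpowers z) τ)⁻¹ = qel (zpowers z) x ^ (3 : ZMod 7).val := by
    rw [← hP.q_conj hN hx, a1.1, el, hP.q_z (pow_mem hx _), hP.q_pow (le_nrm_self hx)]
  obtain ⟨a, b, c, d, a3⟩ := hP.act hx hy h1 hN
  obtain ⟨rfl, rfl⟩ := p.mk_inj (a3.1.symm.trans (h2.trans mk0'.symm))
  obtain rfl : d = 4 := by
    have := hP.det hx hy h1 hN a3 a2
    clear a3
    revert c d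
    decide
  have h3 := Ex.mk_mem hx hy c 1
  have h4 : ⁅x, el x y c 1⁆ ≠ 1 := by
    have := hP.cm_mk hx hy 1 0 c 1
    rw [mk10, show (1 * 1 - 0 * c : ZMod 7) = 1 by simp, pv_one] at this
    rwa [this]
  have h5 : A1 (qel (zpowers z) (el x y c 1)) (qel (zpowers z) τ) 4 := by
    rw [A1, hP.q_mk hx hy, a3.apply p, p.mk_pow]
    congr 1 <;> ring
  have h6 := h5.pow (by rw [← hP.q_pow (le_nrm_self h3), hP.exp _ h3]; exact mel_one _) 3
  obtain ⟨j, hj⟩ := hP.lift h3 (hP.not_mem hx h4) (pow_mem hN 3) (a2.pow hP.z7 3) (by decide) (by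
    rw [hP.q_pow hN, h6, show (4 ^ 3 : ZMod 7) = 1 by decide, pv_one])
  refine ⟨_, τ, hτ, hP, hx, mul_mem h3 (pow_mem hP.mem _), ?_, hN, a2, ⟨h2.trans mk0'.symm, ?_⟩, hj⟩
  · rwa [hP.cm_mul_right h3 (pow_mem hP.mem _) hx, hP.cm_z hx, mul_one]
  · rw [hP.q_z h3, h5, mk0]

theorem Ctx.no_a1 (h : Ctx G) (hP : Ex P z) (hx : orderOf x = 7) (hn : n ∈ Cent1 x) {d : ZMod 7}
    (h1 : A1 z n d) : n ^ 14 = 1 ∧ d ^ 14 = 1 ∨ n ^ 21 = 1 ∧ d ^ 21 = 1 :=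
  (h.sm x n hx hn).imp (fun e => ⟨e, (e ▸ h1.pow hP.z7 14).unique hP.ord A1.one⟩)
    fun e => ⟨e, (e ▸ h1.pow hP.z7 21).unique hP.ord A1.one⟩

namespace Bas

theorem vn (b : Bas P z x v τ) : v ∉ zpowers z := b.ex.not_mem b.hx b.cm
theorem xn (b : Bas P z x v τ) : x ∉ zpowers z :=
  b.ex.not_mem b.hv fun e => b.cm (by rw [← commutatorElement_inv, e, inv_one])
theorem v7 (b : Bas P z x v τ) : orderOf v = 7 := ord7 (b.ex.exp v b.hv) fun e => b.vn (e ▸ one_mem _)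
theorem pr (b : Bas P z x v τ) : Pr (qel (zpowers z) x) (qel (zpowers z) v) := b.ex.prQ b.hx b.hv b.cm

theorem t_a1 (b : Bas P z x v τ) : A1 z (τ ^ 21) 6 := (b.a1.pow b.ex.z7 21).trans (by rfl)
theorem t_cent (b : Bas P z x v τ) : τ ^ 21 ∈ Cent1 v := by
  simpa [← pow_mul] using pow_mem b.cent 7
theorem t_ne (b : Bas P z x v τ) : τ ^ 21 ≠ 1 := fun e =>
  absurd ((e ▸ b.t_a1).unique b.ex.ord A1.one) (by decide)
theorem t_sq (b : Bas P z x v τ) (h : Ctx G) : (τ ^ 21) ^ 2 = 1 := by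
  rcases h.no_a1 b.ex b.v7 b.cent (b.a1.pow b.ex.z7 3) with e | e
  · simpa [← pow_mul] using e.1
  · exact absurd e.2 (by decide)
theorem act_pow (b : Bas P z x v τ) (k : ℕ) : Act (qel (zpowers z) x) (qel (zpowers z) v)
    (qel (zpowers z) (τ ^ k)) (3 ^ k) 0 0 (4 ^ k) :=
  (b.act.diag_pow b.pr k).of_eq (b.ex.q_pow b.nrm k).symm
theorem t_act (b : Bas P z x v τ) : Act (qel (zpowers z) x) (qel (zpowers z) v)
    (qel (zpowers z) (τ ^ 21)) 6 0 0 1 := (b.act_pow 21).cast (by decide) rfl rfl (by decide)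

theorem conj_z (b : Bas P z x v τ) (hg : g ∈ zpowers z) (h1 : g ≠ 1) : IsConj z g := by
  obtain ⟨a, rfl⟩ := exists_pv b.ex.z7 hg
  obtain ⟨i, -, rfl⟩ : ∃ i < 6, a = 5 ^ i := by
    have : a ≠ 0 := fun e => h1 (by simp [e])
    clear hg h1
    revert a
    decide
  exact isConj_iff.2 ⟨_, b.a1.pow b.ex.z7 i⟩

theorem idx (b : Bas P z x v τ) : (Cent1 z).relIndex (Nrm P) = 6 ∨ ¬ (Cent1 z).relIndex (Nrm P) ∣ 6 := by
  have : ((Cent1 z).subgroupOf (Nrm P)).Normal :=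
    normal_subgroupOf_of_le_normalizer (cent_zpowers z ▸ nrm_cent b.ex.nrm)
  have h1 : τ ^ (Cent1 z).relIndex (Nrm P) ∈ Cent1 z := pow_index_mem ((Cent1 z).subgroupOf (Nrm P)) ⟨τ, b.nrm⟩
  have h2 := (b.a1.pow b.ex.z7 _).unique b.ex.ord (A1.of_cent h1)
  by_cases h3 : (Cent1 z).relIndex (Nrm P) ∣ 6
  · have := Nat.le_of_dvd (by norm_num) h3
    left
    generalize (Cent1 z).relIndex (Nrm P) = e at *
    interval_cases e <;> first | rfl | (exfalso; revert h2 h3; decide)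
  · exact Or.inr h3

end Bas

theorem Ctx.sp_cj (h : Ctx G) (hP : Ex P z) (hx : orderOf x = 7) (hs : Sp x) :
    ∃ g, Ex (cj g P) x ∧ x ∈ zpowers (g * z * g⁻¹) := by
  obtain ⟨Q, hQ, -⟩ := h.of_sp hx hs IsPi.bot bot_le
  obtain ⟨g, -, rfl⟩ := sylow_trans p7 hP.syl hQ.syl
  exact ⟨g, hQ, (hP.cj g).zc ▸ hQ.zc ▸ mem_zpowers x⟩

theorem Bas.conj_sp (b : Bas P z x v τ) (h : Ctx G) (hg : orderOf g = 7) (hs : Sp g) : IsConj z g := by
  obtain ⟨k, -, h1⟩ := h.sp_cj b.ex hg hs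
  rw [← cj_zpowers, mem_cj] at h1
  refine (b.conj_z h1 fun e => ?_).trans (isConj_iff.2 ⟨k, by group⟩)
  rw [← orderOf_conj k⁻¹, inv_inv, e] at hg
  simp at hg

/-- an element of order prime to seven acting trivially on the factors centralizes -/
theorem Ex.cent_of_triv (hP : Ex P z) (hx : x ∈ P) (hn : n ∈ Nrm P) (hz : n ∈ Cent1 z) {m : ℕ}
    (hm : n ^ m = 1) (hm' : (m : ZMod 7) ≠ 0) (h1 : A1 (qel (zpowers z) x) (qel (zpowers z) n) 1) :
    n ∈ Cent1 x := by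
  have := Fact.mk p7
  by_cases hxz : x ∈ zpowers z
  · exact cent1_le_of_mem_zpowers hxz hz
  have p := hP.prE hx hxz
  obtain ⟨b, hb⟩ := hP.q_eq hx (conj_mem_of_mem_nrm hn hx) (by rw [hP.q_conj hn hx, h1, pv_one])
  have a1 : Act x z n 1 b 0 1 := ⟨by rw [hb, el, pv_one], (A1.of_cent hz).trans mk0.symm⟩
  have a2 : ∀ k : ℕ, Act x z (n ^ k) 1 (b * k) 0 1 := by
    intro k
    induction k with
    | zero => simpa using Act.one
    | succ k ih =>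
      exact ((ih.mul p a1).of_eq (pow_succ n k).symm).cast (by simp) (by push_cast; ring)
        (by simp) (by simp)
  have h2 := (mul_eq_zero.1 ((hm ▸ a2 m).unique p Act.one).1.2).resolve_right hm'
  rw [h2] at hb
  exact mem_cent1.2 (mul_inv_eq_iff_eq_mul.1 (by simpa using hb))

/-- `n` acts on `P / Z` as a scalar -/
def Scal (P : Subgroup G) (z n : G) (e : ZMod 7) : Prop :=
  ∀ g ∈ P, A1 (qel (zpowers z) g) (qel (zpowers z) n) e

theorem Bas.scal (b : Bas P z x v τ) {e : ZMod 7}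
    (h : Act (qel (zpowers z) x) (qel (zpowers z) v) (qel (zpowers z) n) e 0 0 e) : Scal P z n e := by
  intro g hg
  obtain ⟨i, j, h1⟩ := b.ex.coord b.hx b.hv b.cm hg
  rw [A1, h1, h.apply b.pr, b.pr.mk_pow]
  congr 1 <;> ring

theorem Scal.act {e : ZMod 7} (h : Scal P z n e) (hx : x ∈ P) (hv : v ∈ P) :
    Act (qel (zpowers z) x) (qel (zpowers z) v) (qel (zpowers z) n) e 0 0 e :=
  ⟨(h x hx).trans mk0'.symm, (h v hv).trans mk0.symm⟩

theorem Scal.conj {e : ZMod 7} (h : Scal P z n e) (hP : Ex P z) (hn : n ∈ Nrm P) (hg : g ∈ Nrm P) :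
    Scal P z (g * n * g⁻¹) e := by
  intro y hy
  have h1 := h _ (conj_mem_of_mem_nrm (inv_mem hg) hy)
  rw [A1, hP.q_conj (inv_mem hg) hy, hP.q_inv hg, conj_pow] at h1
  rw [A1, hP.q_mul (mul_mem hg hn) (inv_mem hg), hP.q_mul hg hn, hP.q_inv hg]
  calc _ = qel (zpowers z) g * (qel (zpowers z) n * ((qel (zpowers z) g)⁻¹ * qel (zpowers z) y *
      (qel (zpowers z) g)⁻¹⁻¹) * (qel (zpowers z) n)⁻¹) * (qel (zpowers z) g)⁻¹ := by group
    _ = _ := by rw [h1]; group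

theorem Scal.mul {e f : ZMod 7} (h : Scal P z n e) (h' : Scal P z g f) (hP : Ex P z) (hn : n ∈ Nrm P)
    (hg : g ∈ Nrm P) : Scal P z (n * g) (e * f) := fun y hy => by
  rw [hP.q_mul hn hg]
  exact (h y hy).mul (by rw [← hP.q_pow (le_nrm_self hy), hP.exp _ hy]; exact mel_one _) (h' y hy)

set_option synthInstance.maxSize 1000 in
/-- an involution centralizing `z` acts as a sign -/
theorem Bas.sign (b : Bas P z x v τ) (hn : n ∈ Nrm P) (hz : n ∈ Cent1 z) (h2 : n ^ 2 = 1) :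
    ∃ e, e * e = 1 ∧ Scal P z n e := by
  obtain ⟨a, c, d, e, h1⟩ := b.ex.act b.hx b.hv b.cm hn
  have h3 := b.ex.det b.hx b.hv b.cm hn h1 (A1.of_cent hz)
  have h4 := ((h1.mul b.pr h1).of_eq (by rw [← b.ex.q_mul hn hn, ← sq, h2]; exact mel_one _)).unique b.pr Act.one
  obtain ⟨rfl, rfl, rfl, h5⟩ : c = 0 ∧ d = 0 ∧ e = a ∧ a * a = 1 := by
    clear h1
    revert a c d e
    decide +kernel
  exact ⟨_, h5, b.scal h1⟩

/-- a non-special element whose coset is fixed by an element moving `z` -/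
theorem Ctx.fx_of_fix (h : Ctx G) (hP : Ex P z) (hz : Cent1 z ≤ Nrm P) (hx : x ∈ P) (hxz : x ∉ zpowers z)
    (hs : ¬ Sp x) (hn : n ∈ Nrm P) {d : ZMod 7} (h1 : A1 z n d) (hd : d ≠ 1)
    (h2 : qel (zpowers z) n * qel (zpowers z) x * (qel (zpowers z) n)⁻¹ = qel (zpowers z) x) :
    fx x = 1 := by
  obtain ⟨k, hk⟩ := hP.lift hx hxz hn h1 hd h2
  have hk1 : z ^ k.val ∈ zpowers z := pow_mem (mem_zpowers z) _
  obtain ⟨g, -, hg⟩ := hP.shift hx hxz hk1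
  rw [hP.zcomm hk1 hx] at hg
  have hy : x * z ^ k.val ∈ P := mul_mem hx (hP.zle hk1)
  have hn' : x * z ^ k.val ∉ zpowers z := fun e => hxz ((mul_mem_cancel_right hk1).1 e)
  have hs' : ¬ Sp (x * z ^ k.val) := fun e => hs (by simpa [← hg, mul_assoc] using e.conj g⁻¹)
  rw [← fx_conj g, hg]
  exact h.fx_ns hP hz hy hn' hs' (h.kill hP hy hn' hs' hk (hP.nrm hn) fun e =>
    hd (h1.unique hP.ord (A1.of_cent e)))

end H40.SP.He
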