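/- SPECTRA (S3535), `JobHeS` part 6: the case of a centre that is not weakly closed; the job. -/
import Cfsg.Agent.H40.SPHe3
import Cfsg.Agent.H40.SPHe5
import Cfsg.Agent.H40.SPAsm

set_option autoImplicit false
set_option linter.unusedSectionVars false
set_option synthInstance.maxSize 2000
set_option synthInstance.maxHeartbeats 200000

namespace H40.SP.He

open Cfsg hiding pRank
open Subgroup H46
open scoped commutatorElement

universe u
variable {G : Type u} [Group G] [Finite G] {P Y : Subgroup G} {z x v τ u : G} {a b c d : ZMod 7}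

theorem enumB : ∀ a : ℕ, a ≤ 10 → ∀ b : ℕ, b ≤ 3 → 11750400 % (2 ^ a * 3 ^ b * 6) = 0 →
    11750400 / (2 ^ a * 3 ^ b * 6) % 7 = 1 → (2 ≤ a → b ≠ 0 → 3 ∣ 2 ^ a - 1) →
    b = 1 ∧ (a = 0 ∨ a = 6) := by decide +kernel

theorem Bas.hall (B : Bas P z x v τ) (h : Ctx G) : ∃ Y : Subgroup G, Y ≤ Cent1 z ⊓ Nrm P ∧ IsPi {7}ᶜ Y ∧
    τ ^ 21 ∈ Nrm Y ∧ Nat.card ↥(Cent1 z ⊓ Nrm P) = 343 * Nat.card Y ∧
      (Nat.card Y = 3 ∨ Nat.card Y = 2 ^ 6 * 3 ^ 1) := by
  have := Fact.mk p7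
  have hs : Group.IsSolvable ↥(Cent1 z ⊓ Nrm P) := sol_of_le (h.sol z B.ex.ord) inf_le_left
  have h1 : zpowers (τ ^ 21) ≤ Nrm (Cent1 z ⊓ Nrm P) :=
    (zpowers_le.2 (pow_mem B.nrm 21)).trans (nrm_inf (cent_zpowers z ▸ nrm_cent B.ex.nrm) le_nrm_self)
  obtain ⟨Y1, hY, h2⟩ := hall_superset (π := {7}ᶜ) (sol_sup h1 hs (sol_of_comm inferInstance))
    (isPi_zpowers.2 (PNat.of_dvd ((pnat_prime Nat.prime_two).2 (by simp))
      (orderOf_dvd_of_pow_eq_one (B.t_sq h)))) le_sup_right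
  have h3 := hY.inf_normal (normalIn_sup_left h1)
  have h4 := (B.ex.syl.of_le (le_inf B.ex.cent1 le_nrm_self) le_top).card_mul h3
  rw [B.ex.card] at h4
  refine ⟨_, h3.le, h3.isPi, zpowers_le.1 (nrm_inf (nrm_of_le h2) h1), h4.symm, ?_⟩
  have h5 : ∀ g ∈ Y1 ⊓ (Cent1 z ⊓ Nrm P), g ^ 2 = 1 ∨ g ^ 3 = 1 := fun g hg =>
    h.sm23 B.ex.ord hg.2.1 (h3.isPi.elt hg)
  obtain ⟨α, hα, β, hβ, h6⟩ := h.card23 h5
  have h7 := (h.n7 B.ex h4.symm).2
  rw [B.idx.resolve_right (not_not.2 B.ex.idx), h6] at h7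
  obtain ⟨rfl, rfl | rfl⟩ := enumB α hα β hβ (by rw [← h7]; simp)
    (by rw [← h7, Nat.mul_div_cancel _ (by positivity)]; exact card_sylow_modEq_one 7 G)
    fun h8 => (shape2 (sol_of_le hs h3.le) h5 h6 h8).2.2
  exacts [Or.inl h6, Or.inr h6]

theorem Bas.not_triv (B : Bas P z x v τ) (h : Ctx G) (hs : Sp x) (h9 : ¬ 9 ∣ Nat.card (Cent1 z))
    (hu : u ∈ Cent1 z ⊓ Nrm P) (h3 : orderOf u = 3) : ¬ Scal P z u 1 := by
  intro h1
  have hu3 : u ^ 3 = 1 := h3 ▸ pow_orderOf_eq_one u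
  have h2 : P ≤ Cent1 u := fun g hg =>
    mem_cent1_comm.1 (B.ex.cent_of_triv hg hu.2 hu.1 hu3 (by decide) (h1 g hg))
  obtain ⟨g, hg, hx⟩ := h.sp_cj B.ex (ord7 (B.ex.exp x B.hx) fun e => B.xn (e ▸ one_mem _)) hs
  have h4 : Cent1 x = cj g (Cent1 z) := by rw [cj_cent1, cent1_eq (B.ex.cj g).ord hx hg.ne]
  have h5 : IsSylowOf 3 (zpowers (g * u * g⁻¹)) (Cent1 x) := by
    have h5 : zpowers (g * u * g⁻¹) ≤ Cent1 x := zpowers_le.2 (h4 ▸ conj_mem_cj.2 hu.1)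
    have h6 := card_mul_relIndex h5
    rw [card_zpowers', orderOf_conj, h3] at h6
    refine isSylowOf_mk Nat.prime_three h5 (IsPGroup.of_card (n := 1)
      (by rw [card_zpowers', orderOf_conj, h3]; rfl)) fun e => h9 ?_
    rw [← card_cj g, ← h4, ← h6]
    exact Nat.mul_dvd_mul_left 3 e
  obtain ⟨k, hk, h6⟩ := sylow_le_cj Nat.prime_three h5 (Q := zpowers u) (IsPGroup.of_card (n := 1)
    (by rw [card_zpowers', h3]; rfl)) (zpowers_le.2 (mem_cent1_comm.1 (h2 B.hx)))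
  have h7 : cj k (cj g P) ≤ Cent1 u ⊓ Cent1 x := by
    refine le_inf ?_ ((cj_mono k hg.cent1).trans (cj_of_mem hk).le)
    rw [← cent_zpowers]
    refine le_trans ?_ (cent_anti h6)
    rw [← cj_cent, cent_zpowers, ← cj_cent1]
    exact cj_mono k (cj_mono g h2)
  obtain ⟨v', τ', hτ, B'⟩ := h.bas B.ex B.hx B.xn h2 (by
    have := card_dvd_of_le h7
    rwa [card_cj, card_cj, B.ex.card] at this)
  rcases no_six (B'.t_sq h) hu3 (mem_cent1.1 (pow_mem hτ 21))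
    (h.sm v' _ B'.v7 (mul_mem B'.t_cent (mem_cent1_comm.1 (h2 B'.hv)))) with e | e
  · exact B'.t_ne e
  · simp [e] at h3

/-- the matrix of an element of order three -/
structure Mat (a b c d : ZMod 7) : Prop where
  det : a * d - b * c = 1
  tr : a + d = 6

theorem Bas.mat (B : Bas P z x v τ) (hu : u ∈ Cent1 z ⊓ Nrm P) (h3 : u ^ 3 = 1) (h1 : ¬ Scal P z u 1)
    (A : Act (qel (zpowers z) x) (qel (zpowers z) v) (qel (zpowers z) u) a b c d) : Mat a b c d := by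
  have h2 := B.ex.det B.hx B.hv B.cm hu.2 A (A1.of_cent hu.1)
  have h4 := (((A.mul B.pr A).mul B.pr A).of_eq (by
    rw [← pow_two, ← pow_succ, ← B.ex.q_pow hu.2, h3]; exact mel_one _)).unique B.pr Act.one
  have h5 : ¬ (a = 1 ∧ b = 0 ∧ c = 0 ∧ d = 1) := fun e => h1 (B.scal (A.cast e.1 e.2.1 e.2.2.1 e.2.2.2))
  refine ⟨h2, ?_⟩
  clear A
  revert a b c d
  decide +kernel

theorem Bas.not_diag (B : Bas P z x v τ) (h : Ctx G) (hu : u ∈ Cent1 z ⊓ Nrm P) (m : Mat a 0 0 d)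
    (A : Act (qel (zpowers z) x) (qel (zpowers z) v) (qel (zpowers z) u) a 0 0 d) : False := by
  obtain ⟨i, -, hi⟩ : ∃ i < 3, 4 * d ^ i = 1 := by
    obtain ⟨h1, h2⟩ := m
    clear A
    revert a d
    decide
  have h1 := (B.act.mul B.pr (A.diag_pow B.pr i)).2
  have h2 := B.a1.mul B.ex.z7 (A1.of_cent (pow_mem hu.1 i))
  obtain ⟨k, hk⟩ := B.ex.lift B.hv B.vn (mul_mem B.nrm (pow_mem hu.2 i)) h2 (by decide) (by
    rw [B.ex.q_mul B.nrm (pow_mem hu.2 i), B.ex.q_pow hu.2, h1]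
    simp [hi, mk01])
  have hk1 : z ^ k.val ∈ zpowers z := pow_mem (mem_zpowers z) _
  rcases h.no_a1 B.ex (ord7 (B.ex.exp _ (mul_mem B.hv (B.ex.zle hk1))) fun e =>
    B.vn ((mul_mem_cancel_right hk1).1 (e ▸ one_mem _))) hk h2 with e | e <;> exact absurd e.2 (by decide)

theorem Bas.not_big (B : Bas P z x v τ) (h : Ctx G) (hY : Y ≤ Cent1 z ⊓ Nrm P) (h7 : IsPi {7}ᶜ Y)
    (ht : τ ^ 21 ∈ Nrm Y) (hc : Nat.card Y = 2 ^ 6 * 3 ^ 1) (hu : u ∈ Y) (h3 : orderOf u = 3)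
    (m : Mat a b c d) (A : Act (qel (zpowers z) x) (qel (zpowers z) v) (qel (zpowers z) u) a b c d) :
    False := by
  have h23 : ∀ g ∈ Y, g ^ 2 = 1 ∨ g ^ 3 = 1 := fun g hg => h.sm23 B.ex.ord (hY hg).1 (h7.elt hg)
  obtain ⟨h1, h2, -⟩ := shape2 (sol_of_le (h.sol z B.ex.ord) (hY.trans inf_le_left)) h23 hc (by norm_num)
  have hsq := sq_of_pi h23 h1.isPi h1.le
  have hu3 : u ^ 3 = 1 := h3 ▸ pow_orderOf_eq_one u
  have hu1 : u ≠ 1 := fun e => by simp [e] at h3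
  have hun : u ∈ Nrm (Op 2 Y) := le_nrm_piCoreOf _ _ hu
  have hN : ∀ s ∈ Op 2 Y, s ∈ Nrm P := fun s hs => (hY (h1.le hs)).2
  have key : ∀ s ∈ Op 2 Y, Scal P z s 1 → τ ^ 21 * s * (τ ^ 21)⁻¹ = s := by
    intro s hs h4
    have h5 := B.ex.cent_of_triv B.hv (hN s hs) (hY (h1.le hs)).1 (hsq s hs) (by decide) (h4 v B.hv)
    have h6 := conj_mem_of_mem_nrm (nrm_le_nrm_piCoreOf {2} Y ht) hs
    have h8 : (s * τ ^ 21) ^ 2 = s * (τ ^ 21 * s * (τ ^ 21)⁻¹) := by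
      rw [← eq_inv_of_mul_eq_one_left ((sq _).symm.trans (B.t_sq h)), sq]
      simp only [mul_assoc]
    have h9 : (s * τ ^ 21) ^ 4 = 1 := by
      rw [show 4 = 2 * 2 from rfl, pow_mul, h8]
      exact hsq _ (mul_mem hs h6)
    have h10 : (s * τ ^ 21) ^ 2 = 1 := by
      rcases h.sm v _ B.v7 (mul_mem h5 B.t_cent) with e | e
      · rw [show 14 = 4 * 3 + 2 from rfl, pow_add, pow_mul, h9] at e
        simpa using e
      · rw [eq_one_of_pow h9 e (by norm_num), one_pow]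
    rw [h8] at h10
    exact mul_left_cancel (h10.trans ((hsq s hs).symm.trans (sq s)))
  obtain ⟨s, hs, hs1⟩ := exists_ne_one_of_ne_bot (H := Op 2 Y) (one_lt_card.1 (by rw [h2]; norm_num))
  obtain ⟨e, he, h4⟩ := B.sign (hN s hs) (hY (h1.le hs)).1 (hsq s hs)
  have h5 := conj_mem_of_mem_nrm hun hs
  have h6 : Scal P z (s * (u * s * u⁻¹)) 1 :=
    he ▸ h4.mul (h4.conj B.ex (hN s hs) (hY hu).2) B.ex (hN s hs) (hN _ h5)
  have h8 : s * (u * s * u⁻¹) ≠ 1 := fun e => by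
    have e1 : u * s * u⁻¹ = s := mul_left_cancel (e.trans ((hsq s hs).symm.trans (sq s)))
    rcases no_six' (hsq s hs) hu3 (mul_inv_eq_iff_eq_mul.1 e1).symm (h23 _ (mul_mem (h1.le hs) hu)) with e | e
    exacts [hs1 e, hu1 e]
  replace h5 := mul_mem hs h5
  set r := s * (u * s * u⁻¹)
  have k1 := key r h5 h6
  have k2 := key _ (conj_mem_of_mem_nrm (inv_mem hun) h5) (h6.conj B.ex (hN r h5) (inv_mem (hY hu).2))
  set t := τ ^ 21
  have h9 : t * u * t⁻¹ * u⁻¹ ∈ Y := mul_mem (conj_mem_of_mem_nrm ht hu) (inv_mem hu)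
  have h10 : r * (t * u * t⁻¹ * u⁻¹) = t * u * t⁻¹ * u⁻¹ * r := by
    calc r * (t * u * t⁻¹ * u⁻¹) = (t * r * t⁻¹) * (t * u * t⁻¹ * u⁻¹) := by rw [k1]
      _ = t * u * t⁻¹ * (t * (u⁻¹ * r * u⁻¹⁻¹) * t⁻¹) * u⁻¹ := by group
      _ = _ := by rw [k2]; group
  have h11 : (t * u * t⁻¹ * u⁻¹) ^ 2 = 1 := (h23 _ h9).elim id fun e => by
    rw [(no_six' (hsq r h5) e h10 (h23 _ (mul_mem (h1.le h5) h9))).resolve_left h8, one_pow]
  obtain ⟨f, hf, h12⟩ := B.sign (hY h9).2 (hY h9).1 h11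
  have ht' : t ∈ Nrm P := pow_mem B.nrm 21
  have h13 := (((h12.act B.hx B.hv).mul B.pr (A.mul B.pr B.t_act)).of_eq (by
    rw [← B.ex.q_mul (hY hu).2 ht', ← B.ex.q_mul (hY h9).2 (mul_mem (hY hu).2 ht'),
      show t * u * t⁻¹ * u⁻¹ * (u * t) = t * u by group, B.ex.q_mul ht' (hY hu).2])).unique B.pr
    (B.t_act.mul B.pr A)
  obtain ⟨rfl, rfl⟩ : b = 0 ∧ c = 0 := by
    obtain ⟨m1, m2⟩ := m
    clear A h12
    revert f a b c d
    decide +kernel
  exact B.not_diag h (hY hu) m A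

theorem Bas.kill_z (B : Bas P z x v τ) (h : Ctx G) (hu : u ∈ Cent1 z ⊓ Nrm P) (h3 : orderOf u = 3)
    (m : Mat a b c d) (A : Act (qel (zpowers z) x) (qel (zpowers z) v) (qel (zpowers z) u) a b c d) :
    Cent1 z ≤ Nrm P := by
  obtain ⟨W, hW⟩ := h.str B.ex.ord B.ex.syl1 B.ex.der.le
  have hD : Cent1 z ≤ Nrm (Cent W) := nrm_cent hW.nrm.nrm
  have hz : zpowers z ≤ Cent W := zpowers_le.2 (le_cent1_iff.1 hW.nrm.le)
  have key : ∀ f ∈ P, f⁻¹ * (u * f * u⁻¹) ∈ Cent W → f ∈ Cent W := by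
    intro f hf h1
    have h2 := conj_mem_of_mem_nrm hu.2 hf
    have h4 := conj_mem_of_mem_nrm hu.2 h2
    have h5 : f * (u * f * u⁻¹) * (u * (u * f * u⁻¹) * u⁻¹) ∈ zpowers z := by
      obtain ⟨i, j, e⟩ := B.ex.coord B.hx B.hv B.cm hf
      rw [← qel_eq_one_iff (B.ex.nrm' (mul_mem (mul_mem hf h2) h4)),
        B.ex.q_mul (le_nrm_self (mul_mem hf h2)) (le_nrm_self h4), B.ex.q_mul (le_nrm_self hf) (le_nrm_self h2),
        B.ex.q_conj hu.2 h2, B.ex.q_conj hu.2 hf, e, A.apply B.pr, A.apply B.pr, ← B.pr.mk_add,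
        ← B.pr.mk_add, ← mk00 (x := qel (zpowers z) x) (z := qel (zpowers z) v)]
      have h7 : (7 : ZMod 7) = 0 := rfl
      congr 1
      · linear_combination (a * i + c * j) * m.tr - i * m.det + (a * i + c * j) * h7
      · linear_combination (b * i + d * j) * m.tr - j * m.det + (b * i + d * j) * h7
    have h6 : f ^ 3 ∈ Cent W := by
      have := mul_mem (mul_mem (mul_mem (hz h5) (inv_mem (conj_mem_of_mem_nrm (hD hu.1) h1))) (inv_mem h1))
        (inv_mem (conj_mem_of_mem_nrm' (hD (B.ex.cent1 hf)) h1))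
      convert this using 1
      group
    have h7 := pow_mem h6 5
    rwa [← pow_mul, show 3 * 5 = 7 * 2 + 1 from rfl, pow_succ, pow_mul, B.ex.exp f hf, one_pow, one_mul] at h7
  have h1 := h.maz B.ex.ord hW.nrm hW.sq B.ex.cent1 B.ex.syl.isPi hW.fix hu.1 hu.2 (Or.inr h3)
    fun i h0 hi f hf h2 => by
      rw [h3] at hi
      interval_cases i
      · exact key f hf (by simpa using h2)
      · refine key f hf ?_
        have h4 : u ^ 2 = u⁻¹ := eq_inv_of_mul_eq_one_left (by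
          rw [← pow_succ]; exact orderOf_dvd_iff_pow_eq_one.1 h3.dvd)
        have := inv_mem (conj_mem_of_mem_nrm (hD hu.1) h2)
        rw [h4] at this
        convert this using 1
        group
  exact (h1 ▸ hW).le_nrm

theorem lines : ∀ a b c d : ZMod 7, a * d - b * c = 1 → a + d = 6 → a = d → ∀ i j : ZMod 7,
    (2 * (a * i + c * j) = i ∧ 2 * (b * i + d * j) = j) ∨ (4 * (a * i + c * j) = i ∧ 4 * (b * i + d * j) = j) ∨
    (i = 0 ∨ j = 0) ∨ (a * i + c * j = 0 ∨ b * i + d * j = 0) ∨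
    (a * (a * i + c * j) + c * (b * i + d * j) = 0 ∨ b * (a * i + c * j) + d * (b * i + d * j) = 0) := by
  intro a b c d h1 h2 h3
  subst h3
  obtain rfl : a = 3 := by clear h1; revert a; decide
  revert b c
  decide +kernel

theorem Ctx.caseB (h : Ctx G) (hP : Ex P z) (hx : x ∈ P) (hn : x ∉ zpowers z) (hs : Sp x) : False := by
  obtain ⟨v, τ, -, B⟩ := h.bas hP hx hn le_top (by rwa [top_inf_eq])
  obtain ⟨Y, hY, h7, ht, hc, hY3⟩ := B.hall h
  obtain ⟨u, hu, h3⟩ := cauchy (H := Y) Nat.prime_three (by rcases hY3 with e | e <;> simp [e])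
  have hu3 : u ^ 3 = 1 := h3 ▸ pow_orderOf_eq_one u
  obtain ⟨a, b, c, d, A⟩ := hP.act hx B.hv B.cm (hY hu).2
  have m := B.mat (hY hu) hu3 (B.not_triv h hs (by
    obtain ⟨W, hW⟩ := h.str hP.ord hP.syl1 hP.der.le
    obtain ⟨j, hj⟩ := hW.isPi.exists_pow Nat.prime_two
    rw [hW.card hP.syl1, hj, hc]
    intro e
    have := (Nat.Coprime.pow_right j (by norm_num : Nat.Coprime 9 2)).dvd_of_dvd_mul_left e
    rcases hY3 with e | e <;> rw [e] at this <;> norm_num at this) (hY hu) h3) A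
  replace hY3 := hY3.resolve_right fun e => B.not_big h hY h7 ht e hu h3 m A
  have hz := B.kill_z h (hY hu) h3 m A
  have ht' : τ ^ 21 ∈ Nrm P := pow_mem B.nrm 21
  have had : a = d := by
    classical
    have h1 := conj_mem_of_mem_nrm ht hu
    rw [← eq_zpowers_of_card_prime (hY3 ▸ Nat.prime_three) hu (fun e => by simp [e] at h3),
      mem_zpowers_iff_mem_range_orderOf, h3, Finset.mem_image] at h1
    obtain ⟨i, hi, h1⟩ := h1
    have h2 : qel (zpowers z) u ^ i * qel (zpowers z) (τ ^ 21) = qel (zpowers z) (τ ^ 21) * qel (zpowers z) u := by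
      rw [← hP.q_pow (hY hu).2, ← hP.q_mul (pow_mem (hY hu).2 _) ht', ← hP.q_mul ht' (hY hu).2, h1]
      congr 1
      group
    have h4 := B.t_act.mul B.pr A
    rw [← h2] at h4
    rw [Finset.mem_range] at hi
    interval_cases i
    · have h5 : u = 1 := by simpa using h1.symm
      simp [h5] at h3
    · have h5 := ((A.mul B.pr B.t_act).of_eq (by rw [pow_one])).unique B.pr h4
      obtain ⟨rfl, rfl⟩ : b = 0 ∧ c = 0 := by
        clear A m h4
        revert a b c d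
        decide +kernel
      exact (B.not_diag h (hY hu) m A).elim
    · have h5 := (((A.mul B.pr A).mul B.pr B.t_act).of_eq (by rw [pow_two])).unique B.pr h4
      obtain ⟨m1, m2⟩ := m
      clear A h4
      revert a b c d
      decide +kernel
  have axis : ∀ g ∈ P, g ∉ zpowers z → ¬ Sp g → ∀ i j, qel (zpowers z) g =
      el (qel (zpowers z) x) (qel (zpowers z) v) i j → i = 0 ∨ j = 0 → fx g = 1 := by
    rintro g hg hgz hsg i j e (rfl | rfl)
    · exact h.fx_of_fix hP hz hg hgz hsg ht' B.t_a1 (by decide) (by rw [e, B.t_act.apply B.pr]; simp)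
    · obtain ⟨k, rfl⟩ := hP.q_eq (pow_mem hx i.val) hg (by rw [e, mk0', hP.q_pow (le_nrm_self hx)])
      have hk1 : z ^ k.val ∈ zpowers z := pow_mem (mem_zpowers z) _
      obtain ⟨y, -, hy⟩ := hP.shift (pow_mem hx i.val) (fun e => hgz (mul_mem e hk1)) hk1
      rw [hP.zcomm hk1 (pow_mem hx _)] at hy
      exact (hsg (hy ▸ Sp.conj (hs.trans (card_dvd_of_le
        (cent1_le_of_mem_zpowers (pow_mem (mem_zpowers x) _)))) y)).elim
  have step : ∀ g ∈ P, g ∉ zpowers z → ¬ Sp g → u * g * u⁻¹ ∈ P ∧ u * g * u⁻¹ ∉ zpowers z ∧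
      ¬ Sp (u * g * u⁻¹) := fun g hg hgz hsg => ⟨conj_mem_of_mem_nrm (hY hu).2 hg,
    fun e => hgz ((mem_normalizer_iff.1 (hP.nrm (hY hu).2) g).2 e),
    fun e => hsg (by simpa [mul_assoc] using e.conj u⁻¹)⟩
  obtain ⟨k, h1, h2⟩ := hP.count fun g hg hg1 hgc => by
    have hgz : g ∉ zpowers z := fun e => hgc (B.conj_z e hg1)
    have hsg : ¬ Sp g := fun e => hgc (B.conj_sp h (ord7 (hP.exp g hg) hg1) e)
    obtain ⟨i, j, e⟩ := hP.coord hx B.hv B.cm hg
    have e1 := (hP.q_conj (hY hu).2 hg).trans (e ▸ A.apply B.pr i j)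
    obtain ⟨s1, s2, s3⟩ := step g hg hgz hsg
    have e2 := (hP.q_conj (hY hu).2 s1).trans (e1 ▸ A.apply B.pr _ _)
    obtain ⟨s4, s5, s6⟩ := step _ s1 s2 s3
    have eig : ∀ n : ℕ, (5 : ZMod 7) ^ n * 1 ≠ 1 → ∀ l : ZMod 7, 3 ^ n = l → 4 ^ n = l →
        l * (a * i + c * j) = i ∧ l * (b * i + d * j) = j → fx g = 1 := fun n h4 l h5 h6 h8 =>
      h.fx_of_fix hP hz hg hgz hsg (mul_mem (pow_mem B.nrm n) (hY hu).2)
        ((B.a1.pow hP.z7 n).mul hP.z7 (A1.of_cent (hY hu).1)) h4 (by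
          rw [hP.q_mul (pow_mem B.nrm n) (hY hu).2, e, ((B.act_pow n).mul B.pr A).apply B.pr, h5, h6]
          congr 1
          · linear_combination h8.1
          · linear_combination h8.2)
    rcases lines a b c d m.det m.tr had i j with h4 | h4 | h4 | h4 | h4
    · exact eig 2 (by decide) 2 (by decide) (by decide) h4
    · exact eig 4 (by decide) 4 (by decide) (by decide) h4
    · exact axis g hg hgz hsg i j e h4
    · exact fx_conj u g ▸ axis _ s1 s2 s3 _ _ e1 h4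
    · exact fx_conj u g ▸ fx_conj u _ ▸ axis _ s4 s5 s6 _ _ e2 h4
  obtain ⟨h4, h5⟩ := h.n7 hP hc
  have h6 := fx_mul hP.syl hP.z7
  rw [B.idx.resolve_right (not_not.2 hP.idx), hY3] at h4 h5
  rw [inf_eq_left.2 hz, hY3] at hc
  rw [h4, hc] at h6
  obtain ⟨f, hf⟩ : ∃ f, fx z = f := ⟨_, rfl⟩
  rw [hf] at h2 h6
  rw [show Nat.card {g // IsConj z g ∧ g ∈ P} = 6 * f by omega] at h1 h2
  rw [show Nat.card (Sylow 7 G) = 652800 by omega, show k = 342 - 6 * f by omega] at h2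
  have : f ≤ 57 := by omega
  interval_cases f <;> revert h2 <;> decide

end H40.SP.He

namespace H40.SP

open H46 Subgroup He

universe u

theorem jobHeS (hS : JobSyl.{u}) (h1 : JobHe1.{u}) (h2 : JobHe2.{u}) : JobHeS.{u} := by
  intro G _ _ hG hc hω h0
  have := Fact.mk p7
  have no : ∀ n ∈ [28, 35, 42, 49, 63, 119], ∀ g : G, ¬ n ∣ orderOf g := fun n hn g e =>
    hω n hn (om_dvd e ⟨g, rfl⟩)
  have sm : ∀ x g : G, orderOf x = 7 → g ∈ Cent1 x → orderOf g ∣ 14 ∨ orderOf g ∣ 21 := by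
    intro x g hx hg
    have h3 : ∀ m, m.Coprime 7 → m * 7 ∈ [28, 35, 42, 49, 63, 119] → ¬ m ∣ orderOf g := by
      intro m hm hm' e
      obtain ⟨y, hy⟩ : m ∈ om (zpowers g) := om_dvd e ⟨⟨g, mem_zpowers g⟩, by rw [← orderOf_coe]⟩
      rw [← orderOf_coe] at hy
      refine hω _ hm' ⟨y * x, ?_⟩
      rw [Commute.orderOf_mul_eq_mul_orderOf_of_coprime (mem_cent1.1 (zpowers_le.2 hg y.2))
        (by rwa [hy, hx]), hy, hx]
    have h4 : orderOf g ∣ 2 ^ 10 * 3 ^ 3 * 5 ^ 2 * 7 ^ 3 * 17 ^ 1 := (orderOf_dvd_natCard g).trans hc.dvd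
    obtain ⟨_, n5, g4, h9, e5⟩ := Nat.dvd_mul.1 h4
    obtain ⟨_, n4, g3, h8, rfl⟩ := Nat.dvd_mul.1 g4
    obtain ⟨_, n3, g2, h7, rfl⟩ := Nat.dvd_mul.1 g3
    obtain ⟨n1, n2, h5, h6, rfl⟩ := Nat.dvd_mul.1 g2
    obtain ⟨a, -, rfl⟩ := (Nat.dvd_prime_pow Nat.prime_two).1 h5
    obtain ⟨b, -, rfl⟩ := (Nat.dvd_prime_pow Nat.prime_three).1 h6
    obtain ⟨c, -, rfl⟩ := (Nat.dvd_prime_pow Nat.prime_five).1 h7
    obtain ⟨d, -, rfl⟩ := (Nat.dvd_prime_pow p7).1 h8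
    obtain ⟨e, -, rfl⟩ := (Nat.dvd_prime_pow (by norm_num : Nat.Prime 17)).1 h9
    have k1 := h3 4 (by norm_num) (by simp)
    have k2 := h3 5 (by norm_num) (by simp)
    have k3 := h3 6 (by norm_num) (by simp)
    have k4 := h3 9 (by norm_num) (by simp)
    have k5 := h3 17 (by norm_num) (by simp)
    have k6 := no 49 (by simp) g
    rw [← e5] at k1 k2 k3 k4 k5 k6 ⊢
    have l1 : a < 2 := by
      by_contra! l; exact k1 ((((pow_dvd_pow 2 l).mul_right _).mul_right _).mul_right _ |>.mul_right _)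
    have l2 : b < 2 := by
      by_contra! l; exact k4 ((((pow_dvd_pow 3 l).mul_left _).mul_right _).mul_right _ |>.mul_right _)
    have l3 : c < 1 := by
      by_contra! l; exact k2 ((((pow_dvd_pow 5 l).mul_left _).mul_right _).mul_right _)
    have l4 : d < 2 := by
      by_contra! l; exact k6 (((pow_dvd_pow 7 l).mul_left _).mul_right _)
    have l5 : e < 1 := by
      by_contra! l; exact k5 ((pow_dvd_pow 17 l).mul_left _)
    interval_cases a <;> interval_cases b <;> interval_cases c <;> interval_cases d <;>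
      interval_cases e <;> revert k3 <;> decide
  have sol : ∀ x : G, orderOf x = 7 → Group.IsSolvable (Cent1 x) := fun x hx =>
    h1 _ (hc ▸ card_dvd_card_top _) fun g => by simpa using sm x g hx g.2
  have h : Ctx G := by
    refine ⟨hc, fun x g hx hg => (sm x g hx hg).imp orderOf_dvd_iff_pow_eq_one.1
      orderOf_dvd_iff_pow_eq_one.1, sol, fun g hg => ?_, fun T hT => ?_, fun T hT => ?_⟩
    · obtain ⟨k, hk⟩ := (pnat_singleton_iff p7 (orderOf_pos g).ne').1 hg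
      have : k < 2 := by
        by_contra! l; exact no 49 (by simp) g (hk ▸ pow_dvd_pow 7 l)
      exact orderOf_dvd_iff_pow_eq_one.1 (hk ▸ (pow_dvd_pow 7 (Nat.lt_succ_iff.1 this) : _ ∣ 7 ^ 1))
    · obtain ⟨S, rfl⟩ := (isSylowOf_mk (P := T) (K := ⊤) Nat.prime_two le_top (IsPGroup.of_card (n := 10) hT)
        (by have := T.card_mul_index; rw [hT, hc] at this; rw [relIndex_top_right]; omega)).exists_sylow_top
      exact (hS G hG (by rw [hc]; decide) S).2.2 (by rw [hc]; norm_num)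
    · obtain ⟨S, rfl⟩ := (isSylowOf_mk (P := T) (K := ⊤) p7 le_top (IsPGroup.of_card (n := 3) hT)
        (by have := T.card_mul_index; rw [hT, hc] at this; rw [relIndex_top_right]; omega)).exists_sylow_top
      exact h2 G hG hc (hω 49 (by simp)) sol S
  obtain ⟨P, hP⟩ := exists_sylow p7 (⊤ : Subgroup G)
  obtain ⟨z, hz⟩ := h.ex hP
  refine h.caseA hz (fun x hx hs => ?_) h0
  by_contra hn
  exact h.caseB hz hx hn hs

end H40.SP
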