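import Cfsg.Agent.H40.SnPoly
import Cfsg.Agent.H28.GenChar

/-!
# The irreducible characters of the symmetric group (Frobenius formula).
-/

set_option autoImplicit false
set_option linter.unusedSectionVars false

namespace H40.Sn

open Finset MvPolynomial Equiv Cfsg H28

variable {ι : Type*} [Fintype ι] [DecidableEq ι] {R : Type*} [CommRing R]
variable {Ω : Type*} [Fintype Ω] [DecidableEq Ω]

/-- The content of a colouring. -/
def cont (f : Ω → ι) : ι → ℕ := fun j => #{x | f x = j}

theorem sum_cont (f : Ω → ι) : ∑ j, cont f j = Fintype.card Ω :=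
  (card_eq_sum_card_fiberwise (f := f) (s := univ) (t := univ) (fun _ _ => mem_univ _)).symm

theorem prod_X_eq_mo (f : Ω → ι) : ∏ x, (X (f x) : MvPolynomial ι R) = mo R (cont f) := by
  rw [mo_eq_prod, ← prod_fiberwise univ f]
  refine prod_congr rfl fun j _ => ?_
  rw [prod_congr rfl (g := fun _ => X j) fun x hx => by rw [(mem_filter.1 hx).2], prod_const]
  rfl

theorem cont_comp (f : Ω → ι) (g : Perm Ω) : cont (f ∘ g) = cont f := by
  funext j
  exact card_bij (fun x _ => g x) (by simp) (by simp) fun y hy => ⟨g.symm y, by simpa using hy, by simp⟩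

theorem exists_cont_eq {t : ι → ℕ} (ht : ∑ j, t j = Fintype.card Ω) : ∃ f : Ω → ι, cont f = t := by
  obtain ⟨e⟩ : Nonempty (Ω ≃ Σ j, Fin (t j)) := Fintype.card_eq.1 (by simp [ht])
  refine ⟨fun x => (e x).1, funext fun j => ?_⟩
  have : Fintype.card {x // (e x).1 = j} = Fintype.card (Fin (t j)) :=
    Fintype.card_congr ((e.subtypeEquiv (q := fun y => y.1 = j) fun _ => Iff.rfl).trans
      (Equiv.sigmaSubtype j))
  rw [Fintype.card_subtype, Fintype.card_fin] at this
  exact this

theorem exists_comp_eq {f f' : Ω → ι} (h : cont f = cont f') : ∃ g : Perm Ω, f' ∘ g = f := by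
  have : ∀ j, Nonempty ({x // f x = j} ≃ {x // f' x = j}) := fun j =>
    Fintype.card_eq.1 (by rw [Fintype.card_subtype, Fintype.card_subtype]; exact congrFun h j)
  exact ⟨Equiv.ofFiberEquiv fun j => (this j).some, funext (Equiv.ofFiberEquiv_map _)⟩

theorem sum_fixed_eq_prod {O : Type*} [Fintype O] [DecidableEq O] (π : Ω → O)
    (hπ : Function.Surjective π) (g : Perm Ω)
    (h : ∀ f : Ω → ι, f ∘ g = f ↔ ∀ x y, π x = π y → f x = f y) :
    ∑ f ∈ univ.filter (fun f : Ω → ι => f ∘ g = f), mo R (cont f) =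
      ∏ o, psum ι R (cont π o) := by
  simp only [psum]
  rw [prod_univ_sum, Fintype.piFinset_univ]
  symm
  refine sum_bij (fun F _ => F ∘ π) ?_ ?_ ?_ ?_
  · intro F _
    exact mem_filter.2 ⟨mem_univ _, (h _).2 fun x y e => by simp [e]⟩
  · intro F _ F' _ e
    exact hπ.injective_comp_right e
  · intro f hf
    refine ⟨f ∘ Function.surjInv hπ, mem_univ _, funext fun x => ?_⟩
    exact (h f).1 (mem_filter.1 hf).2 _ _ (Function.surjInv_eq hπ _)
  · intro F _
    rw [← prod_X_eq_mo, ← prod_fiberwise univ π]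
    refine prod_congr rfl fun o _ => ?_
    rw [prod_congr rfl (g := fun _ => X (F o)) fun x hx => by
      rw [Function.comp_apply, (mem_filter.1 hx).2], prod_const]
    rfl

/-- The power sum product of a permutation is the trace on tensor space. -/
theorem pm_parts (g : Perm Ω) : pm ι R g.partition.parts =
    ∑ f ∈ univ.filter (fun f : Ω → ι => f ∘ g = f), mo R (cont f) := by
  classical
  let π : Ω → g.cycleFactorsFinset ⊕ {x // g x = x} := fun x =>
    if h : g x = x then Sum.inr ⟨x, h⟩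
    else Sum.inl ⟨g.cycleOf x, Perm.cycleOf_mem_cycleFactorsFinset_iff.2 (Perm.mem_support.2 h)⟩
  have h1 : ∀ x (c : g.cycleFactorsFinset), π x = Sum.inl c ↔ x ∈ c.1.support := by
    intro x c
    constructor
    · intro e
      by_cases h : g x = x
      · simp [π, h] at e
      · simp only [π, h, dif_neg, not_false_eq_true, Sum.inl.injEq] at e
        rw [← e]
        exact Perm.mem_support_cycleOf_iff.2 ⟨Perm.SameCycle.refl _ _, Perm.mem_support.2 h⟩
    · intro hx
      have h : g x ≠ x := Perm.mem_support.1 (Perm.mem_cycleFactorsFinset_support_le c.2 hx)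
      simp only [π, h, dif_neg, not_false_eq_true, Sum.inl.injEq]
      exact Subtype.ext (Perm.cycle_is_cycleOf hx c.2).symm
  have h2 : ∀ x (y : {x // g x = x}), π x = Sum.inr y ↔ x = y := by
    intro x y
    by_cases h : g x = x
    · simp [π, h, Subtype.ext_iff]
    · simp only [π, h, dif_neg, not_false_eq_true, reduceCtorEq, false_iff]
      rintro rfl
      exact h y.2
  have hπ : Function.Surjective π := by
    rintro (c | y)
    · obtain ⟨x, hx⟩ := (Perm.mem_cycleFactorsFinset_iff.1 c.2).1.nonempty_support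
      exact ⟨x, (h1 x c).2 hx⟩
    · exact ⟨y, (h2 _ _).2 rfl⟩
  rw [sum_fixed_eq_prod π hπ g, Fintype.prod_sum_type, Perm.parts_partition, pm_add, pm_replicate]
  · congr 1
    · rw [pm, Perm.cycleType_def, Multiset.map_map, ← prod_eq_multiset_prod, ← prod_coe_sort]
      refine prod_congr rfl fun c _ => ?_
      simp only [Function.comp_apply, cont, h1]
      congr 2
      ext; simp
    · have : ∀ y : {x // g x = x}, cont π (Sum.inr y) = 1 := fun y => by
        simp only [cont, h2]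
        rw [filter_eq', if_pos (mem_univ _), card_singleton]
      simp only [this, prod_const, card_univ]
      congr 1
      rw [Fintype.card_subtype, ← card_compl]
      congr 1
      ext; simp
  · intro f
    constructor
    · intro hf x y e
      have hk : ∀ k : ℕ, ∀ z, f ((g ^ k) z) = f z := fun k => by
        induction k with
        | zero => simp
        | succ k ih => intro z; rw [pow_succ', Perm.mul_apply, ← ih z]; exact congrFun hf _
      rcases hy : π y with c | z
      · rw [hy, h1] at e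
        rw [h1] at hy
        rw [Perm.cycle_is_cycleOf e c.2] at hy
        obtain ⟨k, -, rfl⟩ := (Perm.mem_support_cycleOf_iff.1 hy).1.exists_pow_eq'
        exact (hk k x).symm
      · rw [hy, h2] at e
        rw [h2] at hy
        rw [e, hy]
    · intro hf
      funext x
      refine hf _ _ ?_
      rcases hx : π x with c | z
      · rw [h1] at hx ⊢
        rw [← (Perm.mem_cycleFactorsFinset_iff.1 c.2).2 x hx]
        exact Perm.apply_mem_support.2 hx
      · rw [h2] at hx ⊢
        rw [hx, z.2]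

theorem cf_pm_parts (α : ι → ℕ) (g : Perm Ω) : cf α (pm ι R g.partition.parts) =
    (#{f : Ω → ι | f ∘ g = f ∧ cont f = α} : R) := by
  rw [pm_parts, map_sum]
  simp only [cf_mo, sum_boole, filter_filter]

/-- The action of the symmetric group on colourings of given content. -/
@[reducible] def colAct (Ω : Type*) [Fintype Ω] (α : ι → ℕ) [DecidableEq Ω] :
    MulAction (Perm Ω) {f : Ω → ι // cont f = α} where
  smul g f := ⟨f.1 ∘ (g⁻¹ : Perm Ω), (cont_comp f.1 g⁻¹).trans f.2⟩
  one_smul _ := rfl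
  mul_smul _ _ _ := rfl

theorem card_fixedBy_colAct (α : ι → ℕ) (g : Perm Ω) :
    letI := colAct Ω α
    Nat.card (MulAction.fixedBy {f : Ω → ι // cont f = α} g) =
      #{f : Ω → ι | f ∘ g = f ∧ cont f = α} := by
  let _ := colAct Ω α
  rw [← Nat.card_eq_finsetCard]
  have e : ∀ f : Ω → ι, f ∘ (g⁻¹ : Perm Ω) = f ↔ f ∘ g = f := fun f =>
    ⟨fun h => funext fun x => by simpa using (congrFun h (g x)).symm,
      fun h => funext fun x => by simpa using (congrFun h (g⁻¹ x)).symm⟩
  exact Nat.card_congr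
    { toFun := fun x => ⟨x.1.1, mem_filter.2 ⟨mem_univ _, (e _).1 (congrArg Subtype.val x.2), x.1.2⟩⟩
      invFun := fun f => ⟨⟨f.1, (mem_filter.1 f.2).2.2⟩, Subtype.ext ((e _).2 (mem_filter.1 f.2).2.1)⟩
      left_inv := fun _ => rfl
      right_inv := fun _ => rfl }

theorem isCharacter_col (α : ι → ℕ) :
    IsCharacter (Perm Ω) fun g => cf α (pm ι ℂ g.partition.parts) := by
  let _ := colAct Ω α
  have := H28.isCharacter_perm (G := Perm Ω) {f : Ω → ι // cont f = α}
  simpa only [card_fixedBy_colAct, cf_pm_parts] using this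

theorem sum_card_fixed {t : ι → ℕ} (ht : ∑ j, t j = Fintype.card Ω) :
    ∑ g : Perm Ω, #{f : Ω → ι | f ∘ g = f ∧ cont f = t} = (Fintype.card Ω).factorial := by
  classical
  let _ := colAct Ω t
  have h := MulAction.sum_card_fixedBy_eq_card_orbits_mul_card_group (Perm Ω) {f : Ω → ι // cont f = t}
  simp only [← Nat.card_eq_fintype_card, card_fixedBy_colAct] at h
  obtain ⟨f₀, hf₀⟩ := exists_cont_eq (Ω := Ω) ht
  have h1 : Nat.card (Quotient (MulAction.orbitRel (Perm Ω) {f : Ω → ι // cont f = t})) = 1 := by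
    rw [Nat.card_eq_one_iff_exists]
    refine ⟨Quotient.mk _ ⟨f₀, hf₀⟩, ?_⟩
    rintro ⟨f, hf⟩
    obtain ⟨g, hg⟩ := exists_comp_eq (hf.trans hf₀.symm)
    exact Quotient.sound ⟨g⁻¹, Subtype.ext hg⟩
  rw [h, h1, one_mul, Nat.card_perm, Nat.card_eq_fintype_card]

theorem sum_sum_fixed {M : Type*} [AddCommMonoid M] (w : (ι → ℕ) → M) :
    ∑ g : Perm Ω, ∑ f ∈ univ.filter (fun f : Ω → ι => f ∘ g = f), w (cont f) =
      (Fintype.card Ω).factorial • ∑ t ∈ piAntidiag univ (Fintype.card Ω), w t := by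
  have h1 : ∀ g : Perm Ω, ∑ f ∈ univ.filter (fun f : Ω → ι => f ∘ g = f), w (cont f) =
      ∑ t ∈ piAntidiag univ (Fintype.card Ω), #{f : Ω → ι | f ∘ g = f ∧ cont f = t} • w t := by
    intro g
    rw [← sum_fiberwise_of_maps_to (g := cont) (t := piAntidiag univ (Fintype.card Ω))
      (fun f _ => by simp [sum_cont])]
    refine sum_congr rfl fun t _ => ?_
    rw [sum_congr rfl (g := fun _ => w t) fun f hf => by rw [(mem_filter.1 hf).2], sum_const,
      filter_filter]
  simp only [h1]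
  rw [sum_comm, smul_sum]
  refine sum_congr rfl fun t ht => ?_
  rw [← sum_smul, sum_card_fixed (by simpa using ht)]

theorem sum_pm_parts : ∑ g : Perm Ω, pm ι R g.partition.parts =
    (Fintype.card Ω).factorial • hh ι R (Fintype.card Ω) := by
  simp only [pm_parts]
  exact sum_sum_fixed (mo R)

theorem cont_fst {κ : Type*} [Fintype κ] [DecidableEq κ] (F : Ω → ι × κ) (j : ι) :
    cont (fun x => (F x).1) j = ∑ k, cont F (j, k) := by
  rw [cont, card_eq_sum_card_fiberwise (f := fun x => (F x).2) (t := univ) (fun _ _ => mem_univ _)]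
  refine sum_congr rfl fun k _ => ?_
  rw [filter_filter, cont]
  congr 1
  ext x; simp [Prod.ext_iff]

theorem cont_snd {κ : Type*} [Fintype κ] [DecidableEq κ] (F : Ω → ι × κ) (k : κ) :
    cont (fun x => (F x).2) k = ∑ j, cont F (j, k) := by
  rw [cont, card_eq_sum_card_fiberwise (f := fun x => (F x).1) (t := univ) (fun _ _ => mem_univ _)]
  refine sum_congr rfl fun j _ => ?_
  rw [filter_filter, cont]
  congr 1
  ext x; simp [Prod.ext_iff, and_comm]

theorem sum_fixed_pair {κ M : Type*} [Fintype κ] [DecidableEq κ] [AddCommMonoid M] (g : Perm Ω)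
    (w : (Ω → ι) → (Ω → κ) → M) :
    ∑ f ∈ univ.filter (fun f : Ω → ι => f ∘ g = f), ∑ f' ∈ univ.filter (fun f : Ω → κ => f ∘ g = f),
      w f f' = ∑ F ∈ univ.filter (fun F : Ω → ι × κ => F ∘ g = F),
        w (fun x => (F x).1) (fun x => (F x).2) := by
  rw [← sum_product']
  refine sum_bij' (fun a _ x => (a.1 x, a.2 x)) (fun F _ => (fun x => (F x).1, fun x => (F x).2))
    ?_ ?_ ?_ ?_ ?_
  · intro a ha
    simp only [mem_product, mem_filter, mem_univ, true_and] at ha ⊢
    funext x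
    exact Prod.ext (congrFun ha.1 x) (congrFun ha.2 x)
  · intro F hF
    simp only [mem_product, mem_filter, mem_univ, true_and] at hF ⊢
    exact ⟨funext fun x => congrArg Prod.fst (congrFun hF x),
      funext fun x => congrArg Prod.snd (congrFun hF x)⟩
  · intro a _; rfl
  · intro F _; rfl
  · intro a _; rfl

theorem sum_cf_smul_pm {κ : Type*} [Fintype κ] [DecidableEq κ] {α : ι → ℕ}
    (hα : ∑ j, α j = Fintype.card Ω) :
    ∑ g : Perm Ω, cf α (pm ι R g.partition.parts) • pm κ R g.partition.parts =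
      (Fintype.card Ω).factorial • ∏ j, hh κ R (α j) := by
  have h1 : ∀ g : Perm Ω, cf α (pm ι R g.partition.parts) • pm κ R g.partition.parts =
      ∑ F ∈ univ.filter (fun F : Ω → ι × κ => F ∘ g = F),
        (fun t : ι × κ → ℕ => if (fun j => ∑ k, t (j, k)) = α then mo R (fun k => ∑ j, t (j, k))
          else 0) (cont F) := by
    intro g
    rw [pm_parts, pm_parts, map_sum, sum_smul]
    simp only [smul_sum]
    rw [sum_fixed_pair g (fun f f' => cf α (mo R (cont f)) • mo R (cont f'))]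
    refine sum_congr rfl fun F _ => ?_
    rw [cf_mo, funext (cont_fst F), funext (cont_snd F)]
    split_ifs <;> simp
  rw [sum_congr rfl fun g _ => h1 g]
  refine (sum_sum_fixed (fun t : ι × κ → ℕ => if (fun j => ∑ k, t (j, k)) = α then
    mo R (fun k => ∑ j, t (j, k)) else 0)).trans ?_
  rw [← sum_filter]
  congr 1
  simp only [hh]
  rw [prod_univ_sum]
  refine sum_bij' (fun t _ j k => t (j, k)) (fun L _ x => L x.1 x.2) ?_ ?_ ?_ ?_ ?_
  · intro t ht
    simp only [mem_filter, mem_piAntidiag, Fintype.mem_piFinset] at ht ⊢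
    exact fun j => ⟨congrFun ht.2 j, fun _ _ => mem_univ _⟩
  · intro L hL
    simp only [mem_filter, mem_piAntidiag, Fintype.mem_piFinset] at hL ⊢
    refine ⟨⟨?_, fun _ _ => mem_univ _⟩, funext fun j => (hL j).1⟩
    rw [Fintype.sum_prod_type, ← hα]
    exact sum_congr rfl fun j _ => (hL j).1
  · intro t _; rfl
  · intro L _; rfl
  · intro t _
    rw [prod_mo]
    congr 1
    funext k
    simp

/-- The character value: coefficient of `x^β` in `a_δ p_ρ`. -/
noncomputable def Xv (δ β : ι → ℕ) (ρ : Multiset ℕ) : ℤ := cf β (alt ℤ δ * pm ι ℤ ρ)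

theorem cf_alt_mul_pm (δ β : ι → ℕ) (ρ : Multiset ℕ) :
    cf β (alt R δ * pm ι R ρ) = (Xv δ β ρ : R) := by
  rw [Xv, ← eq_intCast (Int.castRingHom R), ← cf_map, map_mul (MvPolynomial.map _), alt, alt,
    map_altr, map_pm]

/-- The (signed) irreducible character of the symmetric group with beta-numbers `β`. -/
noncomputable def chi (Ω : Type*) [Fintype Ω] [DecidableEq Ω] (δ β : ι → ℕ) : Perm Ω → ℂ :=
  fun g => (Xv δ β g.partition.parts : ℂ)

theorem chi_apply (δ β : ι → ℕ) (g : Perm Ω) : chi Ω δ β g = (Xv δ β g.partition.parts : ℂ) := rfl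

theorem cf_alt_mul (δ β : ι → ℕ) (F : MvPolynomial ι R) : cf β (alt R δ * F) =
    ∑ σ : Perm ι, if ∀ j, δ (σ j) ≤ β j then ((Perm.sign σ : ℤ) : R) * cf (β - δ ∘ σ) F else 0 := by
  rw [alt, altr_eq_sum, sum_mul, map_sum]
  refine sum_congr rfl fun σ _ => ?_
  rw [if_pos (fun _ => rfl), smul_mul_assoc, map_smul, mul_comm, cf_mul_mo, smul_eq_mul]
  simp only [Function.comp_apply]
  split_ifs <;> simp

theorem isGeneralizedCharacter_chi (δ β : ι → ℕ) : IsGeneralizedCharacter (Perm Ω) (chi Ω δ β) := by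
  have : chi Ω δ β = ∑ σ : Perm ι, if ∀ j, δ (σ j) ≤ β j then
      ((Perm.sign σ : ℤ) : ℂ) • (fun g : Perm Ω => cf (β - δ ∘ σ) (pm ι ℂ g.partition.parts))
      else 0 := by
    funext g
    rw [chi_apply, ← cf_alt_mul_pm, cf_alt_mul, Finset.sum_apply]
    refine sum_congr rfl fun σ _ => ?_
    split_ifs <;> simp
  rw [this]
  refine isGeneralizedCharacter_sum _ fun σ _ => ?_
  split_ifs
  · exact (isCharacter_col _).isGeneralizedCharacter.intCast_smul _
  · exact isGeneralizedCharacter_zero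

theorem sum_sub_of_le {β γ : ι → ℕ} (h : ∀ j, γ j ≤ β j) :
    ∑ j, (β - γ) j + ∑ j, γ j = ∑ j, β j := by
  rw [← sum_add_distrib]
  exact sum_congr rfl fun j _ => Nat.sub_add_cancel (h j)

/-- The Schur function in any set of variables. -/
theorem sum_Xv_smul_pm {κ : Type*} [Fintype κ] [DecidableEq κ] {δ β : ι → ℕ}
    (hβ : ∑ j, β j = Fintype.card Ω + ∑ j, δ j) :
    ∑ g : Perm Ω, (Xv δ β g.partition.parts : R) • pm κ R g.partition.parts =
      (Fintype.card Ω).factorial • ∑ σ : Perm ι, if ∀ j, δ (σ j) ≤ β j then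
        ((Perm.sign σ : ℤ) : R) • ∏ j, hh κ R (β j - δ (σ j)) else 0 := by
  simp only [← cf_alt_mul_pm, cf_alt_mul, sum_smul]
  rw [sum_comm, smul_sum]
  refine sum_congr rfl fun σ _ => ?_
  split_ifs with h
  · simp only [mul_smul]
    rw [← smul_sum, sum_cf_smul_pm, smul_comm]
    · rfl
    · have := sum_sub_of_le (β := β) (γ := δ ∘ σ) h
      rw [show ∑ j, (δ ∘ σ) j = ∑ j, δ j from Equiv.sum_comp σ δ] at this
      omega
  · simp

/-- **Row orthogonality in polynomial form.** -/
theorem sum_Xv_smul {δ β : ι → ℕ} (hδ : Stair1 δ) (hβ : ∑ j, β j = Fintype.card Ω + ∑ j, δ j) :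
    ∑ g : Perm Ω, (Xv δ β g.partition.parts : R) • (alt R δ * pm ι R g.partition.parts) =
      (Fintype.card Ω).factorial • alt R β := by
  simp only [← mul_smul_comm]
  rw [← mul_sum, sum_Xv_smul_pm hβ, ← jt_eq_sum, mul_smul_comm, ← alt_eq_mul_jt hδ]

theorem classInner_chi {δ β : ι → ℕ} (hδ : Stair1 δ) (hβ : ∑ j, β j = Fintype.card Ω + ∑ j, δ j)
    (β' : ι → ℕ) : classInner (chi Ω δ β) (chi Ω δ β') = cf β' (alt ℂ β) := by
  have h := congrArg (cf β') (sum_Xv_smul (R := ℂ) hδ hβ)
  rw [map_nsmul, map_sum] at h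
  simp only [map_smul, cf_alt_mul_pm, smul_eq_mul, nsmul_eq_mul] at h
  have hG : ((Fintype.card Ω).factorial : ℂ) ≠ 0 := Nat.cast_ne_zero.2 (Nat.factorial_ne_zero _)
  rw [classInner, Nat.card_perm, Nat.card_eq_fintype_card, inv_mul_eq_iff_eq_mul₀ hG, ← h]
  simp only [chi_apply, map_intCast]

theorem hom_alt_mul_pm (δ : ι → ℕ) (ρ : Multiset ℕ) :
    Hom (∑ j, δ j + ρ.sum) (alt R δ * pm ι R ρ) := (hom_altr _ δ).mul (hom_pm ρ)

theorem Xv_eq_zero_of_ne {δ β : ι → ℕ} {ρ : Multiset ℕ} (h : ∑ j, β j ≠ ρ.sum + ∑ j, δ j) :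
    Xv δ β ρ = 0 := by
  by_contra h0
  exact h ((hom_alt_mul_pm δ ρ β h0).trans (add_comm _ _))

theorem asr_alt_mul_pm (δ : ι → ℕ) (ρ : Multiset ℕ) :
    Asr (fun _ : ι => ()) (alt R δ * pm ι R ρ) := (asr_altr _ δ).mul_pm ρ

theorem Xv_comp (δ β : ι → ℕ) (σ : Perm ι) (ρ : Multiset ℕ) :
    Xv δ (β ∘ σ) ρ = (Perm.sign σ : ℤ) * Xv δ β ρ := by
  exact (asr_alt_mul_pm (R := ℤ) δ ρ).cf_comp σ (fun _ => rfl) β

theorem Xv_eq_zero_of_not_inj {δ β : ι → ℕ} (h : ¬ Function.Injective β) (ρ : Multiset ℕ) :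
    Xv δ β ρ = 0 := (asr_alt_mul_pm δ ρ).cf_eq_zero (by rwa [finj_unit])

/-- **Murnaghan-Nakayama rule** in beta-number form. -/
theorem Xv_cons (δ β : ι → ℕ) (k : ℕ) (ρ : Multiset ℕ) :
    Xv δ β (k ::ₘ ρ) = ∑ j, if k ≤ β j then Xv δ (β - Pi.single j k) ρ else 0 := by
  rw [Xv, pm_cons, ← mul_assoc, cf_mul_psum]; rfl

theorem chi_comp (δ β : ι → ℕ) (σ : Perm ι) :
    chi Ω δ (β ∘ σ) = ((Perm.sign σ : ℤ) : ℂ) • chi Ω δ β := by
  funext g; simp [chi_apply, Xv_comp]

theorem chi_eq_zero_of_ne {δ β : ι → ℕ} (h : ∑ j, β j ≠ Fintype.card Ω + ∑ j, δ j) :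
    chi Ω δ β = 0 := by
  funext g
  rw [chi_apply, Xv_eq_zero_of_ne (by rwa [g.partition.parts_sum])]; simp

theorem chi_eq_zero_of_not_inj {δ β : ι → ℕ} (h : ¬ Function.Injective β) : chi Ω δ β = 0 := by
  funext g
  rw [chi_apply, Xv_eq_zero_of_not_inj h]; simp

theorem irr_or_neg {δ β : ι → ℕ} (hδ : Stair1 δ) (hβ : ∑ j, β j = Fintype.card Ω + ∑ j, δ j)
    (hi : Function.Injective β) :
    IsIrrCharacter (Perm Ω) (chi Ω δ β) ∨ IsIrrCharacter (Perm Ω) (-chi Ω δ β) := by
  exact (isGeneralizedCharacter_chi (Ω := Ω) δ β).eq_irr_or_neg_of_norm_one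
    (by rw [classInner_chi hδ hβ, alt, cf_altr_self (finj_unit.2 hi)])

theorem alt_ne_zero [Nontrivial R] {β : ι → ℕ} (h : Function.Injective β) : alt R β ≠ 0 := fun h0 => by
  have := cf_altr_self (R := R) (finj_unit.2 h)
  rw [← alt, h0, map_zero] at this
  exact zero_ne_one this

theorem card_mul_classInner_chi (f : Perm Ω → ℂ) (δ β : ι → ℕ) :
    (Nat.card (Perm Ω) : ℂ) * classInner f (chi Ω δ β) =
      cf β (∑ g : Perm Ω, f g • (alt ℂ δ * pm ι ℂ g.partition.parts)) := by
  rw [card_mul_classInner, map_sum]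
  simp only [chi_apply, map_intCast, map_smul, cf_alt_mul_pm, smul_eq_mul]

/-- **Completeness.** -/
theorem exists_chi {δ : ι → ℕ} (hδ : Stair1 δ) (hι : Fintype.card Ω ≤ Fintype.card ι)
    {χ : Perm Ω → ℂ} (hχ : IsIrrCharacter (Perm Ω) χ) :
    ∃ β : ι → ℕ, Function.Injective β ∧ ∑ j, β j = Fintype.card Ω + ∑ j, δ j ∧
      (χ = chi Ω δ β ∨ χ = -chi Ω δ β) := by
  by_cases h : ∀ β, classInner χ (chi Ω δ β) = 0
  · exfalso
    have h1 : ∑ g : Perm Ω, χ g • (alt ℂ δ * pm ι ℂ g.partition.parts) = 0 :=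
      ext_cf fun β => by rw [← card_mul_classInner_chi, h, mul_zero, map_zero]
    simp only [← mul_smul_comm] at h1
    rw [← mul_sum, mul_eq_zero] at h1
    have h2 := h1.resolve_left (alt_ne_zero hδ.1)
    obtain ⟨f₀⟩ := Function.Embedding.nonempty_of_card_le hι
    have h3 := congrArg (cf (cont f₀)) h2
    rw [map_sum, map_zero, sum_eq_single 1] at h3
    · rw [map_smul, cf_pm_parts, smul_eq_mul, mul_eq_zero, Nat.cast_eq_zero, card_eq_zero] at h3
      rcases h3 with h3 | h3
      · exact hχ.apply_one_ne_zero h3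
      · exact (eq_empty_iff_forall_notMem.1 h3) f₀ (by simp)
    · intro g _ hg
      rw [map_smul, cf_pm_parts, card_eq_zero.2, Nat.cast_zero, smul_zero]
      refine eq_empty_iff_forall_notMem.2 fun f hf => hg ?_
      obtain ⟨h4, h5⟩ := (mem_filter.1 hf).2
      obtain ⟨τ, rfl⟩ := exists_comp_eq h5
      exact Equiv.ext fun x => τ.injective (f₀.injective (congrFun h4 x))
    · simp
  · obtain ⟨β, hβ⟩ := not_forall.1 h
    have hi : Function.Injective β := by
      by_contra hi
      exact hβ (by rw [chi_eq_zero_of_not_inj hi, classInner_zero_right])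
    have hs : ∑ j, β j = Fintype.card Ω + ∑ j, δ j := by
      by_contra hs
      exact hβ (by rw [chi_eq_zero_of_ne hs, classInner_zero_right])
    refine ⟨β, hi, hs, ?_⟩
    rcases irr_or_neg hδ hs hi with h1 | h1
    · left
      by_contra h2
      exact hβ (hχ.classInner_of_ne h1 h2)
    · right
      by_contra h2
      have := hχ.classInner_of_ne h1 h2
      rw [classInner_neg_right, neg_eq_zero] at this
      exact hβ this

theorem eq_zero_of_sum_smul {δ : ι → ℕ} (hδ : Stair1 δ) (hι : Fintype.card Ω ≤ Fintype.card ι)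
    {f : Perm Ω → ℂ} (hf : IsClassFunction (Perm Ω) f)
    (h : ∑ g : Perm Ω, f g • (alt ℂ δ * pm ι ℂ g.partition.parts) = 0) : f = 0 := by
  have h1 : ∀ β, classInner f (chi Ω δ β) = 0 := fun β => by
    have := card_mul_classInner_chi f δ β
    rw [h, map_zero, mul_eq_zero] at this
    exact this.resolve_left (card_ne_zero' _)
  refine hf.eq_zero_of_classInner fun χ hχ => ?_
  obtain ⟨β, -, -, rfl | rfl⟩ := exists_chi hδ hι hχ
  · exact h1 β
  · rw [classInner_neg_right, h1, neg_zero]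

theorem sign_cast_mul_self (σ : Perm ι) :
    ((Perm.sign σ : ℤ) : R) * ((Perm.sign σ : ℤ) : R) = 1 := by
  rw [← Int.cast_mul, ← Units.val_mul, Int.units_mul_self]; simp

theorem comp_mem_piAntidiag {d : ℕ} {γ : ι → ℕ} (σ : Perm ι) :
    γ ∘ σ ∈ piAntidiag univ d ↔ ∑ j, γ j = d := by
  simp [Equiv.sum_comp σ γ]

theorem sum_cf_mul_cf_alt {F : MvPolynomial ι R} (hF : Asr (fun _ : ι => ()) F) {d : ℕ} {γ : ι → ℕ}
    (hγ : ∑ j, γ j = d) : ∑ β ∈ piAntidiag univ d, cf β F * cf β (alt R γ) =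
      (Fintype.card ι).factorial * cf γ F := by
  simp only [alt, cf_altr, mul_sum, implies_true, true_and, mul_ite, mul_zero]
  rw [sum_comm]
  simp only [sum_ite_eq, (comp_mem_piAntidiag _).2 hγ, if_true, hF.cf_comp _ (fun _ => rfl)]
  simp only [mul_right_comm _ (cf γ F), sign_cast_mul_self, one_mul, sum_const, card_univ,
    Fintype.card_perm, nsmul_eq_mul]

theorem sum_cf_smul_alt {F : MvPolynomial ι R} (hF : Asr (fun _ : ι => ()) F) {d : ℕ}
    (hd : Hom d F) : ∑ β ∈ piAntidiag univ d, cf β F • alt R β = (Fintype.card ι).factorial • F := by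
  simp only [alt, altr_eq_sum, smul_sum, implies_true, if_true]
  rw [sum_comm, ← Fintype.card_perm, ← card_univ, ← sum_const]
  refine sum_congr rfl fun σ _ => ?_
  conv_rhs => rw [hd.eq_sum_mo]
  refine sum_bij' (fun β _ => β ∘ σ) (fun β _ => β ∘ (σ⁻¹ : Perm ι)) ?_ ?_ ?_ ?_ ?_
  · intro β hβ; exact (comp_mem_piAntidiag _).2 (by simpa using hβ)
  · intro β hβ; exact (comp_mem_piAntidiag _).2 (by simpa using hβ)
  · intro β _; funext j; simp
  · intro β _; funext j; simp
  · intro β _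
    rw [hF.cf_comp σ (fun _ => rfl), smul_smul, mul_comm]

theorem parts_eq_iff {g h : Perm Ω} : g.partition.parts = h.partition.parts ↔ IsConj g h := by
  rw [Perm.partition_eq_of_isConj]
  exact ⟨Nat.Partition.ext, fun e => by rw [e]⟩

theorem exists_parts_eq {ρ : Multiset ℕ} (h0 : ∀ k ∈ ρ, 0 < k) (hρ : ρ.sum = Fintype.card Ω) :
    ∃ g : Perm Ω, g.partition.parts = ρ := by
  have h1 : ρ = ρ.filter (fun k => 2 ≤ k) + Multiset.replicate (ρ.filter (fun k => ¬ 2 ≤ k)).card 1 := by
    conv_lhs => rw [← Multiset.filter_add_not (fun k => 2 ≤ k) ρ]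
    congr 1
    refine Multiset.eq_replicate_card.2 fun k hk => ?_
    have := Multiset.mem_filter.1 hk
    have := h0 k this.1
    omega
  have h2 := congrArg Multiset.sum h1
  rw [Multiset.sum_add, Multiset.sum_replicate, smul_eq_mul, mul_one] at h2
  obtain ⟨g, hg⟩ := (Perm.exists_with_cycleType_iff Ω (m := ρ.filter (fun k => 2 ≤ k))).2
    ⟨by omega, fun k hk => (Multiset.mem_filter.1 hk).2⟩
  refine ⟨g, ?_⟩
  rw [Perm.parts_partition, ← Perm.sum_cycleType, hg]
  conv_rhs => rw [h1]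
  congr 2
  omega

/-- **Column orthogonality.** -/
theorem sum_Xv_mul_Xv {δ : ι → ℕ} (hδ : Stair1 δ) (hι : Fintype.card Ω ≤ Fintype.card ι)
    (g : Perm Ω) {ρ : Multiset ℕ} (h0 : ∀ k ∈ ρ, 0 < k) (hρ : ρ.sum = Fintype.card Ω)
    (hne : g.partition.parts ≠ ρ) :
    ∑ β ∈ piAntidiag univ (Fintype.card Ω + ∑ j, δ j), Xv δ β g.partition.parts * Xv δ β ρ = 0 := by
  classical
  obtain ⟨h, rfl⟩ := exists_parts_eq h0 hρ
  set S := piAntidiag (univ : Finset ι) (Fintype.card Ω + ∑ j, δ j) with hS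
  set C := univ.filter (fun x : Perm Ω => x.partition.parts = g.partition.parts) with hC
  have key := eq_zero_of_sum_smul hδ hι (f := fun x => (#C : ℂ) *
    (∑ β ∈ S, (Xv δ β g.partition.parts : ℂ) * Xv δ β x.partition.parts) -
      if x.partition.parts = g.partition.parts then
        ((Fintype.card Ω).factorial * (Fintype.card ι).factorial : ℕ) else 0)
    (isClassFunction_of_isConj fun a b hab => by rw [parts_eq_iff.2 hab]) (by
      simp only [sub_smul, sum_sub_distrib, mul_smul, ← smul_sum, sum_smul]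
      rw [sum_comm, sub_eq_zero]
      simp only [← smul_sum]
      rw [sum_congr rfl fun β hβ => by rw [sum_Xv_smul hδ (by simpa [hS] using hβ), smul_comm,
        ← cf_alt_mul_pm], ← smul_sum, sum_cf_smul_alt (asr_alt_mul_pm _ _)
        (by simpa [g.partition.parts_sum, add_comm] using hom_alt_mul_pm δ g.partition.parts)]
      simp only [Nat.cast_ite, Nat.cast_zero, ite_smul, zero_smul]
      rw [← sum_filter, sum_congr rfl fun x hx => by rw [(mem_filter.1 hx).2], sum_const,
        Nat.cast_smul_eq_nsmul, Nat.cast_smul_eq_nsmul, mul_smul])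
  have h1 := congrFun key h
  rw [if_neg (Ne.symm hne)] at h1
  simp only [Nat.cast_zero, sub_zero, Pi.zero_apply, mul_eq_zero, Nat.cast_eq_zero,
    card_eq_zero] at h1
  rcases h1 with h1 | h1
  · exact absurd h1 (nonempty_iff_ne_empty.1 ⟨g, by simp [hC]⟩)
  · exact_mod_cast h1

theorem alt_mul_psum (β : ι → ℕ) (k : ℕ) :
    alt R β * psum ι R k = ∑ j, alt R (β + Pi.single j k) := by
  simp only [alt, altr_eq_sum, implies_true, if_true, sum_mul, psum, mul_sum]
  rw [sum_comm]
  conv_rhs => rw [sum_comm]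
  refine sum_congr rfl fun σ _ => ?_
  refine Fintype.sum_equiv σ _ _ fun j => ?_
  rw [smul_mul_assoc, ← mo_single, ← mo_add]
  congr 2
  funext i
  simp [Pi.single_apply]

/-- **Adjoint Murnaghan-Nakayama rule.** -/
theorem sum_Xv_add_single {δ : ι → ℕ} (hδ : Stair1 δ) (hι : Fintype.card Ω ≤ Fintype.card ι)
    (g : Perm Ω) {k : ℕ} (hk : 0 < k) (hg : k ∉ g.partition.parts) (β : ι → ℕ) :
    ∑ j, Xv δ (β + Pi.single j k) g.partition.parts = 0 := by
  have hs : ∀ j, ∑ i, (β + Pi.single j k : ι → ℕ) i = ∑ i, β i + k := fun j => by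
    simp [sum_add_distrib]
  by_cases h : ∑ i, β i + k = Fintype.card Ω + ∑ j, δ j
  swap
  · exact sum_eq_zero fun j _ => Xv_eq_zero_of_ne (by rwa [hs, g.partition.parts_sum])
  set S := piAntidiag (univ : Finset ι) (Fintype.card Ω + ∑ j, δ j) with hS
  have h1 : ∑ γ ∈ S, Xv δ γ g.partition.parts * cf γ (alt ℤ β * psum ι ℤ k) =
      (Fintype.card ι).factorial * ∑ j, Xv δ (β + Pi.single j k) g.partition.parts := by
    simp only [alt_mul_psum, map_sum, mul_sum]
    rw [sum_comm]
    exact sum_congr rfl fun j _ => sum_cf_mul_cf_alt (asr_alt_mul_pm δ _) ((hs j).trans h)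
  refine (mul_eq_zero.1 (h1.symm.trans ?_)).resolve_left
    (Nat.cast_ne_zero.2 (Nat.factorial_ne_zero _))
  by_cases h2 : k ≤ Fintype.card Ω
  · obtain ⟨m, hm⟩ := Nat.exists_eq_add_of_le' h2
    have h3 := sum_Xv_smul (R := ℤ) (Ω := Fin m) hδ (β := β) (by rw [Fintype.card_fin]; omega)
    refine (mul_eq_zero.1 (?_ : ((Fintype.card (Fin m)).factorial : ℤ) * _ = 0)).resolve_left
      (Nat.cast_ne_zero.2 (Nat.factorial_ne_zero _))
    rw [mul_sum]
    simp only [mul_left_comm ((Fintype.card (Fin m)).factorial : ℤ), ← nsmul_eq_mul, ← map_nsmul,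
      ← smul_mul_assoc, ← h3, sum_mul, map_sum, mul_sum]
    rw [sum_comm]
    refine sum_eq_zero fun x _ => ?_
    simp only [smul_mul_assoc, map_smul, smul_eq_mul, mul_assoc, ← pm_cons, Int.cast_id]
    simp only [mul_left_comm _ (Xv δ β x.partition.parts)]
    rw [← mul_sum]
    refine mul_eq_zero_of_right _ (sum_Xv_mul_Xv hδ hι g ?_ ?_ ?_)
    · intro a ha
      rcases Multiset.mem_cons.1 ha with rfl | ha
      · exact hk
      · exact x.partition.parts_pos ha
    · rw [Multiset.sum_cons, x.partition.parts_sum, Fintype.card_fin]; omega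
    · intro e; exact hg (e ▸ Multiset.mem_cons_self _ _)
  · have h4 : alt ℤ β = 0 := by
      rw [alt_eq_mul_jt hδ, jt_eq_sum, sum_eq_zero, mul_zero]
      intro σ _
      rw [if_neg]
      intro h5
      have := sum_le_sum fun j (_ : j ∈ univ) => h5 j
      rw [Equiv.sum_comp σ δ] at this
      omega
    simp [h4]

end H40.Sn
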