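import Cfsg.Agent.Base
import Cfsg.Agent.H57.JT

/-!
# Alternants and power sums: the polynomial side of the character theory of `S_n`.
-/

set_option autoImplicit false
set_option linter.unusedSectionVars false

namespace H40.Sn

open Finset MvPolynomial

variable {ι : Type*} [Fintype ι] [DecidableEq ι] {R : Type*} [CommRing R]

/-- A function on a finite type as an exponent vector. -/
noncomputable def fs (β : ι → ℕ) : ι →₀ ℕ := Finsupp.equivFunOnFinite.symm β

@[simp] theorem fs_apply (β : ι → ℕ) (j : ι) : fs β j = β j := rfl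

theorem fs_inj {β γ : ι → ℕ} : fs β = fs γ ↔ β = γ := Finsupp.equivFunOnFinite.symm.injective.eq_iff

theorem fs_coe (m : ι →₀ ℕ) : fs (m : ι → ℕ) = m := by ext; simp

theorem fs_add (β γ : ι → ℕ) : fs (β + γ) = fs β + fs γ := by ext; simp

theorem fs_zero : fs (0 : ι → ℕ) = 0 := by ext; simp

theorem fs_single (j : ι) (k : ℕ) : fs (Pi.single j k) = Finsupp.single j k := by
  ext i; simp [Pi.single_apply, Finsupp.single_apply, eq_comm]

theorem fs_sum {κ : Type*} (s : Finset κ) (f : κ → ι → ℕ) : fs (∑ x ∈ s, f x) = ∑ x ∈ s, fs (f x) := by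
  ext; simp [Finsupp.finsetSum_apply]

theorem degree_fs (β : ι → ℕ) : (fs β).degree = ∑ j, β j := by
  rw [Finsupp.degree_eq_sum]; rfl

/-- Coefficient of the monomial with exponent vector `β`. -/
noncomputable def cf (β : ι → ℕ) : MvPolynomial ι R →ₗ[R] R := lcoeff R (fs β)

theorem cf_apply (β : ι → ℕ) (F : MvPolynomial ι R) : cf β F = coeff (fs β) F := rfl

theorem ext_cf {F G : MvPolynomial ι R} (h : ∀ β, cf β F = cf β G) : F = G :=
  MvPolynomial.ext _ _ fun m => by simpa only [cf_apply, fs_coe] using h m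

/-- The monomial with exponent vector `β`. -/
noncomputable def mo (R : Type*) [CommRing R] (β : ι → ℕ) : MvPolynomial ι R := monomial (fs β) 1

theorem cf_mo (β γ : ι → ℕ) : cf β (mo R γ) = if γ = β then 1 else 0 := by
  simp [cf_apply, mo, coeff_monomial, fs_inj]

theorem mo_add (β γ : ι → ℕ) : mo R (β + γ) = mo R β * mo R γ := by
  simp [mo, fs_add, monomial_mul]

theorem mo_zero : mo R (0 : ι → ℕ) = 1 := by simp [mo, fs_zero]

theorem mo_eq_prod (β : ι → ℕ) : mo R β = ∏ j, X j ^ β j := by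
  rw [mo, monomial_eq, C_1, one_mul, Finsupp.prod_fintype _ _ (by simp)]
  rfl

theorem mo_single (j : ι) (k : ℕ) : mo R (Pi.single j k) = X j ^ k := by
  rw [mo, fs_single, X_pow_eq_monomial]

theorem prod_mo {κ : Type*} (s : Finset κ) (f : κ → ι → ℕ) :
    ∏ x ∈ s, mo R (f x) = mo R (∑ x ∈ s, f x) := by
  classical
  induction s using Finset.induction_on with
  | empty => simp [mo_zero]
  | insert a s ha ih => rw [prod_insert ha, sum_insert ha, mo_add, ih]

theorem cf_mul_mo (β γ : ι → ℕ) (F : MvPolynomial ι R) :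
    cf β (F * mo R γ) = if ∀ j, γ j ≤ β j then cf (β - γ) F else 0 := by
  rw [cf_apply, mo, coeff_mul_monomial', mul_one]
  have e : fs β - fs γ = fs (β - γ) := by ext; simp
  rw [e]; exact if_congr Iff.rfl rfl rfl

theorem cf_C_mul (β : ι → ℕ) (a : R) (F : MvPolynomial ι R) : cf β (C a * F) = a * cf β F :=
  coeff_C_mul _ _ _

theorem eq_sum_mo (F : MvPolynomial ι R) (s : Finset (ι → ℕ)) (h : ∀ β, cf β F ≠ 0 → β ∈ s) :
    F = ∑ β ∈ s, cf β F • mo R β := by
  refine ext_cf fun γ => ?_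
  simp only [map_sum, map_smul, cf_mo, smul_eq_mul, mul_ite, mul_one, mul_zero, sum_ite_eq']
  split_ifs with hγ
  · rfl
  · by_contra h0; exact hγ (h γ h0)

theorem cf_map {S : Type*} [CommRing S] (f : R →+* S) (β : ι → ℕ) (F : MvPolynomial ι R) :
    cf β (MvPolynomial.map f F) = f (cf β F) := coeff_map _ _ _

theorem cf_rename {κ : Type*} [Fintype κ] [DecidableEq κ] (e : ι ≃ κ) (β : κ → ℕ)
    (F : MvPolynomial ι R) : cf β (rename e F) = cf (β ∘ e) F := by
  rw [cf_apply, cf_apply, ← coeff_rename_mapDomain e e.injective]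
  congr 1
  ext k
  obtain ⟨j, rfl⟩ := e.surjective k
  rw [Finsupp.mapDomain_apply e.injective]; rfl

/-- **Murnaghan-Nakayama step.** -/
theorem cf_mul_psum (β : ι → ℕ) (F : MvPolynomial ι R) (k : ℕ) :
    cf β (F * psum ι R k) = ∑ j, if k ≤ β j then cf (β - Pi.single j k) F else 0 := by
  rw [psum, mul_sum, map_sum]
  refine sum_congr rfl fun j _ => ?_
  rw [← mo_single, cf_mul_mo]
  have : (∀ i, (Pi.single j k : ι → ℕ) i ≤ β i) ↔ k ≤ β j := by
    constructor
    · intro h; simpa using h j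
    · intro h i
      by_cases hi : i = j
      · subst hi; simpa using h
      · simp [Pi.single_eq_of_ne hi]
  simp only [this]

theorem sum_sub_single {β : ι → ℕ} {j : ι} {k : ℕ} (h : k ≤ β j) :
    ∑ i, (β - Pi.single j k : ι → ℕ) i + k = ∑ i, β i := by
  have h1 : ∀ i, β i = (β - Pi.single j k : ι → ℕ) i + (Pi.single j k : ι → ℕ) i := fun i => by
    by_cases hi : i = j
    · subst hi; simp; omega
    · simp [Pi.single_eq_of_ne hi]
  conv_rhs => rw [sum_congr rfl fun i _ => h1 i, sum_add_distrib]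
  simp

/-- Product of power sums. -/
noncomputable def pm (ι R : Type*) [Fintype ι] [CommRing R] (ρ : Multiset ℕ) : MvPolynomial ι R :=
  (ρ.map (psum ι R)).prod

@[simp] theorem pm_zero : pm ι R 0 = 1 := by simp [pm]

theorem pm_cons (k : ℕ) (ρ : Multiset ℕ) : pm ι R (k ::ₘ ρ) = pm ι R ρ * psum ι R k := by
  simp [pm, mul_comm]

theorem pm_add (ρ σ : Multiset ℕ) : pm ι R (ρ + σ) = pm ι R ρ * pm ι R σ := by simp [pm]

theorem pm_singleton (k : ℕ) : pm ι R {k} = psum ι R k := by simp [pm]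

theorem pm_replicate (w k : ℕ) : pm ι R (Multiset.replicate w k) = psum ι R k ^ w := by simp [pm]

theorem rename_pm {κ : Type*} [Fintype κ] (e : ι ≃ κ) (ρ : Multiset ℕ) :
    rename e (pm ι R ρ) = pm κ R ρ := by
  simp [pm, map_multiset_prod]

theorem map_psum' {S : Type*} [CommRing S] (f : R →+* S) (k : ℕ) :
    MvPolynomial.map f (psum ι R k) = psum ι S k := by simp [psum]

theorem map_pm {S : Type*} [CommRing S] (f : R →+* S) (ρ : Multiset ℕ) :
    MvPolynomial.map f (pm ι R ρ) = pm ι S ρ := by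
  simp [pm, map_multiset_prod, map_psum']

/-- `F` is homogeneous of degree `d`. -/
def Hom (d : ℕ) (F : MvPolynomial ι R) : Prop := ∀ β : ι → ℕ, cf β F ≠ 0 → ∑ j, β j = d

theorem hom_iff {d : ℕ} {F : MvPolynomial ι R} : Hom d F ↔ F.IsHomogeneous d := by
  constructor
  · intro h m hm
    have := h m (by rwa [cf_apply, fs_coe])
    rw [← this, ← Finsupp.degree_eq_sum, Finsupp.degree_eq_weight_one]; rfl
  · intro h β hβ
    have := h hβ
    rw [← degree_fs, Finsupp.degree_eq_weight_one]; exact this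

theorem Hom.mul {d e : ℕ} {F G : MvPolynomial ι R} (hF : Hom d F) (hG : Hom e G) :
    Hom (d + e) (F * G) := hom_iff.2 ((hom_iff.1 hF).mul (hom_iff.1 hG))

theorem hom_psum (k : ℕ) : Hom k (psum ι R k) :=
  hom_iff.2 (IsHomogeneous.sum _ _ _ fun j _ => isHomogeneous_X_pow j k)

theorem hom_pm (ρ : Multiset ℕ) : Hom ρ.sum (pm ι R ρ) := by
  induction ρ using Multiset.induction_on with
  | empty => exact hom_iff.2 (by simpa using isHomogeneous_one ι R)
  | cons k ρ ih => rw [pm_cons, Multiset.sum_cons, add_comm]; exact ih.mul (hom_psum k)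

theorem Hom.eq_sum_mo {d : ℕ} {F : MvPolynomial ι R} (h : Hom d F) :
    F = ∑ β ∈ piAntidiag univ d, cf β F • mo R β :=
  Sn.eq_sum_mo F _ fun β hβ => by simp [h β hβ]

section runner

variable {K : Type*} [DecidableEq K]

/-- The alternant relative to a colouring `r` of the variables. -/
noncomputable def altr (R : Type*) [CommRing R] (r : ι → K) (γ : ι → ℕ) : MvPolynomial ι R :=
  (Matrix.of fun i j => if r i = r j then (X i : MvPolynomial ι R) ^ γ j else 0).det

theorem altr_eq_sum (r : ι → K) (γ : ι → ℕ) : altr R r γ =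
    ∑ σ : Equiv.Perm ι, if ∀ i, r (σ i) = r i then
      ((Equiv.Perm.sign σ : ℤ) : R) • mo R (γ ∘ σ) else 0 := by
  rw [altr, ← Matrix.det_transpose, Matrix.det_apply']
  refine sum_congr rfl fun σ _ => ?_
  simp only [Matrix.transpose_apply, Matrix.of_apply]
  split_ifs with h
  · rw [mo_eq_prod, smul_eq_C_mul, map_intCast]
    congr 1
    exact prod_congr rfl fun i _ => if_pos (h i).symm
  · push Not at h
    obtain ⟨i, hi⟩ := h
    rw [prod_eq_zero (mem_univ i) (if_neg (Ne.symm hi)), mul_zero]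

theorem cf_altr (r : ι → K) (β γ : ι → ℕ) : cf β (altr R r γ) =
    ∑ σ : Equiv.Perm ι, if (∀ i, r (σ i) = r i) ∧ γ ∘ σ = β then
      ((Equiv.Perm.sign σ : ℤ) : R) else 0 := by
  rw [altr_eq_sum, map_sum]
  refine sum_congr rfl fun σ _ => ?_
  by_cases h : ∀ i, r (σ i) = r i
  · simp [h, cf_mo]
  · simp [h]

theorem hom_altr (r : ι → K) (γ : ι → ℕ) : Hom (∑ j, γ j) (altr R r γ) := by
  intro β hβ
  rw [cf_altr] at hβ
  obtain ⟨σ, -, h⟩ := exists_ne_zero_of_sum_ne_zero hβ
  split_ifs at h with h1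
  · rw [← h1.2]; exact Equiv.sum_comp σ γ
  · exact absurd rfl h

theorem map_altr {S : Type*} [CommRing S] (f : R →+* S) (r : ι → K) (γ : ι → ℕ) :
    MvPolynomial.map f (altr R r γ) = altr S r γ := by
  rw [altr, altr, RingHom.map_det]
  congr 1
  ext1 i j
  simp only [RingHom.mapMatrix_apply, Matrix.map_apply, Matrix.of_apply]
  split_ifs <;> simp

/-- Fibrewise injectivity. -/
def FInj (r : ι → K) (γ : ι → ℕ) : Prop := ∀ i j, r i = r j → γ i = γ j → i = j

theorem cf_altr_comp {r : ι → K} {γ : ι → ℕ} (hγ : FInj r γ) (τ : Equiv.Perm ι)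
    (hτ : ∀ i, r (τ i) = r i) : cf (γ ∘ τ) (altr R r γ) = ((Equiv.Perm.sign τ : ℤ) : R) := by
  rw [cf_altr, sum_eq_single τ]
  · simp [hτ]
  · intro σ _ hσ
    rw [if_neg]
    rintro ⟨h1, h2⟩
    exact hσ (Equiv.ext fun i => hγ _ _ ((h1 i).trans (hτ i).symm) (congrFun h2 i))
  · simp

theorem cf_altr_self {r : ι → K} {γ : ι → ℕ} (hγ : FInj r γ) : cf γ (altr R r γ) = 1 := by
  simpa using cf_altr_comp (R := R) hγ 1 (fun _ => rfl)

theorem cf_altr_eq_zero {r : ι → K} {β γ : ι → ℕ}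
    (h : ∀ τ : Equiv.Perm ι, (∀ i, r (τ i) = r i) → γ ∘ τ ≠ β) : cf β (altr R r γ) = 0 := by
  rw [cf_altr]
  exact sum_eq_zero fun σ _ => if_neg fun h1 => h σ h1.1 h1.2

/-- Antisymmetry under the colour preserving permutations of the variables. -/
def Asr (r : ι → K) (F : MvPolynomial ι R) : Prop :=
  ∀ (σ : Equiv.Perm ι), (∀ i, r (σ i) = r i) → rename σ F = ((Equiv.Perm.sign σ : ℤ) : R) • F

theorem Asr.cf_comp {r : ι → K} {F : MvPolynomial ι R} (h : Asr r F) (σ : Equiv.Perm ι)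
    (hσ : ∀ i, r (σ i) = r i) (β : ι → ℕ) :
    cf (β ∘ σ) F = ((Equiv.Perm.sign σ : ℤ) : R) * cf β F := by
  rw [← cf_rename, h σ hσ, map_smul, smul_eq_mul]

theorem asr_altr (r : ι → K) (γ : ι → ℕ) : Asr r (altr R r γ) := by
  intro σ hσ
  rw [altr, AlgHom.map_det, smul_eq_C_mul, map_intCast, ← Matrix.det_permute]
  congr 1
  ext1 i j
  simp only [AlgHom.mapMatrix_apply, Matrix.map_apply, Matrix.of_apply, Matrix.submatrix_apply, id,
    hσ]
  split_ifs <;> simp

theorem Asr.mul {r : ι → K} {F G : MvPolynomial ι R} (h : Asr r F)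
    (hG : ∀ (σ : Equiv.Perm ι), (∀ i, r (σ i) = r i) → rename σ G = G) : Asr r (F * G) := by
  intro σ hσ
  rw [map_mul, h σ hσ, hG σ hσ, smul_mul_assoc]

theorem Asr.mul_pm {r : ι → K} {F : MvPolynomial ι R} (h : Asr r F) (ρ : Multiset ℕ) :
    Asr r (F * pm ι R ρ) := h.mul fun σ _ => rename_pm σ ρ

theorem Asr.cf_eq_zero [IsDomain R] [CharZero R] {r : ι → K} {F : MvPolynomial ι R} (h : Asr r F)
    {β : ι → ℕ} (hβ : ¬ FInj r β) : cf β F = 0 := by
  simp only [FInj, not_forall] at hβ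
  obtain ⟨i, j, h1, h2, h3⟩ := hβ
  have h4 := h.cf_comp (Equiv.swap i j) (fun k => by
    rw [Equiv.swap_apply_def]; split_ifs with a b
    · rw [a, h1]
    · rw [b, h1]
    · rfl) β
  have h5 : β ∘ Equiv.swap i j = β := by
    funext k
    rw [Function.comp_apply, Equiv.swap_apply_def]; split_ifs with a b
    · rw [a, h2]
    · rw [b, h2]
    · rfl
  rw [h5, Equiv.Perm.sign_swap h3] at h4
  simp only [Units.val_neg, Units.val_one, Int.cast_neg, Int.cast_one, neg_mul, one_mul] at h4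
  exact self_eq_neg.1 h4

theorem altr_comp {r : ι → K} (γ : ι → ℕ) (σ : Equiv.Perm ι) (hσ : ∀ i, r (σ i) = r i) :
    altr R r (γ ∘ σ) = ((Equiv.Perm.sign σ : ℤ) : R) • altr R r γ := by
  rw [altr, altr, smul_eq_C_mul, map_intCast, ← Matrix.det_permute']
  congr 1
  ext1 i j
  simp [hσ]

end runner

/-- The alternant `det (X i ^ β j)`. -/
noncomputable abbrev alt (R : Type*) [CommRing R] (β : ι → ℕ) : MvPolynomial ι R :=
  altr R (fun _ : ι => ()) β

theorem alt_eq_det (β : ι → ℕ) :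
    alt R β = (Matrix.of fun i j => (X i : MvPolynomial ι R) ^ β j).det := by
  simp [altr]

theorem finj_unit {β : ι → ℕ} : FInj (fun _ : ι => ()) β ↔ Function.Injective β :=
  ⟨fun h i j => h i j rfl, fun h _ _ _ e => h e⟩

theorem rename_alt {κ : Type*} [Fintype κ] [DecidableEq κ] (e : ι ≃ κ) (β : κ → ℕ) :
    rename e (alt R (β ∘ e)) = alt R β := by
  rw [alt_eq_det, alt_eq_det, AlgHom.map_det, ← Matrix.det_submatrix_equiv_self e]
  congr 1
  ext1 i j
  simp

/-- The complete symmetric polynomials. -/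
noncomputable def hh (ι R : Type*) [Fintype ι] [DecidableEq ι] [CommRing R] (m : ℕ) :
    MvPolynomial ι R := ∑ l ∈ piAntidiag univ m, mo R l

theorem cf_hh (β : ι → ℕ) (m : ℕ) : cf β (hh ι R m) = if ∑ j, β j = m then 1 else 0 := by
  simp [hh, cf_mo]

theorem rename_hh {κ : Type*} [Fintype κ] [DecidableEq κ] (e : ι ≃ κ) (m : ℕ) :
    rename e (hh ι R m) = hh κ R m :=
  ext_cf fun β => by
    rw [cf_rename, cf_hh, cf_hh]
    simp only [Function.comp_apply, Equiv.sum_comp e β]

theorem map_hh {S : Type*} [CommRing S] (f : R →+* S) (m : ℕ) :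
    MvPolynomial.map f (hh ι R m) = hh ι S m :=
  ext_cf fun β => by rw [cf_map, cf_hh, cf_hh]; split_ifs <;> simp

theorem hS_eq_hh (n m : ℕ) : H57.hS n m = hh (Fin n) ℤ m :=
  ext_cf fun β => by
    rw [cf_hh, H57.hS_eq_sum, map_sum]
    simp only [cf_apply, coeff_monomial, sum_ite_eq', mem_finsuppAntidiag, subset_univ, and_true,
      fs_apply]
    rfl

/-- `δ` enumerates `ι` by `0, 1, ..., card ι - 1`. -/
def Stair1 (δ : ι → ℕ) : Prop := Function.Injective δ ∧ ∀ j, δ j < Fintype.card ι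

theorem Stair1.exists_equiv {δ : ι → ℕ} (h : Stair1 δ) :
    ∃ e : ι ≃ Fin (Fintype.card ι), δ = (fun j => j.val) ∘ e :=
  ⟨Equiv.ofBijective (fun j => ⟨δ j, h.2 j⟩) ((Fintype.bijective_iff_injective_and_card _).2
    ⟨fun _ _ e => h.1 (congrArg Fin.val e), by simp⟩), rfl⟩

theorem stair1_val (n : ℕ) : Stair1 (fun j : Fin n => j.val) :=
  ⟨Fin.val_injective, fun j => by simp⟩

theorem exists_stair1 (ι : Type*) [Fintype ι] : ∃ δ : ι → ℕ, Stair1 δ :=
  ⟨fun j => (Fintype.equivFin ι j).val, Fin.val_injective.comp (Fintype.equivFin ι).injective,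
    fun j => (Fintype.equivFin ι j).2⟩

/-- The Jacobi-Trudi determinant. -/
noncomputable def jt (R : Type*) [CommRing R] (δ β : ι → ℕ) : MvPolynomial ι R :=
  (Matrix.of fun v j => if δ v ≤ β j then hh ι R (β j - δ v) else 0).det

theorem jt_eq_sum (δ β : ι → ℕ) : jt R δ β = ∑ σ : Equiv.Perm ι,
    if ∀ j, δ (σ j) ≤ β j then ((Equiv.Perm.sign σ : ℤ) : R) • ∏ j, hh ι R (β j - δ (σ j)) else 0 := by
  rw [jt, Matrix.det_apply']
  refine sum_congr rfl fun σ _ => ?_
  simp only [Matrix.of_apply]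
  split_ifs with h
  · rw [smul_eq_C_mul, map_intCast]
    congr 1
    exact prod_congr rfl fun i _ => if_pos (h i)
  · obtain ⟨i, hi⟩ := not_forall.1 h
    rw [prod_eq_zero (mem_univ i) (if_neg hi), mul_zero]

/-- **Jacobi-Trudi.** -/
theorem alt_eq_mul_jt {δ : ι → ℕ} (hδ : Stair1 δ) (β : ι → ℕ) : alt R β = alt R δ * jt R δ β := by
  have key : alt ℤ β = alt ℤ δ * jt ℤ δ β := by
    obtain ⟨e, rfl⟩ := hδ.exists_equiv
    obtain ⟨l, rfl⟩ : ∃ l : Fin (Fintype.card ι) → ℕ, β = l ∘ e := ⟨β ∘ e.symm, by ext; simp⟩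
    apply rename_injective e e.injective
    rw [map_mul, rename_alt, rename_alt, alt_eq_det, alt_eq_det]
    refine (H57.det_altMat l).trans ?_
    congr 1
    rw [jt, AlgHom.map_det, ← Matrix.det_submatrix_equiv_self e]
    congr 1
    ext1 i j
    simp only [H57.jtMat, Matrix.submatrix_apply, Matrix.of_apply, AlgHom.mapMatrix_apply,
      Matrix.map_apply, Function.comp_apply]
    split_ifs
    · rw [rename_hh, hS_eq_hh]
    · simp
  have h := congrArg (MvPolynomial.map (Int.castRingHom R)) key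
  rw [map_mul, map_altr, map_altr] at h
  refine h.trans ?_
  rw [jt, jt, RingHom.map_det]
  congr 2
  ext1 i j
  simp only [RingHom.mapMatrix_apply, Matrix.map_apply, Matrix.of_apply]
  split_ifs
  · rw [map_hh]
  · simp

end H40.Sn
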