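import Cfsg.Agent.H40.SnRun
import Cfsg.Prelude.Def_BlockRank

/-!
# Coloured partitions and the rank of the `p`-regular parts.
-/

set_option autoImplicit false
set_option linter.unusedSectionVars false

namespace H40.Sn

open Finset MvPolynomial Equiv Cfsg H28

variable {ι : Type*} [Fintype ι] [DecidableEq ι]
variable {Ω : Type*} [Fintype Ω] [DecidableEq Ω]
variable {K : Type*} [DecidableEq K]

/-- Coloured partitions of `w` with colours in `C`. -/
def CP (C : Finset K) (w : ℕ) : Set (Multiset (K × ℕ)) :=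
  {s | (∀ x ∈ s, x.1 ∈ C ∧ 0 < x.2) ∧ (s.map Prod.snd).sum = w}

/-- Coloured partitions without parts equal to one. -/
def CB (C : Finset K) (w : ℕ) : Set (Multiset (K × ℕ)) := {s | s ∈ CP C w ∧ ∀ x ∈ s, 2 ≤ x.2}

theorem CP_zero (C : Finset K) : CP C 0 ⊆ {0} := by
  rintro s ⟨h1, h2⟩
  refine Multiset.eq_zero_of_forall_notMem fun x hx => (h1 x hx).2.ne' ?_
  exact Multiset.sum_eq_zero_iff.1 h2 _ (Multiset.mem_map_of_mem _ hx)

theorem CP_cons {C : Finset K} {w : ℕ} {x : K × ℕ} {t : Multiset (K × ℕ)} (h : x ::ₘ t ∈ CP C w) :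
    x.1 ∈ C ∧ 0 < x.2 ∧ x.2 ≤ w ∧ t ∈ CP C (w - x.2) := by
  have h1 := h.1 x (Multiset.mem_cons_self _ _)
  have h2 := h.2
  simp only [Multiset.map_cons, Multiset.sum_cons] at h2
  exact ⟨h1.1, h1.2, by omega, fun y hy => h.1 y (Multiset.mem_cons_of_mem hy), by omega⟩

theorem CP_succ (C : Finset K) (w : ℕ) : CP C (w + 1) ⊆
    (fun x : K × Multiset (K × ℕ) => (x.1, 1) ::ₘ x.2) '' ((C : Set K) ×ˢ CP C w) ∪ CB C (w + 1) := by
  intro s hs
  by_cases h : ∀ x ∈ s, 2 ≤ x.2
  · exact Or.inr ⟨hs, h⟩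
  · push Not at h
    obtain ⟨⟨c, k⟩, hx, h⟩ := h
    obtain ⟨t, rfl⟩ := Multiset.exists_cons_of_mem hx
    obtain ⟨h1, h2, -, h3⟩ := CP_cons hs
    obtain rfl : k = 1 := by simp only at h h2; omega
    exact Or.inl ⟨(c, t), ⟨h1, h3⟩, rfl⟩

theorem exists_dec (C : Finset K) (w : ℕ) : ∃ f : CB C (w + 1) → Multiset (K × ℕ),
    (∀ s, f s ∈ CP C w) ∧ Function.Injective f := by
  have h : ∀ s : CB C (w + 1), ∃ (x : K × ℕ) (t : Multiset (K × ℕ)), s.1 = x ::ₘ t ∧
      ∀ y ∈ s.1, x.2 ≤ y.2 := fun s => by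
    obtain ⟨x, hx, h⟩ := exists_min_image s.1.toFinset Prod.snd (Multiset.toFinset_nonempty.2
      fun hs => by simpa [hs] using s.2.1.2)
    obtain ⟨t, ht⟩ := Multiset.exists_cons_of_mem (Multiset.mem_toFinset.1 hx)
    exact ⟨x, t, ht, fun y hy => h y (Multiset.mem_toFinset.2 hy)⟩
  choose x t h1 h2 using h
  have h3 : ∀ s, 2 ≤ (x s).2 := fun s => s.2.2 _ (h1 s ▸ Multiset.mem_cons_self _ _)
  have h4 : ∀ s, ∀ y ∈ t s, (x s).2 ≤ y.2 := fun s y hy =>
    h2 s y (h1 s ▸ Multiset.mem_cons_of_mem hy)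
  refine ⟨fun s => ((x s).1, (x s).2 - 1) ::ₘ t s, fun s => ?_, fun s s' e => ?_⟩
  · obtain ⟨a, -, b, c⟩ := CP_cons (h1 s ▸ s.2.1)
    have := h3 s
    refine ⟨fun y hy => ?_, ?_⟩
    · rcases Multiset.mem_cons.1 hy with rfl | hy
      · exact ⟨a, by simp only; omega⟩
      · exact c.1 y hy
    · simp only [Multiset.map_cons, Multiset.sum_cons, c.2]; omega
  · have a := h3 s
    have b := h3 s'
    rcases Multiset.cons_eq_cons.1 e with ⟨e1, e2⟩ | ⟨-, u, e1, e2⟩
    · refine Subtype.ext ?_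
      rw [h1 s, h1 s', e2]
      congr 1
      simp only [Prod.mk.injEq] at e1
      exact Prod.ext e1.1 (by omega)
    · have c := h4 s _ (e1 ▸ Multiset.mem_cons_self _ _)
      have d := h4 s' _ (e2 ▸ Multiset.mem_cons_self _ _)
      simp only at c d
      omega

theorem finite_CP (C : Finset K) (w : ℕ) : (CP C w).Finite := by
  induction w with
  | zero => exact (Set.finite_singleton _).subset (CP_zero C)
  | succ w ih =>
    obtain ⟨f, h1, h2⟩ := exists_dec C w
    refine (((C.finite_toSet.prod ih).image _).union ?_).subset (CP_succ C w)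
    have := ih.to_subtype
    exact Finite.of_injective (fun s => (⟨f s, h1 s⟩ : CP C w)) fun _ _ e =>
      h2 (congrArg Subtype.val e)

theorem ncard_CP_succ (C : Finset K) (w : ℕ) :
    (CP C (w + 1)).ncard ≤ #C * (CP C w).ncard + (CB C (w + 1)).ncard := by
  have h := C.finite_toSet.prod (finite_CP C w)
  refine (Set.ncard_le_ncard (CP_succ C w) ((h.image _).union
    ((finite_CP C _).subset fun _ h => h.1))).trans ((Set.ncard_union_le _ _).trans ?_)
  gcongr
  refine (Set.ncard_image_le h).trans ?_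
  rw [Set.ncard_prod, Set.ncard_coe_finset]

theorem ncard_CB_le (C : Finset K) (w : ℕ) : (CB C (w + 1)).ncard ≤ (CP C w).ncard := by
  obtain ⟨f, h1, h2⟩ := exists_dec C w
  have := (finite_CP C w).to_subtype
  exact Nat.card_le_card_of_injective (fun s => (⟨f s, h1 s⟩ : CP C w)) fun _ _ e =>
    h2 (congrArg Subtype.val e)

theorem ncard_CP_succ_le (C : Finset K) (w : ℕ) :
    (CP C (w + 1)).ncard ≤ (#C + 1) * (CP C w).ncard := by
  have := ncard_CP_succ C w
  have := ncard_CB_le C w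
  rw [add_mul]; omega

theorem CB_small (C : Finset K) {w : ℕ} (hw : w ≤ 3) (h0 : 0 < w) :
    CB C w ⊆ (fun c : K => ({(c, w)} : Multiset (K × ℕ))) '' ((C : Set K) ∩ {_c | 2 ≤ w}) := by
  intro s hs
  obtain ⟨x, hx⟩ := Multiset.exists_mem_of_ne_zero (s := s) fun h => by
    have := hs.1.2; simp [h] at this; omega
  obtain ⟨t, rfl⟩ := Multiset.exists_cons_of_mem hx
  obtain ⟨a, -, b, c⟩ := CP_cons hs.1
  have h2 := hs.2 x hx
  obtain rfl : t = 0 := Multiset.eq_zero_of_forall_notMem fun y hy => by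
    obtain ⟨u, rfl⟩ := Multiset.exists_cons_of_mem hy
    have := hs.2 y (Multiset.mem_cons_of_mem hy)
    have := (CP_cons c).2.2.1
    omega
  have h3 : x.2 = w := by simpa using hs.1.2
  exact ⟨x.1, ⟨a, h2.trans b⟩, by simp [← h3]⟩

theorem ncard_CB_small (C : Finset K) {w : ℕ} (hw : w ≤ 3) (h0 : 0 < w) : (CB C w).ncard ≤ #C := by
  have h := C.finite_toSet.inter_of_left {_c | 2 ≤ w}
  refine (Set.ncard_le_ncard (CB_small C hw h0) (h.image _)).trans
    ((Set.ncard_image_le h).trans ?_)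
  rw [← Set.ncard_coe_finset]
  exact Set.ncard_le_ncard Set.inter_subset_left C.finite_toSet

theorem ncard_CP_one (C : Finset K) : (CP C 1).ncard ≤ #C := by
  have h1 := ncard_CP_succ C 0
  have h2 : (CP C 0).ncard ≤ 1 := by
    simpa using Set.ncard_le_ncard (CP_zero C) (Set.finite_singleton _)
  have h3 : CB C (0 + 1) = ∅ := Set.eq_empty_of_subset_empty (by simpa using CB_small C (w := 1))
  rw [h3, Set.ncard_empty] at h1
  exact h1.trans (by simpa using Nat.mul_le_mul_left _ h2)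

theorem ncard_CP_lt (C : Finset K) {w : ℕ} (hw : 1 ≤ w) : (CP C w).ncard < (#C + 1) ^ w := by
  induction w, hw using Nat.le_induction with
  | base => simpa using Nat.lt_succ_of_le (ncard_CP_one C)
  | succ w _ ih =>
    rw [pow_succ']
    exact (ncard_CP_succ_le C w).trans_lt (Nat.mul_lt_mul_of_pos_left ih (Nat.succ_pos _))

theorem ncard_CP_two (C : Finset K) : 2 * (CP C 2).ncard ≤ #C * (#C + 3) := by
  have h1 : CP C 2 ⊆ (fun z : Sym2 K => z.toMultiset.map fun c => (c, 1)) '' (C.sym2 : Set (Sym2 K)) ∪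
      CB C 2 := by
    intro s hs
    rcases CP_succ C 1 hs with ⟨⟨c, t⟩, ⟨hc, ht⟩, rfl⟩ | h
    · rcases CP_succ C 0 ht with ⟨⟨d, u⟩, ⟨hd, hu⟩, rfl⟩ | h
      · obtain rfl : u = 0 := CP_zero C hu
        exact Or.inl ⟨s(c, d), by simpa using ⟨hc, hd⟩, by simp [Sym2.toMultiset]; rfl⟩
      · simpa using CB_small C (w := 1) (by omega) (by omega) h
    · exact Or.inr h
  have h2 := (Set.ncard_le_ncard h1 ((C.sym2.finite_toSet.image _).union
    ((finite_CP C _).subset fun _ h => h.1))).trans (Set.ncard_union_le _ _)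
  have h3 := Set.ncard_image_le (f := fun z : Sym2 K => z.toMultiset.map fun c => (c, 1))
    C.sym2.finite_toSet
  rw [Set.ncard_coe_finset, card_sym2, Nat.choose_two_right, Nat.add_sub_cancel] at h3
  have h4 := ncard_CB_small C (w := 2) (by omega) (by omega)
  have h5 := Nat.mul_div_le ((#C + 1) * #C) 2
  nlinarith

theorem two_mul_ncard_CP_lt (C : Finset K) {w : ℕ} (hw : 3 ≤ w) :
    2 * (CP C w).ncard < (#C + 1) ^ w := by
  induction w, hw using Nat.le_induction with
  | base =>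
    have h1 := ncard_CP_succ C 2
    have h2 := Nat.mul_le_mul_left #C (ncard_CP_two C)
    have h3 := ncard_CB_small C (w := 2 + 1) (by omega) (by omega)
    nlinarith
  | succ w _ ih =>
    rw [pow_succ']
    refine (Nat.mul_le_mul_left 2 (ncard_CP_succ_le C w)).trans_lt ?_
    rw [mul_left_comm]
    exact Nat.mul_lt_mul_of_pos_left ih (Nat.succ_pos _)

variable [Fintype K]

/-- Power sum in the variables of one colour. -/
noncomputable def pc (r : ι → K) (x : K × ℕ) : MvPolynomial ι ℂ :=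
  rename Subtype.val (psum {i // r i = x.1} ℂ x.2)

/-- Product of coloured power sums. -/
noncomputable def pcs (r : ι → K) (s : Multiset (K × ℕ)) : MvPolynomial ι ℂ := (s.map (pc r)).prod

theorem hh_mem {M : Subalgebra ℂ (MvPolynomial ι ℂ)} (h : ∀ k, 0 < k → psum ι ℂ k ∈ M) (m : ℕ) :
    hh ι ℂ m ∈ M := by
  have h1 : ∑ g : Perm (Fin m), pm ι ℂ g.partition.parts = (m.factorial : ℂ) • hh ι ℂ m := by
    rw [sum_pm_parts, Fintype.card_fin, Nat.cast_smul_eq_nsmul]
  rw [← inv_smul_smul₀ (Nat.cast_ne_zero.2 (Nat.factorial_ne_zero m) : (m.factorial : ℂ) ≠ 0)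
    (hh ι ℂ m), ← h1]
  refine M.smul_mem (sum_mem fun g _ => multiset_prod_mem _ fun x hx => ?_) _
  obtain ⟨k, hk, rfl⟩ := Multiset.mem_map.1 hx
  exact h k (g.partition.parts_pos hk)

theorem jt_mem {M : Subalgebra ℂ (MvPolynomial ι ℂ)} (h : ∀ k, 0 < k → psum ι ℂ k ∈ M)
    (δ β : ι → ℕ) : jt ℂ δ β ∈ M := by
  rw [jt_eq_sum]
  refine sum_mem fun σ _ => ?_
  split_ifs
  · exact M.smul_mem (prod_mem fun j _ => hh_mem h _) _
  · exact zero_mem _

theorem exists_altr_eq_mul {r : ι → K} {δ : ι → ℕ} (hδ : IsStair r δ)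
    {M : Subalgebra ℂ (MvPolynomial ι ℂ)} (h : ∀ c k, 0 < k → pc r (c, k) ∈ M) (γ : ι → ℕ) :
    ∃ J ∈ M, altr ℂ r γ = altr ℂ r δ * J := by
  refine ⟨∏ c, rename Subtype.val (jt ℂ (res r δ c) (res r γ c)), prod_mem fun c _ =>
    jt_mem (ι := {i // r i = c}) (M := M.comap (rename Subtype.val)) (h c) _ _, ?_⟩
  rw [altr_eq_prod, altr_eq_prod, ← prod_mul_distrib]
  exact prod_congr rfl fun c _ => by rw [alt_eq_mul_jt (hδ c), map_mul]

theorem altr_mem {r : ι → K} {δ : ι → ℕ} (hδ : IsStair r δ) (U : Submodule ℂ (MvPolynomial ι ℂ))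
    (C : Finset K) (h1 : ∀ s : Multiset (K × ℕ), (∀ x ∈ s, x.1 ∈ C ∧ 0 < x.2) →
      altr ℂ r δ * pcs r s ∈ U)
    (h2 : ∀ c ∉ C, (∀ c', c' ≠ c → c' ∈ C) ∧ ∀ F k, 0 < k → F * psum ι ℂ k ∈ U) (γ : ι → ℕ) :
    altr ℂ r γ ∈ U := by
  let W : MvPolynomial ι ℂ → Prop := fun F =>
    ∀ s : Multiset (K × ℕ), (∀ x ∈ s, x.1 ∈ C ∧ 0 < x.2) → altr ℂ r δ * pcs r s * F ∈ U
  let M : Subalgebra ℂ (MvPolynomial ι ℂ) :=
    { carrier := {G | ∀ F, W F → W (G * F)}
      mul_mem' := fun ha hb F hF => by rw [mul_assoc]; exact ha _ (hb F hF)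
      add_mem' := fun ha hb F hF s hs => by
        rw [add_mul, mul_add]; exact add_mem (ha F hF s hs) (hb F hF s hs)
      algebraMap_mem' := fun a F hF s hs => by
        rw [← Algebra.smul_def, mul_smul_comm]; exact U.smul_mem _ (hF s hs) }
  have h3 : ∀ c ∈ C, ∀ k, 0 < k → pc r (c, k) ∈ M := fun c hc k hk F hF s hs => by
    have := hF ((c, k) ::ₘ s) fun x hx => by
      rcases Multiset.mem_cons.1 hx with rfl | hx
      · exact ⟨hc, hk⟩
      · exact hs x hx
    rw [pcs, Multiset.map_cons, Multiset.prod_cons] at this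
    convert this using 1
    rw [pcs]; ring
  obtain ⟨J, hJ, e⟩ := exists_altr_eq_mul hδ (M := M) (fun c k hk => by
    by_cases hc : c ∈ C
    · exact h3 c hc k hk
    · have h4 : pc r (c, k) = psum ι ℂ k - ∑ c' ∈ univ.erase c, pc r (c', k) := by
        rw [psum_eq_sum r, ← add_sum_erase _ _ (mem_univ c)]
        exact (add_sub_cancel_right _ _).symm
      rw [h4]
      refine sub_mem (fun F _ s _ => ?_)
        (sum_mem fun c' hc' => h3 c' ((h2 c hc).1 c' (ne_of_mem_erase hc')) k hk)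
      rw [mul_comm _ F, ← mul_assoc]
      exact (h2 c hc).2 _ k hk) γ
  have := hJ 1 (fun s hs => by rw [mul_one]; exact h1 s hs) 0 (by simp)
  rw [e]
  simpa [pcs] using this

theorem hom_pcs (r : ι → K) (s : Multiset (K × ℕ)) : Hom (s.map Prod.snd).sum (pcs r s) := by
  induction s using Multiset.induction_on with
  | empty => exact hom_iff.2 (by simpa [pcs] using isHomogeneous_one ι ℂ)
  | cons x s ih =>
    rw [pcs, Multiset.map_cons, Multiset.map_cons, Multiset.prod_cons, Multiset.sum_cons]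
    exact Hom.mul (hom_iff.2 (hom_iff.1 (hom_psum x.2)).rename_isHomogeneous) ih

theorem finrank_span_image_le {V α : Type*} [AddCommGroup V] [Module ℂ V] {S : Set α}
    (hS : S.Finite) (f : α → V) : Module.finrank ℂ (Submodule.span ℂ (f '' S)) ≤ S.ncard := by
  have := (hS.image f).fintype
  refine (finrank_span_le_card _).trans ?_
  rw [← Set.ncard_eq_toFinset_card']
  exact Set.ncard_image_le hS

theorem sum_mul_cf_mul_psum (a : (ι → ℕ) → ℂ) {k : ℕ}
    (ha : ∀ γ : ι → ℕ, ∑ j, a (γ + Pi.single j k) = 0) (N : ℕ) (F : MvPolynomial ι ℂ) :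
    ∑ γ ∈ piAntidiag univ N, cf γ (F * psum ι ℂ k) * a γ = 0 := by
  induction F using MvPolynomial.induction_on' with
  | add F G hF hG => simp only [add_mul, map_add, sum_add_distrib, hF, hG, add_zero]
  | monomial m b =>
    have : monomial m b = b • mo ℂ m := by rw [mo, fs_coe, smul_monomial, smul_eq_mul, mul_one]
    simp only [this, smul_mul_assoc, map_smul, smul_eq_mul, mul_assoc, ← mul_sum, psum]
    refine mul_eq_zero_of_right _ ?_
    simp only [mul_sum, ← mo_single, ← mo_add, map_sum, cf_mo, sum_mul, ite_mul, one_mul, zero_mul]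
    rw [sum_comm]
    simp only [sum_ite_eq, mem_piAntidiag, mem_univ, implies_true, and_true, Pi.add_apply,
      sum_add_distrib, sum_pi_single', if_true]
    split_ifs
    · exact ha _
    · simp

/-- **The rank bound.** -/
theorem exists_rank_le {p : ℕ} (hp : p.Prime) {δ₀ : ι → ℕ} (hδ₀ : Stair1 δ₀)
    (hι : Fintype.card Ω ≤ Fintype.card ι) {r : ι → Fin p} {δ : ι → ℕ} (hδ : IsStair r δ) (w : ℕ)
    (c₀ : Fin p) : ∃ U : Submodule ℂ (Perm Ω → ℂ),
      Module.finrank ℂ U ≤ (CP (univ.erase c₀) w).ncard ∧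
      ∀ γ : ι → ℕ, ∑ j, γ j = w + ∑ j, δ j → pRegularPart p (chi Ω δ₀ (ab r γ)) ∈ U := by
  classical
  let u : (ι → ℕ) → Perm Ω → ℂ := fun γ => pRegularPart p (chi Ω δ₀ (ab r γ))
  let Λ : MvPolynomial ι ℂ →ₗ[ℂ] (Perm Ω → ℂ) :=
    ∑ γ ∈ piAntidiag univ (w + ∑ j, δ j), (cf γ).smulRight (u γ)
  have hΛ : ∀ F, Λ F = ∑ γ ∈ piAntidiag univ (w + ∑ j, δ j), cf γ F • u γ := fun F => by
    simp [Λ, LinearMap.sum_apply]
  refine ⟨_, finrank_span_image_le (finite_CP _ w) fun s => Λ (altr ℂ r δ * pcs r s),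
    fun γ hγ => ?_⟩
  set U := Submodule.span ℂ ((fun s => Λ (altr ℂ r δ * pcs r s)) '' CP (univ.erase c₀) w)
  have h1 : Λ (altr ℂ r γ) ∈ U := by
    refine altr_mem hδ (U.comap Λ) (univ.erase c₀) (fun s hs => ?_) (fun c hc => ⟨?_, ?_⟩) γ
    · by_cases h : (s.map Prod.snd).sum = w
      · exact Submodule.subset_span ⟨s, ⟨hs, h⟩, rfl⟩
      · rw [Submodule.mem_comap, hΛ, sum_eq_zero]
        · exact zero_mem _
        · intro γ' hγ'
          refine smul_eq_zero_of_left (of_not_not fun h0 => h ?_) _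
          have := ((hom_altr r δ).mul (hom_pcs r s)) γ' h0
          have h2 : ∑ j, γ' j = _ := (mem_piAntidiag.1 hγ').1
          omega
    · intro c' hc'
      obtain rfl : c = c₀ := by simpa using hc
      simpa using hc'
    · intro F k hk
      have : Λ (F * psum ι ℂ k) = 0 := by
        funext g
        rw [hΛ, Finset.sum_apply]
        refine sum_mul_cf_mul_psum (fun γ => u γ g) (fun γ' => ?_) _ F
        simp only [u, pRegularPart]
        split_ifs with hg
        · simp only [ab_add_single, chi_apply]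
          exact_mod_cast sum_Xv_add_single hδ₀ hι g (Nat.mul_pos hp.pos hk)
            (fun h => (isPRegular_iff hp g).1 hg _ h (dvd_mul_right _ _)) _
        · simp
      rw [Submodule.mem_comap, this]
      exact zero_mem _
  have h2 : Λ (altr ℂ r γ) = (#{σ : Perm ι | ∀ i, r (σ i) = r i} : ℂ) • u γ := by
    rw [altr_eq_sum, map_sum, Nat.cast_smul_eq_nsmul, ← sum_const, sum_filter]
    refine sum_congr rfl fun σ _ => ?_
    split_ifs with hσ
    · rw [map_smul, hΛ]
      simp only [cf_mo, ite_smul, one_smul, zero_smul, sum_ite_eq,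
        (comp_mem_piAntidiag σ).2 hγ, if_true]
      have : ab r (γ ∘ σ) = ab r γ ∘ σ := by rw [ab_comp, show r ∘ σ = r from funext hσ]
      funext g
      simp only [u, this, chi_comp, pRegularPart, Pi.smul_apply, smul_eq_mul]
      split_ifs
      · rw [← mul_assoc, sign_cast_mul_self, one_mul]
      · simp
    · simp
  rw [h2] at h1
  refine (U.smul_mem_iff (Nat.cast_ne_zero.2 (card_ne_zero.2 ⟨1, by simp⟩))).1 h1

end H40.Sn
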