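import Cfsg.Agent.H40.SnChar
import Cfsg.Agent.H28.Degree

/-!
# The abacus: cores, quotients and the Murnaghan-Nakayama rule on runners.
-/

set_option autoImplicit false
set_option linter.unusedSectionVars false

namespace H40.Sn

open Finset MvPolynomial Equiv Cfsg H28

variable {ι : Type*} [Fintype ι] [DecidableEq ι] {R : Type*} [CommRing R]
variable {Ω : Type*} [Fintype Ω] [DecidableEq Ω]
variable {K : Type*} [Fintype K] [DecidableEq K]

theorem Stair1.exists_le {δ β : ι → ℕ} (hδ : Stair1 δ) (hβ : Function.Injective β) :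
    ∃ σ : Perm ι, ∀ j, δ (σ j) ≤ β j := by
  by_contra h
  refine alt_ne_zero (R := ℤ) hβ ?_
  rw [alt_eq_mul_jt hδ, jt_eq_sum, sum_eq_zero, mul_zero]
  exact fun σ _ => if_neg fun h1 => h ⟨σ, h1⟩

/-- Restriction to a fibre. -/
def res (r : ι → K) (γ : ι → ℕ) (c : K) : {i // r i = c} → ℕ := fun i => γ i

/-- `δ` enumerates each fibre of `r` by `0, 1, ...`. -/
def IsStair (r : ι → K) (δ : ι → ℕ) : Prop := ∀ c, Stair1 (res r δ c)

theorem finj_iff {r : ι → K} {γ : ι → ℕ} : FInj r γ ↔ ∀ c, Function.Injective (res r γ c) :=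
  ⟨fun h _ i j e => Subtype.ext (h i j (i.2.trans j.2.symm) e),
    fun h i j e1 e2 => congrArg Subtype.val (h (r j) (a₁ := ⟨i, e1⟩) (a₂ := ⟨j, rfl⟩) e2)⟩

theorem IsStair.finj {r : ι → K} {δ : ι → ℕ} (h : IsStair r δ) : FInj r δ :=
  finj_iff.2 fun c => (h c).1

theorem exists_isStair (r : ι → K) : ∃ δ, IsStair r δ := by
  choose d hd using fun c => exists_stair1 {i // r i = c}
  refine ⟨fun j => d (r j) ⟨j, rfl⟩, fun c => ?_⟩
  have : res r (fun j => d (r j) ⟨j, rfl⟩) c = d c := by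
    funext ⟨i, hi⟩
    subst hi; rfl
  rw [this]; exact hd c

theorem sum_res (r : ι → K) (γ : ι → ℕ) : ∑ c, ∑ i, res r γ c i = ∑ j, γ j :=
  Fintype.sum_fiberwise r γ

theorem IsStair.exists_le {r : ι → K} {δ γ : ι → ℕ} (hδ : IsStair r δ) (hγ : FInj r γ) :
    ∃ σ : Perm ι, (∀ i, r (σ i) = r i) ∧ ∀ j, δ (σ j) ≤ γ j := by
  choose σ hσ using fun c => (hδ c).exists_le (finj_iff.1 hγ c)
  exact ⟨Equiv.ofFiberEquiv σ, Equiv.ofFiberEquiv_map σ, fun j => hσ (r j) ⟨j, rfl⟩⟩

theorem IsStair.sum_le {r : ι → K} {δ γ : ι → ℕ} (hδ : IsStair r δ) (hγ : FInj r γ) :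
    ∑ j, δ j ≤ ∑ j, γ j := by
  obtain ⟨σ, -, h⟩ := hδ.exists_le hγ
  rw [← Equiv.sum_comp σ δ]
  exact sum_le_sum fun j _ => h j

theorem IsStair.exists_eq {r : ι → K} {δ γ : ι → ℕ} (hδ : IsStair r δ) (hγ : FInj r γ)
    (h : ∑ j, γ j ≤ ∑ j, δ j) : ∃ σ : Perm ι, (∀ i, r (σ i) = r i) ∧ γ = δ ∘ σ := by
  obtain ⟨σ, h1, h2⟩ := hδ.exists_le hγ
  refine ⟨σ, h1, funext fun j => ?_⟩
  rw [← Equiv.sum_comp σ δ] at h
  exact ((sum_eq_sum_iff_of_le fun j _ => h2 j).1 (le_antisymm (sum_le_sum fun j _ => h2 j) h) j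
    (mem_univ _)).symm

theorem Stair1.sum_le {δ β : ι → ℕ} (hδ : Stair1 δ) (hβ : Function.Injective β) :
    ∑ j, δ j ≤ ∑ j, β j := by
  obtain ⟨σ, h⟩ := hδ.exists_le hβ
  rw [← Equiv.sum_comp σ δ]
  exact sum_le_sum fun j _ => h j

theorem altr_eq_prod (r : ι → K) (γ : ι → ℕ) :
    altr R r γ = ∏ c, rename Subtype.val (alt R (res r γ c)) := by
  let _ : LinearOrder K := LinearOrder.lift' (Fintype.equivFin K) (Fintype.equivFin K).injective
  rw [altr, Matrix.BlockTriangular.det_fintype (b := r)]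
  · refine prod_congr rfl fun c _ => ?_
    rw [alt_eq_det, AlgHom.map_det]
    congr 1
    ext1 i j
    simp [Matrix.toSquareBlock_def, i.2, j.2, res]
  · intro i j h
    exact if_neg h.ne'

theorem prod_rename_mo (r : ι → K) (γ : ι → ℕ) :
    ∏ c, rename Subtype.val (mo R (res r γ c)) = mo R γ := by
  simp only [mo_eq_prod, map_prod, map_pow, rename_X]
  exact Fintype.prod_fiberwise r fun i => (X i : MvPolynomial ι R) ^ γ i

theorem cf_prod_rename (r : ι → K) (γ : ι → ℕ) (F : ∀ c, MvPolynomial {i // r i = c} R) :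
    cf γ (∏ c, rename Subtype.val (F c)) = ∏ c, cf (res r γ c) (F c) := by
  classical
  let s : ∀ c, Finset ({i // r i = c} → ℕ) := fun c =>
    insert (res r γ c) (Finset.image (fun m : {i // r i = c} →₀ ℕ => (m : _ → ℕ)) (F c).support)
  have h1 : ∀ c, F c = ∑ β ∈ s c, cf β (F c) • mo R β := fun c =>
    eq_sum_mo _ _ fun β hβ => mem_insert_of_mem (mem_image.2 ⟨fs β, mem_support_iff.2 hβ, rfl⟩)
  rw [prod_congr rfl fun c _ => by rw [h1 c, map_sum], prod_univ_sum, map_sum,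
    sum_eq_single_of_mem (res r γ) (Fintype.mem_piFinset.2 fun c => mem_insert_self _ _)]
  · simp only [map_smul, prod_smul, prod_rename_mo, cf_mo, if_true, smul_eq_mul, mul_one]
  · intro b _ hb
    have : b = res r (fun j => b (r j) ⟨j, rfl⟩) := by
      funext c ⟨i, hi⟩
      subst hi; rfl
    rw [this] at hb ⊢
    simp only [map_smul, prod_smul, prod_rename_mo, cf_mo]
    rw [if_neg (fun e => hb (by rw [e])), smul_zero]

/-- The character value of the quotient. -/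
noncomputable def phi (r : ι → K) (δ γ : ι → ℕ) (ρ : Multiset ℕ) : ℤ :=
  cf γ (altr ℤ r δ * pm ι ℤ ρ)

theorem psum_eq_sum (r : ι → K) (k : ℕ) :
    psum ι R k = ∑ c, rename Subtype.val (psum {i // r i = c} R k) := by
  simp only [psum, map_sum, map_pow, rename_X]
  exact (Fintype.sum_fiberwise r fun i => (X i : MvPolynomial ι R) ^ k).symm

theorem phi_one {r : ι → K} {δ γ : ι → ℕ} (v : K → ℕ)
    (hv : ∀ c, ∑ i, res r γ c i = v c + ∑ i, res r δ c i) :
    phi r δ γ (Multiset.replicate (∑ c, v c) 1) = Nat.multinomial univ v *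
      ∏ c, Xv (res r δ c) (res r γ c) (Multiset.replicate (v c) 1) := by
  rw [phi, pm_replicate, psum_eq_sum r, sum_pow_eq_sum_piAntidiag, mul_sum, map_sum, altr_eq_prod]
  have h1 : ∀ u : K → ℕ, cf γ ((∏ c, rename Subtype.val (alt ℤ (res r δ c))) *
      ((Nat.multinomial univ u : MvPolynomial ι ℤ) *
        ∏ c, rename Subtype.val (psum {i // r i = c} ℤ 1) ^ u c)) = Nat.multinomial univ u *
      ∏ c, Xv (res r δ c) (res r γ c) (Multiset.replicate (u c) 1) := by
    intro u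
    rw [mul_left_comm, ← nsmul_eq_mul, map_nsmul, nsmul_eq_mul, ← prod_mul_distrib]
    simp only [← map_pow, ← map_mul, ← pm_replicate]
    rw [cf_prod_rename]; rfl
  simp only [h1]
  refine sum_eq_single_of_mem v (by simp) fun u _ hu => ?_
  obtain ⟨c, hc⟩ := Function.ne_iff.1 hu
  rw [prod_eq_zero (mem_univ c), mul_zero]
  refine Xv_eq_zero_of_ne ?_
  rw [hv, Multiset.sum_replicate, smul_eq_mul, mul_one]
  omega

theorem parts_one : (1 : Perm Ω).partition.parts = Multiset.replicate (Fintype.card Ω) 1 := by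
  simp [Perm.parts_partition]

theorem charDegree_of_chi {δ β : ι → ℕ} {χ : Perm Ω → ℂ} (hχ : IsCharacter (Perm Ω) χ)
    (h : χ = chi Ω δ β ∨ χ = -chi Ω δ β) :
    charDegree χ = (Xv δ β (Multiset.replicate (Fintype.card Ω) 1)).natAbs := by
  obtain ⟨n, hn⟩ := hχ.exists_degree
  rw [hχ.charDegree_eq_iff.2 hn]
  rcases h with rfl | rfl
  · rw [chi_apply, parts_one] at hn
    have : Xv δ β (Multiset.replicate (Fintype.card Ω) 1) = n := by exact_mod_cast hn
    rw [this, Int.natAbs_natCast]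
  · rw [Pi.neg_apply, chi_apply, parts_one] at hn
    have : -Xv δ β (Multiset.replicate (Fintype.card Ω) 1) = n := by exact_mod_cast hn
    rw [← Int.natAbs_neg, this, Int.natAbs_natCast]

theorem exists_irr {δ β : ι → ℕ} (hδ : Stair1 δ) (hβ : ∑ j, β j = Fintype.card Ω + ∑ j, δ j)
    (hi : Function.Injective β) :
    ∃ χ : IrrCharacter (Perm Ω), χ.1 = chi Ω δ β ∨ χ.1 = -chi Ω δ β := by
  rcases irr_or_neg hδ hβ hi with h | h
  · exact ⟨⟨_, h⟩, Or.inl rfl⟩
  · exact ⟨⟨_, h⟩, Or.inr rfl⟩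

theorem Xv_one_dvd {δ β : ι → ℕ} (hδ : Stair1 δ) {m : ℕ} (hβ : ∑ j, β j = m + ∑ j, δ j)
    (hi : Function.Injective β) : (Xv δ β (Multiset.replicate m 1)).natAbs ∣ m.factorial := by
  obtain ⟨χ, h⟩ := exists_irr (Ω := Fin m) hδ (by rwa [Fintype.card_fin]) hi
  have h1 := χ.2.charDegree_dvd_card
  rwa [charDegree_of_chi χ.2.isCharacter h, Nat.card_perm, Nat.card_eq_fintype_card,
    Fintype.card_fin] at h1

theorem IsStair.exists_wt {r : ι → K} {δ γ : ι → ℕ} (hδ : IsStair r δ) (hγ : FInj r γ) :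
    ∃ v : K → ℕ, (∀ c, ∑ i, res r γ c i = v c + ∑ i, res r δ c i) ∧
      ∑ j, γ j = ∑ c, v c + ∑ j, δ j := by
  choose v hv using fun c => Nat.exists_eq_add_of_le' ((hδ c).sum_le (finj_iff.1 hγ c))
  refine ⟨v, hv, ?_⟩
  rw [← sum_res r γ, ← sum_res r δ, ← sum_add_distrib]
  exact sum_congr rfl fun c _ => hv c

theorem phi_one_dvd {r : ι → K} {δ γ : ι → ℕ} (hδ : IsStair r δ) (hγ : FInj r γ) {w : ℕ}
    (hw : ∑ j, γ j = w + ∑ j, δ j) :
    (phi r δ γ (Multiset.replicate w 1)).natAbs ∣ w.factorial := by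
  obtain ⟨v, hv, h1⟩ := hδ.exists_wt hγ
  obtain rfl : w = ∑ c, v c := by omega
  rw [phi_one v hv, ← Nat.multinomial_spec, mul_comm, Int.natAbs_mul, Int.natAbs_natCast,
    ← Int.natAbsHom_apply, map_prod]
  exact mul_dvd_mul_right (prod_dvd_prod_of_dvd _ _ fun c _ =>
    Xv_one_dvd (hδ c) (hv c) (finj_iff.1 hγ c)) _

theorem phi_one_ne_zero {r : ι → K} {δ γ : ι → ℕ} (hδ : IsStair r δ) (hγ : FInj r γ) {w : ℕ}
    (hw : ∑ j, γ j = w + ∑ j, δ j) : phi r δ γ (Multiset.replicate w 1) ≠ 0 := fun h => by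
  have := phi_one_dvd hδ hγ hw
  rw [h, Int.natAbs_zero, zero_dvd_iff] at this
  exact Nat.factorial_ne_zero _ this

theorem Xv_one_ne_zero {δ β : ι → ℕ} (hδ : Stair1 δ) {m : ℕ} (hβ : ∑ j, β j = m + ∑ j, δ j)
    (hi : Function.Injective β) : Xv δ β (Multiset.replicate m 1) ≠ 0 := fun h => by
  have := Xv_one_dvd hδ hβ hi
  rw [h, Int.natAbs_zero, zero_dvd_iff] at this
  exact Nat.factorial_ne_zero _ this

section abacus

variable {p : ℕ}

/-- Beta numbers from runners and positions. -/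
def ab (r : ι → Fin p) (γ : ι → ℕ) : ι → ℕ := fun j => p * γ j + r j

/-- The runner of each bead. -/
def run (p : ℕ) [NeZero p] (β : ι → ℕ) : ι → Fin p := fun j => Fin.ofNat p (β j)

theorem ab_run [NeZero p] (β : ι → ℕ) : ab (run p β) (fun j => β j / p) = β :=
  funext fun j => Nat.div_add_mod (β j) p

theorem run_ab [NeZero p] (r : ι → Fin p) (γ : ι → ℕ) : run p (ab r γ) = r :=
  funext fun j => Fin.ext (by simp [run, ab, Nat.mod_eq_of_lt (r j).2])

theorem ab_div (r : ι → Fin p) (γ : ι → ℕ) (j : ι) : ab r γ j / p = γ j := by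
  have := (r j).2
  rw [ab, Nat.mul_add_div (by omega), Nat.div_eq_of_lt this, add_zero]

theorem ab_injective_iff {r : ι → Fin p} {γ : ι → ℕ} : Function.Injective (ab r γ) ↔ FInj r γ := by
  constructor
  · intro h i j e1 e2
    exact h (by simp only [ab, e1, e2])
  · intro h i j e
    have : NeZero p := ⟨(r i).pos.ne'⟩
    refine h i j ?_ ?_
    · rw [← congrFun (run_ab r γ) i, ← congrFun (run_ab r γ) j, run, run, e]
    · rw [← ab_div r γ i, ← ab_div r γ j, e]

theorem finj_ab {r : ι → Fin p} {γ : ι → ℕ} : FInj r (ab r γ) ↔ FInj r γ :=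
  ⟨fun h i j e1 e2 => h i j e1 (by simp only [ab, e1, e2]),
    fun h _ _ _ e => ab_injective_iff.2 h e⟩

theorem ab_comp (r : ι → Fin p) (γ : ι → ℕ) (σ : Perm ι) :
    ab r γ ∘ σ = ab (r ∘ σ) (γ ∘ σ) := rfl

theorem sum_ab (r : ι → Fin p) (γ : ι → ℕ) :
    ∑ j, ab r γ j = p * ∑ j, γ j + ∑ j, (r j : ℕ) := by
  simp only [ab, sum_add_distrib, mul_sum]

theorem ab_add_single (r : ι → Fin p) (γ : ι → ℕ) (j : ι) (k : ℕ) :
    ab r (γ + Pi.single j k) = ab r γ + Pi.single j (p * k) := by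
  funext i
  by_cases h : i = j
  · subst h; simp [ab]; ring
  · simp [ab, Pi.single_eq_of_ne h]

theorem mul_le_ab {r : ι → Fin p} {γ : ι → ℕ} {j : ι} {k : ℕ} : p * k ≤ ab r γ j ↔ k ≤ γ j := by
  rw [← ab_div r γ j, Nat.le_div_iff_mul_le (r j).pos, mul_comm]

theorem ab_sub_single (r : ι → Fin p) {γ : ι → ℕ} {j : ι} {k : ℕ} (h : k ≤ γ j) :
    ab r γ - Pi.single j (p * k) = ab r (γ - Pi.single j k) := by
  funext i
  by_cases hi : i = j
  · subst hi
    obtain ⟨m, hm⟩ := Nat.exists_eq_add_of_le h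
    simp [ab, hm, mul_add]; omega
  · simp [ab, Pi.single_eq_of_ne hi]

/-- **Murnaghan-Nakayama on the abacus.** -/
theorem cf_ab_mul_pm {r : ι → Fin p} {δ : ι → ℕ} (hδ : IsStair r δ) {F : MvPolynomial ι ℤ}
    (hF : Asr r F) (ρ : Multiset ℕ) (γ : ι → ℕ) (h : ∑ j, γ j ≤ ρ.sum + ∑ j, δ j) :
    cf (ab r γ) (F * pm ι ℤ (ρ.map (p * ·))) = cf (ab r δ) F * phi r δ γ ρ := by
  induction ρ using Multiset.induction_on generalizing γ with
  | empty =>
    simp only [Multiset.map_zero, pm_zero, mul_one, phi]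
    by_cases hγ : FInj r γ
    · obtain ⟨σ, h1, rfl⟩ := hδ.exists_eq hγ (by simpa using h)
      have : ab r (δ ∘ σ) = ab r δ ∘ σ := by rw [ab_comp, show r ∘ σ = r from funext h1]
      rw [this, hF.cf_comp σ h1, cf_altr_comp hδ.finj σ h1, mul_comm]
    · rw [hF.cf_eq_zero (by rwa [finj_ab]), (asr_altr r δ).cf_eq_zero hγ, mul_zero]
  | cons k ρ ih =>
    rw [Multiset.map_cons, phi, pm_cons, pm_cons, ← mul_assoc, ← mul_assoc, cf_mul_psum,
      cf_mul_psum, mul_sum]
    refine sum_congr rfl fun j _ => ?_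
    simp only [mul_le_ab]
    split_ifs with hk
    · rw [ab_sub_single r hk, ih, phi]
      have := sum_sub_single hk
      rw [Multiset.sum_cons] at h
      omega
    · simp

theorem Xv_ab {r : ι → Fin p} {δ : ι → ℕ} (hδ : IsStair r δ) (δ₀ : ι → ℕ) (σ ρ : Multiset ℕ)
    (γ : ι → ℕ) (h : ∑ j, γ j ≤ ρ.sum + ∑ j, δ j) :
    Xv δ₀ (ab r γ) (σ + ρ.map (p * ·)) = Xv δ₀ (ab r δ) σ * phi r δ γ ρ := by
  rw [Xv, pm_add, ← mul_assoc, cf_ab_mul_pm hδ (fun τ _ => asr_alt_mul_pm δ₀ σ τ fun _ => rfl) ρ γ h]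
  rfl

theorem phi_eq_zero_of_ne {r : ι → K} {δ γ : ι → ℕ} {ρ : Multiset ℕ}
    (h : ∑ j, γ j ≠ ρ.sum + ∑ j, δ j) : phi r δ γ ρ = 0 := by
  by_contra h0
  exact h ((((hom_altr r δ).mul (hom_pm ρ)) γ h0).trans (add_comm _ _))

theorem run_add_single [NeZero p] (β : ι → ℕ) (j : ι) {k : ℕ} (hk : p ∣ k) :
    run p (β + Pi.single j k) = run p β := by
  obtain ⟨k, rfl⟩ := hk
  conv_lhs => rw [← ab_run (p := p) β, ← ab_add_single, run_ab]

theorem sum_run_eq_zero [NeZero p] {δ : ι → ℕ} (hδ : Stair1 δ)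
    (hι : Fintype.card Ω ≤ Fintype.card ι) (r : ι → Fin p) (N : ℕ) {g h : Perm Ω}
    (hg : ∀ k ∈ g.partition.parts, ¬ p ∣ k) (hh : ¬ ∀ k ∈ h.partition.parts, ¬ p ∣ k) :
    ∑ β ∈ (piAntidiag univ N).filter (fun β => run p β = r),
      Xv δ β g.partition.parts * Xv δ β h.partition.parts = 0 := by
  push Not at hh
  obtain ⟨k, hk, hpk⟩ := hh
  obtain ⟨σ, hσ⟩ := Multiset.exists_cons_of_mem hk
  have hk0 := h.partition.parts_pos hk
  simp only [hσ, Xv_cons, mul_sum, mul_ite, mul_zero]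
  rw [sum_comm]
  by_cases hN : k ≤ N
  · have h1 : ∀ j, ∑ β ∈ (piAntidiag univ N).filter (fun β => run p β = r),
        (if k ≤ β j then Xv δ β g.partition.parts * Xv δ (β - Pi.single j k) σ else 0) =
        ∑ β ∈ (piAntidiag univ (N - k)).filter (fun β => run p β = r),
          Xv δ (β + Pi.single j k) g.partition.parts * Xv δ β σ := by
      intro j
      rw [← sum_filter]
      symm
      refine sum_bij' (fun β _ => β + Pi.single j k) (fun β _ => β - Pi.single j k) ?_ ?_ ?_ ?_ ?_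
      · intro β hβ
        simp only [mem_filter, mem_piAntidiag, mem_univ, implies_true, and_true] at hβ ⊢
        refine ⟨⟨?_, by rw [run_add_single _ _ hpk, hβ.2]⟩, by simp⟩
        simp only [Pi.add_apply, sum_add_distrib, hβ.1, sum_pi_single', mem_univ, if_true]
        omega
      · intro β hβ
        simp only [mem_filter, mem_piAntidiag, mem_univ, implies_true, and_true] at hβ ⊢
        have h2 := sum_sub_single hβ.2
        refine ⟨Nat.eq_sub_of_add_eq (h2.trans hβ.1.1), ?_⟩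
        rw [← run_add_single _ j hpk, tsub_add_cancel_of_le, hβ.1.2]
        intro i
        by_cases hi : i = j
        · subst hi; simpa using hβ.2
        · simp [Pi.single_eq_of_ne hi]
      · intro β _; simp
      · intro β hβ
        refine tsub_add_cancel_of_le fun i => ?_
        by_cases hi : i = j
        · subst hi; simpa using (mem_filter.1 hβ).2
        · simp [Pi.single_eq_of_ne hi]
      · intro β _; simp
    simp only [h1]
    rw [sum_comm]
    refine sum_eq_zero fun β _ => ?_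
    rw [← sum_mul, sum_Xv_add_single hδ hι g hk0 (fun h2 => hg k h2 hpk), zero_mul]
  · refine sum_eq_zero fun j _ => sum_eq_zero fun β hβ => if_neg fun h2 => hN (h2.trans ?_)
    have := (mem_piAntidiag.1 (mem_filter.1 hβ).1).1
    rw [← this]
    exact single_le_sum (f := β) (fun _ _ => Nat.zero_le _) (mem_univ j)

/-- **Characters with different cores are orthogonal on `p`-regular elements.** -/
theorem sum_reg_eq_zero [NeZero p] {δ : ι → ℕ} (hδ : Stair1 δ)
    (hι : Fintype.card Ω ≤ Fintype.card ι) {β γ : ι → ℕ}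
    (hβ : ∑ j, β j = Fintype.card Ω + ∑ j, δ j) (hγ : ∑ j, γ j = Fintype.card Ω + ∑ j, δ j)
    (hne : cont (run p β) ≠ cont (run p γ)) :
    ∑ g ∈ univ.filter (fun g : Perm Ω => ∀ k ∈ g.partition.parts, ¬ p ∣ k),
      Xv δ β g.partition.parts * Xv δ γ g.partition.parts = 0 := by
  set T := (piAntidiag univ (Fintype.card Ω + ∑ j, δ j)).filter (fun β => run p β = run p γ) with hT
  set P : Perm Ω → Prop := fun g => ∀ k ∈ g.partition.parts, ¬ p ∣ k with hP
  let a : (ι → ℕ) → ℤ := fun β' =>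
    ∑ g ∈ univ.filter P, Xv δ β g.partition.parts * Xv δ β' g.partition.parts
  have h1 : ∀ β' ∈ T, a β' = -∑ g ∈ univ.filter (fun g => ¬ P g),
      Xv δ β g.partition.parts * Xv δ β' g.partition.parts := by
    intro β' hβ'
    rw [eq_neg_iff_add_eq_zero, sum_filter_add_sum_filter_not]
    have h := congrArg (cf β') (sum_Xv_smul (R := ℤ) hδ hβ)
    rw [map_nsmul, map_sum, alt, cf_altr_eq_zero, smul_zero] at h
    · exact h
    · rintro τ - rfl
      exact hne ((cont_comp _ τ).symm.trans (congrArg cont (mem_filter.1 hβ').2))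
  have h2 : ∀ h, P h → ∑ β' ∈ T, a β' * Xv δ β' h.partition.parts = 0 := by
    intro h hh
    rw [sum_congr rfl fun β' hβ' => by rw [h1 β' hβ']]
    simp only [neg_mul, sum_neg_distrib, sum_mul, neg_eq_zero, mul_assoc]
    rw [sum_comm]
    refine sum_eq_zero fun g hg => ?_
    rw [← mul_sum]
    simp only [mul_comm (Xv δ _ g.partition.parts)]
    rw [sum_run_eq_zero hδ hι _ _ hh (mem_filter.1 hg).2, zero_mul]
  have h3 : ∑ β' ∈ T, a β' * a β' = 0 := by
    conv_lhs => enter [2, β', 2]; simp only [a]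
    simp only [mul_sum, mul_left_comm (a _)]
    rw [sum_comm]
    refine sum_eq_zero fun h hh => ?_
    rw [← mul_sum, h2 h (mem_filter.1 hh).2, mul_zero]
  exact mul_self_eq_zero.1 ((sum_eq_zero_iff_of_nonneg fun _ _ => mul_self_nonneg _).1 h3 γ
    (by simp [hT, hγ]))

end abacus

theorem isPRegular_iff {p : ℕ} (hp : p.Prime) (g : Perm Ω) :
    ¬ p ∣ orderOf g ↔ ∀ k ∈ g.partition.parts, ¬ p ∣ k := by
  rw [← Perm.lcm_cycleType, Perm.parts_partition]
  have h1 : ∀ m : Multiset ℕ, ¬ p ∣ m.lcm ↔ ∀ k ∈ m, ¬ p ∣ k := fun m => by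
    induction m using Multiset.induction_on with
    | empty => simpa using hp.ne_one
    | cons a m ih =>
      rw [Multiset.lcm_cons, lcm_eq_nat_lcm, hp.dvd_lcm, not_or, ih]; simp
  rw [h1]
  constructor
  · intro h k hk
    rcases Multiset.mem_add.1 hk with hk | hk
    · exact h k hk
    · rw [Multiset.eq_of_mem_replicate hk]; simpa using hp.ne_one
  · exact fun h k hk => h k (Multiset.mem_add.2 (Or.inl hk))

end H40.Sn
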