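/- Specification of the tower T6L (row S5740): local subgroups of 2E6(2) on the 27-dimensional module. -/
import Cfsg.Agent.Base
import Cfsg.Agent.H26.ASE6
import Cfsg.Prelude.Def_LieTwisted

set_option autoImplicit false

namespace H40.T6

open Matrix Cfsg Cfsg.Lie H63 H65

universe u

/-- The triple cover as a group of `27 × 27` matrices. -/
noncomputable def Gam (K : Type*) [Field K] : Subgroup (GL (Fin 27) K) :=
  Subgroup.closure {g | ∃ w ∈ e6Words K 2, g = (w.map fun p => repE6v27.xU K p.1 p.2).prod}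

/-- The covering map has scalar kernel. -/
def JobRep : Prop :=
  ∀ (K : Type u) [Field K] [Fintype K], Fintype.card K = 4 →
    ∃ π : Gam K →* twistedE6 K 2, Function.Surjective π ∧
      ∀ g, π g = 1 → ∃ c : K, (g : GL (Fin 27) K).val = c • 1

/-- Local subgroups lift along central extensions of exponent three. -/
def JobRed : Prop :=
  ∀ (Γ G : Type u) [Group Γ] [Finite Γ] [Group G] (π : Γ →* G), Function.Surjective π →
    (∀ g, π g = 1 → g ∈ Subgroup.center Γ ∧ g ^ 3 = 1) → ∀ p : ℕ, p.Prime → p ≠ 3 →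
    ∀ P : Subgroup G, IsPGroup p P → P ≠ ⊥ → IsCoatom (Subgroup.normalizer (P : Set G)) →
    ∃ Q : Subgroup Γ, IsPGroup p Q ∧ Q ≠ ⊥ ∧ IsCoatom (Subgroup.normalizer (Q : Set Γ))

/-- Reduction to the subgroups of one Sylow subgroup of order `p` or `p × p`. -/
def JobSyl : Prop :=
  ∀ (Γ : Type u) [Group Γ] [Finite Γ] (p : ℕ), p.Prime → ∀ Q : Subgroup Γ, IsPGroup p Q → Q ≠ ⊥ →
    IsCoatom (Subgroup.normalizer (Q : Set Γ)) → ∀ a : Γ, a ^ p = 1 → a ≠ 1 →
    (¬ p ^ 2 ∣ Nat.card Γ → IsCoatom (Subgroup.normalizer (Subgroup.zpowers a : Set Γ))) ∧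
    (¬ p ^ 3 ∣ Nat.card Γ → ∀ b : Γ, b ^ p = 1 → Commute a b → (∀ i < p, b ≠ a ^ i) →
      IsCoatom (Subgroup.normalizer (Subgroup.closure {a, b} : Set Γ)) ∨
      ∃ i < p, ∃ j < p, 0 < i + j ∧
        IsCoatom (Subgroup.normalizer (Subgroup.zpowers (a ^ i * b ^ j) : Set Γ)))

/-- The normaliser of a subgroup of order nineteen. -/
def Job19 : Prop :=
  ∀ (K : Type u) [Field K] [Fintype K], Fintype.card K = 4 →
    ∀ (Γ : Subgroup (GL (Fin 27) K)) (Z : Subgroup Γ),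
    (∀ z ∈ Z, ∃ c : K, (z : GL (Fin 27) K).val = c • 1) → Z.index = 76532479683774853939200 →
    ∀ (x n u g : Γ) (E S : Matrix (Fin 27) (Fin 27) K), x ^ 19 = 1 → n * x = x ^ 4 * n →
    (∀ v, (x : GL (Fin 27) K).val *ᵥ v = v → v = 0) →
    (x : GL (Fin 27) K).val.trace ≠ (x ^ 18 : GL (Fin 27) K).val.trace →
    E * E = E → E.trace = 1 → E ≠ 1 →
    (∀ y : Γ, Commute y x → Commute (y : GL (Fin 27) K).val E) →
    (∀ y : Γ, (y : GL (Fin 27) K).val * E = E → y = 1) →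
    S ≠ 0 → Commute (x : GL (Fin 27) K).val S → Commute (u : GL (Fin 27) K).val S →
    (∃ c : K, (n : GL (Fin 27) K).val * S = c • (S * (n : GL (Fin 27) K).val)) →
    (∀ c : K, (g : GL (Fin 27) K).val * S ≠ c • (S * (g : GL (Fin 27) K).val)) →
    ¬ Commute (u * x * u⁻¹) x → ¬ IsCoatom (Subgroup.normalizer (Subgroup.zpowers x : Set Γ))

end H40.T6
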