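/- Packed `27 × 27` matrices over a field with four elements. -/
import Cfsg.Agent.H40.T6Spec
import Cfsg.Agent.H49.Kit

set_option autoImplicit false
set_option linter.unusedSectionVars false
set_option exponentiation.threshold 2000

namespace H40.T6

open Matrix Cfsg Cfsg.Lie H63 H65 H49 H73

/-- The unit matrix. -/
def o1 : ℕ := 0x100000010000001000000100000010000001000000100000010000001000000100000010000001000000100000010000001000000100000010000001000000100000010000001000000100000010000001000000100000010000001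

/-- Product over the prime field. -/
noncomputable def m2 (a b : ℕ) : ℕ := mmul 27 0x40000008000001000000200000040000008000001000000200000040000008000001000000200000040000008000001000000200000040000008000001000000200000040000008000001000000200000040000008000001 0x7ffffff a b

theorem m2_eq (a b : ℕ) : m2 a b = mulF2 27 (cmask 27 27) (2 ^ 27 - 1) a b 27 := by
  rw [m2, mmul, frc_eq, frc_eq]; rfl

/-- A pair of codes. -/
def pk (a b : ℕ) : ℕ := Nat.xor a (Nat.shiftLeft b 729)
/-- The second code. -/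
def hi (c : ℕ) : ℕ := Nat.shiftRight c 729

theorem hi_of_lt {a : ℕ} (h : a < 2 ^ 729) : hi a = 0 := Nat.shiftRight_eq_zero _ _ h

theorem hi_xor (a b : ℕ) : hi (Nat.xor a b) = Nat.xor (hi a) (hi b) := Nat.shiftRight_xor_distrib

theorem hi_pk {a : ℕ} (h : a < 2 ^ 729) (b : ℕ) : hi (pk a b) = b := by
  rw [pk, hi_xor, hi_of_lt h]
  exact (Nat.zero_xor _).trans (Nat.shiftLeft_shiftRight _ _)

/-- The product. -/
noncomputable def mul4 (c d : ℕ) : ℕ :=
  frc c fun c => frc d fun d => frc (hi c) fun c1 => frc (hi d) fun d1 => frc (m2 c d) fun P =>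
    pk (Nat.xor P (m2 c1 d1)) (Nat.xor P (m2 (Nat.xor c c1) (Nat.xor d d1)))

/-- The code with given bits. -/
noncomputable def tab (f : Fin 27 → Fin 27 → Bool) : ℕ :=
  ptab 1 (fun e => (f (Fin.ofNat 27 (e / 27)) (Fin.ofNat 27 e)).toNat) 729

theorem tab_lt (f : Fin 27 → Fin 27 → Bool) : tab f < 2 ^ 729 :=
  ptab_lt (W := 1) fun _ _ => Bool.toNat_lt _

theorem dec2_tab (f : Fin 27 → Fin 27 → Bool) (i j : Fin 27) : dec2 27 (tab f) i j = b2z (f i j) := by
  have h := pap_ptab (W := 1) (f := fun e => (f (Fin.ofNat 27 (e / 27)) (Fin.ofNat 27 e)).toNat)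
    (n := 729) (fun _ _ => Bool.toNat_lt _) (i := 27 * i + j) (by omega)
  have h1 : Fin.ofNat 27 ((27 * i + j) / 27) = i := Fin.ext (by simp; omega)
  have h2 : Fin.ofNat 27 (27 * i + j) = j := Fin.ext (by simp)
  rw [pap_eq, h1, h2, one_mul, pow_one] at h
  rw [dec2, Nat.testBit_eq_decide_div_mod_eq, tab, h]
  cases f i j <;> rfl

/-- Transpose. -/
noncomputable def trC (c : ℕ) : ℕ := frc c fun c => frc (hi c) fun d =>
  pk (tab fun i j => c.testBit (27 * j + i)) (tab fun i j => d.testBit (27 * j + i))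
/-- Conjugate. -/
noncomputable def cjC (c : ℕ) : ℕ := frc c fun c => pk (Nat.xor c (hi c) % 2 ^ 729) (hi c)
/-- Cross product with a column. -/
noncomputable def crC (c : ℕ) (k : Fin 27) : ℕ := frc c fun c => frc (hi c) fun d =>
  pk (tab fun a b => decide (ts27 a b % 2 = 1) && c.testBit (27 * tp27 a b + k))
    (tab fun a b => decide (ts27 a b % 2 = 1) && d.testBit (27 * tp27 a b + k))
/-- Scalars. -/
def scC : ℕ → ℕ
  | 0 => 0
  | 1 => o1
  | 2 => pk 0 o1
  | _ => pk o1 o1
/-- Root elements. -/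
noncomputable def xC (r t : ℕ) : ℕ :=
  Nat.xor o1 (mul4 (scC t) (tab fun i j => decide (aE r i j % 2 = 1)))
/-- Polynomials. -/
noncomputable def poly (x : ℕ) (l : List ℕ) : ℕ :=
  frc x fun x => List.rec 0 (fun c _ acc => Nat.xor (scC c) (mul4 x acc)) l
/-- Powers. -/
noncomputable def pw4 (x k : ℕ) : ℕ := frc x fun x => Nat.rec o1 (fun _ acc => mul4 x acc) k
/-- Words. -/
noncomputable def ev4 (T w : List ℕ) : ℕ := List.rec o1 (fun i _ acc => mul4 (T.getD i o1) acc) w
/-- Different matrices. -/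
noncomputable def ne4 (c d : ℕ) : Bool := !Nat.beq (Nat.xor c d % 2 ^ 1458) 0

variable {K : Type*} [Field K] [CharP K 2]

variable (K) in
/-- Matrices over the prime field. -/
noncomputable def em (a : ℕ) : Matrix (Fin 27) (Fin 27) K :=
  (dec2 27 a).map (ZMod.castHom (dvd_refl 2) K)

theorem em_xor (a b : ℕ) : em K (Nat.xor a b) = em K a + em K b := by
  ext i j
  simp only [em, map_apply, Matrix.add_apply, dec2, ← map_add, ← b2z_xor]
  exact congrArg _ (congrArg _ (Nat.testBit_xor _ _ _))

theorem em_m2 (a b : ℕ) : em K (m2 a b) = em K a * em K b := by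
  rw [em, m2_eq, dec2_mul (by decide), Matrix.map_mul]; rfl

theorem em_congr {a b : ℕ} (h : ∀ k < 729, a.testBit k = b.testBit k) : em K a = em K b := by
  ext i j
  simp only [em, map_apply, dec2, h (27 * i + j) (by omega)]

theorem em_zero : em K 0 = 0 := by
  ext i j; simp [em, dec2, b2z]

theorem em_one : em K o1 = 1 := by
  rw [em, show o1 = cmask (27 + 1) 27 by decide +kernel, dec2_one]
  exact Matrix.map_one _ (map_zero _) (map_one _)

theorem em_pk (a b : ℕ) : em K (pk a b) = em K a := em_congr fun k hk => by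
  refine (Nat.testBit_xor _ _ _).trans ?_
  rw [show Nat.shiftLeft b 729 = b <<< 729 from rfl, Nat.testBit_shiftLeft]
  simp [hk.not_ge]

theorem cast_b2z (z : ℤ) : ZMod.castHom (dvd_refl 2) K (b2z (decide (z % 2 = 1))) = z := by
  rw [← map_intCast (ZMod.castHom (dvd_refl 2) K), ← ZMod.intCast_mod z 2]
  rcases Int.emod_two_eq_zero_or_one z with h | h <;> simp [h, b2z]

variable (ω : K)

/-- The matrix of a code. -/
noncomputable def dK (c : ℕ) : Matrix (Fin 27) (Fin 27) K := em K c + ω • em K (hi c)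

/-- The scalar of a code. -/
def el : ℕ → K
  | 0 => 0
  | 1 => 1
  | 2 => ω
  | _ => ω + 1

theorem dK_pk {a : ℕ} (h : a < 2 ^ 729) (b : ℕ) : dK ω (pk a b) = em K a + ω • em K b := by
  rw [dK, em_pk, hi_pk h]

theorem dK_of_lt {a : ℕ} (h : a < 2 ^ 729) : dK ω a = em K a := by
  rw [dK, hi_of_lt h, em_zero, smul_zero, add_zero]

theorem dK_zero : dK ω 0 = 0 := (dK_of_lt ω (by positivity)).trans em_zero
theorem dK_one : dK ω o1 = 1 := (dK_of_lt ω (by decide +kernel)).trans em_one

theorem dK_xor (a b : ℕ) : dK ω (Nat.xor a b) = dK ω a + dK ω b := by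
  simp only [dK, hi_xor, em_xor, smul_add]; abel

theorem dK_scC (t : ℕ) : dK ω (scC t) = el ω t • 1 := by
  rcases t with _ | _ | _ | t
  · simp [scC, el, dK_zero]
  · simp [scC, el, dK_one]
  · simp [scC, el, dK_pk ω (a := 0) (by positivity), em_zero, em_one]
  · refine (dK_pk ω (a := o1) (by decide +kernel) o1).trans ?_
    rw [em_one, add_comm]; exact ((add_smul ω 1 _).trans (by rw [one_smul])).symm

theorem dK_trC (c : ℕ) : dK ω (trC c) = (dK ω c)ᵀ := by
  rw [trC, frc_eq, frc_eq, dK_pk ω (tab_lt _)]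
  ext i j
  simp only [dK, em, Matrix.add_apply, Matrix.smul_apply, map_apply, dec2_tab, transpose_apply]
  rfl

theorem dK_crC (c : ℕ) (k a b : Fin 27) : dK ω (crC c k) a b = ts27 a b * dK ω c (tp27 a b) k := by
  rw [crC, frc_eq, frc_eq, dK_pk ω (tab_lt _)]
  simp only [dK, em, Matrix.add_apply, Matrix.smul_apply, map_apply, dec2_tab, b2z_and, map_mul,
    cast_b2z, smul_eq_mul]
  rw [mul_add, mul_left_comm]; rfl

theorem trace_dK (c : ℕ) : (dK ω c).trace = ZMod.castHom (dvd_refl 2) K (dec2 27 c).trace +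
    ω * ZMod.castHom (dvd_refl 2) K (dec2 27 (hi c)).trace := by
  rw [dK, trace_add, trace_smul, em, em, ← AddMonoidHom.map_trace, ← AddMonoidHom.map_trace]; rfl

variable {ω} (hω : ω ^ 2 = ω + 1)
include hω

theorem dK_mul (c d : ℕ) : dK ω (mul4 c d) = dK ω c * dK ω d := by
  have h : ∀ a b, m2 a b < 2 ^ 729 := fun a b => m2_eq a b ▸ mulF2_lt (by decide) a b
  simp only [mul4, frc_eq]
  rw [dK_pk ω (a := Nat.xor _ _) (Nat.xor_lt_two_pow (h _ _) (h _ _))]
  simp only [em_xor, em_m2, dK, add_mul, mul_add, smul_mul_assoc, mul_smul_comm, smul_smul, ← sq, hω,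
    add_smul, one_smul, smul_add]
  have := CharTwo.add_self_eq_zero (ω • (em K c * em K d))
  linear_combination (norm := abel) this

theorem dK_cjC (c : ℕ) : dK ω (cjC c) = (dK ω c).map (frobenius K 2) := by
  rw [cjC, frc_eq, dK_pk ω (Nat.mod_lt _ (by positivity)), em_congr (b := Nat.xor c (hi c))
    fun k hk => by rw [Nat.testBit_mod_two_pow, decide_eq_true hk, Bool.true_and], em_xor]
  ext i j
  simp only [dK, em, Matrix.add_apply, Matrix.smul_apply, map_apply, map_add, map_mul, smul_eq_mul,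
    frobenius_def, ← map_pow, ZMod.pow_card, hω]
  ring

theorem ne_of_ne4 {c d : ℕ} (h : ne4 c d = true) : dK ω c ≠ dK ω d := fun e => by
  have h0 : dK ω (Nat.xor c d) = 0 := by rw [dK_xor, e, CharTwo.add_self_eq_zero]
  have h1 : ω ≠ 0 := by rintro rfl; simp at hω
  have h2 : 1 + ω ≠ 0 := fun h => h1 (pow_eq_zero_iff two_ne_zero |>.1 (by rw [hω, add_comm, h]))
  have h3 : ∀ k < 729, (Nat.xor c d).testBit k = false ∧ (hi (Nat.xor c d)).testBit k = false :=
    fun k hk => by
      have := congrFun (congrFun h0 ⟨k / 27, by omega⟩) ⟨k % 27, by omega⟩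
      simp only [dK, em, Matrix.add_apply, Matrix.smul_apply, map_apply, dec2, Nat.div_add_mod] at this
      revert this
      cases (Nat.xor c d).testBit k <;> cases (hi (Nat.xor c d)).testBit k <;> simp [b2z, h1, h2]
  have h4 : Nat.xor c d % 2 ^ 1458 = 0 := Nat.eq_of_testBit_eq fun k => by
    rw [Nat.testBit_mod_two_pow, Nat.zero_testBit, Bool.and_eq_false_imp, decide_eq_true_eq]
    intro hk
    by_cases h5 : k < 729
    · exact (h3 k h5).1
    · have := (h3 (k - 729) (by omega)).2
      rwa [show hi _ = _ >>> 729 from rfl, Nat.testBit_shiftRight, Nat.add_sub_cancel' (by omega)]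
        at this
  rw [ne4, h4] at h
  exact absurd h (by decide)

theorem dK_xC {r : ℕ} (hr : r < 72) (t : ℕ) : dK ω (xC r t) = repE6v27.x K r (el ω t) := by
  rw [xC, dK_xor, dK_mul hω, dK_one, dK_scC, dK_of_lt ω (tab_lt _)]
  ext i j
  simp only [x27_apply hr, em, Matrix.add_apply, smul_mul_assoc, one_mul, Matrix.smul_apply, map_apply,
    dec2_tab, cast_b2z, smul_eq_mul]

theorem dK_pw4 (x k : ℕ) : dK ω (pw4 x k) = dK ω x ^ k := by
  rw [pw4, frc_eq]
  induction k with
  | zero => exact dK_one ω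
  | succ k ih => rw [pow_succ', ← ih]; exact dK_mul hω _ _

theorem dK_poly_cons (x c : ℕ) (l : List ℕ) :
    dK ω (poly x (c :: l)) = el ω c • 1 + dK ω x * dK ω (poly x l) := by
  simp only [poly, frc_eq]
  rw [← dK_scC, ← dK_mul hω, ← dK_xor]

theorem commute_poly {x : ℕ} {Y : Matrix (Fin 27) (Fin 27) K} (h : Commute Y (dK ω x))
    (l : List ℕ) : Commute Y (dK ω (poly x l)) := by
  induction l with
  | nil => rw [poly, frc_eq]; exact dK_zero ω ▸ Commute.zero_right Y
  | cons c l ih =>
    rw [dK_poly_cons hω]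
    exact ((Commute.one_right Y).smul_right _).add_right (h.mul_right ih)

theorem proj_mulVec {x : ℕ} {v : Fin 27 → K} (h : dK ω x *ᵥ v = v) (k : ℕ) :
    dK ω (poly x (List.replicate (2 * k + 1) 1)) *ᵥ v = v := by
  have h0 : ∀ k, dK ω (poly x (List.replicate k 1)) *ᵥ v = (k : K) • v := fun k => by
    induction k with
    | zero => rw [List.replicate_zero, poly, frc_eq]; simpa using congrArg (· *ᵥ v) (dK_zero ω)
    | succ k ih =>
      rw [List.replicate_succ, dK_poly_cons hω, add_mulVec, ← mulVec_mulVec, ih, mulVec_smul, h]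
      simp [el, add_smul, add_comm]
  rw [h0]; simp [CharTwo.two_eq_zero]

end H40.T6
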