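/- Local subgroups of the triple cover of 2E6(2). -/
import Cfsg.Agent.Rz.H40_T6_sqN_eq_3
import Cfsg.Agent.H40.T6Data
import Cfsg.Agent.H30.T6N19
import Cfsg.Agent.H30.T6Red

set_option autoImplicit false
set_option linter.unusedSectionVars false

namespace H40.T6

open Matrix Cfsg Cfsg.Lie H63 H65 H49 H73

theorem exists_om {K : Type*} [Field K] [Fintype K] (hK : Fintype.card K = 4) :
    CharP K 2 ∧ ∃ ω : K, ω ^ 2 = ω + 1 ∧ ∀ t : K, ∃ n < 4, t = el ω n := by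
  have h2 : (2 : K) = 0 := by
    have := FiniteField.cast_card_eq_zero K
    rw [hK] at this
    exact pow_eq_zero_iff two_ne_zero |>.1 (by rw [← this]; norm_num)
  have h4 : ∀ t : K, t ^ 4 = t := fun t => hK ▸ FiniteField.pow_card t
  obtain ⟨ω, h0, h1⟩ : ∃ ω : K, ω ≠ 0 ∧ ω ≠ 1 := by
    classical
    by_contra! h
    have : (Finset.univ : Finset K) ⊆ {0, 1} := fun t _ => by by_cases e : t = 0 <;> simp [e, h]
    have := (Finset.card_le_card this).trans Finset.card_le_two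
    rw [Finset.card_univ] at this; omega
  have h3 : ω ^ 2 = ω + 1 := mul_left_cancel₀ (mul_ne_zero h0 (sub_ne_zero.2 h1)) (by
    linear_combination h4 ω + (ω - ω ^ 3) * h2)
  refine ⟨CharTwo.of_one_ne_zero_of_two_eq_zero one_ne_zero h2, ω, h3, fun t => ?_⟩
  have : t * (t - 1) * (t - ω) * (t - (ω + 1)) = 0 := by
    linear_combination h4 t + (t ^ 2 - t) * h3 + (t ^ 2 + 2 * ω * t ^ 2 - ω * t - ω * t ^ 3 - t ^ 3) * h2
  simp only [mul_eq_zero, sub_eq_zero] at this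
  rcases this with ((h | h) | h) | h
  exacts [⟨0, by decide, h⟩, ⟨1, by decide, h⟩, ⟨2, by decide, h⟩, ⟨3, by decide, h⟩]

variable {K : Type*} [Field K] [CharP K 2] {ω : K} (hω : ω ^ 2 = ω + 1)

variable (ω) in
/-- Codes of elements. -/
def Mem (c : ℕ) : Prop := ∃ g : Gam K, mt g = dK ω c

include hω

theorem el_sq {t : ℕ} (h : t < 4) : el ω t ^ 2 = el ω (sqN t) := by
  interval_cases t <;> simp [el, sqN, hω, CharTwo.add_sq, add_assoc, CharTwo.add_self_eq_zero]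

theorem Mem.mul {c d : ℕ} (h : Mem ω c) (h' : Mem ω d) : Mem ω (mul4 c d) := by
  obtain ⟨g, hg⟩ := h
  obtain ⟨g', hg'⟩ := h'
  exact ⟨g * g', by rw [dK_mul hω, ← hg, ← hg']; rfl⟩

theorem mem_getD {T : List ℕ} (h : ∀ c ∈ T, Mem ω c) (i : ℕ) : Mem ω (T.getD i o1) := by
  rw [List.getD_eq_getElem?_getD]
  rcases e : T[i]? with _ | c
  exacts [⟨1, (dK_one ω).symm⟩, h c (List.mem_of_getElem? e)]

theorem mem_slp {P : List (List ℕ × ℕ × ℕ)} {T : List ℕ} (h : ∀ c ∈ T, Mem ω c)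
    (hP : slp P T = true) : ∀ c ∈ T ++ P.map (·.2.2), Mem ω c := by
  induction P generalizing T with
  | nil => simpa using h
  | cons p P ih =>
    obtain ⟨h1, h2⟩ := Bool.and_eq_true_iff.1 hP
    rw [List.map_cons, List.append_cons]
    refine ih (fun c hc => ?_) h2
    rcases List.mem_append.1 hc with hc | hc
    · exact h c hc
    obtain ⟨g, hg⟩ : Mem ω (ev4 T p.1) := by
      induction p.1 with
      | nil => exact ⟨1, (dK_one ω).symm⟩
      | cons i w ih => exact (mem_getD hω h i).mul hω ih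
    exact ⟨g ^ p.2.1, by
      rw [List.mem_singleton.1 hc, ← Nat.eq_of_beq_eq_true h1, dK_pw4 hω, ← hg]; simp [mt]⟩

theorem mem_tb (i : ℕ) : Mem ω (tb i) := by
  refine mem_getD hω (mem_slp hω (fun c hc => ?_) slp_prog) i
  simp only [T0_eq, List.mem_append, List.mem_map, List.mem_flatMap] at hc
  rcases hc with ⟨r, hr, rfl⟩ | ⟨p, hp, t, ht, rfl⟩
  · refine ⟨⟨_, Subgroup.subset_closure ⟨[(r, 1)], .inl ⟨1, one_pow 2, r, hr, rfl⟩, rfl⟩⟩, ?_⟩
    rw [dK_xC hω (by revert r; decide)]; simp [mt, el]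
  · refine ⟨⟨_, Subgroup.subset_closure ⟨_, .inr ⟨el ω t, p, hp, rfl⟩, rfl⟩⟩, ?_⟩
    rw [dK_mul hω, dK_xC hω (by revert p; decide), dK_xC hω (by revert p; decide),
      ← el_sq hω (by revert t; decide)]
    simp [mt]

theorem herm (h : ∀ t : K, ∃ n < 4, t = el ω n) (y : Gam K) :
    ((mt y).map (frobenius K 2))ᵀ * dK ω cJ * mt y = dK ω cJ := by
  have h0 : ∀ c ∈ T0, ((dK ω c).map (frobenius K 2))ᵀ * dK ω cJ * dK ω c = dK ω cJ := fun c hc => by
    have := herm_T0 c hc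
    rw [hermC, frc_eq] at this
    rw [← dK_cjC hω, ← dK_trC, ← dK_mul hω, ← dK_mul hω, Nat.eq_of_beq_eq_true this]
  obtain ⟨y, hy⟩ := y
  change (y.val.map _)ᵀ * _ * y.val = _
  induction hy using Subgroup.closure_induction with
  | mem y hy =>
    obtain ⟨_, ⟨t, ht, r, hr, rfl⟩ | ⟨t, p, hp, rfl⟩, rfl⟩ := hy
    · rcases eq_zero_or_one_of_sq_eq_self ht with rfl | rfl
      · simp
      · have := h0 (xC r 1) (T0_eq ▸ List.mem_append_left _ (List.mem_map_of_mem hr))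
        rw [dK_xC hω (by clear this; revert r; decide)] at this
        simpa [el] using this
    · obtain ⟨n, hn, rfl⟩ := h t
      rcases Nat.eq_zero_or_pos n with rfl | h1
      · simp [el]
      · have := h0 (mul4 (xC p.1 n) (xC p.2 (sqN n))) (T0_eq ▸ List.mem_append_right _
          (List.mem_flatMap.2 ⟨p, hp, List.mem_map_of_mem (by simp; omega)⟩))
        rw [dK_mul hω, dK_xC hω (by clear this; revert p; decide),
          dK_xC hω (by clear this; revert p; decide), ← el_sq hω hn] at this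
        simpa using this
  | one => simp
  | mul a b _ _ ha hb =>
    rw [Units.val_mul, Matrix.map_mul, transpose_mul, mul_assoc, mul_assoc, ← mul_assoc (dK ω cJ),
      ← mul_assoc _ _ b.val, ← mul_assoc _ _ a.val, ha, ← mul_assoc, hb]
  | inv a _ ha =>
    conv_lhs => rw [← ha]
    rw [← mul_assoc, ← mul_assoc, ← transpose_mul, ← Matrix.map_mul, mul_assoc, mul_assoc]
    simp

theorem faithful (h : ∀ t : K, ∃ n < 4, t = el ω n) (y : Gam K) (hy : mt y * dK ω cE = dK ω cE) :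
    y = 1 := by
  have h1 : ω ≠ 0 ∧ ω ≠ 1 := ⟨by rintro rfl; simp at hω, by rintro rfl; simp at hω⟩
  have h2 : y.1 ∈ funStab K (cN L27) := G27_le ((Subgroup.closure_le _).2 (by
    rintro _ ⟨w, -, rfl⟩
    exact Subgroup.list_prod_mem _ (by simp +contextual [eq_comm, repE6v27.xU_mem])) y.2)
  have h3 : ∀ c k, mt y * dK ω c = dK ω c → dK ω (mul4 (trC c) (crC c k)) * mt y =
      dK ω (mul4 (trC c) (crC c k)) := fun c k hc => by
    rw [dK_mul hω, dK_trC]; exact cross ⟨ω, h1⟩ h2 hc (dK_crC ω c k)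
  obtain ⟨a1, a2, a3⟩ := span19
  have h4 := h3 _ 0 hy
  have h5 := herm hω h y
  have h6 : dK ω cJ * dK ω cJ = 1 := by rw [← dK_mul hω, a1, dK_one]
  have h7 : ∀ t : K, (t ^ 2) ^ 2 = t := fun t => by
    obtain ⟨n, hn, rfl⟩ := h t
    rw [el_sq hω hn, el_sq hω (by revert n; decide)]
    interval_cases n <;> rfl
  have h8 : mt y * dK ω cA = dK ω cA := by
    rw [a2, dK_xor, mul_add, hy, dK_cjC hω, dK_trC, dK_mul hω]
    generalize dK ω (mul4 (trC cE) (crC cE 0)) = N at h4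
    have h9 : N * dK ω cJ * ((mt y).map (frobenius K 2))ᵀ = N * dK ω cJ := by
      have : N * dK ω cJ * ((mt y).map (frobenius K 2))ᵀ * dK ω cJ * mt y = N * mt y := by
        rw [mul_assoc (N * _), mul_assoc (N * _), h5, mul_assoc, h6, mul_one, h4]
      conv_rhs => rw [← y.1.mul_left_inj.1 this, mul_assoc _ _ (dK ω cJ), h6, mul_one]
    have h10 : mt y = ((mt y).map (frobenius K 2)).map (frobenius K 2) := by
      ext i j; exact (h7 _).symm
    rw [h10, ← Matrix.map_mul, ← transpose_transpose ((mt y).map _), ← transpose_mul, h9]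
  have h9 : dK ω o1 * mt y = dK ω o1 := by
    rw [← a3, dK_xor, dK_mul hω cR0, dK_mul hω cR1, add_mul, mul_assoc, mul_assoc, h3 _ 0 h8, h3 _ 1 h8]
  rw [dK_one, one_mul] at h9
  exact Subtype.ext (Units.ext h9)

theorem not_coatom_of_fixC {k a b u g : ℕ} (h : fixC k a b (tb u) (tb g) = true) {x y : Gam K}
    (hx : mt x = dK ω a) (hy : mt y = dK ω b) :
    ¬ IsCoatom (Subgroup.normalizer (Subgroup.closure {x, y} : Set (Gam K))) := by
  obtain ⟨u', hu⟩ := mem_tb hω u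
  obtain ⟨g', hg⟩ := mem_tb hω g
  simp only [fixC, frc_eq, Bool.and_eq_true, Nat.beq_eq] at h
  obtain ⟨h1, h2, h3, h4, h5, h6, h7⟩ := h
  have h8 : u'⁻¹ = u' := inv_eq_of_mul_eq_one_right (Subtype.ext (Units.ext (by
    change mt u' * mt u' = 1
    rw [hu, ← dK_mul hω, h5, dK_one])))
  refine not_coatom (u := u') (g := g') (E := dK ω (mul4 _ _)) (Subtype.ext (Units.ext ?_))
    (fun v a1 a2 => ?_) (by rw [hx, ← dK_mul hω, h2]) (by rw [hy, ← dK_mul hω, h3])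
    (by rw [hu, ← dK_mul hω, h4]) ?_ fun e => ne_of_ne4 hω h7 ?_
  · change mt x * mt y = mt y * mt x
    rw [hx, hy, ← dK_mul hω, h1, dK_mul hω]
  · rw [dK_mul hω, ← mulVec_mulVec, proj_mulVec hω (hy ▸ a2 :), proj_mulVec hω (hx ▸ a1 :)]
  · rw [hx, hg, ← dK_mul hω, ← dK_mul hω]; exact ne_of_ne4 hω h6
  · simp only [dK_mul hω, ← hx, ← hu]
    rw [h8] at e
    exact congrArg mt e.eq

theorem pow_eq_one {c k : ℕ} {x : Gam K} (hx : mt x = dK ω c) (h : pw4 c k = o1) : x ^ k = 1 :=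
  Subtype.ext (Units.ext (by
    have := dK_pw4 hω c k
    rw [h, dK_one, ← hx] at this
    simpa using this.symm))

theorem ne_of_mt {c d : ℕ} {x y : Gam K} (hx : mt x = dK ω c) (hy : mt y = dK ω d)
    (h : ne4 c d = true) : x ≠ y := fun e => ne_of_ne4 hω h (by rw [← hx, ← hy, e])

variable [Finite (Gam K)] {Q : Subgroup (Gam K)}

theorem cyc {p k a u g : ℕ} (hp : p.Prime) (h : pw4 (tb a) p = o1 ∧ fixC k (tb a) (tb a) (tb u) (tb g))
    (h0 : ne4 (tb a) o1 = true) (h2 : ¬ p ^ 2 ∣ Nat.card (Gam K)) (hQ : IsPGroup p Q)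
    (h1 : Q ≠ ⊥) : ¬ IsCoatom (Subgroup.normalizer (Q : Set (Gam K))) := fun hc => by
  obtain ⟨x, hx⟩ := mem_tb hω a
  have h3 := not_coatom_of_fixC hω h.2 hx hx
  rw [Set.pair_eq_singleton, ← Subgroup.zpowers_eq_closure] at h3
  exact h3 ((H30.T6Red.jobSyl _ p hp Q hQ h1 hc x (pow_eq_one hω hx h.1)
    (ne_of_mt hω hx (dK_one ω).symm h0)).1 h2)

theorem seven (h2 : ¬ 7 ^ 3 ∣ Nat.card (Gam K)) (hQ : IsPGroup 7 Q) (h1 : Q ≠ ⊥) :
    ¬ IsCoatom (Subgroup.normalizer (Q : Set (Gam K))) := fun hc => by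
  obtain ⟨a, ha⟩ := mem_tb hω 25
  obtain ⟨b, hb⟩ := mem_tb hω 26
  have h3 : ∀ {x c}, mt x = dK ω c → ∀ i, mt (x ^ i : Gam K) = dK ω (pw4 c i) := fun hx i => by
    rw [dK_pw4 hω, ← hx]; simp [mt]
  rcases (H30.T6Red.jobSyl _ 7 (by norm_num) Q hQ h1 hc a (pow_eq_one hω ha ord7.1)
    (ne_of_mt hω ha (dK_one ω).symm (by decide +kernel))).2 h2 b (pow_eq_one hω hb ord7.2.1)
    (Subtype.ext (Units.ext (by
      change mt a * mt b = mt b * mt a
      rw [ha, hb, ← dK_mul hω, ← dK_mul hω]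
      exact congrArg _ (by decide +kernel))))
    (fun i hi => ne_of_mt hω hb (h3 ha i) (ord7.2.2 i hi)) with h | ⟨i, hi, j, hj, h4, h⟩
  · exact not_coatom_of_fixC hω fix7.1 ha hb h
  · have h5 := fix7.2 i hi j hj h4
    rw [frc_eq, List.any_eq_true] at h5
    obtain ⟨u, -, h5⟩ := h5
    have h6 : mt (a ^ i * b ^ j) = dK ω (mul4 (pw4 (tb 25) i) (pw4 (tb 26) j)) := by
      rw [dK_mul hω, ← h3 ha, ← h3 hb]; rfl
    refine not_coatom_of_fixC hω h5 h6 h6 ?_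
    rwa [Set.pair_eq_singleton, ← Subgroup.zpowers_eq_closure]

theorem nineteen [Fintype K] (hK : Fintype.card K = 4) (h : ∀ t : K, ∃ n < 4, t = el ω n)
    (Z : Subgroup (Gam K)) (hZ : ∀ z ∈ Z, ∃ c : K, mt z = c • 1)
    (hi : Z.index = 76532479683774853939200) (h2 : ¬ 19 ^ 2 ∣ Nat.card (Gam K)) (hQ : IsPGroup 19 Q)
    (h1 : Q ≠ ⊥) : ¬ IsCoatom (Subgroup.normalizer (Q : Set (Gam K))) := fun hc => by
  obtain ⟨x, hx⟩ := mem_tb hω 39
  obtain ⟨n, hn⟩ := mem_tb hω 41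
  obtain ⟨u, hu⟩ := mem_tb hω 40
  obtain ⟨g, hg⟩ := mem_tb hω 0
  obtain ⟨a1, a2, a3, a4, a5, a6, a7, a8, a9, a10, a11, a12, a13, a14, a15⟩ := chk19
  obtain ⟨b1, b2, b3, b4, b5, b6⟩ := tr19
  have h8 : u⁻¹ = u := inv_eq_of_mul_eq_one_right (Subtype.ext (Units.ext (by
    change mt u * mt u = 1
    rw [hu, ← dK_mul hω, a13, dK_one])))
  refine H30.T6N19.job19 K hK _ Z hZ hi x n u g (dK ω cE) (dK ω cS) (pow_eq_one hω hx a1)
    (Subtype.ext (Units.ext ?_)) (fun v hv => ?_) ?_ (by rw [← dK_mul hω, a6]) ?_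
    (dK_one ω ▸ ne_of_ne4 hω a7) (fun y hy => a5 ▸ commute_poly hω (by rw [← hx]; exact congrArg mt hy.eq) _)
    (faithful hω h) (dK_zero ω ▸ ne_of_ne4 hω a8) ?_ ?_ ⟨ω, ?_⟩ (fun c => ?_)
    (fun e => ne_of_ne4 hω a14 ?_) ((H30.T6Red.jobSyl _ 19 (by norm_num) Q hQ h1 hc x
      (pow_eq_one hω hx a1) (ne_of_mt hω hx (dK_one ω).symm a15)).1 h2)
  · have := congrArg (dK ω) a3
    rw [dK_mul hω, dK_mul hω, dK_pw4 hω, ← hx, ← hn] at this
    simpa using this
  · rw [← proj_mulVec hω (x := tb 39) (v := v) (by rw [← hx]; exact hv) 9, a4, dK_zero, zero_mulVec]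
  · rw [Units.val_pow_eq_pow_val]
    change (mt x).trace ≠ (mt x ^ 18).trace
    rw [hx, ← dK_pw4 hω, a2, trace_dK, trace_dK, b1, b2, b3, b4]; simp
  · rw [trace_dK, b5, b6]; simp
  · change mt x * _ = _ * mt x
    rw [hx, ← dK_mul hω, a9, dK_mul hω]
  · change mt u * _ = _ * mt u
    rw [hu, ← dK_mul hω, a10, dK_mul hω]
  · change mt n * _ = ω • (_ * mt n)
    rw [hn, ← dK_mul hω, a11, dK_mul hω, dK_mul hω, dK_scC, smul_mul_assoc, one_mul]; rfl
  · obtain ⟨t, ht, rfl⟩ := h c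
    have := ne_of_ne4 hω (a12 t ht)
    rwa [dK_mul hω, dK_mul hω, dK_mul hω, dK_scC, smul_mul_assoc, one_mul, ← hg] at this
  · simp only [dK_mul hω, ← hx, ← hu]
    rw [h8] at e
    exact congrArg mt e.eq

end H40.T6
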