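import Cfsg.Agent.H40.CoreWrap
import Cfsg.Agent.H40.CoreL3
import Cfsg.Agent.H55.RkOne6
import Cfsg.Agent.H55.Basic
import Cfsg.Agent.H10.ModPPrime

/-! Groups with cyclic Sylow subgroups of odd order and a cyclic subgroup of index at most two in
each `2`-subgroup: closure properties and the simple groups. -/

set_option autoImplicit false

namespace H40.ZS

open Cfsg Subgroup

universe u

/-- the `p`-subgroups are cyclic for odd `p` -/
def Cyc (G : Type*) [Group G] : Prop :=
  ∀ p : ℕ, p.Prime → p ≠ 2 → ∀ P : Subgroup G, IsPGroup p P → IsCyclic P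

/-- the `2`-subgroups have a cyclic subgroup of index at most two -/
def Two (G : Type*) [Group G] : Prop :=
  ∀ P : Subgroup G, IsPGroup 2 P →
    ∃ c ∈ P, ∀ x ∈ P, ∀ y ∈ P, x ∈ zpowers c ∨ y ∈ zpowers c ∨ x * y ∈ zpowers c

variable {G H : Type*} [Group G] [Group H]

theorem cyc_of_sylow (h : ∀ p : ℕ, p.Prime → p ≠ 2 → ∀ P : Sylow p G, IsCyclic P) : Cyc G :=
  fun p hp h2 P hP => by
    obtain ⟨S, hS⟩ := hP.exists_le_sylow
    have := h p hp h2 S
    exact isCyclic_of_le hS

theorem two_of_sylow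
    (h : ∀ S : Sylow 2 G, ∃ C : Subgroup (S : Subgroup G), IsCyclic C ∧ C.index ∣ 2) : Two G :=
  fun P hP => by
    obtain ⟨S, hS⟩ := hP.exists_le_sylow
    obtain ⟨C, h1, h2⟩ := h S
    have : IsCyclic (C.map (S : Subgroup G).subtype) :=
      isCyclic_of_surjective _ (C.equivMapOfInjective _ Subtype.val_injective).surjective
    have : IsCyclic (C.map (S : Subgroup G).subtype ⊓ P : Subgroup G) := isCyclic_of_le inf_le_left
    obtain ⟨c, hc⟩ := (Subgroup.isCyclic_iff_exists_zpowers_eq_top _).1 this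
    have m : ∀ x (hx : x ∈ P), (⟨x, hS hx⟩ : (S : Subgroup G)) ∈ C → x ∈ zpowers c :=
      fun x hx h => hc.ge ⟨⟨_, h, rfl⟩, hx⟩
    refine ⟨c, (hc.le (mem_zpowers c)).2, fun x hx y hy => ?_⟩
    rcases (Nat.dvd_prime Nat.prime_two).1 h2 with e | e
    · exact .inl (m x hx (index_eq_one.1 e ▸ mem_top _))
    · by_cases a : (⟨x, hS hx⟩ : (S : Subgroup G)) ∈ C
      · exact .inl (m x hx a)
      by_cases b : (⟨y, hS hy⟩ : (S : Subgroup G)) ∈ C
      · exact .inr (.inl (m y hy b))
      exact .inr (.inr (m _ (mul_mem hx hy) ((mul_mem_iff_of_index_two e).2 (iff_of_false a b))))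

theorem Cyc.inj (h : Cyc G) (f : H →* G) (hf : Function.Injective f) : Cyc H := fun p hp h2 P hP =>
  have := h p hp h2 _ (hP.map f)
  isCyclic_of_surjective _ (P.equivMapOfInjective f hf).symm.surjective

theorem Cyc.surj [Finite G] (h : Cyc G) (f : G →* H) (hf : Function.Surjective f) : Cyc H :=
  fun p hp h2 P hP => by
    have := Fact.mk hp
    obtain ⟨Q, h1, rfl⟩ := H10.exists_isPGroup_map_eq f hf hP
    have := h p hp h2 Q h1
    exact isCyclic_of_surjective _ (f.subgroupMap_surjective Q)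

theorem Two.inj (h : Two G) (f : H →* G) (hf : Function.Injective f) : Two H := fun P hP => by
  obtain ⟨_, ⟨c, hc, rfl⟩, h⟩ := h _ (hP.map f)
  have m : ∀ x, f x ∈ zpowers (f c) → x ∈ zpowers c := fun x ⟨k, hk⟩ =>
    ⟨k, hf (by simpa using hk)⟩
  exact ⟨c, hc, fun x hx y hy => (h _ ⟨x, hx, rfl⟩ _ ⟨y, hy, rfl⟩).imp (m x)
    (Or.imp (m y) fun a => m _ (by simpa using a))⟩

theorem Two.surj [Finite G] (h : Two G) (f : G →* H) (hf : Function.Surjective f) : Two H :=
  fun P hP => by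
    obtain ⟨Q, h1, rfl⟩ := H10.exists_isPGroup_map_eq f hf hP
    obtain ⟨c, hc, h⟩ := h Q h1
    have m : ∀ x ∈ zpowers c, f x ∈ zpowers (f c) := fun x ⟨k, hk⟩ => ⟨k, by simp [← hk]⟩
    refine ⟨f c, ⟨c, hc, rfl⟩, ?_⟩
    rintro _ ⟨x, hx, rfl⟩ _ ⟨y, hy, rfl⟩
    exact (h x hx y hy).imp (m x) (Or.imp (m y) fun a => by simpa using m _ a)

theorem Two.card_le [Finite G] (h : Two G) {P : Subgroup G} (hP : IsPGroup 2 P) {n : ℕ} (h0 : 0 < n)
    (hn : ∀ x ∈ P, x ^ n = 1) : Nat.card P ≤ 2 * n := by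
  obtain ⟨c, hc, h⟩ := h P hP
  have h1 : (zpowers c : Set G).ncard ≤ n := by
    rw [← Nat.card_coe_set_eq, SetLike.coe_sort_coe, Nat.card_zpowers]
    exact orderOf_le_of_pow_eq_one h0 (hn c hc)
  change Nat.card (P : Set G) ≤ _
  rw [Nat.card_coe_set_eq]
  by_cases a : P ≤ zpowers c
  · have := Set.ncard_le_ncard (SetLike.coe_subset_coe.2 a)
    omega
  obtain ⟨x, hx, hx'⟩ := SetLike.not_le_iff_exists.1 a
  have h2 : (P : Set G) ⊆ (zpowers c : Set G) ∪ (x⁻¹ * ·) '' (zpowers c : Set G) := fun y hy =>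
    ((h x hx y hy).resolve_left hx').imp_right fun b => ⟨_, b, by simp⟩
  have := (Set.ncard_le_ncard h2).trans (Set.ncard_union_le _ _)
  have := Set.ncard_image_le (f := (x⁻¹ * ·)) (s := (zpowers c : Set G))
  omega

theorem Two.rank [Finite G] (h : Two G) : PRankLE 2 2 G := fun A _ hA =>
  h.card_le (fun a => ⟨1, Subtype.ext (by simpa using hA a a.2)⟩) two_pos hA

theorem Two.gen (h : Two G) (hG : IsPGroup 2 G) : ∃ a b : G, closure {a, b} = ⊤ := by
  obtain ⟨c, -, h⟩ := h ⊤ (hG.to_subgroup ⊤)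
  by_cases a : ⊤ ≤ zpowers c
  · exact ⟨c, c, top_unique (a.trans (zpowers_le.2 (subset_closure (by simp))))⟩
  obtain ⟨x, -, hx⟩ := SetLike.not_le_iff_exists.1 a
  have l : zpowers c ≤ closure {c, x} := zpowers_le.2 (subset_closure (by simp))
  refine ⟨c, x, top_unique fun y _ => ((h x trivial y trivial).resolve_left hx).elim (fun b => l b)
    fun b => ?_⟩
  exact (mul_mem_cancel_left (subset_closure (by simp) : x ∈ closure {c, x})).1 (l b)

theorem isPGroup_of_comm {p : ℕ} {S : Set G} (h1 : ∀ a ∈ S, a ^ p = 1)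
    (h2 : ∀ a ∈ S, ∀ b ∈ S, a * b = b * a) : ∀ g ∈ closure S, g ^ p = 1 := by
  have c : closure S ≤ centralizer (closure S : Set G) := by
    rw [closure_le, centralizer_closure]
    exact fun a ha b hb => h2 b hb a ha
  intro g hg
  induction hg using closure_induction with
  | mem x hx => exact h1 x hx
  | one => simp
  | mul x y hx hy a b => rw [(show Commute x y from c hy x hx).mul_pow, a, b, one_mul]
  | inv x _ a => rw [inv_pow, a, inv_one]

/-- an elementary abelian subgroup of order eight does not exist -/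
theorem Two.mem [Finite G] (h : Two G) {M : Subgroup G} {s t c : G} (hs : s ∈ M) (ht : t ∈ M) (s1 : s ≠ 1)
    (t1 : t ≠ 1) (st : s ≠ t) (s2 : s ^ 2 = 1) (t2 : t ^ 2 = 1) (c2 : c ^ 2 = 1)
    (e1 : s * t = t * s) (e2 : s * c = c * s) (e3 : t * c = c * t) : c ∈ M := by
  have key := isPGroup_of_comm (p := 2) (S := {s, t, c}) (by simp [*]) (by simp [*])
  obtain ⟨d, hd, h⟩ := h (closure {s, t, c}) fun g => ⟨1, Subtype.ext (by simpa using key g g.2)⟩
  have z : ∀ x ∈ zpowers d, x = 1 ∨ x = d := fun x hx => by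
    obtain ⟨k, rfl⟩ := (Submonoid.mem_powers_iff _ _).1 (mem_powers_iff_mem_zpowers.2 hx)
    rw [pow_eq_pow_mod k (key d hd)]
    rcases Nat.mod_two_eq_zero_or_one k with e | e <;> simp [e]
  have ms : s ∈ closure ({s, t, c} : Set G) := subset_closure (by simp)
  have mt : t ∈ closure ({s, t, c} : Set G) := subset_closure (by simp)
  have mc : c ∈ closure ({s, t, c} : Set G) := subset_closure (by simp)
  have st1 : s * t ≠ 1 := fun e => st (by
    rw [eq_inv_of_mul_eq_one_left e, inv_eq_of_mul_eq_one_right (pow_two t ▸ t2)])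
  have dM : zpowers d ≤ M := zpowers_le.2 (by
    rcases h s ms t mt with a | a | a
    · exact (z _ a).resolve_left s1 ▸ hs
    · exact (z _ a).resolve_left t1 ▸ ht
    · exact (z _ a).resolve_left st1 ▸ mul_mem hs ht)
  have k : ∀ u ∈ closure ({s, t, c} : Set G), u ∈ M → u ∉ zpowers d → c ∈ M := fun u h1 h2 h3 =>
    ((h u h1 c mc).resolve_left h3).elim (fun a => dM a) fun a => (mul_mem_cancel_left h2).1 (dM a)
  by_cases a : s ∈ zpowers d
  · exact k t mt ht fun b => st (((z _ a).resolve_left s1).trans ((z _ b).resolve_left t1).symm)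
  · exact k s ms hs a

theorem Cyc.card_dvd (h : Cyc G) {p : ℕ} (hp : p.Prime) (h2 : p ≠ 2) {P : Subgroup G}
    (hP : ∀ g ∈ P, g ^ p = 1) : Nat.card P ∣ p := by
  have := h p hp h2 P fun g => ⟨1, Subtype.ext (by simpa using hP g g.2)⟩
  rw [← IsCyclic.exponent_eq_card]
  exact Monoid.exponent_dvd_of_forall_pow_eq_one fun g => Subtype.ext (by simpa using hP g g.2)

theorem Cyc.mem [Finite G] (h : Cyc G) {p : ℕ} (hp : p.Prime) (h2 : p ≠ 2) {a b : G} (ha : a ^ p = 1)
    (hb : b ^ p = 1) (e : a * b = b * a) (a1 : a ≠ 1) : b ∈ zpowers a := by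
  have := Fact.mk hp
  have h1 := h.card_dvd hp h2 (isPGroup_of_comm (S := {a, b}) (by simp [*]) (by simp [*]))
  have l : zpowers a ≤ closure {a, b} := zpowers_le.2 (subset_closure (by simp))
  refine (eq_of_le_of_card_ge l ?_).ge (subset_closure (by simp))
  rw [Nat.card_zpowers, orderOf_eq_prime ha a1]
  exact Nat.le_of_dvd hp.pos h1

theorem Cyc.three [Finite G] (h : Cyc G) (f : G →* H) (hf : Function.Injective f) {a b : H}
    (ha : a ∈ f.range) (hb : b ∈ f.range) (a3 : a ^ 3 = 1) (b3 : b ^ 3 = 1) (e : a * b = b * a)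
    (a1 : a ≠ 1) : b = 1 ∨ b = a ∨ b = a * a := by
  obtain ⟨a, rfl⟩ := ha
  obtain ⟨b, rfl⟩ := hb
  have a3' : a ^ 3 = 1 := hf (by simpa using a3)
  have := h.mem Nat.prime_three (by norm_num) a3' (hf (by simpa using b3) : b ^ 3 = 1)
    (hf (by simpa using e)) fun e => a1 (by simp [e])
  obtain ⟨k, rfl⟩ := (Submonoid.mem_powers_iff _ _).1 (mem_powers_iff_mem_zpowers.2 this)
  rw [pow_eq_pow_mod k a3']
  have : k % 3 < 3 := Nat.mod_lt _ three_pos
  generalize k % 3 = j at *
  interval_cases j <;> simp [pow_two]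

theorem Cyc.card_add {A : Type*} [AddGroup A] (h : Cyc G) {p : ℕ} (hp : p.Prime) (h2 : p ≠ 2)
    (f : Multiplicative A →* G) (hf : Function.Injective f) (hA : ∀ a : A, p • a = 0) :
    Nat.card A ∣ p := by
  have := (h.inj f hf).card_dvd hp h2 (P := ⊤) fun g _ => hA g
  rwa [card_top] at this

theorem exists_char (F : Type*) [Field F] [Fintype F] (h : Odd (Fintype.card F)) :
    ∃ p : ℕ, p.Prime ∧ p ≠ 2 ∧ CharP F p ∧ p ∣ Fintype.card F := by
  obtain ⟨p, _, n, hp, hn⟩ := FiniteField.card' F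
  have : p ∣ Fintype.card F := hn ▸ dvd_pow_self p n.ne_zero
  exact ⟨p, hp, fun e => h.not_two_dvd_nat (e ▸ this), inferInstance, this⟩

open Matrix in
/-- the simple groups -/
theorem simple_case (h : H40.CU.St0482.{u}) {K : Type u} [Group K] [Finite K] [IsSimpleGroup K]
    (hK : ¬ IsMulCommutative K) (hc : Cyc K) (h2 : Two K) :
    ∃ (p : ℕ) (_ : Fact p.Prime), 5 ≤ p ∧
      Nonempty (K ≃* ProjectiveSpecialLinearGroup (Fin 2) (ZMod p)) := by
  rcases h hK h2.rank with ⟨F, _, _, a, b, ⟨e⟩⟩ | ⟨F, _, _, a, ⟨e⟩⟩ | ⟨F, _, _, q, a, b, ⟨e⟩⟩ |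
    ⟨F, _, _, a, ⟨e⟩⟩ | ⟨⟨e⟩⟩ | a
  · obtain ⟨p, hp, p2, _, hd⟩ := exists_char F a
    let u : Multiplicative F →* SpecialLinearGroup (Fin 2) F := MonoidHom.mk'
      (fun t => ⟨!![1, t.toAdd; 0, 1], by simp⟩) fun s t => Subtype.ext (by
        change !![1, _; 0, 1] = !![1, _; 0, 1] * !![1, _; 0, 1]
        simp [add_comm])
    have := hc.card_add hp p2 (e.symm.toMonoidHom.comp ((QuotientGroup.mk' _).comp u))
      (e.symm.injective.comp ((injective_iff_map_eq_one _).2 fun t ht => by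
        obtain ⟨r, -, hr⟩ := Matrix.SpecialLinearGroup.mem_center_iff.1
          ((QuotientGroup.eq_one_iff (u t)).1 ht)
        have : (u t).1 0 1 = 0 := by simpa using (congrFun (congrFun hr 0) 1).symm
        exact this)) fun a => by simp
    rw [Nat.card_eq_fintype_card] at this
    have hF := Nat.dvd_antisymm this hd
    have := Fact.mk hp
    exact ⟨p, this, hF ▸ b, ⟨e.trans (H55.pslCongr (ZMod.ringEquivOfPrime F hp hF).symm)⟩⟩
  · obtain ⟨p, hp, p2, _, hd⟩ := exists_char F a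
    obtain ⟨ψ, -, hψ⟩ := H40.CU.exists_psiL (F := F)
    let u : Multiplicative (F × F) →* H60.L3.S3 F := MonoidHom.mk'
      (fun t => ⟨H60.L3.U t.toAdd.1 0 t.toAdd.2, H60.L3.U_mem ..⟩) fun s t =>
        Subtype.ext (by simp [H60.L3.U_mul])
    have := hc.card_add hp p2 (e.symm.toMonoidHom.comp (ψ.comp u))
      (e.symm.injective.comp ((injective_iff_map_eq_one _).2 fun t ht => by
        have h1 := (hψ _).1 ht
        refine Prod.ext ?_ ?_
        · by_contra a
          exact H60.L3.not_mem_scalars (i := 0) (j := 1) (by decide) a h1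
        · by_contra a
          exact H60.L3.not_mem_scalars (i := 0) (j := 2) (by decide) a h1)) fun a => by
      ext <;> simp
    rw [Nat.card_prod, Nat.card_eq_fintype_card] at this
    have h1 := Nat.le_of_dvd hp.pos this
    have h3 := Nat.le_of_dvd Fintype.card_pos hd
    nlinarith [hp.two_le]
  · obtain ⟨p, hp, p2, _, -⟩ := exists_char F (a ▸ b.pow)
    have := Fact.mk hp
    obtain ⟨P⟩ : Nonempty (Sylow p (PSU 3 F q)) := inferInstance
    obtain ⟨f⟩ := H85.nonempty_equiv_sylow_PSU a p P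
    have := (hc.inj e.symm.toMonoidHom e.symm.injective) p hp p2 P P.isPGroup'
    have : IsCyclic (H85.UQ a) := isCyclic_of_surjective _ f.surjective
    have h1 := H85.UQ.card_center a
    rw [show center (H85.UQ a) = ⊤ from top_unique fun x _ => mem_center_iff.2 fun y =>
      (IsCyclic.isMulCommutative.is_comm.comm y x), card_top, H85.UQ.card_eq] at h1
    have := H60.L3.two_le_of_sq a
    nlinarith [mul_pos (zero_lt_two.trans_le this) (zero_lt_two.trans_le this)]
  · have a' : Fintype.card F = 4 ^ 2 := a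
    have : CharP F 2 := H60.L3.charP_of Nat.prime_two (n := 4) a
    obtain ⟨P⟩ : Nonempty (Sylow 2 (PSU 3 F 4)) := inferInstance
    obtain ⟨f⟩ := H85.nonempty_equiv_sylow_PSU a' 2 P
    have := (h2.inj e.symm.toMonoidHom e.symm.injective).card_le P.isPGroup' four_pos fun x hx => by
      have : f ⟨x, hx⟩ * f ⟨x, hx⟩ * (f ⟨x, hx⟩ * f ⟨x, hx⟩) = 1 :=
        (H85.UQ.mul_self_eq_one_iff _).2 (H85.UQ.mul_self_a _)
      rw [← map_mul, ← map_mul, map_eq_one_iff _ f.injective] at this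
      exact (pow_add x 2 2).trans (pow_two x ▸ congrArg Subtype.val this)
    rw [Nat.card_congr f.toEquiv, H85.UQ.card_eq] at this
    omega
  · exfalso
    have := hc.three ((alternatingGroup (Fin 7)).subtype.comp e.toMonoidHom)
      (Subtype.val_injective.comp e.injective) (a := Equiv.swap 0 1 * Equiv.swap 1 2)
      (b := Equiv.swap 3 4 * Equiv.swap 4 5)
      ⟨e.symm ⟨Equiv.swap 0 1 * Equiv.swap 1 2, Equiv.Perm.mem_alternatingGroup.2 (by decide)⟩, by simp⟩
      ⟨e.symm ⟨Equiv.swap 3 4 * Equiv.swap 4 5, Equiv.Perm.mem_alternatingGroup.2 (by decide)⟩, by simp⟩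
      (by decide) (by decide) (by decide) (by decide)
    revert this
    decide
  · exfalso
    obtain ⟨w, y, v, h⟩ := H43.exists_m11D a.2
    obtain ⟨f, f1, f2⟩ := h.exists_hom' a.2
    have mW : H43.P12.W ∈ f.range := f2 ▸ subset_closure (by simp)
    have mY : H43.P12.Y ∈ f.range := f2 ▸ subset_closure (by simp)
    have mV : H43.P12.V ∈ f.range := f2 ▸ subset_closure (by simp)
    have := hc.three f f1 (mul_mem (mul_mem (mul_mem mV mW) mV) mV)
      (mul_mem (mul_mem (mul_mem (mul_mem mW mW) mY) mV) mY)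
      (by decide +kernel) (by decide +kernel) (by decide +kernel) (by decide +kernel)
    revert this
    decide +kernel

end H40.ZS
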