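import Cfsg.Agent.H40.ZS1
import Cfsg.Agent.H7.GWCons
import Cfsg.Agent.H21.CoverId
import Cfsg.Agent.H57.PslAutCard

/-! Suzuki's theorem on groups with cyclic Sylow subgroups of odd order. -/

set_option autoImplicit false

namespace H40.ZS

open Cfsg Subgroup H14
open scoped commutatorElement

universe u

variable {G : Type u} [Group G] [Finite G]

theorem exists_comp (hc : Cyc G) (h2 : Two G) (hns : ¬ Group.IsSolvable G) :
    ∃ L : Subgroup G, IsComponent L := by
  obtain ⟨K, hK, hp, h0⟩ := H7.GW.exists_perfect_of_nonsolv hns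
  have key : ∀ p : Nat.Primes, pCore p G ≤ centralizer (K : Set G) := fun p => by
    have := Fact.mk p.2
    have hs : Group.IsSolvable (MulAut (pCore p G)) := by
      by_cases e : (p : ℕ) = 2
      · have h1 : IsPGroup 2 (pCore p G) := e ▸ H2.pCore_isPGroup (p : ℕ) G
        obtain ⟨a, b, h⟩ := (h2.inj _ (pCore p G).subtype_injective).gen h1
        exact H55.RkOne.aut_solvable h1 h
      · have := hc p p.2 e _ (H2.pCore_isPGroup (p : ℕ) G)
        exact isSolvable_of_comm fun a b => (IsCyclic.mulAutMulEquiv _).injective (by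
          rw [map_mul, map_mul, mul_comm])
    have h1 := eq_bot_of_perfect_of_le_solvable (L := K.map (MulAut.conjNormal (H := pCore p G)))
      (by rw [← map_commutator, hp]) le_top inferInstance
    intro x hx k hk
    have h3 : MulAut.conjNormal k = (1 : MulAut (pCore p G)) := mem_bot.1 (h1.le ⟨k, hk, rfl⟩)
    have h4 : k * x * k⁻¹ = x := congrArg Subtype.val (DFunLike.congr_fun h3 (⟨x, hx⟩ : pCore p G))
    exact mul_inv_eq_iff_eq_mul.1 h4
  have hF : ⁅fittingSubgroup G, K⁆ = ⊥ := by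
    rw [H2.fitting_eq_iSup_pCore, commutator_eq_bot_iff_le_centralizer]
    exact iSup_le key
  obtain ⟨L, hL, -⟩ := exists_comp_le_of_subnormal hK.isSubnormal
    (commutator_eq_bot_mono hF inf_le_left le_rfl) fun h =>
      h0 (eq_bot_of_perfect_of_le_solvable hp h inferInstance)
  exact ⟨L, hL⟩

omit [Finite G] in
theorem mem_center_iff' {L : Subgroup G} {x : L} :
    x ∈ center L ↔ (x : G) ∈ centralizer (L : Set G) :=
  mem_center_iff.trans ⟨fun h g hg => congrArg Subtype.val (h ⟨g, hg⟩),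
    fun h g => Subtype.ext (h g g.2)⟩

theorem mem_of_sq (h2 : Two G) {L : Subgroup G} (h4 : H14.GC.Four (⊤ : Subgroup (L ⧸ center L)))
    {c : G} (hc : c ∈ centralizer (L : Set G)) (h : c ^ 2 ∈ L) : c ∈ L := by
  let C := centralizer (L : Set G)
  let Z := (L ⊓ C).subgroupOf (L ⊔ C)
  have h1 : L ⊔ C ≤ centralizer ((L ⊓ C : Subgroup G) : Set G) :=
    sup_le (fun x hx y hy => (hy.2 x hx).symm) fun x hx y hy => hx y hy.1
  have : Z.Normal := ⟨fun n hn g => by
    have : g * n * g⁻¹ = n := mul_inv_eq_iff_eq_mul.2 (Subtype.ext (h1 g.2 n hn).symm)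
    rwa [this]⟩
  let f : L →* (L ⊔ C : Subgroup G) ⧸ Z := (QuotientGroup.mk' Z).comp (inclusion le_sup_left)
  have hf : ∀ x : L, f x = 1 ↔ x ∈ center L := fun x =>
    (QuotientGroup.eq_one_iff _).trans ⟨fun h => mem_center_iff'.2 h.2,
      fun h => ⟨x.2, mem_center_iff'.1 h⟩⟩
  let ι := QuotientGroup.lift (center L) f fun x hx => (hf x).2 hx
  have hι : Function.Injective ι := (injective_iff_map_eq_one _).2 fun x => by
    induction x using QuotientGroup.induction_on with | H x => ?_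
    exact fun h => (QuotientGroup.eq_one_iff _).2 ((hf x).1 h)
  let d := QuotientGroup.mk' Z ⟨c, mem_sup_right hc⟩
  have hd : ∀ x, ι x * d = d * ι x := fun x => by
    induction x using QuotientGroup.induction_on with | H x => ?_
    exact congrArg (QuotientGroup.mk' Z) (Subtype.ext (hc x x.2))
  obtain ⟨s, -, t, -, hs, ht, st, e⟩ := h4
  obtain ⟨x, hx⟩ : d ∈ ι.range :=
    ((h2.inj _ (L ⊔ C).subtype_injective).surj _ (QuotientGroup.mk'_surjective Z)).mem ⟨s, rfl⟩ ⟨t, rfl⟩
      ((map_ne_one_iff _ hι).2 hs.1) ((map_ne_one_iff _ hι).2 ht.1) (hι.ne st)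
      (by rw [pow_two, ← map_mul, hs.2, map_one]) (by rw [pow_two, ← map_mul, ht.2, map_one])
      (by rw [← map_pow]; exact (QuotientGroup.eq_one_iff _).2 ⟨h, pow_mem hc 2⟩)
      (by rw [← map_mul, ← map_mul, e]) (hd s) (hd t)
  induction x using QuotientGroup.induction_on with | H x => ?_
  exact (mul_mem_cancel_left (inv_mem x.2)).1 (QuotientGroup.eq.1 hx).1

theorem normal_of_sq {L : Subgroup G} (hL : IsComponent L)
    (h4 : H14.GC.Four (⊤ : Subgroup (L ⧸ center L))) (hZ : ∀ z ∈ center L, z ^ 2 = 1)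
    (h : ∀ c ∈ centralizer (L : Set G), c ^ 2 ∈ L → c ∈ L) : L.Normal := by
  obtain ⟨s, -, -, -, hs, -⟩ := h4
  induction s using QuotientGroup.induction_on with | H s => ?_
  have s4 : ((s : G) ^ 2) ^ 2 = 1 := congrArg Subtype.val
    (hZ (s ^ 2) ((QuotientGroup.eq_one_iff _).1 (by rw [pow_two]; exact hs.2)))
  refine ⟨fun n hn g => ?_⟩
  rcases comp_eq_or_commute (comp_map_conj hL g) hL with e | e
  · exact e.le ⟨n, hn, rfl⟩
  have l := commutator_eq_bot_iff_le_centralizer.1 e
  have m : g * s * g⁻¹ ∈ centralizer (L : Set G) := l ⟨s, s.2, rfl⟩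
  have m2 := h _ m (h _ (pow_mem m 2) (by rw [conj_pow, conj_pow, s4]; simp))
  refine absurd ((QuotientGroup.eq_one_iff _).2 (mem_center_iff'.2 fun y hy => ?_)) hs.1
  have := l (⟨y, hy, rfl⟩ : g * y * g⁻¹ ∈ L.map (MulAut.conj g).toMonoidHom) _ m2
  rw [conj_mul, conj_mul] at this
  exact (mul_left_cancel (mul_right_cancel this)).symm

theorem index_dvd {L : Subgroup G} [L.Normal] (hp : ⁅L, L⁆ = L) :
    (L ⊔ centralizer (L : Set G)).index ∣ (Inn (L ⧸ center L)).index := by
  let φ := (H57.quotCenterAut L).comp (MulAut.conjNormal : G →* MulAut L)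
  have hk : φ.ker ≤ centralizer (L : Set G) := by
    refine commutator_eq_bot_iff_le_centralizer.1 (commutator_eq_bot_of_perfect hp
      (commutator_eq_bot_iff_le_centralizer.2 (commutator_le.2 fun g hg x hx => ?_)))
    have h2 : φ g (⟨x⁻¹, inv_mem hx⟩ : L) = (⟨x⁻¹, inv_mem hx⟩ : L) := by
      rw [show φ g = 1 from hg]; rfl
    have := mem_center_iff'.1 (QuotientGroup.eq.1 h2)
    simpa [commutatorElement_def, mul_assoc] using this
  refine (index_dvd_of_le (?_ : (Inn _).comap φ ≤ _)).trans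
    (index_comap _ φ ▸ relIndex_dvd_index_of_normal _ _)
  rintro g ⟨x, hx⟩
  induction x using QuotientGroup.induction_on with | H x => ?_
  have : φ x = MulAut.conj (x : L ⧸ center L) := MulEquiv.ext fun y => by
    induction y using QuotientGroup.induction_on with | H y => ?_
    rfl
  have h1 : (x : G)⁻¹ * g ∈ φ.ker := by rw [MonoidHom.mem_ker, map_mul, map_inv, this, hx, inv_mul_cancel]
  exact (mul_mem_cancel_left (inv_mem (mem_sup_left x.2))).1 (mem_sup_right (hk h1))

open Matrix MatrixGroups in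
theorem index_inn {K : Type*} [Group K] [IsSimpleGroup K] (hK : ¬ IsMulCommutative K) {p : ℕ}
    [Fact p.Prime] (h5 : 5 ≤ p) (e : K ≃* PSL(2, ZMod p)) : (Inn K).index = 2 := by
  have : Finite K := .of_equiv _ e.symm.toEquiv
  have h1 : Nat.card (Inn K) = Nat.card K := by
    refine (Nat.card_congr (MonoidHom.ofInjective ((injective_iff_map_eq_one _).2 fun x hx =>
      ?_)).toEquiv).symm
    rcases (inferInstance : (center K).Normal).eq_bot_or_eq_top with h | h
    · exact mem_bot.1 (h.le (mem_center_iff.2 fun y =>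
        (mul_inv_eq_iff_eq_mul.1 (DFunLike.congr_fun hx y)).symm))
    · exact absurd ⟨⟨fun a b => mem_center_iff.1 (h.ge (mem_top b)) a⟩⟩ hK
  have : Unique (RingAut (ZMod p)) := ⟨⟨1⟩, fun σ => RingEquiv.ext fun x =>
    DFunLike.congr_fun (RingHom.ext_zmod σ.toRingHom (RingHom.id _)) x⟩
  have h2 := (Inn K).index_mul_card
  rw [h1, Nat.card_congr (MulAut.congr e).toEquiv, H57.card_aut_psl_two, Nat.card_unique (α := RingAut _), one_mul,
    H57.card_pgl_eq_card_sl, ← H57.gcd_mul_card_psl, Fintype.card_fin, H7.GW.gcd_two_eq (by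
      rw [Nat.card_zmod]; exact (Fact.out : p.Prime).odd_of_ne_two (by omega)),
    Nat.card_congr e.toEquiv] at h2
  exact Nat.eq_of_mul_eq_mul_right Nat.card_pos h2

open Matrix MatrixGroups in
theorem main (h : H40.CU.St0482.{u}) (hns : ¬ Group.IsSolvable G) (hc : Cyc G) (h2 : Two G) :
    ∃ G₀ : Subgroup G, G₀.Normal ∧ G₀.index ∣ 2 ∧
      ∃ X L : Subgroup G₀, X.Normal ∧ L.Normal ∧ X ⊓ L = ⊥ ∧ X ⊔ L = ⊤ ∧
        (Nat.card X).Coprime (Nat.card L) ∧ Odd (Nat.card X) ∧
        (∃ (C : Subgroup X) (_ : C.Normal), IsCyclic C ∧ IsCyclic (X ⧸ C)) ∧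
        ∃ (p : ℕ) (_ : Fact p.Prime), 5 ≤ p ∧
          (Nonempty (L ≃* PSL(2, ZMod p)) ∨ Nonempty (L ≃* SL(2, ZMod p))) := by
  obtain ⟨L, hL⟩ := exists_comp hc h2 hns
  have := hL.2.2
  have hK := quasi_quotient_not_comm hL.2
  obtain ⟨p, _, h5, ⟨e⟩⟩ := simple_case h hK
    ((hc.inj _ L.subtype_injective).surj _ (QuotientGroup.mk'_surjective _))
    ((h2.inj _ L.subtype_injective).surj _ (QuotientGroup.mk'_surjective _))
  have hp : p.Prime := Fact.out
  have c2 : Nat.card (center SL(2, ZMod p)) = 2 := by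
    rw [H57.card_center_sl, Fintype.card_fin, H7.GW.gcd_two_eq (by
      rw [Nat.card_zmod]; exact hp.odd_of_ne_two (by omega))]
  have hE := H21.equiv_or_equiv (H7.GW.sl2_perfect (by rw [Nat.card_zmod]; omega))
    (H21.sl2_multCard (by rw [Nat.card_zmod]; omega) (by
      rw [Nat.card_zmod]; rintro rfl; norm_num at hp)) (.inr (by rw [c2]; exact Nat.prime_two))
    hL.2.1.commutator_eq_top e
  have hZ : ∀ z ∈ center L, z ^ 2 = 1 := fun z hz => by
    rcases hE with ⟨a, -⟩ | ⟨⟨a⟩⟩
    · rw [mem_bot.1 (a.le hz), one_pow]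
    · have := pow_card_eq_one' (x := (⟨z, hz⟩ : center L))
      rw [Nat.card_congr (centerCongr a).toEquiv, c2] at this
      exact congrArg Subtype.val this
  obtain ⟨S⟩ : Nonempty (Sylow 2 (L ⧸ center L)) := inferInstance
  have h4 := (H40.CU.four_of_simple hK S).mono le_top
  have sq := fun c => mem_of_sq h2 h4 (c := c)
  have hN := normal_of_sq hL h4 hZ sq
  set C := centralizer (L : Set G) with hC
  have ho : Odd (L.subgroupOf C).index := Nat.not_even_iff_odd.1 fun a => by
    obtain ⟨x, hx⟩ := exists_prime_orderOf_dvd_card' (G := C ⧸ L.subgroupOf C) 2 a.two_dvd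
    induction x using QuotientGroup.induction_on with | H x => ?_
    have h1 : x ^ 2 ∈ L.subgroupOf C := (QuotientGroup.eq_one_iff _).1 (by
      rw [QuotientGroup.mk_pow, ← hx, pow_orderOf_eq_one])
    rw [(QuotientGroup.eq_one_iff x).2 (mem_subgroupOf.2 (sq _ x.2 h1)), orderOf_one] at hx
    omega
  have hz : IsPGroup 2 (L.subgroupOf C) := fun z => ⟨1, Subtype.ext (Subtype.ext (by
    simpa using congrArg Subtype.val (hZ ⟨z.1.1, z.2⟩ (mem_center_iff'.2 z.1.2))))⟩
  obtain ⟨n, hn⟩ := hz.exists_card_eq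
  obtain ⟨Y, hY⟩ := exists_right_complement'_of_coprime (N := L.subgroupOf C)
    (hn ▸ (Nat.coprime_two_left.2 ho).pow_left n)
  let X := Y.map C.subtype
  have xC : X ≤ C := map_subtype_le Y
  have xo : Odd (Nat.card X) := by
    rwa [card_map_of_injective Subtype.val_injective, ← hY.symm.index_eq_card]
  have xL : X ⊓ L = ⊥ := eq_bot_iff.2 (by
    rintro _ ⟨⟨y, hy, rfl⟩, hl⟩
    exact congrArg Subtype.val (disjoint_def.1 hY.disjoint (mem_subgroupOf.2 hl) hy))
  have e0 : X ⊔ L = L ⊔ C := by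
    refine le_antisymm (sup_le (xC.trans le_sup_right) le_sup_left) (sup_le le_sup_right fun c hc => ?_)
    obtain ⟨⟨l, y⟩, a, -⟩ := hY.existsUnique ⟨c, hc⟩
    obtain rfl : (l.1 : G) * y.1 = c := congrArg Subtype.val a
    exact mul_mem (mem_sup_right l.2) (mem_sup_left ⟨y, y.2, rfl⟩)
  have lX : X ≤ L ⊔ C := xC.trans le_sup_right
  have cX := Nat.card_congr (subgroupOfEquivOfLe lX).toEquiv
  have eL := subgroupOfEquivOfLe (le_sup_left : L ≤ L ⊔ C)
  have : IsZGroup (X.subgroupOf (L ⊔ C)) := ⟨fun r hr P => by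
    by_cases a : r = 2
    · subst a
      obtain ⟨k, hk⟩ := P.isPGroup'.exists_card_eq
      have := (Nat.coprime_two_left.2 (cX ▸ xo)).pow_left k
      rw [← hk] at this
      have := card_eq_one.1 (this.eq_one_of_dvd (card_subgroup_dvd_card _))
      rw [this]
      infer_instance
    · exact ((hc.inj _ (subtype_injective _)).inj _ (subtype_injective _)) r hr a _ P.isPGroup'⟩
  refine ⟨L ⊔ C, inferInstance, index_inn hK h5 e ▸ index_dvd (comp_perfect hL),
    X.subgroupOf _, L.subgroupOf _, (normal_subgroupOf_iff_le_normalizer lX).2 ?_, inferInstance,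
    eq_bot_iff.2 fun x hx => Subtype.ext (xL.le hx), by
      rw [← subgroupOf_sup lX le_sup_left, e0, subgroupOf_self], ?_, cX ▸ xo,
    ⟨commutator _, inferInstance, IsZGroup.isCyclic_commutator _, IsZGroup.isCyclic_abelianization⟩,
    p, inferInstance, h5, hE.imp (fun ⟨_, ⟨a⟩⟩ => ⟨eL.trans a⟩) fun ⟨a⟩ => ⟨eL.trans a⟩⟩
  · exact e0.ge.trans (sup_le le_normalizer (le_normalizer_of_commutator_eq_bot
      (commutator_eq_bot_symm (commutator_eq_bot_iff_le_centralizer.2 xC))))
  · rw [cX, Nat.card_congr eL.toEquiv]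
    refine Nat.coprime_of_dvd fun r hr r1 r2 => ?_
    have := Fact.mk hr
    obtain ⟨a, ha⟩ := exists_prime_orderOf_dvd_card' r r1
    obtain ⟨b, hb⟩ := exists_prime_orderOf_dvd_card' r r2
    have m := hc.mem hr (fun e => xo.not_two_dvd_nat (e ▸ r1)) (a := a) (b := b)
      (by rw [← ha, ← coe_pow, pow_orderOf_eq_one, coe_one])
      (by rw [← hb, ← coe_pow, pow_orderOf_eq_one, coe_one]) (xC a.2 b b.2).symm fun e => by
        rw [show a = 1 from Subtype.ext e, orderOf_one] at ha
        exact hr.one_lt.ne ha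
    have : b = 1 := Subtype.ext (mem_bot.1 (xL.le ⟨zpowers_le.2 a.2 m, b.2⟩))
    rw [this, orderOf_one] at hb
    exact hr.one_lt.ne hb

end H40.ZS
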